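import Cfsg.Agent.Lib.PSL2.Basic
import Cfsg.Agent.Lib.GL.Basic

/-!
Functoriality of `PGL(2, -)` and `PSL(2, -)` in the field, and the embedding of `PSL(2, F)` in
`PGL(2, F)` twisted by a diagonal matrix.
-/

set_option autoImplicit false

open Matrix
open scoped MatrixGroups

namespace Cfsg.Agent.PSL2

variable {F K : Type*} [Field F] [Field K]

instance pgl_finite [Finite F] : Finite PGL(2, F) :=
  Finite.of_surjective _ ProjGenLinGroup.mk_surjective

/-- `GL(2, K) →* PGL(2, F)` induced by a field embedding. -/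
def glToPGL (f : K →+* F) : GL (Fin 2) K →* PGL(2, F) :=
  ProjGenLinGroup.mk.comp (Matrix.GeneralLinearGroup.map f)

theorem ker_glToPGL (f : K →+* F) : (glToPGL f).ker = Subgroup.center (GL (Fin 2) K) := by
  ext g
  rw [MonoidHom.mem_ker, glToPGL, MonoidHom.comp_apply, ProjGenLinGroup.mk_eq_one,
    GeneralLinearGroup.mem_center_iff_val_mem_range_scalar, GeneralLinearGroup.mem_center_iff_val_mem_range_scalar]
  have hmap : ∀ i j, (GeneralLinearGroup.map f g : Matrix (Fin 2) (Fin 2) F) i j =
      f ((g : Matrix (Fin 2) (Fin 2) K) i j) := fun i j => rfl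
  constructor
  · rintro ⟨a, ha⟩
    have e : ∀ i j, f ((g : Matrix (Fin 2) (Fin 2) K) i j) = (scalar (Fin 2) a) i j :=
      fun i j => by rw [← hmap, ha]
    refine ⟨(g : Matrix (Fin 2) (Fin 2) K) 0 0, ?_⟩
    ext i j
    apply f.injective
    rw [e]
    fin_cases i <;> fin_cases j <;> simp [scalar_apply, e]
  · rintro ⟨a, ha⟩
    refine ⟨f a, ?_⟩
    ext i j
    rw [hmap, ← ha]
    fin_cases i <;> fin_cases j <;> simp [scalar_apply]

/-- `PGL(2, K) →* PGL(2, F)` induced by a field embedding. -/
def pglMap (f : K →+* F) : PGL(2, K) →* PGL(2, F) :=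
  QuotientGroup.lift _ (glToPGL f) (ker_glToPGL f).ge

@[simp] theorem pglMap_mk (f : K →+* F) (g : GL (Fin 2) K) :
    pglMap f (ProjGenLinGroup.mk g) = ProjGenLinGroup.mk (GeneralLinearGroup.map f g) := rfl

theorem pglMap_injective (f : K →+* F) : Function.Injective (pglMap f) :=
  (QuotientGroup.injective_lift_iff _ _ _).2 (ker_glToPGL f).symm

/-- A field isomorphism induces an isomorphism of `PGL(2, -)`. -/
noncomputable def pglCongr (e : K ≃+* F) : PGL(2, K) ≃* PGL(2, F) :=
  MulEquiv.ofBijective (pglMap (e : K →+* F)) ⟨pglMap_injective _, fun y => by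
    induction y using ProjGenLinGroup.induction_on with | mk g => ?_
    refine ⟨ProjGenLinGroup.mk (GeneralLinearGroup.map (e.symm : F →+* K) g), ?_⟩
    rw [pglMap_mk]
    congr 1
    apply Units.ext
    ext i j
    exact e.apply_symm_apply _⟩

theorem map_center_equiv {G H : Type*} [Group G] [Group H] (e : G ≃* H) :
    (Subgroup.center G).map (e : G →* H) = Subgroup.center H := by
  ext y
  rw [show (e : G →* H) = e.toMonoidHom from rfl, Subgroup.mem_map_equiv, Subgroup.mem_center_iff,
    Subgroup.mem_center_iff]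
  constructor
  · intro h x
    have := congrArg e (h (e.symm x))
    simpa using this
  · intro h x
    have := congrArg e.symm (h (e x))
    simpa using this

/-- A field isomorphism induces an isomorphism of `PSL(2, -)`. -/
noncomputable def pslCongr (e : K ≃+* F) : PSL(2, K) ≃* PSL(2, F) :=
  QuotientGroup.congr _ _
    { Matrix.SpecialLinearGroup.map (e : K →+* F) with
      invFun := Matrix.SpecialLinearGroup.map (e.symm : F →+* K)
      left_inv := fun g => by
        apply Matrix.SpecialLinearGroup.ext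
        intro i j
        exact e.symm_apply_apply _
      right_inv := fun g => by
        apply Matrix.SpecialLinearGroup.ext
        intro i j
        exact e.apply_symm_apply _ }
    (map_center_equiv _)

/-- Conjugation by `diag(1, a)` followed by the map to `PGL`. -/
def twistHom (a : Fˣ) : SL(2, F) →* PGL(2, F) :=
  ((MulAut.conj (ProjGenLinGroup.mk (GL.diagHom ![1, a]))).toMonoidHom.comp
    Matrix.SpecialLinearGroup.toPGL)

theorem ker_twistHom (a : Fˣ) : (twistHom a).ker = Subgroup.center SL(2, F) := by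
  ext g
  rw [twistHom, MonoidHom.mem_ker, MonoidHom.comp_apply]
  rw [MulEquiv.coe_toMonoidHom, map_eq_one_iff _ (MulEquiv.injective _), ← MonoidHom.mem_ker,
    Matrix.SpecialLinearGroup.toPGL_ker]

/-- `PSL(2, F) →* PGL(2, F)` twisted by `diag(1, a)`. -/
def pslTwist (a : Fˣ) : PSL(2, F) →* PGL(2, F) :=
  QuotientGroup.lift _ (twistHom a) (ker_twistHom a).ge

theorem pslTwist_injective (a : Fˣ) : Function.Injective (pslTwist a) :=
  (QuotientGroup.injective_lift_iff _ _ _).2 (ker_twistHom a).symm

@[simp] theorem pslTwist_mk (a : Fˣ) (g : SL(2, F)) : pslTwist a (mk g) = twistHom a g := rfl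

/-- The entries of the twisted matrix decide membership in the range of `pglMap`. -/
theorem twistHom_eq_of_entries (f : K →+* F) (a : Fˣ) (g : SL(2, F)) (M : GL (Fin 2) K) (u : Fˣ)
    (h00 : g 0 0 = (u : F) * f ((M : Matrix (Fin 2) (Fin 2) K) 0 0))
    (h01 : g 0 1 = (a : F) * ((u : F) * f ((M : Matrix (Fin 2) (Fin 2) K) 0 1)))
    (h10 : (a : F) * g 1 0 = (u : F) * f ((M : Matrix (Fin 2) (Fin 2) K) 1 0))
    (h11 : g 1 1 = (u : F) * f ((M : Matrix (Fin 2) (Fin 2) K) 1 1)) :
    twistHom a g = pglMap f (ProjGenLinGroup.mk M) := by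
  show ProjGenLinGroup.mk (GL.diagHom ![1, a]) * Matrix.SpecialLinearGroup.toPGL g *
    (ProjGenLinGroup.mk (GL.diagHom ![1, a]))⁻¹ = _
  rw [pglMap_mk, mul_inv_eq_iff_eq_mul, MonoidHom.comp_apply, ← map_mul, ← map_mul]
  symm
  rw [ProjGenLinGroup.mk_eq_mk_iff]
  refine ⟨u, Units.ext ?_⟩
  ext i j
  fin_cases i <;> fin_cases j <;>
    simp [Matrix.mul_apply, Fin.sum_univ_two, h00, h01, h11] <;> first | ring1 | linear_combination -h10

end Cfsg.Agent.PSL2
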