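import Mathlib
import Cfsg.Agent.Lib.Perm.ZassenhausPSL
import Cfsg.Agent.Lib.PSL2.PGLHom

/-!
# Recognition of `PSL_2 (q)` as a simple Zassenhaus group

With two-point stabilisers of even order no further hypothesis is needed; for `q` even one asks
for an abelian kernel and two-point stabilisers of order `q - 1`.
-/

set_option autoImplicit false
set_option linter.style.haveILetI false

namespace Cfsg.Agent.PSL2.Recog

open MulAction Finset Matrix
open scoped MatrixGroups
open Cfsg.Agent.Perm

variable {G Ω : Type*} [Group G] [MulAction G Ω]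

/-- Translations and `x ↦ -1/x` generate a copy of `PSL_2 F`, in any characteristic. -/
theorem nonempty_mulEquiv_PSL_of_card [FaithfulSMul G Ω] [Finite G] {F : Type*} [Field F]
    [Fintype F] {pt : Option F → Ω} (hpt : Function.Bijective pt)
    (hT : ∀ c : F, ∃ σ : G, Mobius.Realises pt !![1, c; 0, 1] σ)
    (hW : ∃ σ : G, Mobius.Realises pt !![(0 : F), -1; 1, 0] σ)
    (hcard : Nat.card PSL(2, F) = Nat.card G) : Nonempty (G ≃* PSL(2, F)) := by
  classical
  obtain ⟨w, hw⟩ := hW
  have hwdet : (!![(0 : F), -1; 1, 0]).det ≠ 0 := by simp [det_fin_two]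
  have key : ∀ A : SL(2, F), ∃ σ : G, Mobius.Realises pt (A : Matrix (Fin 2) (Fin 2) F) σ := by
    intro A
    refine Cfsg.Agent.GL.SL_induction
      (fun A => ∃ σ : G, Mobius.Realises pt (A : Matrix (Fin 2) (Fin 2) F) σ)
      ⟨1, by simpa using Mobius.Realises.one (G := G) pt⟩ ?_ ?_ A
    · intro i j hij c
      fin_cases i <;> fin_cases j
      · exact absurd rfl hij
      · obtain ⟨σ, hσ⟩ := hT c
        refine ⟨σ, ?_⟩
        convert hσ using 1
        ext a b; fin_cases a <;> fin_cases b <;> simp [SpecialLinearGroup.transvection, Matrix.transvection]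
      · obtain ⟨σ, hσ⟩ := hT (-c)
        refine ⟨w * σ * w, ?_⟩
        have hr := (hw.mul (by simp [det_fin_two]) hσ).mul hwdet hw
        intro v hv
        rw [hr v hv, ← Mobius.mob_smul pt (show (-1 : F) ≠ 0 by simp)]
        congr 1
        ext a
        fin_cases a <;>
          simp [SpecialLinearGroup.transvection, Matrix.transvection, Fin.sum_univ_two,
            mulVec, dotProduct] <;> ring
      · exact absurd rfl hij
    · rintro A B ⟨σ, hσ⟩ ⟨τ, hτ⟩
      exact ⟨σ * τ, hσ.mul (by rw [B.det_coe]; exact one_ne_zero) hτ⟩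
  refine Mobius.nonempty_mulEquiv_of_realises SpecialLinearGroup.toGL hpt key
    (Subgroup.center _) ?_ hcard
  intro m
  rw [Matrix.SpecialLinearGroup.mem_center_iff]
  constructor
  · rintro ⟨r, -, hr⟩; exact ⟨r, hr.symm⟩
  · rintro ⟨c, hc⟩
    refine ⟨c, ?_, hc.symm⟩
    have := m.det_coe
    rw [show (m : Matrix (Fin 2) (Fin 2) F) = scalar (Fin 2) c from hc] at this
    simpa using this

theorem card_PSL_odd {F : Type*} [Field F] [Fintype F] (h2 : (2 : F) ≠ 0) :
    2 * Nat.card PSL(2, F) = Fintype.card F * (Fintype.card F ^ 2 - 1) := by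
  classical
  have h1 := Cfsg.Agent.GL.card_center_SL_mul_card_PSL (F := F) (ι := Fin 2)
  rw [Cfsg.Agent.GL.card_center_SL, Fintype.card_fin, Cfsg.Agent.GL.card_SL2] at h1
  have hgcd : Nat.gcd 2 (Fintype.card F - 1) = 2 := by
    refine Nat.gcd_eq_left ?_
    have : ringChar F ≠ 2 := fun e => h2 (by
      have := ringChar.Nat.cast_ringChar (R := F); rw [e] at this; exact_mod_cast this)
    have := FiniteField.odd_card_of_char_ne_two this
    omega
  rw [hgcd] at h1
  exact h1

theorem card_PSL_even {F : Type*} [Field F] [Fintype F] (h2 : (2 : F) = 0) :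
    Nat.card PSL(2, F) = Fintype.card F * (Fintype.card F ^ 2 - 1) := by
  classical
  have h1 := Cfsg.Agent.GL.card_center_SL_mul_card_PSL (F := F) (ι := Fin 2)
  rw [Cfsg.Agent.GL.card_center_SL, Fintype.card_fin, Cfsg.Agent.GL.card_SL2] at h1
  have hchar : ringChar F = 2 :=
    ((Nat.prime_two.eq_one_or_self_of_dvd _ ((ringChar.spec F 2).1 (by exact_mod_cast h2))).resolve_left
      CharP.ringChar_ne_one)
  have hev := FiniteField.even_card_of_char_two hchar
  have hgcd : Nat.gcd 2 (Fintype.card F - 1) = 1 := by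
    have := Fintype.one_lt_card (α := F)
    rw [Nat.gcd_comm]
    exact (Nat.Coprime.symm ((Nat.Prime.coprime_iff_not_dvd Nat.prime_two).2 (by omega)))
  rw [hgcd, one_mul] at h1
  exact h1

/-- The regular kernel leaves no proper non-trivial subgroup invariant once the two-point
stabiliser has more than half as many elements. -/
theorem kernel_irreducible [Finite G] [Fintype Ω] (hZ : Cfsg.IsZassenhausGroup G Ω) {a b : Ω}
    (hab : a ≠ b) {K : Subgroup G} (hKa : ∀ k ∈ K, k • a = a)
    (hreg : ∀ x, x ≠ a → ∃! k : K, (k : G) • b = x)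
    (hd : Fintype.card Ω - 1 < 2 * (Nat.card ↥(stabilizer G a ⊓ stabilizer G b) + 1))
    (L : Subgroup G) (hL : L ≤ K)
    (hLinv : ∀ h : G, h • a = a → h • b = b → ∀ l ∈ L, h * l * h⁻¹ ∈ L) : L = ⊥ ∨ L = K := by
  classical
  refine (em (L = ⊥)).imp id fun hne => ?_
  obtain ⟨l, hl, hl1⟩ := L.bot_or_exists_ne_one.resolve_left hne
  have hlb : l • b ≠ b := fun e => by
    obtain ⟨k, -, hk⟩ := hreg b hab.symm
    exact hl1 (congrArg Subtype.val ((hk ⟨l, hL hl⟩ e).trans (hk 1 (one_smul G b)).symm))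
  have hla : l • b ≠ a := fun h =>
    hab.symm (smul_left_cancel l (h.trans (hKa l (hL hl)).symm))
  letI := Fintype.ofFinite G
  let D : Finset G := univ.filter fun g => g • a = a ∧ g • b = b
  have hD : D.card = Nat.card ↥(stabilizer G a ⊓ stabilizer G b) := by
    rw [← Fintype.card_subtype, ← Nat.card_eq_fintype_card]; rfl
  have hinj : Set.InjOn (fun h : G => h * l * h⁻¹) D := by
    intro h hh h' hh' hhh
    simp only [D, coe_filter, mem_univ, true_and, Set.mem_ofPred_eq] at hh hh'
    have e' : h • l • b = h' • l • b := by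
      have := congrArg (fun g : G => g • b) hhh
      simpa only [mul_smul, inv_smul_eq_iff.2 hh.2.symm, inv_smul_eq_iff.2 hh'.2.symm] using this
    have := Zass.eq_one_of_three hZ hab hlb.symm hla.symm
      (show (h'⁻¹ * h) • a = a by rw [mul_smul, hh.1, inv_smul_eq_iff, hh'.1])
      (by rw [mul_smul, hh.2, inv_smul_eq_iff, hh'.2]) (by rw [mul_smul, e', inv_smul_smul])
    exact (inv_mul_eq_one.1 this).symm
  have hc : D.card + 1 ≤ Nat.card L := by
    rw [Nat.card_eq_fintype_card, Fintype.card_subtype, ← card_image_of_injOn hinj]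
    refine le_trans (card_insert_of_notMem (a := (1 : G)) ?_).ge (card_le_card fun g hg => ?_)
    · intro h1
      obtain ⟨h, -, hh⟩ := mem_image.1 h1
      exact hl1 (by simpa using hh)
    · rcases mem_insert.1 hg with rfl | hg
      · simp
      · obtain ⟨h, hh, rfl⟩ := mem_image.1 hg
        simp only [D, mem_filter, mem_univ, true_and] at hh ⊢
        exact hLinv h hh.1 hh.2 l hl
  let f : K ≃ {x : Ω // x ≠ a} := Equiv.ofBijective
    (fun k => ⟨(k : G) • b, fun e => hab.symm
      (smul_left_cancel (k : G) (e.trans (hKa _ k.2).symm))⟩)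
    ⟨fun k k' e => by
      obtain ⟨w, -, hw⟩ := hreg ((k : G) • b) (fun e' => hab.symm
        (smul_left_cancel (k : G) (e'.trans (hKa _ k.2).symm)))
      exact (hw k rfl).trans (hw k' (congrArg Subtype.val e).symm).symm,
    fun x => by
      obtain ⟨k, hk, -⟩ := hreg x.1 x.2
      exact ⟨k, Subtype.ext hk⟩⟩
  have hK : Nat.card K = Fintype.card Ω - 1 := by
    rw [Nat.card_congr f, Nat.card_eq_fintype_card, Fintype.card_subtype, filter_ne',
      card_erase_of_mem (mem_univ a), card_univ]
  refine Subgroup.eq_of_le_of_card_ge hL ?_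
  obtain ⟨c, hc'⟩ := Subgroup.card_dvd_of_le hL
  rw [hK] at hc' ⊢
  rw [hD] at hc
  rcases c with _ | _ | c
  · have := Zass.three_le hZ
    omega
  · omega
  · nlinarith

/-- A Zassenhaus group with two-point stabilisers of even order `(|Ω| - 2) / 2`, inverted by every
element exchanging the two points, is `PSL_2`. -/
theorem psl_of_even_stab_of {G Ω : Type*} [Group G] [Fintype G] [MulAction G Ω]
    [Fintype Ω] (hZ : Cfsg.IsZassenhausGroup G Ω) {a b : Ω} (hab : a ≠ b)
    (heven : Even (Nat.card ↥(stabilizer G a ⊓ stabilizer G b)))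
    (h2d : 2 * Nat.card ↥(stabilizer G a ⊓ stabilizer G b) = Fintype.card Ω - 2)
    (hswap : ∀ v : G, v • a = b → v • b = a → v * v = 1 ∧
      ∀ h ∈ stabilizer G a ⊓ stabilizer G b, v * h * v⁻¹ = h⁻¹) :
    ∃ (K : Type) (_ : Field K) (_ : Fintype K), (2 : K) ≠ 0 ∧ Fintype.card Ω = Fintype.card K + 1 ∧
      Nonempty (G ≃* PSL(2, K)) := by
  classical
  have h3 := Zass.three_le hZ
  obtain ⟨H, hKa, hreg, hKc, hnorm⟩ := Zass.exists_kernel_of_even hZ hab heven
  obtain ⟨d, hd⟩ : ∃ d, d = Nat.card ↥(stabilizer G a ⊓ stabilizer G b) := ⟨_, rfl⟩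
  rw [← hd] at h2d
  obtain ⟨t, ht, hta, htb⟩ := Zass.exists_swap hZ hab
  have hinv : ∀ v : G, v • a = b → v • b = a → ∀ h : G, h • a = a → h • b = b →
      v * h * v = h⁻¹ := fun v h1 h2 h ha hb => by
    have := (hswap v h1 h2).2 h ⟨ha, hb⟩
    rwa [inv_eq_of_mul_eq_one_right (hswap v h1 h2).1] at this
  have hDc : ∀ h h' : G, h • a = a → h • b = b → h' • a = a → h' • b = b → h * h' = h' * h := by
    intro h h' ha hb ha' hb'
    have htt := Zass.sq_eq_one_of_order ht
    have e1 := hinv t hta htb (h * h') (by rw [mul_smul, ha', ha]) (by rw [mul_smul, hb', hb])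
    rw [show t * (h * h') * t = (t * h * t) * (t * h' * t) by
      calc t * (h * h') * t = t * h * 1 * h' * t := by group
        _ = t * h * (t * t) * h' * t := by rw [htt]
        _ = _ := by group, hinv t hta htb h ha hb, hinv t hta htb h' ha' hb', ← _root_.mul_inv_rev] at e1
    exact (inv_injective e1).symm
  obtain ⟨e, hea, heb⟩ := Zass.exists_third hZ a b
  -- a swap fixing `e`
  obtain ⟨s, hsa, hsb, hse⟩ : ∃ s : G, s • a = b ∧ s • b = a ∧ s • e = e := by
    let S0 : Finset G := univ.filter fun g : G =>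
      (orderOf g = 2 ∧ ∃ x y : Ω, x ≠ y ∧ g • x = x ∧ g • y = y) ∧ g • a = b
    have hS0 : 2 * S0.card = Fintype.card Ω - 2 := by
      convert Zass.two_mul_card_swapping hZ hab heven
    have hsw : ∀ g ∈ S0, g • a = b ∧ g • b = a := fun g hg => by
      obtain ⟨⟨h2, -⟩, hga⟩ := (mem_filter.1 hg).2
      exact ⟨hga, by rw [← hga, Zass.smul_smul_of_sq (Zass.sq_eq_one_of_order h2)]⟩
    let Fx : G → Finset Ω := fun g => univ.filter fun x => g • x = x
    have hdisj : (S0 : Set G).PairwiseDisjoint Fx := by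
      intro g hg g' hg' hne
      rw [Function.onFun, disjoint_left]
      intro x hx hx'
      simp only [Fx, mem_filter, mem_univ, true_and] at hx hx'
      obtain ⟨h1, h2⟩ := hsw g hg
      obtain ⟨h1', h2'⟩ := hsw g' hg'
      have hxa : x ≠ a := fun e' => hab (by rw [← h1, ← e', hx])
      have hxb : x ≠ b := fun e' => hab (by rw [← h2, ← e', hx])
      have := Zass.eq_one_of_three hZ hab hxb.symm hxa.symm
        (show (g'⁻¹ * g) • a = a by rw [mul_smul, h1, inv_smul_eq_iff, h1'])
        (by rw [mul_smul, h2, inv_smul_eq_iff, h2']) (by rw [mul_smul, hx, inv_smul_eq_iff, hx'])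
      exact hne (inv_mul_eq_one.1 this).symm
    have hsub : S0.biUnion Fx ⊆ (univ.erase a).erase b := by
      intro x hx
      obtain ⟨g, hg, hgx⟩ := mem_biUnion.1 hx
      simp only [Fx, mem_filter, mem_univ, true_and] at hgx
      obtain ⟨h1, h2⟩ := hsw g hg
      simp only [mem_erase, mem_univ, and_true]
      exact ⟨fun e' => hab (by rw [← h2, ← e', hgx]), fun e' => hab (by rw [← h1, ← e', hgx])⟩
    have hge : 2 * S0.card ≤ (S0.biUnion Fx).card := by
      rw [card_biUnion hdisj, mul_comm, ← smul_eq_mul]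
      refine card_nsmul_le_sum _ _ _ fun g hg => ?_
      obtain ⟨⟨-, x, y, hxy, hx, hy⟩, -⟩ := (mem_filter.1 hg).2
      exact one_lt_card.2 ⟨x, mem_filter.2 ⟨mem_univ _, hx⟩, y, mem_filter.2 ⟨mem_univ _, hy⟩, hxy⟩
    have heq := eq_of_subset_of_card_le hsub (by
      rw [card_erase_of_mem (mem_erase.2 ⟨hab.symm, mem_univ _⟩), card_erase_of_mem (mem_univ _),
        card_univ]
      omega)
    have hmem : e ∈ (univ.erase a).erase b := by simp [hea, heb]
    rw [← heq] at hmem
    obtain ⟨g, hg, hge'⟩ := mem_biUnion.1 hmem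
    exact ⟨g, (hsw g hg).1, (hsw g hg).2, (mem_filter.1 hge').2⟩
  have hss := (hswap s hsa hsb).1
  have hirr : ∀ L : Subgroup G, L ≤ H →
      (∀ h : G, h • a = a → h • b = b → ∀ l ∈ L, h * l * h⁻¹ ∈ L) → L = ⊥ ∨ L = H :=
    fun L hL hLinv => kernel_irreducible hZ hab hKa hreg (by rw [← hd]; omega) L hL hLinv
  obtain ⟨F, _, _, pt, hpa, hpb, hpe, hT, hM⟩ := Coords.exists_coords hab.symm heb hea H hKa hreg
    hKc (fun h ha _ k hk => hnorm h ha k hk) hDc hirr
  have hcardF : Fintype.card Ω = Fintype.card F + 1 := by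
    rw [← Fintype.card_option]; exact (Fintype.card_congr pt).symm
  have hdpos : 0 < d := hd ▸ Nat.card_pos
  have hq : Fintype.card F = 2 * d + 1 := by omega
  have h2F : (2 : F) ≠ 0 := by
    refine Ring.two_ne_zero fun h => ?_
    have := FiniteField.even_card_iff_char_two.1 h
    omega
  have hsome : ∀ {x y : F}, pt (some x) = pt (some y) → x = y := fun h =>
    Option.some_injective _ (pt.injective h)
  -- the multipliers
  let M : Finset F := univ.filter fun x : F => ∃ h : G, h • a = a ∧ h • b = b ∧ h • e = pt (some x)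
  have hMspec : ∀ m ∈ M, m ≠ 0 ∧
      ∃ h : G, h • a = a ∧ h • b = b ∧ ∀ x, h • pt (some x) = pt (some (m * x)) := by
    intro m hm
    obtain ⟨-, h, ha, hb, he⟩ := mem_filter.1 hm
    obtain ⟨m', hm', hmx⟩ := hM h ha hb
    have : m' = m := by
      have h1 := hmx 1
      rw [hpe, he, mul_one] at h1
      exact (hsome h1).symm
    subst this
    exact ⟨hm', h, ha, hb, hmx⟩
  have hMmul : ∀ m ∈ M, ∀ m' ∈ M, m * m' ∈ M := by
    intro m hm m' hm'
    obtain ⟨-, h, ha, hb, hx⟩ := hMspec m hm
    obtain ⟨-, h', ha', hb', hx'⟩ := hMspec m' hm'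
    exact mem_filter.2 ⟨mem_univ _, h * h', by rw [mul_smul, ha', ha], by rw [mul_smul, hb', hb],
      by rw [mul_smul, ← hpe, hx', hx, mul_one]⟩
  have hMinv : ∀ m ∈ M, m⁻¹ ∈ M := by
    intro m hm
    obtain ⟨hm0, h, ha, hb, hx⟩ := hMspec m hm
    refine mem_filter.2 ⟨mem_univ _, h⁻¹, inv_smul_eq_iff.2 ha.symm, inv_smul_eq_iff.2 hb.symm, ?_⟩
    rw [inv_smul_eq_iff, hx, mul_inv_cancel₀ hm0, hpe]
  have hMc : M.card = d := by
    let Hf : Finset G := univ.filter fun g => g • a = a ∧ g • b = b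
    have hHf : Hf.card = d := by
      rw [hd, ← Fintype.card_subtype, ← Nat.card_eq_fintype_card]; rfl
    rw [← hHf]
    refine (card_bij (fun h _ => (pt.symm (h • e)).getD 0) ?_ ?_ ?_).symm
    · intro h hh
      obtain ⟨ha, hb⟩ := (mem_filter.1 hh).2
      obtain ⟨m, -, hmx⟩ := hM h ha hb
      rw [← hpe, hmx, mul_one, Equiv.symm_apply_apply, Option.getD_some]
      exact mem_filter.2 ⟨mem_univ _, h, ha, hb, by rw [← hpe, hmx, mul_one]⟩
    · intro h hh h' hh' he
      obtain ⟨ha, hb⟩ := (mem_filter.1 hh).2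
      obtain ⟨ha', hb'⟩ := (mem_filter.1 hh').2
      obtain ⟨m, -, hmx⟩ := hM h ha hb
      obtain ⟨m', -, hmx'⟩ := hM h' ha' hb'
      rw [← hpe, hmx, hmx', Equiv.symm_apply_apply, Equiv.symm_apply_apply] at he
      simp at he
      have := Zass.eq_one_of_three hZ hab heb.symm hea.symm
        (show (h'⁻¹ * h) • a = a by rw [mul_smul, ha, inv_smul_eq_iff, ha'])
        (by rw [mul_smul, hb, inv_smul_eq_iff, hb'])
        (by rw [mul_smul, ← hpe, hmx, he, ← hmx', inv_smul_smul])
      exact (inv_mul_eq_one.1 this).symm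
    · intro m hm
      obtain ⟨-, h, ha, hb, hh⟩ := hMspec m hm
      exact ⟨h, mem_filter.2 ⟨mem_univ _, ha, hb⟩,
        by rw [← hpe, hh, mul_one, Equiv.symm_apply_apply]; rfl⟩
  -- `-1` is a multiplier: the involution of the two-point stabiliser
  have hneg1 : (-1 : F) ∈ M := by
    obtain ⟨z, hz, hza, hzb⟩ := Zass.exists_involution_of_even heven
    obtain ⟨m, -, hmx⟩ := hM z hza hzb
    have hz2 := Zass.sq_eq_one_of_order hz
    have hmm : m * m = 1 := by
      have h1 := hmx (m * 1)
      rw [← hmx 1, ← mul_smul, hz2, one_smul] at h1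
      have := hsome h1
      linear_combination -this
    rcases mul_self_eq_one_iff.1 hmm with h | h
    · exfalso
      have h1 := hmx 1
      rw [h, one_mul, hpe] at h1
      have := Zass.eq_one_of_three hZ hab heb.symm hea.symm hza hzb h1
      rw [this] at hz; simp at hz
    · exact mem_filter.2 ⟨mem_univ _, z, hza, hzb, by rw [← hpe, hmx, h, mul_one]⟩
  have hone : (1 : F) ∈ M :=
    mem_filter.2 ⟨mem_univ _, 1, one_smul G a, one_smul G b, by rw [one_smul, hpe]⟩
  -- `s` on an orbit of the multipliers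
  have hsh : ∀ m ∈ M, ∀ x y : F, s • pt (some x) = pt (some y) →
      s • pt (some (m * x)) = pt (some (y / m)) := by
    intro m hm x y hxy
    obtain ⟨hm0, h, ha, hb, hh⟩ := hMspec m hm
    have h1 : s * h = h⁻¹ * s := by rw [← hinv s hsa hsb h ha hb, mul_assoc, hss, mul_one]
    rw [← hh, ← mul_smul, h1, mul_smul, hxy, inv_smul_eq_iff, hh]
    congr 2
    field_simp
  have hs1 : s • pt (some 1) = pt (some 1) := by rw [hpe, hse]
  have hsM : ∀ m ∈ M, s • pt (some m) = pt (some (1 / m)) := fun m hm => by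
    simpa using hsh m hm 1 1 hs1
  -- a multiplier whose successor is neither zero nor a multiplier
  obtain ⟨z, hzM, hz1, hνM⟩ : ∃ z ∈ M, z + 1 ≠ 0 ∧ z + 1 ∉ M := by
    by_contra hcon
    push Not at hcon
    have hstab : ∀ x, x = 0 ∨ x ∈ M → ∀ y, y = 0 ∨ y ∈ M → x + y = 0 ∨ x + y ∈ M := by
      intro x hx y hy
      rcases hy with rfl | hy
      · rwa [add_zero]
      rcases hx with rfl | hx
      · rw [zero_add]; exact Or.inr hy
      by_cases h0 : x + y = 0
      · exact Or.inl h0
      refine Or.inr ?_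
      have hy0 := (hMspec y hy).1
      have h1 : x / y + 1 ∈ M := hcon (x / y) (by rw [div_eq_mul_inv]; exact hMmul x hx _ (hMinv y hy))
        (fun h => h0 (by field_simp at h; simpa using h))
      have := hMmul _ h1 _ hy
      rwa [add_mul, one_mul, div_mul_cancel₀ x hy0] at this
    let A : AddSubgroup F :=
      { carrier := {x | x = 0 ∨ x ∈ M}
        zero_mem' := Or.inl rfl
        add_mem' := fun {x y} hx hy => hstab x hx y hy
        neg_mem' := fun {x} hx => by
          rcases hx with rfl | hx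
          · exact Or.inl neg_zero
          · exact Or.inr (by simpa using hMmul _ hneg1 x hx) }
    have hA : Nat.card A = d + 1 := by
      rw [← hMc, ← card_insert_of_notMem (fun h : (0 : F) ∈ M => (hMspec 0 h).1 rfl),
        ← Fintype.card_coe, ← Nat.card_eq_fintype_card]
      exact Nat.card_congr (Equiv.subtypeEquivRight fun x => by
        simp only [mem_insert]; exact Iff.rfl)
    have hdvd := A.card_addSubgroup_dvd_card
    rw [hA, Nat.card_eq_fintype_card, hq] at hdvd
    have h1 : d + 1 ∣ 1 := by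
      have h2 := Nat.dvd_sub (dvd_mul_left (d + 1) 2) hdvd
      rwa [show 2 * (d + 1) - (2 * d + 1) = 1 by omega] at h2
    have := Nat.le_of_dvd one_pos h1
    omega
  obtain ⟨ν, rfl⟩ : ∃ ν, z = ν - 1 := ⟨z + 1, by ring⟩
  simp only [sub_add_cancel] at hz1 hνM
  obtain ⟨hz0, -⟩ := hMspec _ hzM
  -- `s` at `ν`
  obtain ⟨σ, hσ⟩ : ∃ σ, s • pt (some ν) = pt (some σ) := by
    rcases hx : pt.symm (s • pt (some ν)) with _ | σ
    · exfalso
      have : s • pt (some ν) = a := by rw [← hpa, ← hx, Equiv.apply_symm_apply]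
      rw [← hsb, ← hpb] at this
      exact hz1 (hsome (smul_left_cancel s this))
    · exact ⟨σ, by rw [← hx, Equiv.apply_symm_apply]⟩
  have hσν : σ * ν = 1 := by
    obtain ⟨τ, hτa, hτ⟩ := hT 1
    obtain ⟨τ', hτ'a, hτ'⟩ := hT (-1)
    let g := τ * s * τ' * s * τ * s
    have hτa' : τ • a = a := hτa
    have hτ'a' : τ' • a = a := hτ'a
    have hs1' : s • pt (some (-1)) = pt (some (-1)) := by
      rw [hsM _ hneg1]; congr 2; field_simp
    have hga : g • a = a := by
      simp only [g, mul_smul]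
      rw [hsa, ← hpb, hτ, show (1 : F) * 0 + 1 = 1 by ring, hs1, hτ',
        show (1 : F) * 1 + -1 = 0 by ring, hpb, hsb, hτa']
    have hgb : g • b = b := by
      simp only [g, mul_smul]
      rw [hsb, hτa', hsa, ← hpb, hτ', show (1 : F) * 0 + -1 = -1 by ring, hs1', hτ,
        show (1 : F) * -1 + 1 = 0 by ring]
    obtain ⟨m, -, hmx⟩ := hM g hga hgb
    have hgm : g • pt (some (-1)) = pt (some 1) := by
      simp only [g, mul_smul, hs1', hτ]
      rw [show (1 : F) * -1 + 1 = 0 by ring, hpb, hsb, hτ'a', hsa, ← hpb, hτ]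
      congr 2; ring
    have hm : m = -1 := by
      rw [hmx] at hgm
      linear_combination -(hsome hgm)
    subst hm
    have h1 := hmx (ν - 1)
    -- compute the left hand side
    have e1 : s • pt (some (ν - 1)) = pt (some (1 / (ν - 1))) := hsM _ hzM
    have e2 : s • pt (some (1 * (1 / (ν - 1)) + 1)) = pt (some ((ν - 1) * σ)) := by
      have := hsh _ (hMinv _ hzM) ν σ hσ
      rw [show (1 : F) * (1 / (ν - 1)) + 1 = (ν - 1)⁻¹ * ν by field_simp; ring, this]
      congr 2
      rw [div_inv_eq_mul, mul_comm]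
    have e3 : s • pt (some (-1 * ν)) = pt (some (σ / -1)) := hsh _ hneg1 ν σ hσ
    simp only [g, mul_smul] at h1
    rw [e1, hτ, e2, hτ'] at h1
    have h2 : s • pt (some (1 * ((ν - 1) * σ) + -1)) = pt (some (-1 * ν)) := by
      have h3 : τ • pt (some (-1 * ν)) = pt (some (-1 * (ν - 1))) := by
        rw [hτ]; congr 2; ring
      rw [← h3] at h1
      exact smul_left_cancel τ h1
    have h4 := congrArg (s • ·) h2
    simp only [Zass.smul_smul_of_sq hss, e3] at h4
    have := hsome h4
    rw [div_neg, div_one] at this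
    linear_combination this
  have hν0 : ν ≠ 0 := hz1
  -- `s` is `x ↦ 1/x`
  have hsinv : ∀ x : F, x ≠ 0 → s • pt (some x) = pt (some (1 / x)) := by
    intro x hx
    by_cases hxM : x ∈ M
    · exact hsM x hxM
    have hν : x / ν ∈ M := by
      by_contra hxν
      have hdisj : Disjoint M (M.image fun m => m * ν) := by
        rw [disjoint_left]
        intro m hm hm'
        obtain ⟨m', hm₀, rfl⟩ := mem_image.1 hm'
        refine hνM ?_
        have := hMmul _ (hMinv _ hm₀) _ hm
        rwa [inv_mul_cancel_left₀ (hMspec _ hm₀).1] at this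
      have hsub : M ∪ M.image (fun m => m * ν) ⊆ ((univ.erase (0 : F)).erase x) := by
        intro y hy
        simp only [mem_erase, mem_univ, and_true]
        rcases mem_union.1 hy with hy | hy
        · exact ⟨fun e => hxM (e ▸ hy), (hMspec y hy).1⟩
        · obtain ⟨m, hm, rfl⟩ := mem_image.1 hy
          exact ⟨fun e => hxν (by rw [← e, mul_div_assoc, div_self hν0, mul_one]; exact hm),
            mul_ne_zero (hMspec m hm).1 hν0⟩
      have := card_le_card hsub
      rw [card_union_of_disjoint hdisj,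
        card_image_of_injective _ (mul_left_injective₀ hν0), hMc,
        card_erase_of_mem (mem_erase.2 ⟨hx, mem_univ _⟩), card_erase_of_mem (mem_univ _),
        card_univ, hq] at this
      omega
    have := hsh _ hν ν σ hσ
    rw [div_mul_cancel₀ x hν0] at this
    rw [this]
    congr 2
    field_simp
    linear_combination hσν
  -- correct the sign
  obtain ⟨-, h₁, h₁a, h₁b, h₁x⟩ := hMspec _ hneg1
  refine ⟨F, inferInstance, inferInstance, h2F, hcardF, ?_⟩
  have := hZ.1
  refine nonempty_mulEquiv_PSL_of_card (pt := pt) pt.bijective (fun c => ?_) ⟨h₁ * s, ?_⟩ ?_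
  · obtain ⟨σ, hσ, hσx⟩ := hT c
    exact ⟨σ, Coords.realises_affine (by rw [hpa, hσ]) hσx⟩
  · refine Coords.realises_inversion (by rw [mul_smul, hpa, hsa, hpb, h₁b])
      (by rw [mul_smul, hpb, hsb, hpa, h₁a]) fun x hx => ?_
    rw [mul_smul, hsinv x hx, h₁x]
    congr 2
    field_simp
  · have hG := ZassenhausOdd.card_group hZ hab
    have h1 := card_PSL_odd h2F
    rw [hG, hcardF, show Fintype.card F + 1 - 1 = Fintype.card F by omega, ← hd]
    rw [show Fintype.card F ^ 2 - 1 = (Fintype.card F + 1) * (2 * d) by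
      rw [show 2 * d = Fintype.card F - 1 by omega, ← Nat.sq_sub_sq, one_pow]] at h1
    refine Nat.eq_of_mul_eq_mul_left two_pos (h1.trans ?_)
    ring

/-- A simple Zassenhaus group with two-point stabilisers of even order is `PSL_2`. -/
theorem psl_of_even_stab {G Ω : Type*} [Group G] [Fintype G] [IsSimpleGroup G] [MulAction G Ω]
    [Fintype Ω] (hZ : Cfsg.IsZassenhausGroup G Ω) {a b : Ω} (hab : a ≠ b)
    (heven : Even (Nat.card ↥(stabilizer G a ⊓ stabilizer G b))) :
    ∃ (K : Type) (_ : Field K) (_ : Fintype K), (2 : K) ≠ 0 ∧ Fintype.card Ω = Fintype.card K + 1 ∧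
      Nonempty (G ≃* PSL(2, K)) :=
  psl_of_even_stab_of hZ hab heven (ZassEven.two_mul_card_stab hZ hab heven)
    (ZassEven.twoStab_cyclic_inverted hZ hab heven).2

/-- A simple Zassenhaus group of degree `q + 1`, `q` even, with abelian kernel and two-point
stabilisers of order `q - 1` is `PSL_2`. -/
theorem psl_of_even_degree {G Ω : Type*} [Group G] [Fintype G] [IsSimpleGroup G] [MulAction G Ω]
    [Fintype Ω] (hZ : Cfsg.IsZassenhausGroup G Ω) {a b : Ω} (hab : a ≠ b) {H : Subgroup G}
    (hHa : H ≤ stabilizer G a) (hHcard : Nat.card H + 1 = Fintype.card Ω)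
    (hHfix : ∀ u ∈ H, u ≠ 1 → ∀ c : Ω, u • c = c → c = a)
    (hHc : ∀ u ∈ H, ∀ v ∈ H, u * v = v * u)
    (hn : Odd (Fintype.card Ω))
    (hd : Nat.card (ZassenhausOdd.twoStab G a b) = Fintype.card Ω - 2) :
    ∃ (K : Type) (_ : Field K) (_ : Fintype K), (2 : K) = 0 ∧ Fintype.card Ω = Fintype.card K + 1 ∧
      Nonempty (G ≃* PSL(2, K)) := by
  classical
  have h3 := Zass.three_le hZ
  have hodd : Odd (Nat.card (ZassenhausOdd.twoStab G a b)) := by
    rw [hd]
    obtain ⟨k, hk⟩ := hn
    exact ⟨k - 1, by omega⟩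
  have hperf := ZassenhausOdd.perfect_of_abelian hZ hab hodd hHa hHcard hHfix hHc
  obtain ⟨d, hd'⟩ : ∃ d, d = Nat.card (ZassenhausOdd.twoStab G a b) := ⟨_, rfl⟩
  rw [← hd'] at hd
  obtain ⟨t, ht, hta, htb⟩ := Zass.exists_swap hZ hab
  have htt := Zass.sq_eq_one_of_order ht
  have hinv' := ZassenhausOdd.twoStab_inverted hZ hab hperf hodd hta htt
  have hinv : ∀ h : G, h • a = a → h • b = b → t * h * t = h⁻¹ := by
    intro h ha hb
    have := hinv' h ⟨ha, hb⟩
    rwa [inv_eq_of_mul_eq_one_right htt] at this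
  have hDc : ∀ h h' : G, h • a = a → h • b = b → h' • a = a → h' • b = b → h * h' = h' * h := by
    intro h h' ha hb ha' hb'
    have e1 := hinv (h * h') (by rw [mul_smul, ha', ha]) (by rw [mul_smul, hb', hb])
    rw [show t * (h * h') * t = (t * h * t) * (t * h' * t) by
      calc t * (h * h') * t = t * h * 1 * h' * t := by group
        _ = t * h * (t * t) * h' * t := by rw [htt]
        _ = _ := by group, hinv h ha hb, hinv h' ha' hb', ← _root_.mul_inv_rev] at e1
    exact (inv_injective e1).symm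
  have hreg : ∀ x, x ≠ a → ∃! k : H, (k : G) • b = x := by
    intro x hx
    obtain ⟨v, hv, hvx⟩ := ZassenhausOdd.exists_kernel_smul hZ hab hHa hHcard hHfix hx
    refine ⟨⟨v, hv⟩, hvx, fun k hk => Subtype.ext (inv_mul_eq_one.1 ?_).symm⟩
    by_contra hne
    exact hab.symm (hHfix _ (H.mul_mem (H.inv_mem hv) k.2) hne b (by
      rw [mul_smul, show (k : G) • b = x from hk, ← hvx, inv_smul_smul]))
  obtain ⟨e, hea, heb⟩ := Zass.exists_third hZ a b
  obtain ⟨F, _, _, pt, hpa, hpb, hpe, hT, hM⟩ := Coords.exists_coords hab.symm heb hea H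
    (fun k hk => hHa hk) hreg ⟨⟨fun u v => Subtype.ext (hHc u u.2 v v.2)⟩⟩
    (fun h ha _ k hk => ZassenhausOdd.kernel_conj hZ hHa hHcard hHfix ha hk) hDc
    (fun L hL hLinv => kernel_irreducible hZ hab (fun k hk => hHa hk) hreg
      (by rw [← show d = Nat.card ↥(stabilizer G a ⊓ stabilizer G b) from hd']; omega) L hL hLinv)
  have hcardF : Fintype.card Ω = Fintype.card F + 1 := by
    rw [← Fintype.card_option]; exact (Fintype.card_congr pt).symm
  have h2F : (2 : F) = 0 := by
    have hc : ringChar F = 2 := FiniteField.even_card_iff_char_two.2 (by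
      obtain ⟨k, hk⟩ := hn; omega)
    have := ringChar.Nat.cast_ringChar (R := F)
    rw [hc] at this
    exact_mod_cast this
  have hsome : ∀ {x y : F}, pt (some x) = pt (some y) → x = y := fun h =>
    Option.some_injective _ (pt.injective h)
  -- every non-zero element is a multiplier
  have hall : ∀ m : F, m ≠ 0 →
      ∃ h : G, h • a = a ∧ h • b = b ∧ ∀ x, h • pt (some x) = pt (some (m * x)) := by
    choose f hf0 hf using hM
    let g : ZassenhausOdd.twoStab G a b → {m : F // m ≠ 0} := fun h =>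
      ⟨f h h.2.1 h.2.2, hf0 h h.2.1 h.2.2⟩
    have hg : Function.Injective g := by
      intro h h' e'
      have e'' : f h h.2.1 h.2.2 = f h' h'.2.1 h'.2.2 := congrArg Subtype.val e'
      refine Subtype.ext (inv_mul_eq_one.1 ?_).symm
      refine Zass.eq_one_of_three hZ hab heb.symm hea.symm ?_ ?_ ?_
      · rw [mul_smul, h.2.1, inv_smul_eq_iff]; exact h'.2.1.symm
      · rw [mul_smul, h.2.2, inv_smul_eq_iff]; exact h'.2.2.symm
      · rw [mul_smul, ← hpe, hf h h.2.1 h.2.2, inv_smul_eq_iff, hf h' h'.2.1 h'.2.2, e'']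
    have hb : Function.Bijective g := (Fintype.bijective_iff_injective_and_card g).2 ⟨hg, by
      rw [← Nat.card_eq_fintype_card, ← hd', Fintype.card_subtype, filter_ne',
        card_erase_of_mem (mem_univ _), card_univ]
      omega⟩
    intro m hm
    obtain ⟨h, hh⟩ := hb.2 ⟨m, hm⟩
    have : f h h.2.1 h.2.2 = m := congrArg Subtype.val hh
    exact ⟨h, h.2.1, h.2.2, fun x => by rw [hf h h.2.1 h.2.2, this]⟩
  obtain ⟨μ, hμ⟩ : ∃ μ, t • e = pt (some μ) := by
    rcases hx : pt.symm (t • e) with _ | μ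
    · exfalso
      have : t • e = a := by rw [← hpa, ← hx, Equiv.apply_symm_apply]
      exact heb (smul_left_cancel t (this.trans htb.symm))
    · exact ⟨μ, by rw [← hx, Equiv.apply_symm_apply]⟩
  have hμ0 : μ ≠ 0 := fun h => hea (smul_left_cancel t (by rw [hμ, h, hpb, hta]))
  obtain ⟨h₁, h₁a, h₁b, h₁x⟩ := hall (-μ⁻¹) (neg_ne_zero.2 (inv_ne_zero hμ0))
  have htx : ∀ x : F, x ≠ 0 → t • pt (some x) = pt (some (μ / x)) := by
    intro x hx
    obtain ⟨h, ha, hb, hh⟩ := hall x hx
    have hth : t * h = h⁻¹ * t := by rw [← hinv h ha hb, mul_assoc, htt, mul_one]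
    rw [show pt (some x) = h • e by rw [← hpe, hh, mul_one], ← mul_smul, hth, mul_smul, hμ,
      inv_smul_eq_iff, hh]
    congr 2
    field_simp
  refine ⟨F, inferInstance, inferInstance, h2F, hcardF, ?_⟩
  have := hZ.1
  refine nonempty_mulEquiv_PSL_of_card (pt := pt) pt.bijective (fun c => ?_) ⟨h₁ * t, ?_⟩ ?_
  · obtain ⟨σ, hσ, hσx⟩ := hT c
    exact ⟨σ, Coords.realises_affine (by rw [hpa, hσ]) hσx⟩
  · refine Coords.realises_inversion (by rw [mul_smul, hpa, hta, hpb, h₁b])
      (by rw [mul_smul, hpb, htb, hpa, h₁a]) fun x hx => ?_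
    rw [mul_smul, htx x hx, h₁x]
    congr 2
    field_simp
  · have hG := ZassenhausOdd.card_group hZ hab
    rw [card_PSL_even h2F, hG, hcardF, show Fintype.card F + 1 - 1 = Fintype.card F by omega,
      ← hd', show Fintype.card F ^ 2 - 1 = (Fintype.card F + 1) * d by
        rw [show d = Fintype.card F - 1 by omega, ← Nat.sq_sub_sq, one_pow]]
    ring

end Cfsg.Agent.PSL2.Recog
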