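import Mathlib
import Cfsg.Agent.Lib.PSL2.Recognition
import Cfsg.Agent.Lib.SmallSimple.Tools

/-!
# Recognition of `PSL_2 (q)` from its Sylow subgroups of order `q`

A simple group of the order of `PSL_2 (q)` with `q + 1` abelian Sylow `p`-subgroups `P` of order
`q`, in which whatever centralises one non-trivial element of `P` centralises `P`, is `PSL_2 (q)`.
-/

set_option autoImplicit false
set_option linter.style.haveILetI false

namespace Cfsg.Agent.PSL2.Recog

open MulAction Finset
open scoped MatrixGroups Pointwise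
open Cfsg.Agent.Perm

variable {G : Type*} [Group G] [Finite G] {p : ℕ} [Fact p.Prime]

section action

variable (P : Sylow p G) (hn : Nat.card (Sylow p G) = Nat.card P + 1)
  (hc : ∀ u ∈ (P : Subgroup G), u ≠ 1 → ∀ g : G, g * u = u * g →
    ∀ v ∈ (P : Subgroup G), g * v = v * g)
include hc

theorem sylow_comm {u v : G} (hu : u ∈ (P : Subgroup G)) (hv : v ∈ (P : Subgroup G)) :
    u * v = v * u := by
  by_cases hu1 : u = 1
  · simp [hu1]
  · exact hc u hu hu1 u rfl v hv

/-- A non-trivial element of `P` fixes only `P`. -/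
theorem fix_only {u : G} (hu : u ∈ (P : Subgroup G)) (hu1 : u ≠ 1) {Q : Sylow p G}
    (hQ : u • Q = Q) : Q = P := by
  have huQ : u ∈ (Q : Subgroup G) := SmallSimple.mem_of_smul_sylow_eq hu hQ
  obtain ⟨g, rfl⟩ := exists_smul_eq G P Q
  have huv : g⁻¹ * u * g ∈ (P : Subgroup G) := by
    rw [Sylow.coe_subgroup_smul, Subgroup.mem_pointwise_smul_iff_inv_smul_mem] at huQ
    simpa [MulAut.smul_def] using huQ
  have hQP : ((g • P : Sylow p G) : Subgroup G) ≤ P := by
    intro x hx
    have hxc : x * u = u * x := by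
      rw [Sylow.coe_subgroup_smul, Subgroup.mem_pointwise_smul_iff_inv_smul_mem] at hx
      have hxP : g⁻¹ * x * g ∈ (P : Subgroup G) := by simpa [MulAut.smul_def] using hx
      have h := congrArg (fun z => g * z * g⁻¹) (sylow_comm P hc hxP huv)
      simpa [mul_assoc] using h
    refine SmallSimple.mem_of_smul_sylow_eq (Q := P) hx ?_
    rw [SmallSimple.smul_sylow_eq_iff, Subgroup.mem_normalizer_iff]
    have hxv := hc u hu hu1 x hxc
    intro v
    refine ⟨fun hv => by rwa [hxv v hv, mul_inv_cancel_right], fun hv => ?_⟩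
    have h := hxv _ hv
    have h' : x * v * x⁻¹ = v :=
      calc x * v * x⁻¹ = x⁻¹ * (x * (x * v * x⁻¹)) := by group
        _ = x⁻¹ * ((x * v * x⁻¹) * x) := by rw [h]
        _ = v := by group
    rwa [h'] at hv
  exact Sylow.ext (Subgroup.eq_of_le_of_card_ge hQP
    (((g • P).card_eq_multiplicity.trans P.card_eq_multiplicity.symm).ge))

include hn

theorem card_univ_eq [Fintype (Sylow p G)] : Fintype.card (Sylow p G) = Nat.card P + 1 := by
  rw [← Nat.card_eq_fintype_card, hn]

/-- `P` is transitive on the other Sylow subgroups. -/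
theorem exists_smul_other {Q R : Sylow p G} (hQ : Q ≠ P) (hR : R ≠ P) :
    ∃ u ∈ (P : Subgroup G), u • Q = R := by
  classical
  letI := Fintype.ofFinite (Sylow p G)
  letI := Fintype.ofFinite (P : Subgroup G)
  have hne : ∀ u : (P : Subgroup G), (u : G) • Q ≠ P := by
    intro u h
    refine hQ ?_
    have h2 : (u : G)⁻¹ • P = P :=
      SmallSimple.smul_sylow_eq_iff.2 (Subgroup.le_normalizer (inv_mem u.2))
    calc Q = (u : G)⁻¹ • (u : G) • Q := (inv_smul_smul _ _).symm
      _ = P := by rw [h, h2]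
  let f : ↥(P : Subgroup G) → {S : Sylow p G // S ≠ P} := fun u => ⟨(u : G) • Q, hne u⟩
  have hf : Function.Injective f := by
    intro u v e
    by_contra h
    refine hQ (fix_only P hc (mul_mem (inv_mem v.2) u.2) ?_ (Q := Q) ?_)
    · exact fun h1 => h (Subtype.ext (inv_mul_eq_one.1 h1).symm)
    · rw [mul_smul, show (u : G) • Q = (v : G) • Q from congrArg Subtype.val e, inv_smul_smul]
  have hb : Function.Bijective f := (Fintype.bijective_iff_injective_and_card f).2 ⟨hf, by
    rw [← Nat.card_eq_fintype_card, Fintype.card_subtype, filter_ne',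
      card_erase_of_mem (mem_univ _), Finset.card_univ, card_univ_eq P hn hc, Nat.add_sub_cancel]⟩
  obtain ⟨u, hu⟩ := hb.2 ⟨R, hR⟩
  exact ⟨u, u.2, congrArg Subtype.val hu⟩

theorem two_pretransitive : IsMultiplyPretransitive G (Sylow p G) 2 := by
  rw [is_two_pretransitive_iff]
  suffices h : ∀ a b : Sylow p G, a ≠ b → ∀ R : Sylow p G, R ≠ P →
      ∃ g : G, g • a = P ∧ g • b = R by
    obtain ⟨R, hR⟩ : ∃ R : Sylow p G, R ≠ P := by
      by_contra h
      push Not at h
      haveI : Subsingleton (Sylow p G) := ⟨fun x y => (h x).trans (h y).symm⟩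
      have := Nat.card_of_subsingleton P
      have h1 : 0 < Nat.card P := Nat.card_pos
      omega
    intro a b c d hab hcd
    obtain ⟨g, hga, hgb⟩ := h a b hab R hR
    obtain ⟨k, hkc, hkd⟩ := h c d hcd R hR
    exact ⟨k⁻¹ * g, by rw [mul_smul, hga, ← hkc, inv_smul_smul],
      by rw [mul_smul, hgb, ← hkd, inv_smul_smul]⟩
  intro a b hab R hR
  obtain ⟨g, rfl⟩ := exists_smul_eq G P a
  have hb : g⁻¹ • b ≠ P := fun e => hab (by rw [← e, smul_inv_smul])
  obtain ⟨u, hu, hub⟩ := exists_smul_other P hn hc hb hR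
  refine ⟨u * g⁻¹, ?_, by rw [mul_smul, hub]⟩
  rw [mul_smul, inv_smul_smul]
  exact SmallSimple.smul_sylow_eq_iff.2 (Subgroup.le_normalizer hu)

theorem isZassenhaus [IsSimpleGroup G] {d : ℕ} (hd : 2 ≤ d)
    (hG : Nat.card G = (Nat.card P + 1) * (Nat.card P * d)) :
    Cfsg.IsZassenhausGroup G (Sylow p G) ∧
      ∀ Q : Sylow p G, Q ≠ P → Nat.card ↥(stabilizer G P ⊓ stabilizer G Q) = d := by
  classical
  have h2 := two_pretransitive P hn hc
  haveI := h2
  haveI : IsPretransitive G (Sylow p G) := isPretransitive_of_is_two_pretransitive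
  haveI hfaith : FaithfulSMul G (Sylow p G) := by
    rcases (MonoidHom.normal_ker (MulAction.toPermHom G (Sylow p G))).eq_bot_or_eq_top with h | h
    · rw [MonoidHom.ker_eq_bot_iff] at h
      exact ⟨fun {x y} hxy => h (Equiv.ext hxy)⟩
    · exfalso
      have hss : Subsingleton (Sylow p G) := ⟨fun x y => by
        obtain ⟨g, rfl⟩ := exists_smul_eq G x y
        have hg : g ∈ (MulAction.toPermHom G (Sylow p G)).ker := h ▸ Subgroup.mem_top g
        exact (DFunLike.congr_fun (MonoidHom.mem_ker.1 hg) x).symm⟩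
      have := Nat.card_of_subsingleton P
      have h1 : 0 < Nat.card P := Nat.card_pos
      omega
  have hcardQ : ∀ Q : Sylow p G, Q ≠ P → Nat.card ↥(stabilizer G P ⊓ stabilizer G Q) = d := by
    intro Q hQ
    letI := Fintype.ofFinite (Sylow p G)
    have e1 := (stabilizer G P).card_mul_index
    rw [index_stabilizer_of_transitive G P, hn, hG, mul_comm] at e1
    have hst : Nat.card (stabilizer G P) = Nat.card P * d :=
      Nat.eq_of_mul_eq_mul_left (by omega) e1
    have horb : orbit (stabilizer G P) Q = {S | S ≠ P} := by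
      ext S
      constructor
      · rintro ⟨k, rfl⟩ h
        exact hQ (smul_left_cancel (k : G) (h.trans (mem_stabilizer_iff.1 k.2).symm))
      · intro hS
        obtain ⟨u, hu, huS⟩ := exists_smul_other P hn hc hQ hS
        exact ⟨⟨u, SmallSimple.smul_sylow_eq_iff.2 (Subgroup.le_normalizer hu)⟩, huS⟩
    have e2 := (stabilizer (stabilizer G P) Q).card_mul_index
    rw [index_stabilizer, horb, Set.ncard_eq_toFinset_card', hst] at e2
    simp only [Set.toFinset_setOf, filter_ne', card_erase_of_mem (mem_univ P), Finset.card_univ,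
      card_univ_eq P hn hc, Nat.add_sub_cancel] at e2
    rw [mul_comm] at e2
    rw [← Nat.eq_of_mul_eq_mul_left Nat.card_pos e2]
    exact Nat.card_congr
      { toFun := fun x => ⟨⟨x.1, x.2.1⟩, x.2.2⟩
        invFun := fun x => ⟨x.1.1, x.1.2, x.2⟩
        left_inv := fun _ => rfl
        right_inv := fun _ => rfl }
  have h3 : ∀ g : G, ∀ a b c : Sylow p G, a ≠ b → b ≠ c → a ≠ c →
      g • a = a → g • b = b → g • c = c → g = 1 := by
    have key : ∀ g : G, g • P = P → ∀ b c : Sylow p G, b ≠ P → c ≠ P → b ≠ c →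
        g • b = b → g • c = c → g = 1 := by
      intro g hgP b c hb hcP hbc hgb hgc
      obtain ⟨u, hu, rfl⟩ := exists_smul_other P hn hc hb hcP
      have hu1 : u ≠ 1 := fun h => hbc (by rw [h, one_smul])
      have hgu : g * u * g⁻¹ ∈ (P : Subgroup G) :=
        (Subgroup.mem_normalizer_iff.1 (SmallSimple.smul_sylow_eq_iff.1 hgP) u).1 hu
      have he : (g * u * g⁻¹) • b = u • b := by
        rw [mul_smul, mul_smul, inv_smul_eq_iff.2 hgb.symm, hgc]
      have heq : g * u * g⁻¹ = u := by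
        by_contra hne
        refine hb (fix_only P hc (mul_mem (inv_mem hu) hgu)
          (fun h => hne (inv_mul_eq_one.1 h).symm) ?_)
        rw [mul_smul, he, inv_smul_smul]
      have hcomm := hc u hu hu1 g (mul_inv_eq_iff_eq_mul.1 heq)
      refine FaithfulSMul.eq_of_smul_eq_smul (α := Sylow p G) fun S => ?_
      rw [one_smul]
      by_cases hS : S = P
      · rw [hS, hgP]
      obtain ⟨v, hv, rfl⟩ := exists_smul_other P hn hc hb hS
      rw [← mul_smul, hcomm v hv, mul_smul, hgb]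
    intro g a b c hab hbc hac ha hb hc'
    obtain ⟨k, rfl⟩ := exists_smul_eq G P a
    have hk : k⁻¹ * g * k = 1 := key _ (by rw [mul_smul, mul_smul, ha, inv_smul_smul])
      (k⁻¹ • b) (k⁻¹ • c) (fun e => hab (by rw [← e, smul_inv_smul]))
      (fun e => hac (by rw [← e, smul_inv_smul])) (fun e => hbc (smul_left_cancel _ e))
      (by rw [mul_smul, mul_smul, smul_inv_smul, hb])
      (by rw [mul_smul, mul_smul, smul_inv_smul, hc'])
    calc g = k * (k⁻¹ * g * k) * k⁻¹ := by group
      _ = 1 := by rw [hk]; group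
  obtain ⟨Q, hQ⟩ : ∃ Q : Sylow p G, Q ≠ P := by
    by_contra h
    push Not at h
    haveI : Subsingleton (Sylow p G) := ⟨fun x y => (h x).trans (h y).symm⟩
    have := Nat.card_of_subsingleton P
    have h1 : 0 < Nat.card P := Nat.card_pos
    omega
  haveI : Nontrivial ↥(stabilizer G P ⊓ stabilizer G Q) := by
    rw [← Finite.one_lt_card_iff_nontrivial, hcardQ Q hQ]; omega
  obtain ⟨g, hg⟩ := exists_ne (1 : ↥(stabilizer G P ⊓ stabilizer G Q))
  have hg1 : (g : G) ≠ 1 := fun h => hg (Subtype.ext h)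
  refine ⟨⟨hfaith, h2, h3, ⟨g, hg1, P, Q, hQ.symm, g.2.1, g.2.2⟩, fun N hN hT => ?_⟩, hcardQ⟩
  rcases hN.eq_bot_or_eq_top with rfl | rfl
  · obtain ⟨x, hx⟩ := hT.exists_smul_eq P Q
    rw [Subsingleton.elim x 1, one_smul] at hx
    exact absurd hx.symm hQ
  · refine ⟨P, fun h => hg1 ?_⟩
    have hmem : (⟨(g : G), Subgroup.mem_top _⟩ : (⊤ : Subgroup G)) ∈ stabilizer _ P := g.2.1
    rw [h, Subgroup.mem_bot] at hmem
    exact congrArg Subtype.val hmem

end action

universe u

/-- Recognition of `PSL_2 (q)`. -/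
theorem psl_of_sylow [IsSimpleGroup G] (P : Sylow p G) (hP : 4 ≤ Nat.card P)
    (hn : Nat.card (Sylow p G) = Nat.card P + 1)
    (hG : (if p = 2 then 1 else 2) * Nat.card G = Nat.card P * (Nat.card P ^ 2 - 1))
    (hc : ∀ u ∈ (P : Subgroup G), u ≠ 1 → ∀ g : G, g * u = u * g →
      ∀ v ∈ (P : Subgroup G), g * v = v * g)
    {F : Type u} [Field F] [Fintype F] (hF : Fintype.card F = Nat.card P) :
    Nonempty (G ≃* PSL(2, F)) := by
  classical
  letI := Fintype.ofFinite G
  letI := Fintype.ofFinite (Sylow p G)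
  obtain ⟨q, hq⟩ : ∃ q, q = Nat.card P := ⟨_, rfl⟩
  rw [← hq] at hP hn hG hF
  have hsq : q ^ 2 - 1 = (q + 1) * (q - 1) := by rw [← Nat.sq_sub_sq, one_pow]
  rw [hsq] at hG
  obtain ⟨k, hk⟩ := P.2.exists_card_eq
  change Nat.card P = p ^ k at hk
  have hpq : p = 2 ↔ Even q := by
    have hk0 : k ≠ 0 := by rintro rfl; rw [pow_zero] at hk; omega
    rw [hq, hk, Nat.even_pow, and_iff_left hk0]
    exact ⟨fun h => h ▸ even_two, fun h => (Fact.out : p.Prime).even_iff.1 h⟩
  obtain ⟨d, hd2, hdG, hdq⟩ : ∃ d, 2 ≤ d ∧ Nat.card G = (q + 1) * (q * d) ∧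
      (if p = 2 then 1 else 2) * d = q - 1 := by
    by_cases h2 : p = 2
    · rw [if_pos h2, one_mul] at hG
      exact ⟨q - 1, by omega, by rw [hG]; ring, by rw [if_pos h2, one_mul]⟩
    · have hodd : Odd q := Nat.not_even_iff_odd.1 fun h => h2 (hpq.2 h)
      obtain ⟨j, hj⟩ := hodd
      rw [if_neg h2] at hG
      refine ⟨j, by omega, Nat.eq_of_mul_eq_mul_left two_pos ?_, by rw [if_neg h2]; omega⟩
      rw [hG, show q - 1 = 2 * j by omega]; ring
  obtain ⟨hZ, hcardQ⟩ := isZassenhaus P (hq ▸ hn) hc hd2 (by rw [hdG, hq])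
  obtain ⟨Q, hQ⟩ : ∃ Q : Sylow p G, Q ≠ P := by
    by_contra h
    push Not at h
    haveI : Subsingleton (Sylow p G) := ⟨fun x y => (h x).trans (h y).symm⟩
    have := Nat.card_of_subsingleton P
    omega
  have hd := hcardQ Q hQ
  have hΩ : Fintype.card (Sylow p G) = q + 1 := by rw [← Nat.card_eq_fintype_card, hn]
  have hHa : (P : Subgroup G) ≤ stabilizer G P := fun x hx =>
    SmallSimple.smul_sylow_eq_iff.2 (Subgroup.le_normalizer hx)
  have hHfix : ∀ u ∈ (P : Subgroup G), u ≠ 1 → ∀ S : Sylow p G, u • S = S → S = P :=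
    fun u hu hu1 S hS => fix_only P hc hu hu1 hS
  have hHc : ∀ u ∈ (P : Subgroup G), ∀ v ∈ (P : Subgroup G), u * v = v * u :=
    fun u hu v hv => sylow_comm P hc hu hv
  have hHcard : Nat.card (P : Subgroup G) + 1 = Fintype.card (Sylow p G) := by rw [hΩ, hq]
  obtain ⟨K, _, _, hKF, ⟨iso⟩⟩ : ∃ (K : Type) (_ : Field K) (_ : Fintype K),
      Fintype.card K = Fintype.card F ∧ Nonempty (G ≃* PSL(2, K)) := by
    by_cases h2 : p = 2
    · rw [if_pos h2, one_mul] at hdq
      obtain ⟨K, i1, i2, -, hcK, hiso⟩ := psl_of_even_degree hZ hQ.symm hHa hHcard hHfix hHc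
        (by rw [hΩ]; exact (hpq.1 h2).add_one) (by
          show Nat.card ↥(stabilizer G P ⊓ stabilizer G Q) = _
          rw [hd, hΩ]; omega)
      exact ⟨K, i1, i2, by omega, hiso⟩
    · rw [if_neg h2] at hdq
      by_cases hev : Even d
      · obtain ⟨K, i1, i2, -, hcK, hiso⟩ := psl_of_even_stab hZ hQ.symm (by rwa [hd])
        exact ⟨K, i1, i2, by omega, hiso⟩
      · obtain ⟨K, i1, i2, -, hcK, hiso⟩ := ZassPSL.psl_of_odd hZ hQ.symm
          (show Odd (Nat.card ↥(stabilizer G P ⊓ stabilizer G Q)) by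
            rw [hd]; exact Nat.not_even_iff_odd.1 hev) hHa hHcard hHfix hHc (by
          show 2 * Nat.card ↥(stabilizer G P ⊓ stabilizer G Q) = _
          rw [hd, hΩ]; omega)
        exact ⟨K, i1, i2, by omega, hiso⟩
  exact ⟨iso.trans (pslCongr (FiniteField.ringEquivOfCardEq hKF))⟩

end Cfsg.Agent.PSL2.Recog
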