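import Cfsg.Agent.Lib.PSL2.Basic

/-!
The subgroup of `SL(2, 9)` generated by `ll 1` and `uu λ`, `λ² = -1`, has order 120: a table over
`(ZMod 3)²` closed under the generators.
-/

set_option autoImplicit false
set_option maxRecDepth 100000

open Matrix
open scoped MatrixGroups

namespace Cfsg.Agent.PSL2.NineTable

/-- `a + bλ`. -/
abbrev R9 := ZMod 3 × ZMod 3

/-- Entries of a 2×2 matrix. -/
abbrev Q := R9 × R9 × R9 × R9

def mul9 (x y : R9) : R9 := (x.1 * y.1 - x.2 * y.2, x.1 * y.2 + x.2 * y.1)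

def mulQ (x y : Q) : Q :=
  (mul9 x.1 y.1 + mul9 x.2.1 y.2.2.1, mul9 x.1 y.2.1 + mul9 x.2.1 y.2.2.2,
    mul9 x.2.2.1 y.1 + mul9 x.2.2.2 y.2.2.1, mul9 x.2.2.1 y.2.1 + mul9 x.2.2.2 y.2.2.2)

def oneQ : Q := ((1, 0), (0, 0), (0, 0), (1, 0))

def llQ : Q := ((1, 0), (0, 0), (1, 0), (1, 0))

def uuQ : Q := ((1, 0), (0, 1), (0, 0), (1, 0))

def elts : List Q :=
  [((1, 0), (0, 0), (0, 0), (1, 0)),
   ((1, 0), (0, 0), (1, 0), (1, 0)),
   ((1, 0), (0, 1), (0, 0), (1, 0)),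
   ((1, 0), (0, 0), (2, 0), (1, 0)),
   ((1, 1), (0, 1), (1, 0), (1, 0)),
   ((1, 0), (0, 1), (1, 0), (1, 1)),
   ((1, 0), (0, 2), (0, 0), (1, 0)),
   ((1, 2), (0, 1), (2, 0), (1, 0)),
   ((1, 1), (0, 1), (2, 1), (1, 1)),
   ((1, 2), (0, 2), (1, 0), (1, 0)),
   ((1, 0), (0, 1), (2, 0), (1, 2)),
   ((1, 1), (2, 2), (1, 0), (1, 1)),
   ((1, 0), (0, 2), (1, 0), (1, 2)),
   ((1, 2), (0, 1), (0, 2), (1, 1)),
   ((1, 1), (0, 2), (2, 0), (1, 0)),
   ((1, 1), (0, 1), (0, 2), (1, 2)),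
   ((0, 0), (2, 2), (2, 1), (1, 1)),
   ((1, 2), (0, 2), (2, 2), (1, 2)),
   ((1, 2), (1, 2), (2, 0), (1, 2)),
   ((1, 1), (2, 2), (2, 1), (0, 0)),
   ((1, 2), (1, 0), (1, 0), (1, 1)),
   ((1, 0), (0, 2), (2, 0), (1, 1)),
   ((1, 1), (1, 0), (1, 0), (1, 2)),
   ((1, 2), (0, 1), (1, 1), (1, 2)),
   ((2, 2), (2, 2), (0, 2), (1, 1)),
   ((1, 1), (0, 2), (0, 1), (1, 2)),
   ((2, 1), (1, 2), (0, 2), (1, 2)),
   ((0, 0), (2, 2), (2, 1), (0, 0)),
   ((2, 2), (1, 0), (2, 1), (1, 1)),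
   ((1, 2), (0, 2), (0, 1), (1, 1)),
   ((2, 1), (1, 0), (2, 2), (1, 2)),
   ((1, 2), (1, 2), (0, 2), (2, 1)),
   ((1, 1), (2, 0), (2, 0), (1, 2)),
   ((1, 1), (2, 2), (0, 2), (2, 2)),
   ((1, 2), (1, 0), (2, 2), (2, 1)),
   ((1, 2), (2, 0), (2, 0), (1, 1)),
   ((1, 1), (1, 0), (2, 1), (2, 2)),
   ((1, 2), (2, 1), (1, 0), (1, 2)),
   ((0, 0), (1, 2), (1, 1), (1, 2)),
   ((2, 2), (2, 2), (2, 1), (0, 0)),
   ((0, 2), (1, 0), (0, 2), (1, 1)),
   ((1, 1), (0, 2), (1, 2), (1, 1)),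
   ((0, 1), (1, 0), (0, 1), (1, 2)),
   ((2, 1), (1, 2), (2, 0), (2, 1)),
   ((0, 1), (2, 0), (0, 2), (1, 2)),
   ((0, 0), (2, 2), (2, 1), (2, 2)),
   ((2, 2), (1, 0), (1, 0), (2, 1)),
   ((0, 2), (2, 0), (0, 1), (1, 1)),
   ((2, 1), (1, 0), (1, 0), (2, 2)),
   ((0, 0), (2, 1), (2, 2), (1, 2)),
   ((1, 2), (1, 2), (1, 1), (0, 0)),
   ((2, 2), (0, 1), (0, 2), (2, 1)),
   ((1, 1), (2, 0), (0, 1), (0, 2)),
   ((2, 1), (0, 1), (0, 2), (2, 2)),
   ((1, 2), (1, 0), (0, 1), (0, 1)),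
   ((2, 1), (0, 2), (2, 2), (2, 1)),
   ((1, 2), (2, 0), (0, 2), (0, 1)),
   ((1, 1), (1, 1), (2, 0), (1, 1)),
   ((1, 1), (1, 0), (0, 2), (0, 2)),
   ((1, 2), (2, 1), (2, 2), (0, 0)),
   ((0, 0), (1, 2), (1, 1), (2, 1)),
   ((2, 1), (2, 0), (1, 1), (1, 2)),
   ((2, 2), (2, 2), (1, 0), (2, 2)),
   ((0, 2), (1, 0), (0, 1), (2, 1)),
   ((2, 2), (2, 0), (1, 2), (1, 1)),
   ((0, 1), (1, 0), (0, 2), (2, 2)),
   ((2, 1), (2, 1), (0, 1), (1, 2)),
   ((2, 1), (1, 2), (1, 1), (0, 0)),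
   ((2, 0), (0, 1), (2, 0), (2, 1)),
   ((0, 1), (2, 0), (0, 0), (0, 2)),
   ((2, 2), (0, 1), (2, 1), (2, 2)),
   ((2, 2), (1, 0), (0, 2), (0, 1)),
   ((2, 0), (0, 2), (1, 0), (2, 1)),
   ((0, 2), (2, 0), (0, 0), (0, 1)),
   ((2, 2), (1, 1), (0, 1), (1, 1)),
   ((2, 1), (1, 0), (0, 1), (0, 2)),
   ((0, 0), (2, 1), (2, 2), (0, 0)),
   ((0, 0), (1, 2), (1, 1), (0, 0)),
   ((0, 2), (2, 0), (0, 2), (2, 1)),
   ((1, 1), (2, 0), (1, 2), (2, 2)),
   ((0, 1), (0, 0), (0, 1), (0, 2)),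
   ((2, 1), (0, 1), (2, 0), (2, 0)),
   ((0, 2), (0, 0), (0, 1), (0, 1)),
   ((2, 1), (0, 2), (1, 0), (2, 0)),
   ((0, 0), (2, 1), (2, 2), (2, 1)),
   ((1, 2), (2, 0), (1, 1), (2, 1)),
   ((1, 1), (1, 1), (0, 1), (2, 2)),
   ((2, 1), (2, 0), (0, 2), (0, 2)),
   ((1, 2), (2, 1), (0, 1), (2, 1)),
   ((2, 1), (2, 1), (2, 2), (0, 0)),
   ((2, 1), (0, 1), (1, 1), (2, 1)),
   ((2, 0), (0, 1), (1, 0), (2, 2)),
   ((0, 2), (1, 0), (0, 0), (0, 1)),
   ((2, 2), (0, 2), (0, 1), (2, 1)),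
   ((2, 2), (2, 0), (0, 1), (0, 1)),
   ((0, 0), (1, 1), (1, 2), (1, 1)),
   ((0, 1), (1, 0), (0, 0), (0, 2)),
   ((2, 2), (2, 0), (2, 0), (2, 1)),
   ((0, 1), (2, 0), (0, 1), (2, 2)),
   ((0, 1), (0, 0), (0, 0), (0, 2)),
   ((2, 2), (0, 1), (1, 0), (2, 0)),
   ((0, 2), (0, 0), (0, 2), (0, 1)),
   ((2, 0), (0, 2), (0, 0), (2, 0)),
   ((2, 1), (2, 1), (1, 0), (2, 1)),
   ((2, 2), (1, 1), (2, 0), (2, 2)),
   ((2, 2), (0, 2), (1, 2), (2, 2)),
   ((0, 1), (0, 0), (0, 2), (0, 2)),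
   ((2, 0), (0, 0), (2, 0), (2, 0)),
   ((0, 2), (0, 0), (0, 0), (0, 1)),
   ((2, 1), (0, 2), (0, 1), (2, 2)),
   ((1, 1), (1, 1), (1, 2), (0, 0)),
   ((2, 1), (2, 0), (2, 0), (2, 2)),
   ((2, 0), (0, 1), (0, 0), (2, 0)),
   ((2, 2), (0, 2), (2, 0), (2, 0)),
   ((0, 0), (1, 1), (1, 2), (2, 2)),
   ((2, 0), (0, 0), (1, 0), (2, 0)),
   ((2, 0), (0, 2), (2, 0), (2, 2)),
   ((2, 2), (1, 1), (1, 2), (0, 0)),
   ((2, 0), (0, 0), (0, 0), (2, 0)),
   ((0, 0), (1, 1), (1, 2), (0, 0))]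

def parents : List (Bool × ℕ) :=
  [(false, 0), (true, 0), (false, 1), (true, 1), (false, 2), (true, 2), (true, 3), (false, 4), (true, 4), (false, 5), (true, 5), (false, 6), (false, 7), (true, 7), (false, 8), (true, 8), (false, 9), (true, 10), (false, 11), (true, 11), (false, 12), (true, 12), (false, 13), (true, 13), (false, 14), (true, 15), (false, 16), (true, 16), (false, 17), (true, 17), (false, 18), (true, 18), (false, 19), (false, 20), (true, 21), (false, 22), (true, 22), (true, 23), (false, 24), (true, 24), (false, 25), (true, 25), (false, 26), (true, 26), (false, 27), (false, 28), (true, 29), (false, 30), (true, 30), (false, 31), (true, 31), (false, 32), (true, 33), (false, 34), (true, 34), (false, 35), (true, 35), (false, 36), (false, 37), (false, 38), (true, 38), (false, 39), (false, 40), (true, 41), (false, 42), (true, 42), (false, 43), (true, 43), (false, 44), (true, 45), (false, 46), (true, 46), (false, 47),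 (true, 47), (false, 48), (false, 49), (true, 50), (true, 51), (false, 52), (true, 52), (false, 53), (true, 54), (false, 55), (true, 55), (false, 56), (false, 57), (true, 58), (false, 59), (true, 59), (true, 60), (true, 62), (false, 63), (true, 63), (false, 64), (true, 64), (false, 65), (true, 68), (false, 69), (true, 69), (false, 70), (true, 71), (false, 72), (true, 72), (false, 74), (true, 79), (false, 80), (true, 81), (false, 82), (false, 83), (false, 86), (false, 87), (false, 91), (false, 93), (false, 95), (true, 100), (false, 102), (false, 104), (true, 112), (false, 114)]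

/-- The table rebuilt from the parents. -/
def built : List Q :=
  parents.foldl (fun acc jp => acc ++ [mulQ (if jp.1 then uuQ else llQ) (acc.getD jp.2 oneQ)]) [oneQ]

theorem built_eq : built = elts := by decide +kernel

theorem elts_closed : ∀ x ∈ elts, mulQ llQ x ∈ elts ∧ mulQ uuQ x ∈ elts := by decide +kernel

theorem elts_nodup : elts.Nodup := by decide +kernel

theorem elts_length : elts.length = 120 := by decide +kernel

theorem closure_induction_built {P : Q → Prop} (h1 : P oneQ) (hl : ∀ x, P x → P (mulQ llQ x))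
    (hu : ∀ x, P x → P (mulQ uuQ x)) : ∀ x ∈ elts, P x := by
  suffices H : ∀ (L : List (Bool × ℕ)) (acc : List Q), (∀ x ∈ acc, P x) →
      ∀ x ∈ L.foldl (fun acc jp => acc ++ [mulQ (if jp.1 then uuQ else llQ) (acc.getD jp.2 oneQ)]) acc,
        P x by
    rw [← built_eq]
    exact H parents [oneQ] (by simpa using h1)
  intro L
  induction L with
  | nil => exact fun acc h => h
  | cons jp L ih =>
    intro acc h
    refine ih _ fun x hx => ?_
    rcases List.mem_append.1 hx with hx | hx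
    · exact h x hx
    · rw [List.mem_singleton] at hx
      subst hx
      have : P (acc.getD jp.2 oneQ) := by
        by_cases hlt : jp.2 < acc.length
        · rw [List.getD_eq_getElem _ _ hlt]; exact h _ (List.getElem_mem hlt)
        · rw [List.getD_eq_default _ _ (by omega)]; exact h1
      cases jp.1
      · exact hl _ this
      · exact hu _ this

variable {F : Type*} [Field F] [CharP F 3] {lam : F}

/-- `(a, b) ↦ a + bλ`. -/
def val (lam : F) (x : R9) : F :=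
  ZMod.castHom (dvd_refl 3) F x.1 + ZMod.castHom (dvd_refl 3) F x.2 * lam

/-- The matrix of a table element, as a function. -/
def valQ (lam : F) (x : Q) : Matrix (Fin 2) (Fin 2) F :=
  !![val lam x.1, val lam x.2.1; val lam x.2.2.1, val lam x.2.2.2]

theorem val_injective (hl : lam ^ 2 = -1) : Function.Injective (val lam) := by
  intro x y h
  simp only [val] at h
  have key : ∀ z : R9, ZMod.castHom (dvd_refl 3) F z.1 + ZMod.castHom (dvd_refl 3) F z.2 * lam = 0 →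
      z = 0 := by
    intro z hz
    have h2 : ZMod.castHom (dvd_refl 3) F (z.1 * z.1 + z.2 * z.2) = 0 := by
      rw [map_add, map_mul, map_mul]
      linear_combination (ZMod.castHom (dvd_refl 3) F z.1 - ZMod.castHom (dvd_refl 3) F z.2 * lam) * hz +
        (ZMod.castHom (dvd_refl 3) F z.2) ^ 2 * hl
    have h3 := (map_eq_zero_iff _ (ZMod.castHom (dvd_refl 3) F).injective).1 h2
    exact (by decide : ∀ z : R9, z.1 * z.1 + z.2 * z.2 = 0 → z = 0) z h3
  refine sub_eq_zero.1 (key _ ?_)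
  rw [Prod.fst_sub, Prod.snd_sub, map_sub, map_sub]
  linear_combination h

theorem val_mul (hl : lam ^ 2 = -1) (x y : R9) : val lam (mul9 x y) = val lam x * val lam y := by
  simp only [val, mul9, map_sub, map_add, map_mul]
  linear_combination -(ZMod.castHom (dvd_refl 3) F x.2) * (ZMod.castHom (dvd_refl 3) F y.2) * hl

theorem val_add (x y : R9) : val lam (x + y) = val lam x + val lam y := by
  simp only [val, Prod.fst_add, Prod.snd_add, map_add]
  ring

theorem valQ_mul (hl : lam ^ 2 = -1) (x y : Q) : valQ lam (mulQ x y) = valQ lam x * valQ lam y := by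
  ext i j
  fin_cases i <;> fin_cases j <;>
    simp [valQ, mulQ, Matrix.mul_apply, Fin.sum_univ_two, val_add, val_mul hl]

theorem valQ_injective (hl : lam ^ 2 = -1) : Function.Injective (valQ lam) := by
  intro x y h
  have hi := val_injective (F := F) hl
  exact Prod.ext (hi (congrFun (congrFun h 0) 0)) (Prod.ext (hi (congrFun (congrFun h 0) 1))
    (Prod.ext (hi (congrFun (congrFun h 1) 0)) (hi (congrFun (congrFun h 1) 1))))

theorem card_closure [Finite F] (hl : lam ^ 2 = -1) :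
    Nat.card ↥(Subgroup.closure ({ll 1, uu lam} : Set SL(2, F))) = 120 := by
  classical
  set H := Subgroup.closure ({ll 1, uu lam} : Set SL(2, F))
  have hll : ((ll (1 : F) : SL(2, F)) : Matrix (Fin 2) (Fin 2) F) = valQ lam llQ := by
    ext i j; fin_cases i <;> fin_cases j <;> simp [valQ, val, llQ, ll]
  have huu : ((uu lam : SL(2, F)) : Matrix (Fin 2) (Fin 2) F) = valQ lam uuQ := by
    ext i j; fin_cases i <;> fin_cases j <;> simp [valQ, val, uuQ, uu]
  have hone : ((1 : SL(2, F)) : Matrix (Fin 2) (Fin 2) F) = valQ lam oneQ := by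
    ext i j; fin_cases i <;> fin_cases j <;> simp [valQ, val, oneQ]
  have h1 : ∀ x ∈ elts, ∃ g : H, ((g : SL(2, F)) : Matrix (Fin 2) (Fin 2) F) = valQ lam x :=
    closure_induction_built ⟨1, hone⟩
      (fun x ⟨g, hg⟩ => ⟨⟨ll 1, Subgroup.subset_closure (by simp)⟩ * g, by
        rw [valQ_mul hl, ← hll, ← hg]; rfl⟩)
      (fun x ⟨g, hg⟩ => ⟨⟨uu lam, Subgroup.subset_closure (by simp)⟩ * g, by
        rw [valQ_mul hl, ← huu, ← hg]; rfl⟩)
  have h2 : ∀ g ∈ H, ∃ x ∈ elts, (g : Matrix (Fin 2) (Fin 2) F) = valQ lam x := by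
    intro g hg
    have hg' : g ∈ Submonoid.closure ({ll 1, uu lam} : Set SL(2, F)) := by
      rw [← Subgroup.closure_toSubmonoid_of_finite]; exact hg
    clear hg
    induction hg' using Submonoid.closure_induction_left with
    | one => exact ⟨oneQ, by decide +kernel, hone⟩
    | mul_left a ha b _ ih =>
      obtain ⟨x, hx, hxe⟩ := ih
      rcases ha with rfl | rfl
      · exact ⟨_, (elts_closed x hx).1, by rw [valQ_mul hl, ← hll, ← hxe]; rfl⟩
      · exact ⟨_, (elts_closed x hx).2, by rw [valQ_mul hl, ← huu, ← hxe]; rfl⟩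
  choose f hf using fun x : {x // x ∈ elts} => h1 x.1 x.2
  have hb : Function.Bijective f := by
    refine ⟨fun x y h => Subtype.ext (valQ_injective hl ((hf x).symm.trans
      ((congrArg (fun g : H => ((g : SL(2, F)) : Matrix (Fin 2) (Fin 2) F)) h).trans (hf y)))),
      fun g => ?_⟩
    obtain ⟨x, hx, hxe⟩ := h2 g g.2
    exact ⟨⟨x, hx⟩, Subtype.ext (Subtype.ext ((hf ⟨x, hx⟩).trans hxe.symm))⟩
  rw [← Nat.card_eq_of_bijective f hb, ← elts_length, ← List.toFinset_card_of_nodup elts_nodup]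
  exact (Nat.card_congr (Equiv.subtypeEquivRight fun x => List.mem_toFinset.symm)).trans
    (Nat.card_eq_finsetCard _)

end Cfsg.Agent.PSL2.NineTable
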