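import Cfsg.Agent.Lib.PSL2.TwoSylow
import Cfsg.Agent.Lib.PSL2.NineTable

/-!
Dickson's generation lemma: for `F = 𝔽_p(λ)`, `p` odd, `ll 1` and `uu λ` generate `SL(2, F)`, unless
`|F| = 9` and `λ² = -1` (order 120).
-/

set_option autoImplicit false

open Matrix
open scoped MatrixGroups

namespace Cfsg.Agent.PSL2

variable {F : Type*} [Field F] [Fintype F]

/-- An additive subgroup containing `1` and closed under inversion is closed under squares. -/
theorem sq_mem_of_inv_closed {A : AddSubgroup F} (h1 : (1 : F) ∈ A) (hinv : ∀ a ∈ A, a⁻¹ ∈ A) {a : F}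
    (ha : a ∈ A) : a * a ∈ A := by
  rcases eq_or_ne a 0 with rfl | ha0
  · simp
  rcases eq_or_ne a 1 with rfl | ha1
  · simpa using h1
  have h1a : (1 : F) - a ≠ 0 := sub_ne_zero.2 (Ne.symm ha1)
  have key : a * a = a - (a⁻¹ + (1 - a)⁻¹)⁻¹ := by field_simp; ring
  rw [key]
  exact A.sub_mem ha (hinv _ (A.add_mem (hinv _ ha) (hinv _ (A.sub_mem h1 ha))))

theorem exists_mul9_eq_one :
    ∀ x : NineTable.R9, x ≠ 0 → ∃ y, NineTable.mul9 x y = (1, 0) := by decide

theorem lowerUpper_cases (p : ℕ) [Fact p.Prime] [CharP F p] (hp : p ≠ 2) (lam : F) (hlam : lam ≠ 0)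
    (hgen : Subfield.closure ({lam} : Set F) = ⊤) :
    Subgroup.closure ({ll 1, uu lam} : Set SL(2, F)) = ⊤ ∨ (Fintype.card F = 9 ∧ lam ^ 2 = -1) := by
  classical
  have h2 : (2 : F) ≠ 0 := two_ne_zero_of_charP hp
  set H := Subgroup.closure ({ll 1, uu lam} : Set SL(2, F))
  have hll : ll 1 ∈ H := Subgroup.subset_closure (by simp)
  have huu : uu lam ∈ H := Subgroup.subset_closure (by simp)
  -- `-1 ∈ H`
  have hH : (-1 : SL(2, F)) ∈ H := by
    have hS : 1 < Nat.card (Sylow p H) := by
      by_contra hle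
      have : Subsingleton (Sylow p H) := Finite.card_le_one_iff_subsingleton.1 (by omega)
      obtain ⟨P⟩ : Nonempty (Sylow p H) := inferInstance
      have hmem : ∀ g : H, g ^ p = 1 → g ∈ (P : Subgroup H) := by
        intro g hg
        have hQ : IsPGroup p (Subgroup.zpowers g) := by
          rintro ⟨z, k, rfl⟩
          exact ⟨1, Subtype.ext (by
            rw [pow_one, Subgroup.coe_pow, ← zpow_natCast, ← _root_.zpow_mul, mul_comm,
              _root_.zpow_mul, zpow_natCast, hg, _root_.one_zpow]; rfl)⟩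
        obtain ⟨Q, hQle⟩ := hQ.exists_le_sylow
        rw [Subsingleton.elim Q P] at hQle
        exact hQle (Subgroup.mem_zpowers g)
      obtain ⟨k, hk⟩ := P.isPGroup' ⟨(⟨uu lam, huu⟩ : H) * ⟨ll 1, hll⟩, (P : Subgroup H).mul_mem
        (hmem _ (Subtype.ext (by simp [uu_pow])))
        (hmem _ (Subtype.ext (by simp [ll_pow])))⟩
      have hk' : (uu lam * ll 1) ^ p ^ k = 1 := by
        simpa using congrArg (fun x : (P : Subgroup H) => ((x : H) : SL(2, F))) hk
      obtain ⟨c, s, hcs⟩ := exists_conj_uu_of_pow_ppow p hk'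
      have := congrArg tr hcs
      rw [tr_conj, tr_uu, tr_def, mul00, mul11] at this
      simp at this
      exact hlam (by linear_combination this)
    obtain ⟨K, hK, ⟨e⟩⟩ := exists_subgroup_mulEquiv hp H hS
    have h2p : (2 : ZMod p) ≠ 0 := two_ne_zero_of_charP hp
    have h : ((e.symm (-1) : K) : SL(2, F)) = -1 := by
      refine (eq_pm_of_mul_self_eq_one h2 ?_).resolve_left fun h => ?_
      · rw [← Subgroup.coe_mul, ← map_mul]; simp
      · exact neg_one_ne_one h2p
          (e.symm.injective ((Subtype.ext h).trans (map_one e.symm).symm))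
    exact h ▸ hK (e.symm (-1)).2
  have full : (∀ t : F, t ∈ transl H) → H = ⊤ := by
    intro hall
    refine eq_top_of_uu_ll hall fun t => ?_
    have hw : (ww : SL(2, F)) ∈ H := by
      have : (ww : SL(2, F)) = uu 1 * (ll 1)⁻¹ * uu 1 := by
        rw [ll_inv]
        apply ext2 <;> simp [mul00, mul01, mul10, mul11]
      rw [this]
      exact H.mul_mem (H.mul_mem (hall 1) (H.inv_mem hll)) (hall 1)
    rw [show ll t = ww * uu (-t) * ww⁻¹ by rw [ww_conj_uu, neg_neg]]
    exact H.mul_mem (H.mul_mem hw (hall _)) (H.inv_mem hw)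
  obtain ⟨m, hm, hm'⟩ := exists_card_points H
  have hpt : ∀ c : F, c ≠ 0 → ll c ∈ H → (1 / c : F) ∈ points H := fun c hc hcH =>
    mem_points.2 ⟨ll c, hcH, by simpa using hc, by simp⟩
  have hm1 : 1 ≤ m := by
    rcases Nat.eq_zero_or_pos m with rfl | h
    · rw [mul_zero, Finset.card_eq_zero] at hm
      exact absurd (hpt 1 one_ne_zero hll) (by rw [hm]; simp)
    · exact h
  rcases partition_cases hp hH hlam huu hm hm1 with rfl | ⟨hq3, htr⟩
  · left
    refine full ?_
    set A := transl H
    have hll2 : ll (2 : F) ∈ H := by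
      have := H.pow_mem hll 2
      rwa [ll_pow, Nat.cast_ofNat, mul_one] at this
    have h12 : (1 / 2 : F) ∈ A := by
      have := hm' rfl _ (hpt 1 one_ne_zero hll) _ (hpt 2 h2 hll2)
      rwa [show (1 / 1 : F) - 1 / 2 = 1 / 2 by field_simp; ring] at this
    have h1 : (1 : F) ∈ A := by
      have := A.add_mem h12 h12
      rwa [show (1 / 2 : F) + 1 / 2 = 1 by field_simp; ring] at this
    have hw : (ww : SL(2, F)) ∈ H := by
      have : (ww : SL(2, F)) = uu 1 * (ll 1)⁻¹ * uu 1 := by
        rw [ll_inv]
        apply ext2 <;> simp [mul00, mul01, mul10, mul11]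
      rw [this]
      exact H.mul_mem (H.mul_mem h1 (H.inv_mem hll)) h1
    have hinv : ∀ a ∈ A, a⁻¹ ∈ A := by
      intro a ha
      rcases eq_or_ne a 0 with rfl | ha0
      · simpa using A.zero_mem
      have hpa : (-a⁻¹ : F) ∈ points H := mem_points.2 ⟨ww * uu a * ww, H.mul_mem (H.mul_mem hw ha) hw,
        by simp [mul00, mul10, mul01, mul11, ha0],
        by simp [mul00, mul10, mul01, mul11]; field_simp⟩
      have h0 : (0 : F) ∈ points H := mem_points.2 ⟨ww, hw, by simp, by simp⟩
      have := hm' rfl _ h0 _ hpa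
      rwa [sub_neg_eq_add, zero_add] at this
    have hmul : ∀ a ∈ A, ∀ b ∈ A, a * b ∈ A := by
      intro a ha b hb
      have h := A.sub_mem (A.sub_mem (sq_mem_of_inv_closed h1 hinv (A.add_mem ha hb))
        (sq_mem_of_inv_closed h1 hinv ha)) (sq_mem_of_inv_closed h1 hinv hb)
      rw [show (a + b) * (a + b) - a * a - b * b = 2 * (a * b) by ring] at h
      obtain ⟨j, hj⟩ := (Fact.out : p.Prime).odd_of_ne_two hp
      have h' := A.nsmul_mem h (j + 1)
      rwa [nsmul_eq_mul, show ((j + 1 : ℕ) : F) * (2 * (a * b)) = ((2 * j + 1 : ℕ) : F) * (a * b) + a * b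
        by push_cast; ring, ← hj, CharP.cast_eq_zero F p, zero_mul, zero_add] at h'
    let Kf : Subfield F :=
      { carrier := A
        mul_mem' := fun {a b} ha hb => hmul a ha b hb
        one_mem' := h1
        add_mem' := A.add_mem
        zero_mem' := A.zero_mem
        neg_mem' := A.neg_mem
        inv_mem' := hinv }
    have htop : (⊤ : Subfield F) ≤ Kf := by
      rw [← hgen, Subfield.closure_le, Set.singleton_subset_iff]
      exact huu
    exact fun t => htop (Subfield.mem_top t)
  · have h3p : p = 3 := by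
      have hd : p ∣ 3 := hq3 ▸ prime_dvd_card_transl hlam huu
      exact (Nat.prime_dvd_prime_iff_eq Fact.out Nat.prime_three).1 hd
    subst h3p
    have h3 : (3 : F) = 0 := CharP.cast_eq_zero F 3
    set ι := ZMod.castHom (dvd_refl 3) F
    -- `λ` in the prime field: everything
    have hprime : lam ∈ ι.fieldRange → H = ⊤ := by
      intro hmem
      refine full ?_
      have htop : ι.fieldRange = ⊤ := by
        rw [eq_top_iff, ← hgen, Subfield.closure_le, Set.singleton_subset_iff]
        exact hmem
      have hcard : Nat.card (transl H) = Nat.card F := by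
        rw [hq3, ← Nat.card_eq_of_bijective ι ⟨ι.injective, fun x => by
          have : x ∈ ι.fieldRange := htop ▸ Subfield.mem_top x
          exact this⟩]
        simp
      intro t
      rw [(transl H).eq_top_of_card_eq hcard]
      trivial
    have htr' : ∀ c : F, uu c ∈ H → c ≠ 0 →
        2 + c = 0 ∨ (2 + c) ^ 2 = 1 ∨ (2 + c) ^ 4 = -1 := by
      intro c hc hc0
      have hnc : uu c * ll 1 ∉ Subgroup.center SL(2, F) := fun h => by
        have := (mem_center_iff_entries.1 h).1
        simp only [mul01, uu00, uu01, ll01, ll11] at this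
        exact hc0 (by linear_combination this)
      have := trace_cases_three h3 h2 hnc (htr _ (mem_noncentral.2 ⟨H.mul_mem hc hll, hnc⟩))
      simp only [tr_def, mul00, mul11, uu00, uu01, uu10, uu11, ll00, ll01, ll10, ll11] at this
      rw [show (1 * 1 + c * 1 + (0 * 0 + 1 * 1) : F) = 2 + c by ring] at this
      exact this
    have hmem3 : ∀ c : F, c ≠ 0 → (2 + c = 0 ∨ (2 + c) ^ 2 = 1) → c ∈ ι.fieldRange := by
      intro c hc0 h
      rcases h with h | h
      · rw [show c = 1 by linear_combination h - h3]; exact one_mem _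
      · have e : c * (c + 4) = 0 := by linear_combination h - h3
        have e' := (mul_eq_zero.1 e).resolve_left hc0
        rw [show c = -1 by linear_combination e' - h3]; exact neg_mem (one_mem _)
    have hnl : uu (-lam) ∈ H := by rw [← uu_inv]; exact H.inv_mem huu
    rcases htr' lam huu hlam with h | h | h
    · exact Or.inl (hprime (hmem3 _ hlam (Or.inl h)))
    · exact Or.inl (hprime (hmem3 _ hlam (Or.inr h)))
    rcases htr' (-lam) hnl (neg_ne_zero.2 hlam) with h' | h' | h'
    · exact Or.inl (hprime (neg_mem_iff.1 (hmem3 _ (neg_ne_zero.2 hlam) (Or.inl h'))))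
    · exact Or.inl (hprime (neg_mem_iff.1 (hmem3 _ (neg_ne_zero.2 hlam) (Or.inr h'))))
    right
    have hl : lam ^ 2 = -1 := by
      have e : (16 * lam) * (lam ^ 2 + 4) = 0 := by linear_combination h - h'
      have h16 : (16 : F) ≠ 0 := fun h16 => h2 (sq_eq_zero_iff.1 (sq_eq_zero_iff.1
        (by linear_combination h16)))
      linear_combination (mul_eq_zero.1 e).resolve_left (mul_ne_zero h16 hlam) - h3
    refine ⟨?_, hl⟩
    -- `F = 𝔽₃ + 𝔽₃ λ`
    let Kf : Subfield F :=
      { carrier := Set.range (NineTable.val lam)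
        mul_mem' := by
          rintro _ _ ⟨x, rfl⟩ ⟨y, rfl⟩
          exact ⟨_, NineTable.val_mul hl x y⟩
        one_mem' := ⟨(1, 0), by simp [NineTable.val]⟩
        add_mem' := by
          rintro _ _ ⟨x, rfl⟩ ⟨y, rfl⟩
          exact ⟨_, NineTable.val_add x y⟩
        zero_mem' := ⟨0, by simp [NineTable.val]⟩
        neg_mem' := by
          rintro _ ⟨x, rfl⟩
          exact ⟨-x, by simp [NineTable.val]; ring⟩
        inv_mem' := by
          rintro _ ⟨x, rfl⟩
          rcases eq_or_ne x 0 with rfl | hx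
          · exact ⟨0, by simp [NineTable.val]⟩
          · obtain ⟨y, hy⟩ := exists_mul9_eq_one x hx
            refine ⟨y, (eq_inv_of_mul_eq_one_right ?_)⟩
            rw [← NineTable.val_mul hl, hy]
            simp [NineTable.val] }
    have hsur : Function.Surjective (NineTable.val lam) := by
      intro t
      have htop : (⊤ : Subfield F) ≤ Kf := by
        rw [← hgen, Subfield.closure_le, Set.singleton_subset_iff]
        exact ⟨(0, 1), by simp [NineTable.val]⟩
      exact htop (Subfield.mem_top t)
    rw [← Nat.card_eq_fintype_card,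
      ← Nat.card_eq_of_bijective _ ⟨NineTable.val_injective hl, hsur⟩]
    simp

end Cfsg.Agent.PSL2
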