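import Mathlib
import Cfsg.Agent.Lib.PSL2.SylowAction
import Cfsg.Agent.Lib.SmallSimple.Criteria

/-!
# Simple groups of order `p (p ^ 2 - 1) / 2` with `p + 1` Sylow `p`-subgroups are `PSL_2 (p)`
-/

set_option autoImplicit false

namespace Cfsg.Agent.PSL2.Recog

open scoped MatrixGroups

universe u

variable {G : Type*} [Group G] [Finite G]

theorem psl_of_prime [IsSimpleGroup G] {p m : ℕ} [hp : Fact p.Prime] (h5 : 5 ≤ p)
    (hG : Nat.card G = p * m) (h2m : 2 * m = p ^ 2 - 1)
    (hn : ∀ n, n ∣ m → n % p = 1 → n = 1 ∨ n = p + 1)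
    {F : Type u} [Field F] [Fintype F] (hF : Fintype.card F = p) : Nonempty (G ≃* PSL(2, F)) := by
  have hpm : ¬ p ∣ m := by
    intro h
    have h1 : p ∣ p ^ 2 - 1 := h2m ▸ h.mul_left 2
    have h2 : p ∣ p ^ 2 := dvd_pow_self p two_ne_zero
    have h3 := Nat.dvd_sub h2 h1
    rw [Nat.sub_sub_self (Nat.one_le_pow _ _ hp.out.pos)] at h3
    exact hp.out.not_dvd_one h3
  obtain ⟨P⟩ := (inferInstance : Nonempty (Sylow p G))
  have hPc : Nat.card P = p := by
    have := SmallSimple.card_sylow_eq_pow P 1 m (by rw [pow_one]; exact hG) hpm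
    rwa [pow_one] at this
  have hidx : (P : Subgroup G).index = m := by
    have := (P : Subgroup G).card_mul_index
    rw [hG] at this
    change Nat.card P * _ = _ at this
    rw [hPc] at this
    exact Nat.eq_of_mul_eq_mul_left hp.out.pos this
  have hdvd : Nat.card (Sylow p G) ∣ m := hidx ▸ P.card_dvd_index
  have hmod : Nat.card (Sylow p G) % p = 1 := by
    have := card_sylow_modEq_one p G
    rwa [Nat.ModEq, Nat.one_mod_eq_one.2 hp.out.ne_one] at this
  rcases hn _ hdvd hmod with h | h
  · exfalso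
    haveI : Subsingleton (Sylow p G) := (Nat.card_eq_one_iff_unique.1 h).1
    rcases (P.normal_of_subsingleton).eq_bot_or_eq_top with hb | ht
    · have : Nat.card P = 1 := by rw [← Subgroup.card_bot (G := G), ← hb]
      omega
    · have : m = 1 := by rw [← hidx, ht, Subgroup.index_top]
      subst this
      nlinarith [Nat.sub_add_cancel (Nat.one_le_pow 2 p hp.out.pos)]
  · refine psl_of_sylow P (by omega) (by rw [h, hPc]) ?_ ?_ (by rw [hF, hPc])
    · rw [if_neg (by omega), hPc, hG, ← h2m]; ring
    · intro u hu hu1 g hg v hv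
      have hzu : Subgroup.zpowers u = P := by
        refine Subgroup.eq_of_le_of_card_ge (Subgroup.zpowers_le.2 hu) ?_
        rw [Nat.card_zpowers]
        have h1 : orderOf u ∣ p := hPc ▸ Subgroup.orderOf_dvd_natCard _ hu
        rcases (Nat.dvd_prime hp.out).1 h1 with h1 | h1
        · exact absurd (orderOf_eq_one_iff.1 h1) hu1
        · exact le_of_eq (by rw [h1]; exact hPc)
      rw [← hzu] at hv
      obtain ⟨k, rfl⟩ := Subgroup.mem_zpowers_iff.1 hv
      exact ((show Commute g u from hg).zpow_right k).eq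

end Cfsg.Agent.PSL2.Recog
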