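import Cfsg.Agent.Lib.PSL2.Torus

/-!
Elements of `PSL(2, F)`: orders, centralisers, involutions.

* a non-trivial element has order `p`, or dividing `(q ± 1)/d`, `d = gcd 2 (q-1)`, and all occur;
* the centraliser of `mk g` is the image of `cent g`, unless `q` is odd and `mk g` is an involution,
  in which case it is dihedral of order `q - 1` (`q % 4 = 1`) or `q + 1` (`q % 4 = 3`);
* all involutions are conjugate.
-/

set_option autoImplicit false

open Matrix
open scoped MatrixGroups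

namespace Cfsg.Agent.PSL2

variable {F : Type*} [Field F]

theorem psl_commute_iff {g h : SL(2, F)} :
    Commute (mk h) (mk g) ↔ h * g * h⁻¹ = g ∨ h * g * h⁻¹ = -g := by
  have e : mk h * mk g = mk g * mk h ↔ mk (h * g * h⁻¹) = mk g := by
    simp only [map_mul, map_inv, mul_inv_eq_iff_eq_mul]
  exact e.trans mk_eq_mk

/-- Off the involutions, centralisers in `PSL` are images of centralisers in `SL`. -/
theorem psl_centralizer_eq {g : SL(2, F)} (ht : tr g ≠ 0 ∨ (2 : F) = 0) :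
    Subgroup.centralizer ({mk g} : Set PSL(2, F)) = (cent g).map mk := by
  ext x
  obtain ⟨h, rfl⟩ := mk_surjective x
  rw [Subgroup.mem_centralizer_singleton_iff, mk_mem_map_iff (center_le_cent g), mem_cent]
  show Commute (mk h) (mk g) ↔ _
  rw [psl_commute_iff]
  refine ⟨?_, fun hc => Or.inl (by rw [hc.eq, mul_inv_cancel_right])⟩
  rintro (e | e)
  · exact mul_inv_eq_iff_eq_mul.1 e
  · have hneg : -g = g := by
      rcases ht with ht | h2
      · have := congrArg tr e
        rw [tr_conj, tr_neg] at this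
        have h2 : (2 : F) * tr g = 0 := by linear_combination this
        rw [neg_eq_neg_one_mul, neg_one_eq_one_iff.2 ((mul_eq_zero.1 h2).resolve_right ht), one_mul]
      · rw [neg_eq_neg_one_mul, neg_one_eq_one_iff.2 h2, one_mul]
    rw [hneg] at e
    exact mul_inv_eq_iff_eq_mul.1 e

theorem inv_eq_neg_of_tr_eq_zero {g : SL(2, F)} (h : tr g = 0) : g⁻¹ = -g := by
  rw [inv_eq_iff_mul_eq_one, mul_neg, sq_eq_neg_one_of_tr_eq_zero h, neg_neg]

theorem tr_sq_ne_four_of_tr_eq_zero (h2 : (2 : F) ≠ 0) {g : SL(2, F)} (h : tr g = 0) :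
    tr g ^ 2 ≠ 4 := by
  rw [h]
  intro e
  exact mul_ne_zero h2 h2 (by linear_combination -e)

/-- The centraliser of an involution of `PSL`, odd characteristic. -/
theorem psl_centralizer_involution (h2 : (2 : F) ≠ 0) {g : SL(2, F)} (h : tr g = 0) :
    Subgroup.centralizer ({mk g} : Set PSL(2, F)) =
      (Subgroup.normalizer (cent g : Set SL(2, F))).map mk := by
  ext x
  obtain ⟨k, rfl⟩ := mk_surjective x
  rw [Subgroup.mem_centralizer_singleton_iff,
    mk_mem_map_iff ((center_le_cent g).trans (cent_le_normalizer g)),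
    mem_normalizer_cent (tr_sq_ne_four_of_tr_eq_zero h2 h), inv_eq_neg_of_tr_eq_zero h]
  exact psl_commute_iff

theorem mk_uu_ne_one {s : F} (hs : s ≠ 0) : mk (uu s) ≠ 1 := fun h =>
  uu_not_mem_center hs ((QuotientGroup.eq_one_iff _).1 h)

theorem orderOf_mk_uu (p : ℕ) [Fact p.Prime] [CharP F p] {s : F} (hs : s ≠ 0) :
    orderOf (mk (uu s)) = p :=
  orderOf_eq_prime (by rw [← map_pow, uu_pow, CharP.cast_eq_zero F p, zero_mul, uu_zero, map_one])
    (mk_uu_ne_one hs)

theorem mk_ne_one_iff {g : SL(2, F)} : mk g ≠ 1 ↔ g ∉ Subgroup.center SL(2, F) :=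
  not_congr (QuotientGroup.eq_one_iff g)

/-- A non-trivial element of `PSL` is unipotent or lies in the image of a torus. -/
theorem psl_cases {x : PSL(2, F)} (hx : x ≠ 1) :
    (∃ g, mk g = x ∧ tr g ^ 2 ≠ 4) ∨ ∃ k s, s ≠ 0 ∧ x = mk (k * uu s * k⁻¹) := by
  obtain ⟨g, rfl⟩ := mk_surjective x
  rcases trichotomy (mk_ne_one_iff.1 hx) with ⟨k, a, ha, rfl⟩ | ⟨k, s, hs, rfl | rfl⟩ | ht
  · exact Or.inl ⟨_, rfl, by rw [tr_conj]; exact tr_dd_sq_ne_four ha⟩
  · exact Or.inr ⟨k, s, hs, rfl⟩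
  · exact Or.inr ⟨k, s, hs, mk_neg _⟩
  · exact Or.inl ⟨g, rfl, ht.sq_ne_four⟩

theorem orderOf_mk_conj (k g : SL(2, F)) : orderOf (mk (k * g * k⁻¹)) = orderOf (mk g) := by
  rw [map_mul, map_mul, map_inv]
  exact orderOf_injective (MulAut.conj (mk k)).toMonoidHom (MulEquiv.injective _) (mk g)

variable [Fintype F]

theorem card_map_cent_eq (g : SL(2, F)) :
    Nat.card ((cent g).map mk) = Nat.card (cent g) / Nat.gcd 2 (Fintype.card F - 1) := by
  rw [← card_map_cent g, Nat.mul_div_cancel_left _ (Nat.gcd_pos_of_pos_left _ two_pos)]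

/-- Element orders of `PSL(2, F)`. -/
theorem psl_orderOf_dvd (p : ℕ) [Fact p.Prime] [CharP F p] (x : PSL(2, F)) :
    orderOf x ∣ p ∨ orderOf x ∣ (Fintype.card F - 1) / Nat.gcd 2 (Fintype.card F - 1) ∨
      orderOf x ∣ (Fintype.card F + 1) / Nat.gcd 2 (Fintype.card F - 1) := by
  by_cases hx : x = 1
  · exact Or.inl (by simp [hx])
  rcases psl_cases hx with ⟨g, rfl, h4⟩ | ⟨k, s, hs, rfl⟩
  · right
    have h := orderOf_dvd_natCard (⟨mk g, Subgroup.mem_map_of_mem mk (mem_cent.2 (Commute.refl g))⟩ :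
      (cent g).map mk)
    rw [Subgroup.orderOf_mk, card_map_cent_eq] at h
    rcases card_cent_of_tr h4 with e | e <;> rw [e] at h
    · exact Or.inl h
    · exact Or.inr h
  · left
    rw [orderOf_mk_conj, orderOf_mk_uu p hs]

theorem exists_orderOf_of_dvd_torus {g : SL(2, F)} (h4 : tr g ^ 2 ≠ 4) {m : ℕ}
    (hm : m ∣ Nat.card (cent g) / Nat.gcd 2 (Fintype.card F - 1)) :
    ∃ x : PSL(2, F), orderOf x = m := by
  obtain ⟨c, hc⟩ := (isCyclic_map_cent h4).exists_generator
  have hord : orderOf (c : PSL(2, F)) = Nat.card (cent g) / Nat.gcd 2 (Fintype.card F - 1) := by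
    rw [Subgroup.orderOf_coe, orderOf_eq_card_of_forall_mem_zpowers hc, card_map_cent_eq]
  obtain ⟨j, hj⟩ := hm
  have hpos : 0 < orderOf (c : PSL(2, F)) := orderOf_pos _
  refine ⟨(c : PSL(2, F)) ^ j, ?_⟩
  rw [orderOf_pow' _ (fun h0 => by rw [hord, hj, h0] at hpos; simp at hpos), hord, hj,
    Nat.gcd_mul_left_left, Nat.mul_div_cancel]
  rw [hord, hj] at hpos
  exact Nat.pos_of_mul_pos_left hpos

theorem center_psl_eq_bot (h : 4 ≤ Fintype.card F) : Subgroup.center PSL(2, F) = ⊥ := by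
  have := psl_isSimpleGroup h
  refine (Subgroup.Normal.eq_bot_or_eq_top inferInstance).resolve_right fun htop => ?_
  exact GL.PSL_not_comm 2 le_rfl (fun _ => by rwa [Nat.card_eq_fintype_card]) fun a b =>
    (Subgroup.mem_center_iff.1 (htop ▸ Subgroup.mem_top b) a)

theorem not_isCyclic_psl (h : 4 ≤ Fintype.card F) : ¬ IsCyclic PSL(2, F) := by
  intro hc
  refine GL.PSL_not_comm (F := F) 2 le_rfl (fun _ => by rwa [Nat.card_eq_fintype_card]) fun a b => ?_
  exact (IsCyclic.isMulCommutative (α := PSL(2, F))).is_comm.comm a b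

section Involutions

omit [Fintype F] in
/-- Involutions of `PSL` lift to elements of trace zero. -/
theorem exists_tr_eq_zero {x : PSL(2, F)} (hx : orderOf x = 2) :
    ∃ g, mk g = x ∧ tr g = 0 ∧ g ∉ Subgroup.center SL(2, F) := by
  obtain ⟨g, rfl⟩ := mk_surjective x
  have hg : mk g ≠ 1 := fun h => by rw [h, orderOf_one] at hx; omega
  refine ⟨g, rfl, ?_, mk_ne_one_iff.1 hg⟩
  have hsq : mk (g * g) = 1 := by
    rw [map_mul, ← pow_two]
    have := pow_orderOf_eq_one (mk g)
    rwa [hx] at this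
  rcases mk_eq_one.1 hsq with h | h
  · by_cases h2 : (2 : F) = 0
    · exact tr_eq_zero_of_sq_eq_neg_one (by rw [h, neg_one_eq_one_iff.2 h2])
    · rcases eq_pm_of_mul_self_eq_one h2 h with rfl | rfl
      · exact absurd (map_one mk) hg
      · exact absurd mk_neg_one hg
  · exact tr_eq_zero_of_sq_eq_neg_one h

omit [Fintype F] in
theorem orderOf_mk_eq_two {g : SL(2, F)} (ht : tr g = 0) (hg : g ∉ Subgroup.center SL(2, F)) :
    orderOf (mk g) = 2 :=
  orderOf_eq_prime (by rw [pow_two, ← map_mul, sq_eq_neg_one_of_tr_eq_zero ht, mk_neg_one])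
    (mk_ne_one_iff.2 hg)

omit [Fintype F] in
theorem isConj_uu_sq (a : Fˣ) (s : F) : IsConj (uu s) (uu ((a : F) ^ 2 * s)) :=
  isConj_iff.2 ⟨dd a, dd_conj_uu a s⟩

theorem isConj_uu_of_two_eq_zero (h2 : (2 : F) = 0) {s t : F} (hs : s ≠ 0) (ht : t ≠ 0) :
    IsConj (uu s) (uu t) := by
  obtain ⟨a, ha⟩ := FiniteField.isSquare_of_char_two
    (CharP.ringChar_of_prime_eq_zero Nat.prime_two (by simpa using h2)) (t / s)
  have ha0 : a ≠ 0 := by rintro rfl; simp [ht, hs] at ha
  have := isConj_uu_sq (Units.mk0 a ha0) s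
  rwa [Units.val_mk0, pow_two, ← ha, div_mul_cancel₀ _ hs] at this

theorem tr_zero_isConj {g h : SL(2, F)} (hg : tr g = 0) (hh : tr h = 0)
    (hgc : g ∉ Subgroup.center SL(2, F)) (hhc : h ∉ Subgroup.center SL(2, F)) : IsConj g h := by
  by_cases h2 : (2 : F) = 0
  · have key : ∀ x : SL(2, F), tr x = 0 → x ∉ Subgroup.center SL(2, F) → IsConj (uu 1) x := by
      intro x hx hxc
      rcases trichotomy hxc with ⟨k, a, ha, rfl⟩ | ⟨k, s, hs, rfl | rfl⟩ | ht
      · exact absurd (by rw [← tr_conj k, hx]; linear_combination (-2) * h2) (tr_dd_sq_ne_four ha)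
      · exact (isConj_uu_of_two_eq_zero h2 one_ne_zero hs).trans (isConj_iff.2 ⟨k, rfl⟩)
      · rw [neg_eq_neg_one_mul, neg_one_eq_one_iff.2 h2, one_mul]
        exact (isConj_uu_of_two_eq_zero h2 one_ne_zero hs).trans (isConj_iff.2 ⟨k, rfl⟩)
      · exact absurd (by rw [hx]; linear_combination (-2) * h2) ht.sq_ne_four
    exact (key g hg hgc).symm.trans (key h hh hhc)
  · exact isConj_of_tr (hg.trans hh.symm) (tr_sq_ne_four_of_tr_eq_zero h2 hg)

/-- All involutions of `PSL(2, F)` are conjugate. -/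
theorem psl_involutions_isConj {x y : PSL(2, F)} (hx : orderOf x = 2) (hy : orderOf y = 2) :
    IsConj x y := by
  obtain ⟨g, rfl, hg, hgc⟩ := exists_tr_eq_zero hx
  obtain ⟨h, rfl, hh, hhc⟩ := exists_tr_eq_zero hy
  exact mk.map_isConj (tr_zero_isConj hg hh hgc hhc)

/-- For `tr g = 0`, `q` odd, the torus of `g` is the one of order divisible by four. -/
theorem card_cent_of_tr_zero (h2 : (2 : F) ≠ 0) {g : SL(2, F)} (h : tr g = 0) :
    (Fintype.card F % 4 = 1 → Nat.card (cent g) = Fintype.card F - 1) ∧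
    (Fintype.card F % 4 = 3 → Nat.card (cent g) = Fintype.card F + 1) := by
  have h4 := tr_sq_ne_four_of_tr_eq_zero h2 h
  have hdvd : 4 ∣ Nat.card (cent g) := by
    have hord : orderOf g = 2 ^ 2 := by
      refine orderOf_eq_prime_pow (p := 2) (n := 1) ?_ ?_
      · rw [pow_one, pow_two, sq_eq_neg_one_of_tr_eq_zero h]; exact neg_one_ne_one h2
      · rw [show (2 : ℕ) ^ (1 + 1) = 2 * 2 from rfl, pow_mul, pow_two g,
          sq_eq_neg_one_of_tr_eq_zero h]; simp
    have := orderOf_dvd_natCard (⟨g, mem_cent.2 (Commute.refl g)⟩ : cent g)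
    rwa [Subgroup.orderOf_mk, hord] at this
  have hq := one_lt_q (F := F)
  rcases card_cent_of_tr h4 with e | e <;> rw [e] at hdvd <;>
    exact ⟨fun hm => by omega, fun hm => by omega⟩

/-- The centraliser of an involution, `q` odd, has order `q - 1` or `q + 1`. -/
theorem card_centralizer_involution (h2 : (2 : F) ≠ 0) {x : PSL(2, F)} (hx : orderOf x = 2) :
    (Fintype.card F % 4 = 1 →
      Nat.card (Subgroup.centralizer ({x} : Set PSL(2, F))) = Fintype.card F - 1) ∧
    (Fintype.card F % 4 = 3 →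
      Nat.card (Subgroup.centralizer ({x} : Set PSL(2, F))) = Fintype.card F + 1) := by
  obtain ⟨g, rfl, hg, -⟩ := exists_tr_eq_zero hx
  have h4 := tr_sq_ne_four_of_tr_eq_zero h2 hg
  have h := gcd_mul_card_map_mk ((center_le_cent g).trans (cent_le_normalizer g))
  obtain ⟨k, hk⟩ := odd_card_iff.2 h2
  rw [← psl_centralizer_involution h2 hg, card_normalizer_cent h4,
    show Nat.gcd 2 (Fintype.card F - 1) = 2 from Nat.gcd_eq_left ⟨k, by omega⟩] at h
  obtain ⟨a, b⟩ := card_cent_of_tr_zero h2 hg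
  exact ⟨fun hm => by have := a hm; omega, fun hm => by have := b hm; omega⟩

/-- The centraliser of an involution, `q` odd, is dihedral. -/
theorem dihedral_centralizer_involution (h2 : (2 : F) ≠ 0) {x : PSL(2, F)} (hx : orderOf x = 2) :
    ∃ n, (n = (Fintype.card F - 1) / 2 ∧ Fintype.card F % 4 = 1 ∨
      n = (Fintype.card F + 1) / 2 ∧ Fintype.card F % 4 = 3) ∧
      Nonempty (Subgroup.centralizer ({x} : Set PSL(2, F)) ≃* DihedralGroup n) := by
  obtain ⟨g, rfl, hg, -⟩ := exists_tr_eq_zero hx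
  have h4 := tr_sq_ne_four_of_tr_eq_zero h2 hg
  obtain ⟨k, hk⟩ := odd_card_iff.2 h2
  have hd : Nat.gcd 2 (Fintype.card F - 1) = 2 := Nat.gcd_eq_left ⟨k, by omega⟩
  obtain ⟨a, b⟩ := card_cent_of_tr_zero h2 hg
  refine ⟨Nat.card (cent g) / 2, ?_, ?_⟩
  · rcases (show Fintype.card F % 4 = 1 ∨ Fintype.card F % 4 = 3 by omega) with hm | hm
    · exact Or.inl ⟨by rw [a hm], hm⟩
    · exact Or.inr ⟨by rw [b hm], hm⟩
  · rw [psl_centralizer_involution h2 hg]
    exact dihedral_normalizer h4 (by rw [card_map_cent_eq, hd])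

end Involutions

end Cfsg.Agent.PSL2
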