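import Cfsg.Agent.Lib.PSL2.Klein
import Cfsg.Agent.Lib.Presented.SmallHom

/-!
`S₄` and `A₅` inside `PSL(2, F)`: elements with prescribed traces satisfy the polyhedral relations.
-/

set_option autoImplicit false

open Matrix
open scoped MatrixGroups

namespace Cfsg.Agent.PSL2

variable {F : Type*} [Field F]

/-- An element of order 2, 3 with product of trace `s`, given a point of the associated conic. -/
theorem exists_pair_of_point {a c s : F} (h : a ^ 2 - a + 1 + (c ^ 2 + s * c) = 0) :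
    ∃ X Y : SL(2, F), tr X = 0 ∧ tr Y = 1 ∧ tr (X * Y) = s ∧ tr (Y⁻¹ * X) = -s ∧ X 1 0 = 1 := by
  obtain ⟨X, x00, x01, x10, x11⟩ : ∃ X : SL(2, F), X 0 0 = 0 ∧ X 0 1 = -1 ∧ X 1 0 = 1 ∧ X 1 1 = 0 :=
    ⟨⟨!![0, -1; 1, 0], by simp⟩, rfl, rfl, rfl, rfl⟩
  obtain ⟨Y, y00, y01, y10, y11⟩ : ∃ Y : SL(2, F),
      Y 0 0 = a ∧ Y 0 1 = c + s ∧ Y 1 0 = c ∧ Y 1 1 = 1 - a :=
    ⟨⟨!![a, c + s; c, 1 - a], by rw [Matrix.det_fin_two_of]; linear_combination -h⟩, rfl, rfl, rfl, rfl⟩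
  refine ⟨X, Y, ?_, ?_, ?_, ?_, x10⟩
  · rw [tr_def, x00, x11, add_zero]
  · rw [tr_def, y00, y11]; ring
  · rw [tr_def, mul00, mul11, x00, x01, x10, x11, y00, y01, y10, y11]; ring
  · rw [tr_def, mul00, mul11, inv00, inv01, inv10, inv11, x00, x01, x10, x11, y00, y01, y10, y11]; ring

theorem exists_point [Fintype F] (h2 : (2 : F) ≠ 0) (s : F) :
    ∃ a c : F, a ^ 2 - a + 1 + (c ^ 2 + s * c) = 0 := by
  classical
  obtain ⟨a, c, h⟩ := FiniteField.exists_root_sum_quadratic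
    (f := Polynomial.X ^ 2 - Polynomial.X + 1) (g := Polynomial.X ^ 2 + Polynomial.C s * Polynomial.X)
    (by compute_degree!) (by compute_degree!) (Nat.odd_iff.1 (odd_card_iff.2 h2))
  refine ⟨a, c, ?_⟩
  simpa using h

theorem mk_cube_of_tr_eq_one {Y : SL(2, F)} (h : tr Y = 1) : mk Y ^ 3 = 1 := by
  rw [← map_pow, pow_succ, pow_two]
  exact mk_eq_one.2 (Or.inr (cube_eq_neg_one_of_tr_eq_one h))

theorem mk_sq_of_tr_eq_zero {X : SL(2, F)} (h : tr X = 0) : mk X ^ 2 = 1 := by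
  rw [← map_pow, pow_two]
  exact mk_eq_one.2 (Or.inr (sq_eq_neg_one_of_tr_eq_zero h))

theorem tr_mul_self (g : SL(2, F)) : tr (g * g) = tr g ^ 2 - 2 := by
  rw [tr_def, tr_def, mul00, mul11]
  linear_combination (-2 : F) * det_eq g

theorem mk_pow_four_of_tr_sq {g : SL(2, F)} (h : tr g ^ 2 = 2) : mk g ^ 4 = 1 := by
  rw [← map_pow, show (4 : ℕ) = 2 * 2 from rfl, pow_mul, pow_two, pow_two]
  exact mk_eq_one.2 (Or.inr (sq_eq_neg_one_of_tr_eq_zero (by rw [tr_mul_self, h, sub_self])))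

theorem coe_pow_five (g : SL(2, F)) :
    (g : Matrix (Fin 2) (Fin 2) F) ^ 5 = (tr g ^ 4 - 3 * tr g ^ 2 + 1) • (g : Matrix (Fin 2) (Fin 2) F)
      - (tr g ^ 3 - 2 * tr g) • 1 := by
  set M := (g : Matrix (Fin 2) (Fin 2) F)
  set t := tr g with ht
  have h2 : M * M = t • M - 1 := by
    have hd := det_eq g
    rw [tr_def] at ht
    ext i j
    fin_cases i <;> fin_cases j <;>
      simp [Matrix.mul_apply, Fin.sum_univ_two, ht, M] <;>
      first | linear_combination hd | linear_combination -hd | ring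
  have h3 : M * M * M = (t ^ 2 - 1) • M - t • 1 := by
    rw [h2, sub_mul, smul_mul_assoc, h2, one_mul]; module
  have h4 : M * M * M * M = (t ^ 3 - 2 * t) • M - (t ^ 2 - 1) • 1 := by
    rw [h3, sub_mul, smul_mul_assoc, h2, smul_mul_assoc, one_mul]; module
  rw [show (5 : ℕ) = 4 + 1 from rfl, pow_succ, pow_succ, pow_succ, pow_succ, pow_one, h4, sub_mul,
    smul_mul_assoc, h2, smul_mul_assoc, one_mul]
  module

theorem mk_pow_five {g : SL(2, F)} (h : tr g ^ 4 - 3 * tr g ^ 2 + 1 = 0) : mk g ^ 5 = 1 := by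
  rw [← map_pow, mk_eq_one, ← mem_center_iff_pm, mem_center_iff_entries]
  have e : ∀ i j, (g ^ 5) i j = (-(tr g ^ 3 - 2 * tr g)) • (1 : Matrix (Fin 2) (Fin 2) F) i j := by
    intro i j
    rw [show ((g ^ 5 : SL(2, F)) : Matrix (Fin 2) (Fin 2) F) = (g : Matrix (Fin 2) (Fin 2) F) ^ 5 from
      Matrix.SpecialLinearGroup.coe_pow g 5, coe_pow_five, h, zero_smul, zero_sub, ← neg_smul]
    rfl
  simp [e]

/-- An element of order 5 in `PSL(2, F)` gives a root of `x² = x + 1`. -/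
theorem exists_golden {x : PSL(2, F)} (hx : orderOf x = 5) : ∃ τ : F, τ ^ 2 = τ + 1 := by
  obtain ⟨g, rfl⟩ := mk_surjective x
  have hg : g ∉ Subgroup.center SL(2, F) := by
    intro hc
    rw [orderOf_eq_one_iff.2 (mk_eq_one.2 (mem_center_iff_pm.1 hc))] at hx
    omega
  have h5 := pow_orderOf_eq_one (mk g)
  rw [hx, ← map_pow, mk_eq_one, ← mem_center_iff_pm, mem_center_iff_entries] at h5
  have e : ∀ i j, (g ^ 5) i j = (tr g ^ 4 - 3 * tr g ^ 2 + 1) * g i j
      - (tr g ^ 3 - 2 * tr g) * (1 : Matrix (Fin 2) (Fin 2) F) i j := by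
    intro i j
    rw [show ((g ^ 5 : SL(2, F)) : Matrix (Fin 2) (Fin 2) F) = (g : Matrix (Fin 2) (Fin 2) F) ^ 5 from
      Matrix.SpecialLinearGroup.coe_pow g 5, coe_pow_five]
    rfl
  obtain ⟨h01, h10, h00⟩ := h5
  rw [e] at h01 h10
  rw [e, e] at h00
  simp at h01 h10 h00
  have hP : tr g ^ 4 - 3 * tr g ^ 2 + 1 = 0 := by
    by_contra hP
    refine hg (mem_center_iff_entries.2 ⟨?_, ?_, ?_⟩)
    · exact h01.resolve_left hP
    · exact h10.resolve_left hP
    · exact h00.resolve_right hP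
  rcases mul_eq_zero.1 (show (tr g ^ 2 - tr g - 1) * (tr g ^ 2 + tr g - 1) = 0 by
    linear_combination hP) with h | h
  · exact ⟨tr g, by linear_combination h⟩
  · exact ⟨-tr g, by linear_combination h⟩

theorem exists_permFour_of_sq_two [Fintype F] (h2 : (2 : F) ≠ 0) {s : F} (hs : s ^ 2 = 2) :
    ∃ φ : Equiv.Perm (Fin 4) →* PSL(2, F), Function.Injective φ := by
  obtain ⟨a, c, hp⟩ := exists_point h2 s
  obtain ⟨X, Y, hX, hY, hXY, -, -⟩ := exists_pair_of_point hp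
  refine Presented.SmallHom.exists_permFour_hom (mk_sq_of_tr_eq_zero hX) (mk_cube_of_tr_eq_one hY)
    ?_ ?_
  · rw [← map_mul]
    exact mk_pow_four_of_tr_sq (by rw [hXY, hs])
  · rw [← map_mul, ← map_pow, pow_two, Ne, mk_eq_one]
    rintro (h | h)
    · rcases eq_pm_of_mul_self_eq_one h2 h with e | e <;> rw [e] at hXY <;>
        simp [tr_neg] at hXY <;> subst hXY <;> exact h2 (by linear_combination hs)
    · have := tr_eq_zero_of_sq_eq_neg_one h
      rw [hXY] at this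
      rw [this] at hs
      exact h2 (by linear_combination -hs)

theorem exists_altFive_of_golden [Fintype F] {τ : F} (hτ : τ ^ 2 = τ + 1) :
    ∃ φ : alternatingGroup (Fin 5) →* PSL(2, F), Function.Injective φ := by
  obtain ⟨a, c, hp⟩ : ∃ a c : F, a ^ 2 - a + 1 + (c ^ 2 + τ * c) = 0 := by
    by_cases h2 : (2 : F) = 0
    · exact ⟨τ, 0, by linear_combination hτ + h2⟩
    · exact exists_point h2 τ
  obtain ⟨X, Y, hX, hY, hXY, hYX, -⟩ := exists_pair_of_point hp
  refine Presented.SmallHom.exists_altFive_hom (x := mk Y) (y := mk (Y⁻¹ * X))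
    (mk_cube_of_tr_eq_one hY) (mk_pow_five ?_) ?_ ?_
  · rw [hYX]
    linear_combination (τ ^ 2 + τ - 1) * hτ
  · rw [← map_mul, mul_inv_cancel_left]
    exact mk_sq_of_tr_eq_zero hX
  · rw [Ne, mk_eq_one, ← mem_center_iff_pm]
    intro hc
    rcases mem_center_iff_pm.1 hc with e | e
    · rw [e, tr_one] at hY; exact one_ne_zero (show (1 : F) = 0 by linear_combination hY)
    · rw [e, mul_neg, mul_one, tr_neg, hX, neg_zero] at hXY
      rw [← hXY] at hτ
      exact one_ne_zero (show (1 : F) = 0 by linear_combination -hτ)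

end Cfsg.Agent.PSL2
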