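import Cfsg.Agent.Lib.PSL2.PGLHom
import Cfsg.Agent.Lib.Field.QuadraticExt

/-!
Subfield subgroups of `PSL(2, F)`: a ring homomorphism `K →+* F` gives `PSL(2, K) ↪ PSL(2, F)`,
`PGL(2, K) ↪ PGL(2, F)`, and `PGL(2, K) ↪ PSL(2, F)` when every element of `K` is a square in `F`.
-/

set_option autoImplicit false

open Matrix
open scoped MatrixGroups

namespace Cfsg.Agent.PSL2

variable {F K : Type*} [Field F] [Field K]

theorem slMap_injective (φ : K →+* F) :
    Function.Injective (Matrix.SpecialLinearGroup.map (n := Fin 2) φ) := by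
  intro g h e
  refine Matrix.SpecialLinearGroup.ext g h fun i j => φ.injective ?_
  have := congrArg (fun x : SL(2, F) => x i j) e
  simpa using this

/-- `PSL(2, K) →* PSL(2, F)` induced by a ring homomorphism. -/
def pslMap (φ : K →+* F) : PSL(2, K) →* PSL(2, F) :=
  QuotientGroup.map _ _ (Matrix.SpecialLinearGroup.map φ) (by
    intro g hg
    rw [Subgroup.mem_comap, mem_center_iff_pm]
    rcases mem_center_iff_pm.1 hg with rfl | rfl
    · exact Or.inl (map_one _)
    · right
      apply ext2 <;> simp)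

theorem pslMap_mk (φ : K →+* F) (g : SL(2, K)) :
    pslMap φ (mk g) = mk (Matrix.SpecialLinearGroup.map φ g) := rfl

theorem pslMap_injective (φ : K →+* F) : Function.Injective (pslMap φ) := by
  rw [injective_iff_map_eq_one]
  intro x hx
  obtain ⟨g, rfl⟩ := mk_surjective x
  rw [pslMap_mk, mk_eq_one] at hx
  rw [mk_eq_one]
  rcases hx with h | h
  · exact Or.inl (slMap_injective φ (by rw [h, map_one]))
  · refine Or.inr (slMap_injective φ ?_)
    rw [h]
    apply ext2 <;> simp

/-- If every element of `K` becomes a square in `F`, the image of `PGL(2, K)` lies in `PSL(2, F)`. -/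
theorem range_pglMap_le (φ : K →+* F) (hsq : ∀ x : K, IsSquare (φ x)) :
    (pglMap φ).range ≤ (Matrix.ProjectiveSpecialLinearGroup.toPGL (n := Fin 2) (R := F)).range := by
  rintro _ ⟨x, rfl⟩
  induction x using Matrix.ProjGenLinGroup.induction_on with | mk g => ?_
  rw [pglMap_mk]
  obtain ⟨s, hs⟩ := hsq (Matrix.GeneralLinearGroup.det g : Kˣ)
  have hdet : ((Matrix.GeneralLinearGroup.map φ g : GL (Fin 2) F) : Matrix (Fin 2) (Fin 2) F).det = s * s := by
    rw [← hs, Matrix.GeneralLinearGroup.val_det_apply, RingHom.map_det]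
    rfl
  have hs0 : s ≠ 0 := by
    rintro rfl
    rw [mul_zero, map_eq_zero] at hs
    exact (Matrix.GeneralLinearGroup.det g).ne_zero hs
  set M : Matrix (Fin 2) (Fin 2) F :=
    s⁻¹ • ((Matrix.GeneralLinearGroup.map φ g : GL (Fin 2) F) : Matrix (Fin 2) (Fin 2) F) with hM
  have hMd : M.det = 1 := by
    rw [hM, Matrix.det_smul, hdet, Fintype.card_fin]
    field_simp
  refine ⟨mk (⟨M, hMd⟩ : SL(2, F)), ?_⟩
  show Matrix.ProjGenLinGroup.mk (Matrix.SpecialLinearGroup.toGL (⟨M, hMd⟩ : SL(2, F))) = _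
  rw [Matrix.ProjGenLinGroup.mk_eq_mk_iff]
  refine ⟨Units.mk0 s hs0, Units.ext ?_⟩
  rw [Units.val_mul]
  show M * _ = _
  ext i j
  rw [hM]
  fin_cases j <;> simp [Matrix.GeneralLinearGroup.coe_scalar, Matrix.mul_apply, Fin.sum_univ_two] <;>
    field_simp

/-- `PGL(2, K)` embeds in `PSL(2, F)` when every element of `K` becomes a square in `F`. -/
theorem exists_pgl_embedding (φ : K →+* F) (hsq : ∀ x : K, IsSquare (φ x)) :
    ∃ f : Matrix.ProjGenLinGroup (Fin 2) K →* PSL(2, F), Function.Injective f := by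
  let e := MonoidHom.ofInjective
    (Matrix.ProjectiveSpecialLinearGroup.toPGL_injective (n := Fin 2) (R := F))
  let r : Matrix.ProjGenLinGroup (Fin 2) K →*
      (Matrix.ProjectiveSpecialLinearGroup.toPGL (n := Fin 2) (R := F)).range :=
    (pglMap φ).codRestrict _ fun x => range_pglMap_le φ hsq ⟨x, rfl⟩
  refine ⟨e.symm.toMonoidHom.comp r, e.symm.injective.comp fun a b h => ?_⟩
  exact pglMap_injective φ (congrArg Subtype.val h)

/-- The embedding of `PGL(2, K)` extends that of `PSL(2, K)`. -/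
theorem exists_pgl_embedding_extends (φ : K →+* F) (hsq : ∀ x : K, IsSquare (φ x)) :
    ∃ f : Matrix.ProjGenLinGroup (Fin 2) K →* PSL(2, F), Function.Injective f ∧
      f.comp Matrix.ProjectiveSpecialLinearGroup.toPGL = pslMap φ := by
  obtain ⟨f, hf, hcomp⟩ : ∃ f : Matrix.ProjGenLinGroup (Fin 2) K →* PSL(2, F), Function.Injective f ∧
      ∀ x, Matrix.ProjectiveSpecialLinearGroup.toPGL (f x) = pglMap φ x := by
    let e := MonoidHom.ofInjective
      (Matrix.ProjectiveSpecialLinearGroup.toPGL_injective (n := Fin 2) (R := F))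
    let r : Matrix.ProjGenLinGroup (Fin 2) K →*
        (Matrix.ProjectiveSpecialLinearGroup.toPGL (n := Fin 2) (R := F)).range :=
      (pglMap φ).codRestrict _ fun x => range_pglMap_le φ hsq ⟨x, rfl⟩
    refine ⟨e.symm.toMonoidHom.comp r, e.symm.injective.comp fun a b h => ?_, fun x => ?_⟩
    · exact pglMap_injective φ (congrArg Subtype.val h)
    · exact congrArg Subtype.val (e.apply_symm_apply (r x))
  refine ⟨f, hf, MonoidHom.ext fun x => Matrix.ProjectiveSpecialLinearGroup.toPGL_injective ?_⟩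
  rw [MonoidHom.comp_apply, hcomp]
  obtain ⟨g, rfl⟩ := mk_surjective x
  show Matrix.ProjGenLinGroup.mk _ = Matrix.ProjGenLinGroup.mk _
  congr 1
  exact Units.ext (by ext i j; rfl)

/-- In a field of order `k ^ m`, `m` even, every element of the subfield of order `k` is a square. -/
theorem isSquare_of_even [Fintype F] [Fintype K] (φ : K →+* F) {m : ℕ} (hm : Even m)
    (h : Fintype.card K ^ m = Fintype.card F) (x : K) : IsSquare (φ x) := by
  classical
  by_cases hx : x = 0
  · simp [hx]
  by_cases hF : ringChar F = 2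
  · exact FiniteField.isSquare_of_char_two hF _
  rw [FiniteField.isSquare_iff hF (by simpa using hx), ← map_pow]
  have h1 : x ^ (Fintype.card K - 1) = 1 := FiniteField.pow_card_sub_one_eq_one x hx
  suffices hd : Fintype.card K - 1 ∣ Fintype.card F / 2 by
    obtain ⟨c, hc⟩ := hd
    rw [hc, pow_mul, h1, one_pow, map_one]
  obtain ⟨r, rfl⟩ := hm
  have hodd : Odd (Fintype.card F) := FiniteField.odd_card_of_char_ne_two hF |> Nat.odd_iff.2
  set k := Fintype.card K with hk
  have hk1 : 1 < k := Fintype.one_lt_card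
  rw [← h, ← two_mul, pow_mul']
  obtain ⟨c, hc⟩ : k - 1 ∣ k ^ r - 1 := by simpa using Nat.sub_dvd_pow_sub_pow k 1 r
  obtain ⟨a, ha⟩ : Odd (k ^ r) := by
    rw [← h, ← two_mul, pow_mul', pow_two] at hodd
    exact (Nat.odd_mul.1 hodd).1
  have e : (k ^ r) ^ 2 / 2 = (k ^ r - 1) * (a + 1) := by
    rw [ha, show 2 * a + 1 - 1 = 2 * a by omega,
      show (2 * a + 1) ^ 2 = 2 * (2 * a * (a + 1)) + 1 by ring]
    omega
  rw [e, hc, mul_assoc]
  exact dvd_mul_right _ _

end Cfsg.Agent.PSL2
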