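import Cfsg.Agent.Lib.PSL2.Maximal
import Cfsg.Agent.Lib.PSL2.Platonic
import Cfsg.Agent.Lib.PSL2.Subfield
import Cfsg.Agent.S0805

/-!
Maximality in `PSL(2, F)` of `S₄`, `A₅`, `A₄` and subfield subgroups, given Dickson's list.
-/

set_option autoImplicit false

open Matrix
open scoped MatrixGroups commutatorElement

namespace Cfsg.Agent.PSL2.Maximal

variable {F : Type*} [Field F] [Fintype F]

theorem not_tame_permFour {p : ℕ} (hp : p ≠ 2) : ¬ Tame p (Equiv.Perm (Fin 4)) := fun h =>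
  not_tame_alternatingFour hp (tame_of_injective _ (Subgroup.subtype_injective _) h)

theorem not_tame_altFive (p : ℕ) : ¬ Tame p (alternatingGroup (Fin 5)) := by
  have : IsSimpleGroup (alternatingGroup (Fin 5)) := alternatingGroup.isSimpleGroup_five
  have hne : ∃ a b : alternatingGroup (Fin 5), a * b ≠ b * a :=
    ⟨⟨Equiv.swap 0 1 * Equiv.swap 1 2, by rw [Equiv.Perm.mem_alternatingGroup]; decide +kernel⟩,
      ⟨Equiv.swap 0 1 * Equiv.swap 3 4, by rw [Equiv.Perm.mem_alternatingGroup]; decide +kernel⟩,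
      by decide +kernel⟩
  refine not_tame_of_not_solvable p ?_ hne
  refine (IsSimpleGroup.eq_bot_or_eq_top_of_normal _ inferInstance).resolve_left fun h => ?_
  obtain ⟨a, b, hab⟩ := hne
  have := Subgroup.commutator_mem_commutator (Subgroup.mem_top a) (Subgroup.mem_top b)
  rw [← commutator_def, h, Subgroup.mem_bot, commutatorElement_eq_one_iff_mul_comm] at this
  exact hab this

theorem not_tame_psl_odd {L : Type*} [Field L] [Fintype L] (h2 : (2 : L) ≠ 0) {p : ℕ} (hp : p ≠ 2) :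
    ¬ Tame p PSL(2, L) := by
  obtain ⟨g, w, hL⟩ := exists_lift_exists (F := L) h2
  obtain ⟨A, -, ⟨e⟩⟩ := exists_alternatingFour hL
  exact fun h => not_tame_alternatingFour hp
    (tame_of_injective (A.subtype.comp e.symm.toMonoidHom)
      (A.subtype_injective.comp e.symm.injective) h)

theorem not_tame_pgl_odd {L : Type*} [Field L] [Fintype L] (h2 : (2 : L) ≠ 0) {p : ℕ} (hp : p ≠ 2) :
    ¬ Tame p (Matrix.ProjGenLinGroup (Fin 2) L) := fun h =>
  not_tame_psl_odd h2 hp
    (tame_of_injective _ (Matrix.ProjectiveSpecialLinearGroup.toPGL_injective (n := Fin 2) (R := L)) h)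

theorem not_tame_psl_of_four_le {L : Type*} [Field L] [Fintype L] (h4 : 4 ≤ Fintype.card L) (p : ℕ) :
    ¬ Tame p PSL(2, L) := by
  refine not_tame_of_not_solvable p ?_ ?_
  · rw [eq_top_iff, ← Subgroup.map_top_of_surjective mk mk_surjective, ← sl_commutator_eq_top h4,
      commutator_def, commutator_def, Subgroup.map_commutator]
    exact Subgroup.commutator_mono le_top le_top
  · by_contra h
    push Not at h
    apply not_isCyclic_psl h4
    have := psl_isSimpleGroup h4
    let : CommGroup PSL(2, L) := { (inferInstance : Group PSL(2, L)) with mul_comm := h }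
    exact IsSimpleGroup.isCyclic

theorem card_iso_sfield {L : Type*} [Field L] [Fintype L] {X : Type*} [Group X]
    (h : Nonempty (X ≃* PSL(2, L)) ∨ Nonempty (X ≃* Matrix.ProjGenLinGroup (Fin 2) L)) :
    Nat.card X ∣ Fintype.card L * (Fintype.card L ^ 2 - 1) ∧
      Nat.card X ≤ Fintype.card L * (Fintype.card L ^ 2 - 1) := by
  have hq := one_lt_q (F := L)
  have hpos : 0 < Fintype.card L * (Fintype.card L ^ 2 - 1) := by
    have : 1 < Fintype.card L ^ 2 := Nat.one_lt_pow (by omega) hq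
    exact Nat.mul_pos (by omega) (by omega)
  have hd : Nat.card X ∣ Fintype.card L * (Fintype.card L ^ 2 - 1) := by
    rcases h with ⟨⟨e⟩⟩ | ⟨⟨e⟩⟩
    · rw [Nat.card_congr e.toEquiv, ← gcd_mul_card_PSL]
      exact dvd_mul_left _ _
    · rw [Nat.card_congr e.toEquiv, GL.card_PGL, card_SL]
  exact ⟨hd, Nat.le_of_dvd hpos hd⟩

/-- Common maximality criterion. -/
theorem isCoatom_range (p : ℕ) [Fact p.Prime] [CharP F p]
    (hD : ∀ K : Subgroup PSL(2, F), IsDicksonType p K) {X : Type*} [Group X]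
    (φ : X →* PSL(2, F)) (hφ : Function.Injective φ) (hX : ¬ Tame p X)
    (hlt : Nat.card X < Nat.card PSL(2, F))
    (h4 : ∀ K : Subgroup PSL(2, F), Nonempty (K ≃* alternatingGroup (Fin 4)) →
      Nat.card X ∣ 12 → Nat.card X < 12 → False)
    (hS : ∀ K : Subgroup PSL(2, F), Nonempty (K ≃* Equiv.Perm (Fin 4)) →
      Nat.card X ∣ 24 → Nat.card X < 24 → False)
    (hA : ∀ K : Subgroup PSL(2, F), K ≠ ⊤ → Nonempty (K ≃* alternatingGroup (Fin 5)) →
      Nat.card X ∣ 60 → Nat.card X < 60 → False)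
    (hL : ∀ (K : Subgroup PSL(2, F)) (L : Type) [Field L] [Fintype L] (m : ℕ), 2 ≤ m →
      Fintype.card L ^ m = Fintype.card F →
      (Nonempty (K ≃* PSL(2, L)) ∨ Nonempty (K ≃* Matrix.ProjGenLinGroup (Fin 2) L)) →
      Nat.card X ∣ Nat.card K → Nat.card X < Nat.card K → False) :
    IsCoatom φ.range ∧ Nonempty (φ.range ≃* X) := by
  have e := MonoidHom.ofInjective hφ
  have hc : Nat.card φ.range = Nat.card X := (Nat.card_congr e.toEquiv).symm
  refine ⟨⟨fun h => hlt.ne (by rw [← hc, h, Subgroup.card_top]), fun K hK => ?_⟩, ⟨e.symm⟩⟩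
  by_contra hKt
  have hlt' := card_lt_of_lt hK
  have hdvd := Subgroup.card_dvd_of_le hK.le
  rw [hc] at hlt' hdvd
  have hnt : ¬ Tame p φ.range := fun h => hX (tame_of_injective e.toMonoidHom e.injective h)
  rcases cases_of_not_tame p (hD K) hK.le hnt with h | h | h | ⟨L, _, _, m, hm, hiso⟩
  · rw [Nat.card_congr h.some.toEquiv, nat_card_alternatingGroup, Nat.card_fin] at hlt' hdvd
    exact h4 K h hdvd hlt'
  · rw [Nat.card_congr h.some.toEquiv, Nat.card_perm, Nat.card_fin] at hlt' hdvd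
    exact hS K h hdvd hlt'
  · rw [Nat.card_congr h.some.toEquiv, nat_card_alternatingGroup, Nat.card_fin] at hlt' hdvd
    exact hA K hKt h hdvd hlt'
  · rcases m with _ | _ | m
    · rw [pow_zero] at hm
      have := one_lt_q (F := F)
      omega
    · rw [zero_add, pow_one] at hm
      have hKlt := card_lt_of_ne_top hKt
      rcases hiso with ⟨⟨e'⟩⟩ | ⟨⟨e'⟩⟩
      · rw [Nat.card_congr e'.toEquiv, card_PSL, card_PSL, hm] at hKlt
        exact lt_irrefl _ hKlt
      · rw [Nat.card_congr e'.toEquiv, GL.card_PGL, card_SL, card_PSL, hm] at hKlt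
        exact absurd (Nat.div_le_self _ _) (not_le.2 hKlt)
    · exact hL K L (m + 2) (by omega) hm hiso hdvd hlt'

theorem pow_eq_of_pow_eq_prime {p l m n : ℕ} (hp : p.Prime) (h : l ^ m = p ^ n) (hm : m ≠ 0) :
    ∃ a, l = p ^ a ∧ a * m = n := by
  obtain ⟨a, -, rfl⟩ := (Nat.dvd_prime_pow hp).1 (h ▸ dvd_pow_self l hm)
  exact ⟨a, rfl, Nat.pow_right_injective hp.two_le (by show p ^ (a * m) = p ^ n; rw [pow_mul, h])⟩

theorem ne_two_of_odd (p : ℕ) [Fact p.Prime] [CharP F p] (h : Odd (Fintype.card F)) : p ≠ 2 := by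
  rintro rfl
  exact odd_card_iff.1 h (by exact_mod_cast CharP.cast_eq_zero F 2)

theorem two_mul_card_PSL' (h : Odd (Fintype.card F)) :
    2 * Nat.card PSL(2, F) = Fintype.card F * (Fintype.card F ^ 2 - 1) :=
  two_mul_card_PSL (odd_card_iff.1 h)

theorem permFour_maximal (p : ℕ) [Fact p.Prime] [CharP F p] (hF : Fintype.card F = p)
    (hp : p % 8 = 1 ∨ p % 8 = 7) (hD : ∀ K : Subgroup PSL(2, F), IsDicksonType p K) :
    ∃ H : Subgroup PSL(2, F), IsCoatom H ∧ Nonempty (H ≃* Equiv.Perm (Fin 4)) := by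
  have hodd : Odd (Fintype.card F) := by rw [hF, Nat.odd_iff]; omega
  obtain ⟨s, hs⟩ := FiniteField.isSquare_two_iff.2
    (show Fintype.card F % 8 ≠ 3 ∧ Fintype.card F % 8 ≠ 5 by omega)
  obtain ⟨φ, hφ⟩ := exists_permFour_of_sq_two (odd_card_iff.1 hodd) (s := s) (by rw [pow_two]; exact hs.symm)
  have hc : Nat.card (Equiv.Perm (Fin 4)) = 24 := by rw [Nat.card_perm, Nat.card_fin]; decide
  refine ⟨φ.range, isCoatom_range p hD φ hφ (not_tame_permFour (ne_two_of_odd p hodd)) ?_
    (fun _ _ h _ => by rw [hc] at *; omega) (fun _ _ _ h => by rw [hc] at *; omega) (fun _ _ _ h _ => by rw [hc] at *; omega) ?_⟩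
  · have h1 := two_mul_card_PSL' hodd
    have h7 : 7 ≤ p := by have := (Fact.out : p.Prime).two_le; omega
    have h48 : 48 ≤ p ^ 2 - 1 := by have := Nat.mul_le_mul h7 h7; rw [pow_two]; omega
    rw [hF] at h1
    have := Nat.mul_le_mul h7 h48
    omega
  · intro K L _ _ m hm hL
    have := Nat.Prime.eq_one_of_pow (x := Fintype.card L) (n := m) (by rw [hL, hF]; exact Fact.out)
    omega

theorem altFive_maximal (p : ℕ) [Fact p.Prime] [CharP F p]
    (h : (Fintype.card F = p ∧ (p % 10 = 1 ∨ p % 10 = 9)) ∨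
      (Fintype.card F = p ^ 2 ∧ (p % 10 = 3 ∨ p % 10 = 7)))
    (hD : ∀ K : Subgroup PSL(2, F), IsDicksonType p K) :
    ∃ H : Subgroup PSL(2, F), IsCoatom H ∧ Nonempty (H ≃* alternatingGroup (Fin 5)) := by
  have hpp : p.Prime := Fact.out
  have hodd : Odd (Fintype.card F) := by
    rcases h with ⟨h, h'⟩ | ⟨h, h'⟩
    · rw [h, Nat.odd_iff]; omega
    · rw [h]; exact Odd.pow (Nat.odd_iff.2 (by omega))
  have h9 : 9 ≤ Fintype.card F := by
    rcases h with ⟨h, h'⟩ | ⟨h, h'⟩
    · have := hpp.two_le; omega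
    · rw [h, pow_two]
      exact le_trans (by norm_num) (Nat.mul_le_mul (show 3 ≤ p by omega) (show 3 ≤ p by omega))
  have h5 : 5 ∣ Fintype.card F * (Fintype.card F ^ 2 - 1) := by
    refine dvd_mul_of_dvd_right ?_ _
    have : Fintype.card F ^ 2 % 5 = 1 := by
      rcases h with ⟨h, h'⟩ | ⟨h, h'⟩
      · have : p % 5 = 1 ∨ p % 5 = 4 := by omega
        rw [h, Nat.pow_mod]; rcases this with e | e <;> rw [e]
      · have : p % 5 = 3 ∨ p % 5 = 2 := by omega
        rw [h, ← pow_mul, Nat.pow_mod]; rcases this with e | e <;> rw [e]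
    omega
  haveI : Fact (Nat.Prime 5) := ⟨by norm_num⟩
  rw [← gcd_mul_card_PSL] at h5
  obtain ⟨x, hx⟩ := exists_prime_orderOf_dvd_card' (G := PSL(2, F)) 5
    (Nat.Coprime.dvd_of_dvd_mul_left (Nat.Coprime.coprime_dvd_right (Nat.gcd_dvd_left _ _) (by decide)) h5)
  obtain ⟨τ, hτ⟩ := exists_golden hx
  obtain ⟨φ, hφ⟩ := exists_altFive_of_golden hτ
  have hc : Nat.card (alternatingGroup (Fin 5)) = 60 := by
    rw [nat_card_alternatingGroup, Nat.card_fin]; decide
  refine ⟨φ.range, isCoatom_range p hD φ hφ (not_tame_altFive p) ?_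
    (fun _ _ h _ => by rw [hc] at *; omega) (fun _ _ h _ => by rw [hc] at *; omega) (fun _ _ _ _ h => by rw [hc] at *; omega) ?_⟩
  · have h1 := two_mul_card_PSL' hodd
    have h80 : 80 ≤ Fintype.card F ^ 2 - 1 := by
      have := Nat.mul_le_mul h9 h9; rw [pow_two]; omega
    have := Nat.mul_le_mul h9 h80
    omega
  · intro K L _ _ m hm hL hiso hdvd _
    rcases h with ⟨h, h'⟩ | ⟨h, h'⟩
    · have := Nat.Prime.eq_one_of_pow (x := Fintype.card L) (n := m) (by rw [hL, h]; exact hpp)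
      omega
    · obtain ⟨a, hLa, ha⟩ := pow_eq_of_pow_eq_prime (p := p) (n := 2) hpp (hL.trans h) (by omega)
      have ha1 : a = 1 := by
        rcases a with _ | _ | a
        · omega
        · rfl
        · nlinarith
      have h5' : 5 ∣ p * (p ^ 2 - 1) := by
        have := hdvd.trans (card_iso_sfield hiso).1
        rw [hc, hLa, ha1, pow_one] at this
        exact (show 5 ∣ 60 by norm_num).trans this
      rcases (Nat.Prime.dvd_mul (show Nat.Prime 5 by norm_num)).1 h5' with h6 | h6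
      · omega
      · have : p % 5 = 3 ∨ p % 5 = 2 := by omega
        have : p ^ 2 % 5 = 4 := by rw [Nat.pow_mod]; rcases this with e | e <;> rw [e]
        have : 0 < p ^ 2 := Nat.pow_pos hpp.pos
        omega

theorem altFour_maximal (p : ℕ) [Fact p.Prime] [CharP F p] (hF : Fintype.card F = p) (h5 : 5 ≤ p)
    (h8 : p % 8 = 3 ∨ p % 8 = 5) (h10 : p % 10 ≠ 1 ∧ p % 10 ≠ 9)
    (hD : ∀ K : Subgroup PSL(2, F), IsDicksonType p K) :
    ∃ H : Subgroup PSL(2, F), IsCoatom H ∧ Nonempty (H ≃* alternatingGroup (Fin 4)) := by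
  have hodd : Odd (Fintype.card F) := by rw [hF, Nat.odd_iff]; omega
  obtain ⟨g, w, hLft⟩ := exists_lift_exists (F := F) (odd_card_iff.1 hodd)
  obtain ⟨A, -, ⟨e⟩⟩ := exists_alternatingFour hLft
  have hc : Nat.card (alternatingGroup (Fin 4)) = 12 := by
    rw [nat_card_alternatingGroup, Nat.card_fin]; decide
  have h1 := two_mul_card_PSL' hodd
  rw [hF] at h1
  refine ⟨(A.subtype.comp e.symm.toMonoidHom).range, isCoatom_range p hD (A.subtype.comp e.symm.toMonoidHom)
    (A.subtype_injective.comp e.symm.injective) (not_tame_alternatingFour (ne_two_of_odd p hodd)) ?_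
    (fun _ _ _ h => by rw [hc] at *; omega) ?_ ?_ ?_⟩
  · have h24 : 24 ≤ p ^ 2 - 1 := by have := Nat.mul_le_mul h5 h5; rw [pow_two]; omega
    have := Nat.mul_le_mul h5 h24
    omega
  · rintro K ⟨e'⟩ - -
    have h4 : 2 * 24 ∣ p * (p ^ 2 - 1) := by
      rw [← h1]
      refine Nat.mul_dvd_mul_left 2 ?_
      have := K.card_subgroup_dvd_card
      rwa [Nat.card_congr e'.toEquiv, Nat.card_perm, Nat.card_fin] at this
    have h16 : 16 ∣ p ^ 2 - 1 := by
      refine Nat.Coprime.dvd_of_dvd_mul_left ?_ ((show 16 ∣ 2 * 24 by norm_num).trans h4)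
      exact Nat.Coprime.pow_left 4 ((Nat.coprime_primes Nat.prime_two Fact.out).2 (by omega))
    have : p % 16 = 3 ∨ p % 16 = 5 ∨ p % 16 = 11 ∨ p % 16 = 13 := by omega
    have : p ^ 2 % 16 = 9 := by
      rw [Nat.pow_mod]; rcases this with e | e | e | e <;> rw [e]
    have : 0 < p ^ 2 := Nat.pow_pos (by omega)
    omega
  · rintro K hKt ⟨e'⟩ - -
    have hK := K.card_subgroup_dvd_card
    rw [Nat.card_congr e'.toEquiv, nat_card_alternatingGroup, Nat.card_fin] at hK
    have h5' : 5 ∣ p * (p ^ 2 - 1) :=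
      h1 ▸ dvd_mul_of_dvd_right ((show 5 ∣ Nat.factorial 5 / 2 by decide).trans hK) 2
    rcases (Nat.Prime.dvd_mul (show Nat.Prime 5 by norm_num)).1 h5' with h6 | h6
    · have hp5 : p = 5 := ((Nat.prime_dvd_prime_iff_eq (by norm_num) Fact.out).1 h6).symm
      have := card_lt_of_ne_top hKt
      rw [Nat.card_congr e'.toEquiv, nat_card_alternatingGroup, Nat.card_fin] at this
      rw [hp5] at h1
      norm_num [Nat.factorial] at this h1
      omega
    · have : p % 5 = 2 ∨ p % 5 = 3 ∨ p % 5 = 0 := by omega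
      have : p ^ 2 % 5 = 4 ∨ p ^ 2 % 5 = 0 := by
        rw [Nat.pow_mod]; rcases this with e | e | e <;> rw [e] <;> norm_num
      have : 0 < p ^ 2 := Nat.pow_pos (by omega)
      omega
  · intro K L _ _ m hm hL
    have := Nat.Prime.eq_one_of_pow (x := Fintype.card L) (n := m) (by rw [hL, hF]; exact Fact.out)
    omega

theorem eq_of_subfield_dvd {p k l b r m : ℕ} (hp : p.Prime) (hr : r.Prime) (hb : 0 < b)
    (hk : k = p ^ b) (hm : 2 ≤ m) (hl : l ^ m = k ^ r)
    (hd : k * (k ^ 2 - 1) ∣ 2 * (l * (l ^ 2 - 1))) : l = k := by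
  obtain ⟨a, rfl, ha⟩ := pow_eq_of_pow_eq_prime hp (show l ^ m = p ^ (b * r) by rw [hl, hk, pow_mul]) (by omega)
  subst hk
  have h1 : (p ^ b) ^ 2 - 1 ∣ 2 * ((p ^ a) ^ 2 - 1) := by
    have h := (dvd_mul_left _ _).trans hd
    rw [mul_left_comm] at h
    refine Nat.Coprime.dvd_of_dvd_mul_left ?_ h
    refine Nat.Coprime.pow_right a ((hp.coprime_iff_not_dvd.2 fun hpd => ?_).symm)
    have h2 : p ∣ (p ^ b) ^ 2 := dvd_pow (dvd_pow_self p hb.ne') two_ne_zero
    have h3 : 0 < (p ^ b) ^ 2 := Nat.pow_pos (Nat.pow_pos hp.pos)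
    have h4 := Nat.dvd_sub h2 hpd
    rw [show (p ^ b) ^ 2 - ((p ^ b) ^ 2 - 1) = 1 by omega] at h4
    exact hp.not_dvd_one h4
  rw [← pow_mul, ← pow_mul, mul_comm b, mul_comm a] at h1
  obtain ⟨c, rfl⟩ := dvd_of_sq_sub_one_dvd hp.two_le hb h1
  have hcm : c * m = r := by
    have : b * (c * m) = b * r := by rw [← ha, mul_assoc]
    exact Nat.eq_of_mul_eq_mul_left hb this
  rcases (Nat.dvd_prime hr).1 (Dvd.intro m hcm) with h | h
  · rw [h, mul_one]
  · subst h
    have : m = 1 := Nat.eq_of_mul_eq_mul_left hr.pos (by rw [mul_one]; exact hcm)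
    omega

theorem pgl_maximal (p : ℕ) [Fact p.Prime] [CharP F p] {K : Type*} [Field K] [Fintype K]
    (hF : Fintype.card F = Fintype.card K ^ 2) (hk : Odd (Fintype.card K))
    (hD : ∀ H : Subgroup PSL(2, F), IsDicksonType p H) :
    ∃ H : Subgroup PSL(2, F), IsCoatom H ∧ Nonempty (H ≃* Matrix.ProjGenLinGroup (Fin 2) K) := by
  have hodd : Odd (Fintype.card F) := hF ▸ hk.pow
  obtain ⟨ι⟩ := FieldExt.exists_ringHom_of_card_pow (F := K) (K := F) two_ne_zero hF
  obtain ⟨φ, hφ⟩ := exists_pgl_embedding ι (isSquare_of_even ι even_two hF.symm)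
  have hc : Nat.card (Matrix.ProjGenLinGroup (Fin 2) K) = Fintype.card K * (Fintype.card K ^ 2 - 1) := by
    rw [GL.card_PGL, card_SL]
  have hk3 : 3 ≤ Fintype.card K := by
    have := one_lt_q (F := K); rcases hk with ⟨j, hj⟩; omega
  have h1 := two_mul_card_PSL' hodd
  rw [hF] at h1
  refine ⟨φ.range, isCoatom_range p hD φ hφ (not_tame_pgl_odd (odd_card_iff.1 hk) (ne_two_of_odd p hodd))
    ?_ ?_ ?_ ?_ ?_⟩
  all_goals rw [hc]
  all_goals generalize Fintype.card K = k at *
  · have h2 : (k ^ 2) ^ 2 - 1 = (k ^ 2 + 1) * (k ^ 2 - 1) := by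
      simpa using Nat.sq_sub_sq (k ^ 2) 1
    rw [h2] at h1
    have h4 : 0 < k ^ 2 - 1 := by have := Nat.one_lt_pow (show 2 ≠ 0 by omega) (show 1 < k by omega); omega
    have h3 : 2 * k < k ^ 2 * (k ^ 2 + 1) := by nlinarith
    have h5 := Nat.mul_lt_mul_of_pos_right h3 h4
    nlinarith
  all_goals
    have h8 : 8 ≤ k ^ 2 - 1 := by have := Nat.mul_le_mul hk3 hk3; rw [pow_two]; omega
    have h24 := Nat.mul_le_mul hk3 h8
  · intro _ _ _ h; omega
  · intro _ _ _ h; omega
  · intro _ _ _ hd hlt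
    rcases Nat.lt_or_ge k 5 with h | h
    · obtain rfl : k = 3 := by rcases hk with ⟨j, hj⟩; omega
      norm_num at hd
    · have := Nat.mul_le_mul h (show 24 ≤ k ^ 2 - 1 by have := Nat.mul_le_mul h h; rw [pow_two]; omega)
      omega
  · intro H L _ _ m hm hL hiso _ hlt
    have hlk : Fintype.card L ≤ k := by
      refine le_of_pow_le_pow_left₀ two_ne_zero (Nat.zero_le k) ?_
      rw [← hF, ← hL]
      exact Nat.pow_le_pow_right Fintype.card_pos hm
    have := (card_iso_sfield hiso).2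
    have := Nat.mul_le_mul hlk (Nat.sub_le_sub_right (Nat.pow_le_pow_left hlk 2) 1)
    omega

theorem psl_odd_maximal (p : ℕ) [Fact p.Prime] [CharP F p] {K : Type*} [Field K] [Fintype K] {r : ℕ}
    (hr : r.Prime) (hr2 : r ≠ 2) (hF : Fintype.card F = Fintype.card K ^ r) (hk : Odd (Fintype.card K))
    (hD : ∀ H : Subgroup PSL(2, F), IsDicksonType p H) :
    ∃ H : Subgroup PSL(2, F), IsCoatom H ∧ Nonempty (H ≃* PSL(2, K)) := by
  have hodd : Odd (Fintype.card F) := hF ▸ hk.pow
  have hrodd : Odd r := hr.odd_of_ne_two hr2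
  have hr3 : 3 ≤ r := by have := hr.two_le; omega
  obtain ⟨ι⟩ := FieldExt.exists_ringHom_of_card_pow (F := K) (K := F) hr.ne_zero hF
  obtain ⟨q, hq⟩ := CharP.exists K
  obtain ⟨b, hqp, hkb⟩ := FiniteField.card K q
  have hc := two_mul_card_PSL' (F := K) hk
  have hk3 : 3 ≤ Fintype.card K := by
    have := one_lt_q (F := K); rcases hk with ⟨j, hj⟩; omega
  have h1 := two_mul_card_PSL' hodd
  have hsmall : Fintype.card K = 3 ∨ 60 ≤ Nat.card PSL(2, K) := by
    rcases Nat.lt_or_ge (Fintype.card K) 5 with h | h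
    · left; rcases hk with ⟨j, hj⟩; omega
    · have := Nat.mul_le_mul h (show 24 ≤ Fintype.card K ^ 2 - 1 by
        have := Nat.mul_le_mul h h; rw [pow_two]; omega)
      omega
  have hX12 : 12 ≤ Nat.card PSL(2, K) := by
    rcases hsmall with h | h
    · rw [h] at hc; norm_num at hc; omega
    · omega
  refine ⟨(pslMap ι).range, isCoatom_range p hD (pslMap ι) (pslMap_injective ι)
    (not_tame_psl_odd (odd_card_iff.1 hk) (ne_two_of_odd p hodd)) ?_ ?_ ?_ ?_ ?_⟩
  · have hlt : Fintype.card K < Fintype.card F := by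
      rw [hF]; exact lt_self_pow₀ (one_lt_q (F := K)) (by omega)
    have hpos : 0 < Fintype.card F ^ 2 - 1 := by
      have := Nat.one_lt_pow (show 2 ≠ 0 by omega) (show 1 < Fintype.card F by omega); omega
    have h2 := Nat.mul_lt_mul_of_lt_of_le hlt (Nat.sub_le_sub_right (Nat.pow_le_pow_left hlt.le 2) 1) hpos
    omega
  · intro _ _ _ h; omega
  · rintro H ⟨e⟩ - hlt
    have hk' : Fintype.card K = 3 := hsmall.resolve_right (by omega)
    have h48 : 16 ∣ Fintype.card F * (Fintype.card F ^ 2 - 1) := by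
      rw [← h1]
      refine (show 16 ∣ 2 * 24 by norm_num).trans (Nat.mul_dvd_mul_left 2 ?_)
      have := H.card_subgroup_dvd_card
      rwa [Nat.card_congr e.toEquiv, Nat.card_perm, Nat.card_fin] at this
    have h16 : 16 ∣ Fintype.card F ^ 2 - 1 := by
      refine Nat.Coprime.dvd_of_dvd_mul_left ?_ h48
      rw [hF, hk']
      exact Nat.Coprime.pow 4 r (by decide : Nat.Coprime 2 3)
    obtain ⟨j, rfl⟩ := hrodd
    have h9 : Fintype.card F ^ 2 % 16 = 9 := by
      rw [hF, hk', ← pow_mul, show (2 * j + 1) * 2 = 4 * j + 2 by ring, pow_add, pow_mul, Nat.mul_mod,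
        Nat.pow_mod]
      norm_num
    omega
  · rintro H - ⟨e⟩ - hlt
    have hk' : Fintype.card K = 3 := hsmall.resolve_right (by omega)
    have h5 : 5 ∣ Fintype.card F * (Fintype.card F ^ 2 - 1) := by
      rw [← h1]
      refine dvd_mul_of_dvd_right ((show 5 ∣ Nat.factorial 5 / 2 by decide).trans ?_) 2
      have := H.card_subgroup_dvd_card
      rwa [Nat.card_congr e.toEquiv, nat_card_alternatingGroup, Nat.card_fin] at this
    have h5' : 5 ∣ Fintype.card F ^ 2 - 1 := by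
      refine Nat.Coprime.dvd_of_dvd_mul_left ?_ h5
      rw [hF, hk']
      exact Nat.Coprime.pow_right r (by decide : Nat.Coprime 5 3)
    obtain ⟨j, rfl⟩ := hrodd
    have h9 : Fintype.card F ^ 2 % 5 = 4 := by
      rw [hF, hk', ← pow_mul, show (2 * j + 1) * 2 = 4 * j + 2 by ring, pow_add, pow_mul, Nat.mul_mod,
        Nat.pow_mod]
      norm_num
    omega
  · intro H L _ _ m hm hL hiso hdvd hlt
    have hL' : Fintype.card L = Fintype.card K :=
      eq_of_subfield_dvd hqp hr b.pos hkb hm (hL.trans hF)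
        (hc ▸ Nat.mul_dvd_mul_left 2 (hdvd.trans (card_iso_sfield hiso).1))
    rcases hiso with ⟨⟨e⟩⟩ | h
    · have hcL := two_mul_card_PSL' (F := L) (hL' ▸ hk)
      rw [hL', ← hc, ← Nat.card_congr e.toEquiv] at hcL
      omega
    · have := (S0805.result (F := F) (K := L) rfl hodd r hr.one_le (by rw [hL', ← hF])).2.1 ⟨H, h⟩
      exact Nat.not_even_iff_odd.2 hrodd this

theorem psl_even_maximal (p : ℕ) [Fact p.Prime] [CharP F p] {K : Type*} [Field K] [Fintype K] {r : ℕ}
    (hr : r.Prime) (hF : Fintype.card F = Fintype.card K ^ r) (hk : Even (Fintype.card K))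
    (hk2 : Fintype.card K ≠ 2) (hD : ∀ H : Subgroup PSL(2, F), IsDicksonType p H) :
    ∃ H : Subgroup PSL(2, F), IsCoatom H ∧ Nonempty (H ≃* PSL(2, K)) := by
  obtain ⟨ι⟩ := FieldExt.exists_ringHom_of_card_pow (F := K) (K := F) hr.ne_zero hF
  obtain ⟨q, hq⟩ := CharP.exists K
  obtain ⟨b, hqp, hkb⟩ := FiniteField.card K q
  have hc := card_PSL_of_two_eq_zero (F := K) (even_card_iff.1 hk)
  have h1 := card_PSL_of_two_eq_zero (F := F) (even_card_iff.1 (hF ▸ (Nat.even_pow.2 ⟨hk, hr.ne_zero⟩)))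
  have hk4 : 4 ≤ Fintype.card K := by
    have := one_lt_q (F := K); rcases hk with ⟨j, hj⟩; omega
  have h60 : 60 ≤ Nat.card PSL(2, K) := by
    rw [hc]
    exact le_trans (by norm_num) (Nat.mul_le_mul hk4 (show 15 ≤ Fintype.card K ^ 2 - 1 by
      have := Nat.mul_le_mul hk4 hk4; rw [pow_two]; omega))
  refine ⟨(pslMap ι).range, isCoatom_range p hD (pslMap ι) (pslMap_injective ι)
    (not_tame_psl_of_four_le hk4 p) ?_ (fun _ _ _ h => by omega) (fun _ _ _ h => by omega)
    (fun _ _ _ _ h => by omega) ?_⟩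
  · have hlt : Fintype.card K < Fintype.card F := by
      rw [hF]; exact lt_self_pow₀ (one_lt_q (F := K)) hr.one_lt
    have hpos : 0 < Fintype.card F ^ 2 - 1 := by
      have := Nat.one_lt_pow (show 2 ≠ 0 by omega) (show 1 < Fintype.card F by omega); omega
    have h2 := Nat.mul_lt_mul_of_lt_of_le hlt (Nat.sub_le_sub_right (Nat.pow_le_pow_left hlt.le 2) 1) hpos
    omega
  · intro H L _ _ m hm hL hiso hdvd hlt
    have hL' : Fintype.card L = Fintype.card K :=
      eq_of_subfield_dvd hqp hr b.pos hkb hm (hL.trans hF)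
        (dvd_mul_of_dvd_right (hc ▸ hdvd.trans (card_iso_sfield hiso).1) 2)
    have := (card_iso_sfield hiso).2
    rw [hL', ← hc] at this
    omega

end Cfsg.Agent.PSL2.Maximal
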