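import Cfsg.Agent.Lib.PSL2.Dickson
import Cfsg.Agent.Lib.PSL2.Subfield
import Cfsg.Agent.Lib.PSL2.Platonic
import Cfsg.Agent.Lib.CharInt.Burnside
import Cfsg.Prelude.Def_CaseTheorems

/-!
Which `PSL(2, q)` are minimal simple groups.
-/

set_option autoImplicit false

open Matrix
open scoped MatrixGroups

namespace Cfsg.Agent.PSL2

variable {F : Type*} [Field F] [Fintype F]

theorem isSolvable_dihedral (k : ℕ) [NeZero k] : Group.IsSolvable (DihedralGroup k) := by
  let R : Subgroup (DihedralGroup k) := Subgroup.zpowers (DihedralGroup.r 1)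
  have hR : R.index = 2 := by
    have h := R.index_mul_card
    rw [Nat.card_zpowers, DihedralGroup.orderOf_r_one, DihedralGroup.nat_card] at h
    exact Nat.eq_of_mul_eq_mul_right (NeZero.pos k) h
  have : R.Normal := Subgroup.normal_of_index_eq_two hR
  have : IsCyclic (DihedralGroup k ⧸ R) := by
    have : Fact (Nat.Prime 2) := ⟨Nat.prime_two⟩
    exact isCyclic_of_prime_card (p := 2) (by rw [← Subgroup.index_eq_card, hR])
  refine solvable_of_ker_le_range R.subtype (QuotientGroup.mk' R) ?_
  rw [QuotientGroup.ker_mk', Subgroup.range_subtype]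

theorem isSolvable_borel_map : Group.IsSolvable ((borel F).map mk) := by
  let φ : borel F →* F :=
    { toFun := fun g => (g : SL(2, F)) 0 0
      map_one' := by simp
      map_mul' := fun g h => by
        rw [Subgroup.coe_mul, mul00, mem_borel.1 h.2, mul_zero, add_zero] }
  have hφ : ∀ g, φ g = (g : SL(2, F)) 0 0 := fun g => rfl
  have : Group.IsSolvable (unip F) :=
    isSolvable_of_comm fun a b => IsMulCommutative.is_comm.comm a b
  let ψ : borel F →* Fˣ := φ.toHomUnits
  have hker : ψ.ker ≤ (Subgroup.inclusion (unip_le_borel (F := F))).range := by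
    intro g hg
    have h : (g : SL(2, F)) 0 0 = 1 := by
      rw [← hφ, ← MonoidHom.coe_toHomUnits, show φ.toHomUnits g = 1 from hg, Units.val_one]
    exact ⟨⟨g, mem_unip_iff_entries.2 ⟨g.2, h⟩⟩, rfl⟩
  have : Group.IsSolvable (borel F) :=
    solvable_of_ker_le_range (Subgroup.inclusion (unip_le_borel (F := F))) ψ hker
  exact solvable_of_surjective (MonoidHom.subgroupMap_surjective mk (borel F))

theorem isSolvable_normalizer_sylow (p : ℕ) [Fact p.Prime] [CharP F p] (P : Sylow p PSL(2, F)) :
    Group.IsSolvable (Subgroup.normalizer ((P : Subgroup PSL(2, F)) : Set PSL(2, F))) := by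
  obtain ⟨g, hg⟩ := MulAction.exists_smul_eq PSL(2, F) P (unipSylowPSL F p)
  have hN : (Subgroup.normalizer ((P : Subgroup PSL(2, F)) : Set PSL(2, F))).map
      (MulAut.conj g).toMonoidHom = (borel F).map mk := by
    rw [← normalizer_unip_map, ← coe_unipSylowPSL p, ← hg]
    exact Subgroup.map_equiv_normalizer_eq _ (MulAut.conj g)
  have := isSolvable_borel_map (F := F)
  exact solvable_of_solvable_injective
    (f := ((MulEquiv.subgroupCongr hN).toMonoidHom.comp
      (Subgroup.equivMapOfInjective _ _ (MulEquiv.injective (MulAut.conj g))).toMonoidHom))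
    (fun a b h => (Subgroup.equivMapOfInjective _ _ (MulEquiv.injective (MulAut.conj g))).injective
      ((MulEquiv.subgroupCongr hN).injective (by exact h)))

theorem isSolvable_psl_small (h : Fintype.card F ≤ 3) : Group.IsSolvable PSL(2, F) := by
  have := one_lt_q (F := F)
  rcases (show Fintype.card F = 2 ∨ Fintype.card F = 3 by omega) with h | h
  · refine CharInt.isSolvable_of_card_eq (a := 1) (b := 1) Nat.prime_two Nat.prime_three ?_
    rw [card_PSL, h]; rfl
  · refine CharInt.isSolvable_of_card_eq (a := 2) (b := 1) Nat.prime_two Nat.prime_three ?_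
    rw [card_PSL, h]; rfl

theorem isSolvable_pgl_small (h : Fintype.card F ≤ 3) : Group.IsSolvable PGL(2, F) := by
  have := one_lt_q (F := F)
  rcases (show Fintype.card F = 2 ∨ Fintype.card F = 3 by omega) with h | h
  · refine CharInt.isSolvable_of_card_eq (a := 1) (b := 1) Nat.prime_two Nat.prime_three ?_
    rw [GL.card_PGL, card_SL, h]; rfl
  · refine CharInt.isSolvable_of_card_eq (a := 3) (b := 1) Nat.prime_two Nat.prime_three ?_
    rw [GL.card_PGL, card_SL, h]; rfl

theorem not_isSolvable_psl (h : 4 ≤ Fintype.card F) : ¬ Group.IsSolvable PSL(2, F) := by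
  intro hs
  have := psl_isSimpleGroup h
  have hc := IsSimpleGroup.comm_iff_isSolvable.2 hs
  apply not_isCyclic_psl h
  letI : CommGroup PSL(2, F) := { (inferInstance : Group PSL(2, F)) with mul_comm := hc }
  exact IsSimpleGroup.isCyclic

/-- A non-solvable proper subgroup excludes minimal simplicity. -/
theorem not_minimal_of_embedding {X : Type*} [Group X] (hns : ¬ Group.IsSolvable X)
    (φ : X →* PSL(2, F)) (hφ : Function.Injective φ) (hlt : Nat.card X < Nat.card PSL(2, F)) :
    ¬ Cfsg.IsMinimalSimple PSL(2, F) := by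
  rintro ⟨-, -, hall⟩
  apply hns
  have hne : φ.range ≠ ⊤ := fun h => hlt.ne (by
    rw [Nat.card_congr (MonoidHom.ofInjective hφ).toEquiv, h, Subgroup.card_top])
  have := hall _ hne
  exact solvable_of_solvable_injective (f := (MonoidHom.ofInjective hφ).toMonoidHom)
    (MulEquiv.injective _)

theorem not_minimal_of_subfield (p : ℕ) [Fact p.Prime] [CharP F p] {a b : ℕ} (ha : a ≠ 0)
    (h4 : 4 ≤ p ^ a) (hb : 2 ≤ b) (hq : Fintype.card F = p ^ (a * b)) :
    ¬ Cfsg.IsMinimalSimple PSL(2, F) := by
  let K := GaloisField p a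
  have : Fintype K := Fintype.ofFinite K
  have hK : Fintype.card K = p ^ a := by
    rw [← Nat.card_eq_fintype_card]; exact GaloisField.card p a ha
  have hq' : Fintype.card F = Fintype.card K ^ b := by rw [hK, hq, pow_mul]
  obtain ⟨ι⟩ := FieldExt.exists_ringHom_of_card_pow (F := K) (K := F) (by omega : b ≠ 0) hq'
  refine not_minimal_of_embedding (not_isSolvable_psl (hK ▸ h4)) (pslMap ι) (pslMap_injective ι) ?_
  have h1 : Nat.card PSL(2, K) ≤ p ^ a * ((p ^ a) ^ 2 - 1) := by
    rw [card_PSL, hK]; exact Nat.div_le_self _ _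
  have h2 := gcd_mul_card_PSL (F := F)
  rw [hq, pow_mul] at h2
  set r := p ^ a
  have hr2 : r ^ 2 ≤ r ^ b := Nat.pow_le_pow_right (by omega) hb
  have hd : Nat.gcd 2 ((r ^ b) - 1) ≤ 2 := Nat.le_of_dvd two_pos (Nat.gcd_dvd_left _ _)
  set d := Nat.gcd 2 ((r ^ b) - 1)
  have hr1 : 0 < r ^ 2 - 1 := by
    have : 16 ≤ r ^ 2 := by nlinarith
    omega
  have h3 : 4 * (r * (r ^ 2 - 1)) ≤ r ^ b * ((r ^ b) ^ 2 - 1) := by
    rw [← mul_assoc]
    refine Nat.mul_le_mul (le_trans (by nlinarith) hr2) (Nat.sub_le_sub_right ?_ 1)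
    exact Nat.pow_le_pow_left (le_trans (Nat.le_self_pow two_ne_zero r) hr2) 2
  have h5 : d * Nat.card PSL(2, F) ≤ 2 * Nat.card PSL(2, F) := Nat.mul_le_mul_right _ hd
  have h6 : 0 < r * (r ^ 2 - 1) := Nat.mul_pos (by omega) hr1
  omega

theorem not_minimal_of_five (h5 : 5 ∣ Fintype.card F * (Fintype.card F ^ 2 - 1))
    (hq : Fintype.card F ≠ 4 ∧ Fintype.card F ≠ 5) (h4 : 4 ≤ Fintype.card F) :
    ¬ Cfsg.IsMinimalSimple PSL(2, F) := by
  haveI : Fact (Nat.Prime 5) := ⟨by norm_num⟩
  rw [← gcd_mul_card_PSL] at h5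
  have h5' : 5 ∣ Nat.card PSL(2, F) :=
    Nat.Coprime.dvd_of_dvd_mul_left
      (Nat.Coprime.coprime_dvd_right (Nat.gcd_dvd_left _ _) (by decide)) h5
  obtain ⟨x, hx⟩ := exists_prime_orderOf_dvd_card' 5 h5'
  obtain ⟨τ, hτ⟩ := exists_golden hx
  obtain ⟨φ, hφ⟩ := exists_altFive_of_golden hτ
  refine not_minimal_of_embedding (fun hs => ?_) φ hφ ?_
  · have := alternatingGroup.isSimpleGroup_five
    have hc := IsSimpleGroup.comm_iff_isSolvable.2 hs
    obtain ⟨a, b, hab⟩ : ∃ a b : alternatingGroup (Fin 5), a * b ≠ b * a := by decide +kernel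
    exact hab (hc a b)
  · rw [nat_card_alternatingGroup, Nat.card_fin]
    norm_num [Nat.factorial]
    have h := gcd_mul_card_PSL (F := F)
    obtain ⟨n, hn⟩ : ∃ n, Fintype.card F = n + 6 := ⟨Fintype.card F - 6, by omega⟩
    rw [hn] at h
    have hd : Nat.gcd 2 (n + 6 - 1) ≤ 2 := Nat.le_of_dvd two_pos (Nat.gcd_dvd_left _ _)
    have h1 : 6 * 35 ≤ (n + 6) * ((n + 6) ^ 2 - 1) :=
      Nat.mul_le_mul (by omega) (Nat.sub_le_sub_right (show 36 ≤ (n + 6) ^ 2 by nlinarith) 1)
    have := Nat.mul_le_mul_right (Nat.card PSL(2, F)) hd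
    omega

/-- The criterion for minimal simplicity. -/
theorem isMinimalSimple_iff :
    Cfsg.IsMinimalSimple PSL(2, F) ↔
      ((∃ r : ℕ, r.Prime ∧ Fintype.card F = 2 ^ r) ∨
        (∃ r : ℕ, r.Prime ∧ r ≠ 2 ∧ Fintype.card F = 3 ^ r) ∨
        ((Fintype.card F).Prime ∧ 5 < Fintype.card F ∧
          (Fintype.card F % 5 = 2 ∨ Fintype.card F % 5 = 3)) ∨ Fintype.card F = 5) := by
  obtain ⟨p, hc⟩ := CharP.exists F
  have := Fact.mk (CharP.char_is_prime F p)
  obtain ⟨⟨n, hn0⟩, hp, hn⟩ := FiniteField.card F p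
  change Fintype.card F = p ^ n at hn
  constructor
  · intro h
    have h4 : 4 ≤ Fintype.card F := by
      by_contra h4
      obtain ⟨hs, hnc, -⟩ := h
      refine hnc ⟨⟨IsSimpleGroup.comm_iff_isSolvable.2 (isSolvable_psl_small (F := F) (by omega))⟩⟩
    have hfive : 5 ∣ Fintype.card F * (Fintype.card F ^ 2 - 1) →
        Fintype.card F = 4 ∨ Fintype.card F = 5 := fun h5 => by
      by_contra hne
      exact not_minimal_of_five h5 (not_or.1 hne) h4 h
    have hsub : ∀ a b, n = a * b → 4 ≤ p ^ a → b ≤ 1 := fun a b hab ha => by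
      by_contra hb
      have ha0 : a ≠ 0 := by rintro rfl; simp at ha
      exact not_minimal_of_subfield (F := F) p ha0 ha (by omega) (hab ▸ hn) h
    have hp2 := hp.two_le
    by_cases hp5 : 5 ≤ p
    · have hn1 : n = 1 := by
        have := hsub 1 n (one_mul n).symm (by rw [pow_one]; omega)
        omega
      rw [hn1, pow_one] at hn
      by_cases h5 : Fintype.card F = 5
      · exact Or.inr (Or.inr (Or.inr h5))
      refine Or.inr (Or.inr (Or.inl ⟨hn ▸ hp, by omega, ?_⟩))
      by_contra hmod
      have hmod5 : Fintype.card F % 5 ≠ 0 := by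
        intro h0
        rw [hn] at h0 h5
        exact h5 ((Nat.prime_dvd_prime_iff_eq (by norm_num) hp).1 (Nat.dvd_of_mod_eq_zero h0)).symm
      have hsq : Fintype.card F ^ 2 % 5 = 1 := by
        rw [Nat.pow_mod]
        rcases (show Fintype.card F % 5 = 1 ∨ Fintype.card F % 5 = 4 by omega) with e | e <;> rw [e]
      rcases hfive (Dvd.dvd.mul_left (by omega) _) with e | e <;> omega
    · obtain rfl | rfl : p = 2 ∨ p = 3 := by
        have : p ≠ 4 := by rintro rfl; norm_num at hp
        omega
      · left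
        refine ⟨n, ?_, hn⟩
        have hn2 : 2 ≤ n := by
          by_contra hc'
          have : n = 1 := by omega
          rw [this] at hn
          omega
        rw [Nat.prime_def]
        refine ⟨hn2, fun a ha => ?_⟩
        obtain ⟨b, hb⟩ := ha
        by_cases ha1 : 2 ≤ a
        · have h4a : 4 ≤ 2 ^ a := (show 4 = 2 ^ 2 by rfl) ▸ Nat.pow_le_pow_right (by norm_num) ha1
          have := hsub a b hb h4a
          rcases (show b = 0 ∨ b = 1 by omega) with rfl | rfl <;> simp at hb <;> omega
        · rcases (show a = 0 ∨ a = 1 by omega) with rfl | rfl <;> simp at hb <;> omega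
      · right; left
        have hn2 : n % 2 = 1 := by
          by_contra hev
          obtain ⟨j, rfl⟩ : ∃ j, n = 2 * j := ⟨n / 2, by omega⟩
          have hsq : Fintype.card F ^ 2 % 5 = 1 := by
            rw [hn, ← pow_mul, show 2 * j * 2 = 4 * j by ring, pow_mul, Nat.pow_mod]
            simp
          have hj : 9 ≤ Fintype.card F := by
            rw [hn]
            exact (show 9 = 3 ^ 2 by rfl) ▸ Nat.pow_le_pow_right (by norm_num) (by omega)
          rcases hfive (Dvd.dvd.mul_left (by omega) _) with e | e <;> omega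
        have hn3 : 2 ≤ n := by
          by_contra hc'
          have : n = 1 := by omega
          rw [this] at hn
          omega
        refine ⟨n, ?_, by omega, hn⟩
        rw [Nat.prime_def]
        refine ⟨hn3, fun a ha => ?_⟩
        obtain ⟨b, hb⟩ := ha
        by_cases ha1 : 2 ≤ a
        · have h4a : 4 ≤ 3 ^ a :=
            le_trans (by norm_num) (Nat.pow_le_pow_right (by norm_num : 0 < 3) ha1)
          have := hsub a b hb h4a
          rcases (show b = 0 ∨ b = 1 by omega) with rfl | rfl <;> simp at hb <;> omega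
        · rcases (show a = 0 ∨ a = 1 by omega) with rfl | rfl <;> simp at hb <;> omega
  · intro h
    have h4 : 4 ≤ Fintype.card F := by
      rcases h with ⟨r, hr, e⟩ | ⟨r, hr, -, e⟩ | ⟨-, e, -⟩ | e
      · rw [e]; exact (show 4 = 2 ^ 2 by rfl) ▸ Nat.pow_le_pow_right (by norm_num) hr.two_le
      · rw [e]; exact le_trans (by norm_num) (Nat.pow_le_pow_right (by norm_num : 0 < 3) hr.two_le)
      all_goals omega
    have hsimple := psl_isSimpleGroup (F := F) h4
    refine ⟨hsimple, fun hc' => not_isSolvable_psl h4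
      ((IsSimpleGroup.comm_iff_isSolvable (G := PSL(2, F))).1 hc'.is_comm.comm), fun H hH => ?_⟩
    have hlt : Nat.card H < Nat.card PSL(2, F) := lt_of_le_of_ne (Subgroup.card_le_card_group H)
      fun h => hH (Subgroup.eq_top_of_card_eq H h)
    rcases dickson p H with ⟨k, -, ⟨hcy, -⟩ | ⟨⟨e⟩⟩⟩ | ⟨P, hP⟩ | ⟨⟨e⟩⟩ | ⟨⟨e⟩⟩ | ⟨⟨e⟩⟩ |
      ⟨K, _, _, m, hm, hK⟩
    · exact inferInstance
    · have : NeZero k := ⟨fun h0 => by
        subst h0
        have : Finite (DihedralGroup 0) := Finite.of_equiv _ e.toEquiv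
        exact not_finite (DihedralGroup 0)⟩
      have := isSolvable_dihedral k
      exact solvable_of_solvable_injective (f := e.toMonoidHom) e.injective
    · have := isSolvable_normalizer_sylow p P
      exact solvable_of_solvable_injective (Subgroup.inclusion_injective hP)
    · refine CharInt.isSolvable_of_card_eq (a := 2) (b := 1) Nat.prime_two Nat.prime_three ?_
      rw [Nat.card_congr e.toEquiv, nat_card_alternatingGroup, Nat.card_fin]; rfl
    · refine CharInt.isSolvable_of_card_eq (a := 3) (b := 1) Nat.prime_two Nat.prime_three ?_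
      rw [Nat.card_congr e.toEquiv, Nat.card_perm, Nat.card_fin]; rfl
    · exfalso
      rw [Nat.card_congr e.toEquiv, nat_card_alternatingGroup, Nat.card_fin] at hlt
      have hd := H.card_subgroup_dvd_card
      rw [Nat.card_congr e.toEquiv, nat_card_alternatingGroup, Nat.card_fin] at hd
      have h5 : 5 ∣ Fintype.card F * (Fintype.card F ^ 2 - 1) :=
        ((show 5 ∣ Nat.factorial 5 / 2 by decide).trans hd).trans (Dvd.intro_left _ gcd_mul_card_PSL)
      norm_num [Nat.factorial] at hlt
      rw [card_PSL] at hlt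
      rcases (Nat.prime_five.dvd_mul).1 h5 with h5 | h5
      · rcases h with ⟨r, hr, e'⟩ | ⟨r, hr, -, e'⟩ | ⟨hq, hq5, hmod⟩ | e'
        · rw [e'] at h5; exact absurd (Nat.prime_five.dvd_of_dvd_pow h5) (by norm_num)
        · rw [e'] at h5; exact absurd (Nat.prime_five.dvd_of_dvd_pow h5) (by norm_num)
        · omega
        · rw [e'] at hlt; norm_num at hlt
      · have hsq : Fintype.card F ^ 2 % 5 = 1 := by
          have : 1 ≤ Fintype.card F ^ 2 := Nat.one_le_pow _ _ (by omega)
          omega
        rcases h with ⟨r, hr, e'⟩ | ⟨r, hr, hr2, e'⟩ | ⟨hq, hq5, hmod⟩ | e'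
        · rcases hr.eq_two_or_odd with rfl | hodd
          · rw [e'] at hlt; norm_num at hlt
          · rw [e', ← pow_mul, show r * 2 = 4 * (r / 2) + 2 by omega, pow_add, pow_mul,
              Nat.mul_mod, Nat.pow_mod] at hsq
            norm_num at hsq
        · rw [e', ← pow_mul, show r * 2 = 4 * (r / 2) + 2 by
            have := hr.eq_two_or_odd; omega, pow_add, pow_mul, Nat.mul_mod, Nat.pow_mod] at hsq
          norm_num at hsq
        · rw [Nat.pow_mod] at hsq
          rcases hmod with e' | e' <;> rw [e'] at hsq <;> norm_num at hsq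
        · rw [e'] at hsq; norm_num at hsq
    · have hm2 : 2 ≤ m := by
        by_contra hm2
        rcases (show m = 0 ∨ m = 1 by omega) with rfl | rfl
        · rw [pow_zero] at hm; omega
        · rw [pow_one] at hm
          rcases hK with ⟨⟨e⟩⟩ | ⟨⟨e⟩⟩
          · rw [Nat.card_congr e.toEquiv, card_PSL, card_PSL, hm] at hlt; exact lt_irrefl _ hlt
          · rw [Nat.card_congr e.toEquiv, GL.card_PGL, card_SL, card_PSL, hm] at hlt
            exact absurd (Nat.div_le_self _ _) (not_le.2 hlt)
      have hr3 : Fintype.card K ≤ 3 := by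
        obtain ⟨p', hc'⟩ := CharP.exists K
        have := Fact.mk (CharP.char_is_prime K p')
        obtain ⟨⟨b, hb0⟩, hp', hb⟩ := FiniteField.card K p'
        change Fintype.card K = p' ^ b at hb
        rw [hb, ← pow_mul] at hm
        have key : ∀ t e, t.Prime → e.Prime → Fintype.card F = t ^ e → Fintype.card K = t := by
          intro t e ht he hte
          rw [hte] at hm
          obtain ⟨h1, h2⟩ := Nat.Prime.pow_inj' hp' ht
            (Nat.mul_ne_zero (by omega) (by omega)) he.ne_zero hm
          have hdvd : b ∣ e := Dvd.intro m h2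
          rcases (Nat.dvd_prime he).1 hdvd with hb1 | hb1
          · rw [hb, hb1, pow_one, h1]
          · rw [hb1] at h2
            have := he.two_le
            have : e * m = e * 1 := by rw [h2, mul_one]
            have := Nat.eq_of_mul_eq_mul_left he.pos this
            omega
        rcases h with ⟨r, hr, e'⟩ | ⟨r, hr, -, e'⟩ | ⟨hq, -, -⟩ | e'
        · rw [key 2 r Nat.prime_two hr e']; norm_num
        · rw [key 3 r Nat.prime_three hr e']
        · rw [← hm] at hq
          have := Nat.Prime.eq_one_of_pow hq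
          nlinarith
        · rw [e'] at hm
          have hq : (p' ^ (b * m)).Prime := hm ▸ Nat.prime_five
          have := Nat.Prime.eq_one_of_pow hq
          nlinarith
      rcases hK with ⟨⟨e⟩⟩ | ⟨⟨e⟩⟩
      · have := isSolvable_psl_small (F := K) hr3
        exact solvable_of_solvable_injective (f := e.toMonoidHom) e.injective
      · have := isSolvable_pgl_small (F := K) hr3
        exact solvable_of_solvable_injective (f := e.toMonoidHom) e.injective

end Cfsg.Agent.PSL2
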