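import Cfsg.Agent.Lib.PSL2.Classes

/-!
Sylow subgroups of `SL(2, F)` and `PSL(2, F)`.

* `p`: `unip F` and its image (elementary abelian of order `q`);
* odd `r ≠ p`: cyclic, in a torus;
* `2`, `q` odd: `twoGroup a w` is a Sylow subgroup, generalised quaternion in `SL`, dihedral in `PSL`.
-/

set_option autoImplicit false

open Matrix
open scoped MatrixGroups

namespace Cfsg.Agent.PSL2

section General

variable {G : Type*} [Group G] [Finite G] {r : ℕ} [Fact r.Prime]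

/-- A cyclic subgroup of index prime to `r` makes all Sylow `r`-subgroups cyclic. -/
theorem isCyclic_sylow_of_cyclic {C : Subgroup G} [IsCyclic C] (h : ¬ r ∣ C.index) (R : Sylow r G) :
    IsCyclic R := by
  obtain ⟨P⟩ : Nonempty (Sylow r C) := inferInstance
  have hP : IsPGroup r ((P : Subgroup C).map C.subtype) := P.2.map _
  have hi : ¬ r ∣ ((P : Subgroup C).map C.subtype).index := by
    rw [Subgroup.index_map_subtype, (Fact.out : r.Prime).dvd_mul]
    exact not_or.2 ⟨P.not_dvd_index, h⟩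
  have : IsCyclic ((P : Subgroup C).map C.subtype) :=
    isCyclic_of_surjective _
      (Subgroup.equivMapOfInjective (P : Subgroup C) C.subtype C.subtype_injective).surjective
  have : IsCyclic (hP.toSylow hi) := this
  exact isCyclic_of_surjective _ (Sylow.equiv (hP.toSylow hi) R).surjective

/-- The index of a subgroup of known order. -/
theorem index_eq_of_card_mul {H : Subgroup G} {m : ℕ} (h : Nat.card G = Nat.card H * m) :
    H.index = m :=
  Nat.eq_of_mul_eq_mul_left Nat.card_pos (H.card_mul_index.trans h)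

end General

variable {F : Type*} [Field F]

section PPart

theorem isPGroup_unip (p : ℕ) [Fact p.Prime] [CharP F p] : IsPGroup p (unip F) := by
  rintro ⟨g, hg⟩
  obtain ⟨t, rfl⟩ := mem_unip.1 hg
  exact ⟨1, Subtype.ext (by simp [uu_pow])⟩

theorem unip_pow_eq_one (p : ℕ) [Fact p.Prime] [CharP F p] {g : SL(2, F)} (hg : g ∈ unip F) :
    g ^ p = 1 := by
  obtain ⟨t, rfl⟩ := mem_unip.1 hg
  simp [uu_pow]

variable [Fintype F]

theorem unip_index : (unip F).index = Fintype.card F ^ 2 - 1 :=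
  index_eq_of_card_mul (by rw [card_SL, card_unip'])

theorem p_dvd_q (p : ℕ) [Fact p.Prime] [CharP F p] : p ∣ Fintype.card F := by
  obtain ⟨n, -, hn⟩ := FiniteField.card F p
  rw [hn]; exact dvd_pow_self p n.ne_zero

theorem not_dvd_unip_index (p : ℕ) [hp : Fact p.Prime] [CharP F p] : ¬ p ∣ (unip F).index := by
  rw [unip_index]
  intro h
  have hq := one_lt_q (F := F)
  have h1 : p ∣ Fintype.card F ^ 2 := dvd_pow (p_dvd_q p) two_ne_zero
  have hle : 1 ≤ Fintype.card F ^ 2 := Nat.one_le_pow _ _ (by omega)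
  have := Nat.dvd_sub h1 h
  rw [Nat.sub_sub_self hle] at this
  exact hp.out.not_dvd_one this

/-- `unip F` as a Sylow subgroup. -/
noncomputable def unipSylow (F : Type*) [Field F] [Fintype F] (p : ℕ) [Fact p.Prime] [CharP F p] :
    Sylow p SL(2, F) :=
  (isPGroup_unip p).toSylow (not_dvd_unip_index p)

@[simp] theorem coe_unipSylow (p : ℕ) [Fact p.Prime] [CharP F p] :
    (unipSylow F p : Subgroup SL(2, F)) = unip F := rfl

/-- The image of `unip F` as a Sylow subgroup of `PSL`. -/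
noncomputable def unipSylowPSL (F : Type*) [Field F] [Fintype F] (p : ℕ) [Fact p.Prime]
    [CharP F p] : Sylow p PSL(2, F) :=
  (unipSylow F p).mapSurjective mk_surjective

@[simp] theorem coe_unipSylowPSL (p : ℕ) [Fact p.Prime] [CharP F p] :
    (unipSylowPSL F p : Subgroup PSL(2, F)) = (unip F).map mk := rfl

omit [Fintype F] in
theorem mk_injOn_unip {g h : SL(2, F)} (hg : g ∈ unip F) (hh : h ∈ unip F) (e : mk g = mk h) :
    g = h := by
  rcases mk_eq_mk.1 e with e | e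
  · exact e
  · obtain ⟨s, rfl⟩ := mem_unip.1 hg
    obtain ⟨t, rfl⟩ := mem_unip.1 hh
    have h00 := congrArg (fun m : SL(2, F) => m 0 0) e
    simp at h00
    have h2 : (2 : F) = 0 := by linear_combination h00
    rw [e, neg_eq_neg_one_mul, neg_one_eq_one_iff.2 h2, one_mul]

theorem card_map_unip : Nat.card ((unip F).map mk) = Fintype.card F := by
  rw [← card_unip' (F := F)]
  refine (Nat.card_eq_of_bijective (mk.subgroupMap (unip F))
    ⟨fun a b e => Subtype.ext (mk_injOn_unip a.2 b.2 (congrArg Subtype.val e)),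
      MonoidHom.subgroupMap_surjective _ _⟩).symm

end PPart

section OddPart

variable [Fintype F]

theorem exists_torus_not_dvd_index (p r : ℕ) [Fact p.Prime] [CharP F p] [hr : Fact r.Prime]
    (hr2 : r ≠ 2) (hrp : r ≠ p) :
    ∃ C : Subgroup SL(2, F), IsCyclic C ∧ ¬ r ∣ C.index := by
  have hq := one_lt_q (F := F)
  have hrq : ¬ r ∣ Fintype.card F := by
    obtain ⟨n, -, hn⟩ := FiniteField.card F p
    rw [hn]
    exact fun h => hrp ((Nat.prime_dvd_prime_iff_eq hr.out Fact.out).1 (hr.out.dvd_of_dvd_pow h))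
  by_cases hd : r ∣ Fintype.card F - 1
  · refine ⟨torus F, inferInstance, ?_⟩
    rw [index_eq_of_card_mul (m := Fintype.card F * (Fintype.card F + 1))
      (by rw [card_SL', card_torus']; ring), hr.out.dvd_mul]
    rintro (h | h)
    · exact hrq h
    · have := Nat.dvd_sub h hd
      rw [show Fintype.card F + 1 - (Fintype.card F - 1) = 2 by omega] at this
      exact hr2 ((Nat.prime_dvd_prime_iff_eq hr.out Nat.prime_two).1 this)
  · obtain ⟨g, hg⟩ := exists_elliptic F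
    refine ⟨cent g, hg.isCyclic_cent, ?_⟩
    rw [index_eq_of_card_mul (m := Fintype.card F * (Fintype.card F - 1))
      (by rw [card_SL', hg.card_cent]; ring), hr.out.dvd_mul]
    exact not_or.2 ⟨hrq, hd⟩

theorem isCyclic_sylow_odd (p r : ℕ) [Fact p.Prime] [CharP F p] [hr : Fact r.Prime] (hr2 : r ≠ 2)
    (hrp : r ≠ p) (R : Sylow r SL(2, F)) : IsCyclic R := by
  obtain ⟨C, hC, h⟩ := exists_torus_not_dvd_index (F := F) p r hr2 hrp
  exact isCyclic_sylow_of_cyclic h R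

theorem isCyclic_sylow_odd_psl (p r : ℕ) [Fact p.Prime] [CharP F p] [hr : Fact r.Prime]
    (hr2 : r ≠ 2) (hrp : r ≠ p) (R : Sylow r PSL(2, F)) : IsCyclic R := by
  obtain ⟨R', rfl⟩ := Sylow.mapSurjective_surjective mk_surjective r R
  have := isCyclic_sylow_odd p r hr2 hrp R'
  exact isCyclic_of_surjective _ (MonoidHom.subgroupMap_surjective mk (R' : Subgroup SL(2, F)))

end OddPart

section TwoPart

/-- For `w` inverting `⟨a⟩` with `w² ∈ ⟨a⟩`: the union `⟨a⟩ ∪ ⟨a⟩ w⁻¹`. -/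
def twoGroup {G : Type*} [Group G] (a w : G) (hw : w * a * w⁻¹ = a⁻¹)
    (hw2 : w * w ∈ Subgroup.zpowers a) : Subgroup G where
  carrier := {x | x ∈ Subgroup.zpowers a ∨ x * w ∈ Subgroup.zpowers a}
  one_mem' := Or.inl (one_mem _)
  mul_mem' {x y} hx hy := by
    have conj : ∀ z ∈ Subgroup.zpowers a, w⁻¹ * z * w ∈ Subgroup.zpowers a := by
      rintro _ ⟨i, rfl⟩
      refine ⟨-i, ?_⟩
      have e : w⁻¹ * a * w⁻¹⁻¹ = a⁻¹ := by
        have h : a = w * a⁻¹ * w⁻¹ := by rw [← conj_inv, hw, inv_inv]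
        conv_lhs => rw [h]
        group
      show a ^ (-i) = w⁻¹ * a ^ i * w
      rw [show w⁻¹ * a ^ i * w = (w⁻¹ * a * w⁻¹⁻¹) ^ i by rw [conj_zpow, inv_inv], e, _root_.inv_zpow,
        _root_.zpow_neg]
    rcases hx with hx | hx <;> rcases hy with hy | hy
    · exact Or.inl (mul_mem hx hy)
    · exact Or.inr (by rw [mul_assoc]; exact mul_mem hx hy)
    · refine Or.inr ?_
      rw [show x * y * w = (x * w) * (w⁻¹ * y * w) by group]
      exact mul_mem hx (conj _ hy)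
    · refine Or.inl ?_
      rw [show x * y = (x * w) * (w⁻¹ * (y * w) * w) * (w * w)⁻¹ by group]
      exact mul_mem (mul_mem hx (conj _ hy)) (inv_mem hw2)
  inv_mem' {x} hx := by
    rcases hx with hx | hx
    · exact Or.inl (inv_mem hx)
    · refine Or.inr ?_
      obtain ⟨i, hi⟩ := hx
      rw [show x⁻¹ * w = (w * (x * w)⁻¹ * w⁻¹) * (w * w) by group, ← hi]
      refine mul_mem ?_ hw2
      simp only
      rw [← _root_.zpow_neg, ← conj_zpow, hw]
      exact zpow_mem (inv_mem (Subgroup.mem_zpowers a)) _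

theorem mem_twoGroup {G : Type*} [Group G] {a w : G} {hw : w * a * w⁻¹ = a⁻¹}
    {hw2 : w * w ∈ Subgroup.zpowers a} {x : G} :
    x ∈ twoGroup a w hw hw2 ↔ x ∈ Subgroup.zpowers a ∨ x * w ∈ Subgroup.zpowers a := Iff.rfl

theorem card_twoGroup {G : Type*} [Group G] {a w : G} (hw : w * a * w⁻¹ = a⁻¹)
    (hw2 : w * w ∈ Subgroup.zpowers a) (hwa : w ∉ Subgroup.zpowers a) :
    Nat.card (twoGroup a w hw hw2) = 2 * orderOf a := by
  have hle : Subgroup.zpowers a ≤ twoGroup a w hw hw2 := fun x hx => Or.inl hx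
  have hwK : w ∈ twoGroup a w hw hw2 := Or.inr hw2
  have hidx : ((Subgroup.zpowers a).subgroupOf (twoGroup a w hw hw2)).index = 2 := by
    rw [Subgroup.index_eq_two_iff]
    refine ⟨⟨w, hwK⟩, fun b => ?_⟩
    simp only [Subgroup.mem_subgroupOf, Subgroup.coe_mul]
    by_cases hb : (b : G) ∈ Subgroup.zpowers a
    · exact Or.inr ⟨hb, fun h => hwa ((Subgroup.mul_mem_cancel_left _ hb).1 h)⟩
    · exact Or.inl ⟨b.2.resolve_left hb, hb⟩
  have h := ((Subgroup.zpowers a).subgroupOf (twoGroup a w hw hw2)).index_mul_card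
  rw [hidx, Nat.card_congr (Subgroup.subgroupOfEquivOfLe hle).toEquiv, Nat.card_zpowers] at h
  exact h.symm

theorem orderOf_mk_two_pow (h2 : (2 : F) ≠ 0) {a : SL(2, F)} {m : ℕ} (hm : 1 ≤ m)
    (ha : orderOf a = 2 ^ m) :
    a ^ 2 ^ (m - 1) = -1 ∧ orderOf (mk a) = 2 ^ (m - 1) := by
  obtain ⟨k, rfl⟩ : ∃ k, m = k + 1 := ⟨m - 1, by omega⟩
  simp only [Nat.add_sub_cancel]
  have hne : a ^ 2 ^ k ≠ 1 :=
    pow_ne_one_of_lt_orderOf (by positivity) (by rw [ha, pow_succ]; have := Nat.one_le_two_pow (n := k); omega)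
  have hk : a ^ 2 ^ k = -1 := by
    refine (eq_pm_of_mul_self_eq_one h2 ?_).resolve_left hne
    rw [← pow_add, show 2 ^ k + 2 ^ k = orderOf a by rw [ha, pow_succ]; ring, pow_orderOf_eq_one]
  refine ⟨hk, ?_⟩
  rcases k with _ | j
  · rw [pow_zero, orderOf_eq_one_iff, ← mk_neg_one, ← hk, pow_zero, pow_one]
  · refine orderOf_eq_prime_pow ?_ (by rw [← map_pow, hk, mk_neg_one])
    rw [← map_pow]
    intro h
    rcases mk_eq_one.1 h with h | h
    · exact pow_ne_one_of_lt_orderOf (Nat.two_pow_pos j).ne'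
        (by rw [ha, pow_succ, pow_succ]; have := Nat.one_le_two_pow (n := j); omega) h
    · exact hne (by rw [pow_succ, pow_mul, h]; simp)

variable [Fintype F]

/-- A Sylow `2`-subgroup in odd characteristic. -/
theorem exists_sylow_two (h2 : (2 : F) ≠ 0) :
    ∃ (m : ℕ) (g a w : SL(2, F)) (hw : w * a * w⁻¹ = a⁻¹) (hw2 : w * w ∈ Subgroup.zpowers a)
      (S : Sylow 2 SL(2, F)), 2 ≤ m ∧ 2 ^ m ∣ Nat.card (cent g) ∧ ¬ 2 ^ (m + 1) ∣ Nat.card (cent g) ∧
      tr g = 0 ∧ a ∈ cent g ∧ g ∈ Subgroup.zpowers a ∧ orderOf a = 2 ^ m ∧ w ∉ cent g ∧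
      w * g * w⁻¹ = g⁻¹ ∧ w * w = -1 ∧ (S : Subgroup SL(2, F)) = twoGroup a w hw hw2 ∧
      Nat.card S = 2 ^ (m + 1) := by
  obtain ⟨g, hg⟩ : ∃ g : SL(2, F), tr g = 0 := ⟨ell 0, by simp⟩
  have h4 := tr_sq_ne_four_of_tr_eq_zero h2 hg
  have hgnc := not_mem_center_of_tr h4
  obtain ⟨z, hz⟩ := (isCyclic_cent h4).exists_generator
  set n := Nat.card (cent g) with hn
  have hnpos : 0 < n := Nat.card_pos
  obtain ⟨m, u, hu, hnu⟩ := Nat.exists_eq_two_pow_mul_odd hnpos.ne'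
  have hq := one_lt_q (F := F)
  obtain ⟨k, hk⟩ := odd_card_iff.2 h2
  have hcases := card_cent_of_tr_zero h2 hg
  have h4n : 4 ∣ n := by
    rcases (show Fintype.card F % 4 = 1 ∨ Fintype.card F % 4 = 3 by omega) with hm | hm
    · rw [hn, hcases.1 hm]; omega
    · rw [hn, hcases.2 hm]; omega
  have hm2 : 2 ≤ m := by
    rcases m with _ | _ | m
    · rw [pow_zero, one_mul] at hnu; obtain ⟨i, hi⟩ := hu; omega
    · rw [pow_one] at hnu; obtain ⟨i, hi⟩ := hu; omega
    · omega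
  have hzo : orderOf (z : SL(2, F)) = n := by
    rw [Subgroup.orderOf_coe, orderOf_eq_card_of_forall_mem_zpowers hz]
  set a := (z : SL(2, F)) ^ u with ha_def
  have ha : orderOf a = 2 ^ m := by
    rw [ha_def, orderOf_pow' _ (by obtain ⟨i, hi⟩ := hu; omega), hzo, hnu,
      Nat.gcd_mul_left_left, Nat.mul_div_cancel _ (by obtain ⟨i, hi⟩ := hu; omega)]
  have hac : a ∈ cent g := pow_mem z.2 u
  obtain ⟨hneg, -⟩ := orderOf_mk_two_pow h2 (by omega) ha
  -- `g` has order four, so lies in `⟨a⟩`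
  have hga : g ∈ Subgroup.zpowers a := by
    obtain ⟨i, hi⟩ := Subgroup.mem_zpowers_iff.1 (hz ⟨g, mem_cent.2 (Commute.refl g)⟩)
    have hi' : (z : SL(2, F)) ^ i = g := by rw [← SubgroupClass.coe_zpow, hi]
    have hg4 : g ^ 4 = 1 := by
      rw [show (4 : ℕ) = 2 * 2 from rfl, pow_mul, pow_two g, sq_eq_neg_one_of_tr_eq_zero hg]; simp
    have hdvd : (n : ℤ) ∣ i * 4 := by
      rw [← hzo]
      exact orderOf_dvd_iff_zpow_eq_one.2 (by rw [_root_.zpow_mul, hi']; exact_mod_cast hg4)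
    have hui : (u : ℤ) ∣ i := by
      have hcop : Int.gcd (u : ℤ) 4 = 1 := by
        rw [show (4 : ℤ) = ((2 ^ 2 : ℕ) : ℤ) by norm_num, Int.gcd_natCast_natCast]
        exact Nat.Coprime.pow_right 2 hu.coprime_two_right
      exact Int.dvd_of_dvd_mul_left_of_gcd_one ((Dvd.intro_left _ (by rw [hnu]; push_cast; rfl)).trans hdvd) hcop
    obtain ⟨j, rfl⟩ := hui
    exact ⟨j, by show a ^ j = g; rw [← hi', ha_def, _root_.zpow_mul, zpow_natCast]⟩
  obtain ⟨w, hwg⟩ := exists_inverting h4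
  have hwc := not_mem_cent_of_inverting h4 hwg
  have hw : w * a * w⁻¹ = a⁻¹ := conj_eq_inv hgnc (mem_cent.1 hac) hwg
  have hww := sq_eq_neg_one_of_inverting h4 hwg
  have hw2 : w * w ∈ Subgroup.zpowers a := by
    rw [hww, ← hneg]; exact pow_mem (Subgroup.mem_zpowers a) _
  have hle : Subgroup.zpowers a ≤ cent g := Subgroup.zpowers_le.2 hac
  have hcard : Nat.card (twoGroup a w hw hw2) = 2 ^ (m + 1) := by
    rw [card_twoGroup hw hw2 (fun h => hwc (hle h)), ha, pow_succ, mul_comm]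
  have hP : IsPGroup 2 (twoGroup a w hw hw2) := IsPGroup.of_card hcard
  have hndvd : ¬ 2 ^ (m + 1) ∣ n := by
    rw [hnu, pow_succ]
    intro h
    have := Nat.dvd_of_mul_dvd_mul_left (Nat.two_pow_pos m) h
    obtain ⟨i, hi⟩ := hu
    omega
  have hidx : ¬ 2 ∣ (twoGroup a w hw hw2).index := by
    obtain ⟨i, hi⟩ := hu
    have hcG := card_SL' (F := F)
    rcases (show Fintype.card F % 4 = 1 ∨ Fintype.card F % 4 = 3 by omega) with hm | hm
    · have hv : ∃ v, Fintype.card F + 1 = 2 * (2 * v + 1) :=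
        ⟨(Fintype.card F + 1) / 4, by omega⟩
      obtain ⟨v, hv⟩ := hv
      rw [← hcases.1 hm, ← hn, hnu, hi, hv] at hcG
      rw [index_eq_of_card_mul (m := Fintype.card F * (2 * i + 1) * (2 * v + 1))
        (by rw [hcG, hcard, pow_succ]; ring)]
      simp [Nat.prime_two.dvd_mul]
      omega
    · have hv : ∃ v, Fintype.card F - 1 = 2 * (2 * v + 1) :=
        ⟨(Fintype.card F - 1) / 4, by omega⟩
      obtain ⟨v, hv⟩ := hv
      rw [← hcases.2 hm, ← hn, hnu, hi, hv] at hcG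
      rw [index_eq_of_card_mul (m := Fintype.card F * (2 * i + 1) * (2 * v + 1))
        (by rw [hcG, hcard, pow_succ]; ring)]
      simp [Nat.prime_two.dvd_mul]
      omega
  exact ⟨m, g, a, w, hw, hw2, hP.toSylow hidx, hm2, Dvd.intro u hnu.symm, hndvd, hg, hac, hga, ha,
    hwc, hwg, hww, rfl, hcard⟩

omit [Fintype F] in
theorem mk_w_notMem (g : SL(2, F)) {a w : SL(2, F)} (hac : a ∈ cent g) (hwc : w ∉ cent g) :
    mk w ∉ Subgroup.zpowers (mk a) := fun ⟨i, hi⟩ => hwc ((mk_mem_map_iff (center_le_cent g)).1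
  (hi ▸ Subgroup.zpow_mem _ (Subgroup.mem_map_of_mem mk hac) i))

/-- Sylow `2`-subgroups of `SL(2, q)`, `q` odd, are generalised quaternion. -/
theorem sylow_two_quaternion (h2 : (2 : F) ≠ 0) (P : Sylow 2 SL(2, F)) :
    ∃ k, 1 ≤ k ∧ Nat.card P = 2 ^ (k + 2) ∧
      Nonempty ((P : Subgroup SL(2, F)) ≃* QuaternionGroup (2 ^ k)) := by
  obtain ⟨m, g, a, w, hw, hw2, S, hm, -, -, -, hac, -, ha, hwc, -, hww, hS, hcard⟩ :=
    exists_sylow_two h2
  obtain ⟨hneg, -⟩ := orderOf_mk_two_pow h2 (by omega) ha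
  obtain ⟨k, rfl⟩ : ∃ k, m = k + 1 := ⟨m - 1, by omega⟩
  simp only [Nat.add_sub_cancel] at hneg
  have haS : a ∈ (S : Subgroup SL(2, F)) := hS ▸ Or.inl (Subgroup.mem_zpowers a)
  have hwS : w ∈ (S : Subgroup SL(2, F)) := hS ▸ Or.inr hw2
  obtain ⟨e⟩ := PGroup.quaternionEquivOfRel (G := (S : Subgroup SL(2, F))) (N := 2 ^ k)
    (a := ⟨a, haS⟩) (b := ⟨w, hwS⟩) (by rw [Subgroup.orderOf_mk, ha, pow_succ, mul_comm])
    (fun ⟨i, hi⟩ => hwc (by
      have h : a ^ i = w := by simpa using congrArg Subtype.val hi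
      exact h ▸ zpow_mem hac i))
    (Subtype.ext (show w ^ 2 = a ^ 2 ^ k by rw [hneg, pow_two, hww]))
    (Subtype.ext hw) (by rw [hcard, pow_succ, pow_succ]; ring)
  exact ⟨k, by omega, by rw [Nat.card_congr (Sylow.equiv P S).toEquiv, hcard],
    ⟨(Sylow.equiv P S).trans e⟩⟩

/-- Sylow `2`-subgroups of `PSL(2, q)`, `q` odd, are dihedral. -/
theorem sylow_two_dihedral (h2 : (2 : F) ≠ 0) (P : Sylow 2 PSL(2, F)) :
    ∃ k, 1 ≤ k ∧ Nat.card P = 2 ^ (k + 1) ∧
      Nonempty ((P : Subgroup PSL(2, F)) ≃* DihedralGroup (2 ^ k)) := by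
  obtain ⟨m, g, a, w, hw, hw2, S, hm, -, -, -, hac, -, ha, hwc, -, hww, hS, hcard⟩ :=
    exists_sylow_two h2
  obtain ⟨hneg, hmka⟩ := orderOf_mk_two_pow h2 (by omega) ha
  set S' : Sylow 2 PSL(2, F) := S.mapSurjective mk_surjective
  have haS : a ∈ (S : Subgroup SL(2, F)) := hS ▸ Or.inl (Subgroup.mem_zpowers a)
  have hwS : w ∈ (S : Subgroup SL(2, F)) := hS ▸ Or.inr hw2
  have hzc : Subgroup.center SL(2, F) ≤ (S : Subgroup SL(2, F)) := by
    intro z hz
    rcases mem_center_iff_pm.1 hz with rfl | rfl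
    · exact one_mem _
    · rw [← hneg]; exact pow_mem haS _
  have hcard' : Nat.card ((S : Subgroup SL(2, F)).map mk) = 2 * 2 ^ (m - 1) := by
    have h := gcd_mul_card_map_mk hzc
    obtain ⟨i, hi⟩ := odd_card_iff.2 h2
    rw [show Nat.gcd 2 (Fintype.card F - 1) = 2 from Nat.gcd_eq_left ⟨i, by omega⟩, hcard,
      show m + 1 = (m - 1) + 1 + 1 by omega, pow_succ, pow_succ] at h
    omega
  obtain ⟨e⟩ := PGroup.dihedralEquivOfRel (G := (S : Subgroup SL(2, F)).map mk) (N := 2 ^ (m - 1))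
    (a := ⟨mk a, Subgroup.mem_map_of_mem mk haS⟩) (b := ⟨mk w, Subgroup.mem_map_of_mem mk hwS⟩)
    (by rw [Subgroup.orderOf_mk, hmka])
    (fun ⟨i, hi⟩ => mk_w_notMem g hac hwc
      ⟨i, by simpa using congrArg Subtype.val hi⟩)
    (Subtype.ext (show mk w ^ 2 = 1 by rw [pow_two, ← map_mul, hww, mk_neg_one]))
    (Subtype.ext (show mk w * mk a * (mk w)⁻¹ = (mk a)⁻¹ by
      rw [← map_inv, ← map_inv, ← map_mul, ← map_mul, hw]))
    hcard'
  refine ⟨m - 1, by omega, ?_, ⟨(Sylow.equiv P S').trans e⟩⟩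
  rw [Nat.card_congr (Sylow.equiv P S').toEquiv]
  show Nat.card ((S : Subgroup SL(2, F)).map mk) = _
  rw [hcard', pow_succ, mul_comm]

/-- The `2`-part of `|PSL(2, q)|` is four when `q ≡ ±3 (mod 8)`. -/
theorem card_sylow_two_psl (hq : Fintype.card F % 8 = 3 ∨ Fintype.card F % 8 = 5)
    (P : Sylow 2 PSL(2, F)) : Nat.card P = 4 := by
  have h2 : (2 : F) ≠ 0 := by rw [← odd_card_iff, Nat.odd_iff]; omega
  obtain ⟨k, hk, hcard, -⟩ := sylow_two_dihedral h2 P
  rcases k with _ | _ | k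
  · omega
  · simpa using hcard
  · exfalso
    have h8 : 8 ∣ Nat.card PSL(2, F) := (Dvd.intro (2 ^ k) (by rw [hcard]; ring)).trans
      (Subgroup.card_subgroup_dvd_card _)
    have h := two_mul_card_PSL h2
    obtain ⟨c, hc⟩ := h8
    rw [hc] at h
    have hd : 16 ∣ Fintype.card F * (Fintype.card F ^ 2 - 1) := ⟨c, by omega⟩
    have hco : Nat.Coprime (2 ^ 4) (Fintype.card F) :=
      Nat.Coprime.pow_left 4 (Nat.coprime_two_left.2 (odd_card_iff.2 h2))
    have h16 := hco.dvd_of_dvd_mul_left hd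
    obtain ⟨j, hj⟩ : ∃ j, Fintype.card F = 8 * j + Fintype.card F % 8 :=
      ⟨Fintype.card F / 8, by omega⟩
    rcases hq with e | e <;> rw [hj, e] at h16 <;> ring_nf at h16 <;> omega

end TwoPart

end Cfsg.Agent.PSL2
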