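import Cfsg.Agent.Lib.PSL2.Klein
import Cfsg.Agent.Lib.PSL2.Sylow
import Cfsg.Agent.Lib.SmallSimple.Low

/-!
The small members: `SL(2,2) ≅ S₃`, `PSL(2,3) ≅ A₄`, `PSL(2,4) ≅ PSL(2,5) ≅ A₅`.
-/

set_option autoImplicit false

open Matrix
open scoped MatrixGroups LinearAlgebra.Projectivization

namespace Cfsg.Agent.PSL2

variable {F : Type*} [Field F] [Fintype F]

theorem card_line : Nat.card (ℙ F (Fin 2 → F)) = Fintype.card F + 1 := by
  rw [Projectivization.card_of_finrank_two (h := by simp), Nat.card_eq_fintype_card]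

/-- The action on the projective line as a map to `Perm (Fin (q + 1))`. -/
theorem exists_perm_embedding :
    ∃ f : PSL(2, F) →* Equiv.Perm (Fin (Fintype.card F + 1)), Function.Injective f := by
  have : Finite (ℙ F (Fin 2 → F)) :=
    Nat.finite_of_card_ne_zero (by rw [card_line]; omega)
  have e : ℙ F (Fin 2 → F) ≃ Fin (Fintype.card F + 1) := card_line (F := F) ▸ Finite.equivFin _
  refine ⟨e.permCongrHom.toMonoidHom.comp
    (MulAction.toPermHom PSL(2, F) (ℙ F (Fin 2 → F))), ?_⟩
  exact e.permCongrHom.injective.comp MulAction.toPerm_injective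

theorem psl_three_iso (hF : Fintype.card F = 3) :
    Nonempty (PSL(2, F) ≃* alternatingGroup (Fin 4)) := by
  have h2 : (2 : F) ≠ 0 := by rw [← odd_card_iff, hF]; decide
  have hc : Nat.card PSL(2, F) = 12 := by
    have := two_mul_card_PSL h2
    rw [hF] at this
    omega
  obtain ⟨g, w, h⟩ := exists_lift_exists (F := F) h2
  obtain ⟨H, -, ⟨e⟩⟩ := exists_alternatingFour h
  have hH : H = ⊤ := by
    refine Subgroup.eq_top_of_card_eq H ?_
    rw [hc, Nat.card_congr e.toEquiv, nat_card_alternatingGroup, Nat.card_fin]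
    rfl
  exact ⟨Subgroup.topEquiv.symm.trans ((MulEquiv.subgroupCongr hH.symm).trans e)⟩

theorem psl_four_five_iso (hF : Fintype.card F = 4 ∨ Fintype.card F = 5) :
    Nonempty (PSL(2, F) ≃* alternatingGroup (Fin 5)) := by
  have h4 : 4 ≤ Fintype.card F := by omega
  have := psl_isSimpleGroup h4
  refine SmallSimple.iso_alternating_five
    (fun hc => GL.PSL_not_comm 2 le_rfl (fun _ => by rwa [Nat.card_eq_fintype_card])
      fun a b => hc.is_comm.comm a b) ?_
  rcases hF with hF | hF
  · have := card_PSL_of_two_eq_zero (F := F) (even_card_iff.1 (by rw [hF]; decide))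
    rw [hF] at this
    simpa using this
  · have := two_mul_card_PSL (F := F) (odd_card_iff.1 (by rw [hF]; decide))
    rw [hF] at this
    omega

theorem sl_two_iso (hF : Fintype.card F = 2) : Nonempty (SL(2, F) ≃* Equiv.Perm (Fin 3)) := by
  have h2 : (2 : F) = 0 := even_card_iff.1 (by rw [hF]; decide)
  have hinj : Function.Injective (mk : SL(2, F) →* PSL(2, F)) := by
    intro a b h
    rcases mk_eq_mk.1 h with h | h
    · exact h
    · rw [h, neg_eq_neg_one_mul, neg_one_eq_one_iff.2 h2, one_mul]
  obtain ⟨f, hf⟩ := exists_perm_embedding (F := F)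
  have e : Fin (Fintype.card F + 1) ≃ Fin 3 := finCongr (by rw [hF])
  let φ : SL(2, F) →* Equiv.Perm (Fin 3) :=
    e.permCongrHom.toMonoidHom.comp (f.comp mk)
  have hφ : Function.Injective φ := e.permCongrHom.injective.comp (hf.comp hinj)
  refine ⟨MulEquiv.ofBijective φ ((Nat.bijective_iff_injective_and_card φ).2 ⟨hφ, ?_⟩)⟩
  rw [card_SL, hF, Nat.card_perm, Nat.card_fin]
  rfl

/-- In `SL(2,3)` there is a normal quaternion subgroup of index three. -/
theorem sl_three_quaternion (hF : Fintype.card F = 3) :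
    ∃ Q : Subgroup SL(2, F), Q.Normal ∧ Q.index = 3 ∧ Nonempty (Q ≃* QuaternionGroup 2) := by
  have h2 : (2 : F) ≠ 0 := by rw [← odd_card_iff, hF]; decide
  obtain ⟨g, w, h⟩ := exists_lift_exists (F := F) h2
  set V := klein _ _ h.isInvPair with hV
  have h12 := twelve_mul_card_klein (F := F) h2
  have h24 := two_mul_card_PSL h2
  rw [hF] at h24
  have hone : Nat.card {W : Subgroup PSL(2, F) // IsKleinFour W} = 1 := by omega
  have hsub := (Nat.card_eq_one_iff_unique.1 hone).1
  have hnV : V.Normal := by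
    refine ⟨fun v hv k => ?_⟩
    have hW : IsKleinFour (V.map (MulAut.conj k).toMonoidHom) := by
      let e := Subgroup.equivMapOfInjective V (MulAut.conj k).toMonoidHom (MulEquiv.injective _)
      exact ⟨by rw [← Nat.card_congr e.toEquiv, hV, card_klein],
        by rw [← Monoid.exponent_eq_of_mulEquiv e, hV, (isKleinFour_klein _).exponent_two]⟩
    have := congrArg Subtype.val
      (Subsingleton.elim (⟨V, isKleinFour_klein _⟩ : {W : Subgroup PSL(2, F) // IsKleinFour W})
        ⟨_, hW⟩)
    simp only at this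
    rw [this]
    exact ⟨v, hv, by simp⟩
  set Q := V.comap mk
  have hle : Subgroup.center SL(2, F) ≤ Q := fun z hz => by
    show mk z ∈ V
    rw [show mk z = 1 from (QuotientGroup.eq_one_iff z).2 hz]; exact one_mem _
  have hQ8 : Nat.card Q = 8 := by
    have hh := gcd_mul_card_map_mk hle
    rw [Subgroup.map_comap_eq_self_of_surjective mk_surjective, hF, hV, card_klein] at hh
    simpa using hh.symm
  have hidx : Q.index = 3 := by
    have := Q.index_mul_card
    rw [card_SL, hF, hQ8] at this
    omega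
  refine ⟨Q, hnV.comap mk, hidx, ?_⟩
  obtain ⟨k, hk, hc, ⟨e⟩⟩ := sylow_two_quaternion h2
    ((IsPGroup.of_card (n := 3) hQ8).toSylow (by rw [hidx]; decide))
  rw [IsPGroup.toSylow_coe, hQ8] at hc
  obtain rfl : k = 1 := by
    have hh : 2 ^ (k + 2) = 2 ^ 3 := hc.symm
    have := Nat.pow_right_injective (le_refl 2) hh
    omega
  exact ⟨e⟩

end Cfsg.Agent.PSL2
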