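import Cfsg.Agent.Lib.PSL2.Centralizer
import Cfsg.Agent.Lib.PGroup.CyclicMaximal

/-!
Maximal tori of `SL(2, F)` (centralisers `cent g` with `(tr g)² ≠ 4`) and of `PSL(2, F)`.

* `cent g` is cyclic of order `q - 1` or `q + 1`, all non-central elements have `(tr)² ≠ 4`;
* its normalizer has order `2 |cent g|`; elements outside square to `-1` and invert it;
* its image in `PSL` is cyclic and the normalizer's image is dihedral.
-/

set_option autoImplicit false

open Matrix
open scoped MatrixGroups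

namespace Cfsg.Agent.PSL2

variable {F : Type*} [Field F]

theorem two_ne_zero_iff_one_ne_neg_one : (2 : F) ≠ 0 ↔ (1 : SL(2, F)) ≠ -1 :=
  ⟨fun h e => neg_one_ne_one h e.symm, fun h e => h (neg_one_eq_one_iff.2 e).symm⟩

theorem ne_inv_of_tr {g : SL(2, F)} (h4 : tr g ^ 2 ≠ 4) : g⁻¹ ≠ g := by
  intro h
  by_cases h2 : (2 : F) = 0
  · have h00 := congrArg (fun m : SL(2, F) => m 0 0) h
    simp only [inv00] at h00
    apply h4
    rw [tr_def, h00]
    linear_combination ((g 0 0) ^ 2 * 2 - 2) * h2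
  · rcases eq_pm_of_mul_self_eq_one h2 (g := g)
      (by nth_rw 1 [← h]; exact inv_mul_cancel g) with rfl | rfl
    · exact not_mem_center_of_tr h4 (mem_center_iff_pm.2 (Or.inl rfl))
    · exact not_mem_center_of_tr h4 (mem_center_iff_pm.2 (Or.inr rfl))

theorem tr_dd_sq_ne_four {a : Fˣ} (ha : (a : F) ^ 2 ≠ 1) : tr (dd a) ^ 2 ≠ 4 := by
  intro h
  apply ha
  rw [tr_dd] at h
  have h0 : ((a : F) ^ 2 - 1) ^ 2 = 0 := by
    field_simp at h
    linear_combination h
  exact sub_eq_zero.1 (pow_eq_zero_iff two_ne_zero |>.1 h0)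

theorem tr_sq_eq_four_uu (k : SL(2, F)) (s : F) :
    tr (k * uu s * k⁻¹) ^ 2 = 4 ∧ tr (-(k * uu s * k⁻¹)) ^ 2 = 4 := by
  rw [tr_neg, tr_conj, tr_uu]; norm_num

section Semisimple

variable [Fintype F]

/-- A maximal torus is cyclic. -/
theorem isCyclic_cent {g : SL(2, F)} (h4 : tr g ^ 2 ≠ 4) : IsCyclic (cent g) := by
  rcases trichotomy (not_mem_center_of_tr h4) with ⟨k, a, ha, rfl⟩ | ⟨k, s, -, rfl | rfl⟩ | ht
  · rw [cent_conj, cent_dd ha]
    exact isCyclic_of_surjective _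
      (Subgroup.equivMapOfInjective (torus F) _ (MulAut.conj k).injective).surjective
  · exact absurd (tr_sq_eq_four_uu k s).1 h4
  · exact absurd (tr_sq_eq_four_uu k s).2 h4
  · exact ht.isCyclic_cent

theorem card_cent_of_tr {g : SL(2, F)} (h4 : tr g ^ 2 ≠ 4) :
    Nat.card (cent g) = Fintype.card F - 1 ∨ Nat.card (cent g) = Fintype.card F + 1 := by
  rcases trichotomy (not_mem_center_of_tr h4) with ⟨k, a, ha, rfl⟩ | ⟨k, s, -, rfl | rfl⟩ | ht
  · left; rw [card_cent_conj, cent_dd ha, card_torus']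
  · exact absurd (tr_sq_eq_four_uu k s).1 h4
  · exact absurd (tr_sq_eq_four_uu k s).2 h4
  · exact Or.inr ht.card_cent

theorem card_cent_ne_parabolic {g : SL(2, F)} (h4 : tr g ^ 2 ≠ 4) :
    Nat.card (cent g) ≠ Nat.gcd 2 (Fintype.card F - 1) * Fintype.card F := by
  have hq := one_lt_q (F := F)
  have hg := Nat.gcd_pos_of_pos_left (Fintype.card F - 1) two_pos
  have hg2 : Nat.gcd 2 (Fintype.card F - 1) ≤ 2 := Nat.le_of_dvd two_pos (Nat.gcd_dvd_left _ _)
  rcases card_cent_of_tr h4 with h | h <;> rw [h] <;>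
    interval_cases Nat.gcd 2 (Fintype.card F - 1) <;> omega

/-- Non-central elements of a maximal torus are semisimple. -/
theorem tr_sq_ne_four_of_commute {g h : SL(2, F)} (h4 : tr g ^ 2 ≠ 4)
    (hh : h ∉ Subgroup.center SL(2, F)) (hc : Commute h g) : tr h ^ 2 ≠ 4 := by
  intro h4'
  apply card_cent_ne_parabolic h4
  rw [← cent_eq_cent (not_mem_center_of_tr h4) hh hc]
  rcases trichotomy hh with ⟨k, a, ha, rfl⟩ | ⟨k, s, hs, rfl | rfl⟩ | ht
  · exact absurd (by rwa [tr_conj] at h4') (tr_dd_sq_ne_four ha)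
  · rw [card_cent_conj, cent_uu hs, card_pmUnip]
  · rw [cent_neg, card_cent_conj, cent_uu hs, card_pmUnip]
  · exact absurd h4' ht.sq_ne_four

theorem exists_inverting {g : SL(2, F)} (h4 : tr g ^ 2 ≠ 4) :
    ∃ w : SL(2, F), w * g * w⁻¹ = g⁻¹ :=
  isConj_iff.1 (isConj_of_tr (tr_inv g).symm h4)

/-- An element inverting `g` squares to `-1`. -/
theorem sq_eq_neg_one_of_inverting {g k : SL(2, F)} (h4 : tr g ^ 2 ≠ 4)
    (hk : k * g * k⁻¹ = g⁻¹) : k * k = -1 := by
  have hg := not_mem_center_of_tr h4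
  have hkk : Commute (k * k) g := by
    have h1 : k * g⁻¹ * k⁻¹ = g := by
      have := congrArg (·⁻¹) hk
      simpa [mul_assoc] using this
    show k * k * g = g * (k * k)
    conv_rhs => rw [← h1]
    rw [← hk]
    group
  have h1 := conj_eq_inv hg hkk hk
  rw [← mul_assoc, mul_inv_cancel_right] at h1
  by_cases hz : k * k ∈ Subgroup.center SL(2, F)
  · rcases mem_center_iff_pm.1 hz with h | h
    · by_cases h2 : (2 : F) = 0
      · rw [h, neg_one_eq_one_iff.2 h2]
      · rcases eq_pm_of_mul_self_eq_one h2 h with rfl | rfl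
        · exact absurd (by simpa using hk.symm) (ne_inv_of_tr h4)
        · exact absurd (by simpa using hk.symm) (ne_inv_of_tr h4)
    · exact h
  · exact absurd h1.symm (ne_inv_of_tr (tr_sq_ne_four_of_commute h4 hz hkk))

omit [Fintype F] in
theorem mem_normalizer_cent {g k : SL(2, F)} (h4 : tr g ^ 2 ≠ 4) :
    k ∈ Subgroup.normalizer (cent g : Set SL(2, F)) ↔
      k * g * k⁻¹ = g ∨ k * g * k⁻¹ = g⁻¹ := by
  constructor
  · intro hk
    refine eq_or_eq_inv_of_tr_eq h4 (mem_cent.1 ?_) (tr_conj k g)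
    exact (Subgroup.mem_normalizer_iff.1 hk g).1 (mem_cent.2 (Commute.refl g))
  · intro hk
    have : cent (k * g * k⁻¹) = cent g := by
      rcases hk with h | h <;> rw [h]
      ext x
      rw [mem_cent, mem_cent, Commute.inv_right_iff]
    rw [cent_conj] at this
    rw [Subgroup.mem_normalizer_iff]
    intro x
    nth_rw 2 [← this]
    rw [Subgroup.mem_map_equiv, MulAut.conj_symm_apply]
    group

omit [Fintype F] in
theorem cent_le_normalizer (g : SL(2, F)) :
    cent g ≤ Subgroup.normalizer (cent g : Set SL(2, F)) :=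
  Subgroup.le_normalizer

omit [Fintype F] in
theorem not_mem_cent_of_inverting {g w : SL(2, F)} (h4 : tr g ^ 2 ≠ 4)
    (hw : w * g * w⁻¹ = g⁻¹) : w ∉ cent g := fun h =>
  ne_inv_of_tr h4 (hw.symm.trans (by rw [(mem_cent.1 h).eq, mul_inv_cancel_right]))

/-- The normalizer of a maximal torus is twice as big. -/
theorem card_normalizer_cent {g : SL(2, F)} (h4 : tr g ^ 2 ≠ 4) :
    Nat.card (Subgroup.normalizer (cent g : Set SL(2, F))) = 2 * Nat.card (cent g) := by
  obtain ⟨w, hw⟩ := exists_inverting h4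
  set N := Subgroup.normalizer (cent g : Set SL(2, F)) with hN
  have hwN : w ∈ N := (mem_normalizer_cent h4).2 (Or.inr hw)
  have hidx : ((cent g).subgroupOf N).index = 2 := by
    rw [Subgroup.index_eq_two_iff]
    refine ⟨⟨w, hwN⟩, fun b => ?_⟩
    simp only [Subgroup.mem_subgroupOf, Subgroup.coe_mul]
    have hb := (mem_normalizer_cent h4).1 b.2
    have hwc := not_mem_cent_of_inverting h4 hw
    by_cases hbc : (b : SL(2, F)) ∈ cent g
    · exact Or.inr ⟨hbc, fun h => hwc ((Subgroup.mul_mem_cancel_left _ hbc).1 h)⟩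
    · refine Or.inl ⟨?_, hbc⟩
      have hb' : (b : SL(2, F)) * g * (b : SL(2, F))⁻¹ = g⁻¹ := hb.resolve_left fun h =>
        hbc (mem_cent.2 (mul_inv_eq_iff_eq_mul.1 h))
      refine mem_cent.2 (mul_inv_eq_iff_eq_mul.1 ?_)
      rw [show (b : SL(2, F)) * w * g * ((b : SL(2, F)) * w)⁻¹ =
        (b : SL(2, F)) * (w * g * w⁻¹) * (b : SL(2, F))⁻¹ by group, hw, ← conj_inv, hb', inv_inv]
  have h := ((cent g).subgroupOf N).index_mul_card
  rw [hidx, Nat.card_congr (Subgroup.subgroupOfEquivOfLe (cent_le_normalizer g)).toEquiv] at h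
  exact h.symm

/-- Elements normalising but not centralising a maximal torus invert it. -/
theorem inverting_of_mem_normalizer {g k : SL(2, F)} (h4 : tr g ^ 2 ≠ 4)
    (hk : k ∈ Subgroup.normalizer (cent g : Set SL(2, F))) (hk' : k ∉ cent g) :
    ∀ h ∈ cent g, k * h * k⁻¹ = h⁻¹ := fun _ hh =>
  conj_eq_inv (not_mem_center_of_tr h4) (mem_cent.1 hh)
    (((mem_normalizer_cent h4).1 hk).resolve_left fun h =>
      hk' (mem_cent.2 (mul_inv_eq_iff_eq_mul.1 h)))

/-- Tori of equal order are conjugate. -/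
theorem exists_conj_of_card_eq {g h : SL(2, F)} (h4 : tr g ^ 2 ≠ 4) (h4' : tr h ^ 2 ≠ 4)
    (hc : Nat.card (cent g) = Nat.card (cent h)) :
    ∃ k, cent h = (cent g).map (MulAut.conj k).toMonoidHom := by
  have hq := one_lt_q (F := F)
  have key : ∀ x : SL(2, F), tr x ^ 2 ≠ 4 → (∃ k, cent x = (torus F).map (MulAut.conj k).toMonoidHom)
      ∧ Nat.card (cent x) = Fintype.card F - 1 ∨ IsEll (tr x) := by
    intro x hx
    rcases trichotomy (not_mem_center_of_tr hx) with ⟨k, a, ha, rfl⟩ | ⟨k, s, -, rfl | rfl⟩ | ht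
    · left
      exact ⟨⟨k, by rw [cent_conj, cent_dd ha]⟩, by rw [card_cent_conj, cent_dd ha, card_torus']⟩
    · exact absurd (tr_sq_eq_four_uu k s).1 hx
    · exact absurd (tr_sq_eq_four_uu k s).2 hx
    · exact Or.inr ht
  rcases key g h4 with ⟨⟨k, hk⟩, hg⟩ | hg <;> rcases key h h4' with ⟨⟨l, hl⟩, hh⟩ | hh
  · refine ⟨l * k⁻¹, ?_⟩
    rw [hk, hl, Subgroup.map_map]
    congr 1
    ext x : 1
    simp [mul_assoc]
  · rw [hg, hh.card_cent] at hc; omega
  · rw [hh, hg.card_cent] at hc; omega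
  · exact hg.exists_conj hh

theorem exists_torus_card_sub_one (h : 4 ≤ Fintype.card F) :
    ∃ g : SL(2, F), tr g ^ 2 ≠ 4 ∧ Nat.card (cent g) = Fintype.card F - 1 := by
  obtain ⟨a, ha, ha'⟩ := GL.exists_sq_ne_one_of_four_le_card (F := F)
    (by rwa [Nat.card_eq_fintype_card])
  refine ⟨dd (Units.mk0 a ha), tr_dd_sq_ne_four (by simpa using ha'), ?_⟩
  rw [cent_dd (by simpa using ha'), card_torus']

theorem exists_torus_card_add_one (F : Type*) [Field F] [Fintype F] :
    ∃ g : SL(2, F), tr g ^ 2 ≠ 4 ∧ Nat.card (cent g) = Fintype.card F + 1 := by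
  obtain ⟨g, hg⟩ := exists_elliptic F
  exact ⟨g, hg.sq_ne_four, hg.card_cent⟩

end Semisimple

section Image

/-- Images in `PSL` of subgroups containing the centre. -/
theorem gcd_mul_card_map_mk [Fintype F] {H : Subgroup SL(2, F)}
    (hH : Subgroup.center SL(2, F) ≤ H) :
    Nat.gcd 2 (Fintype.card F - 1) * Nat.card (H.map mk) = Nat.card H := by
  rw [← card_center]
  have h := (mk.subgroupMap H).ker.index_mul_card
  rw [Subgroup.index_ker, MonoidHom.range_eq_top.2 (MonoidHom.subgroupMap_surjective _ _),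
    Subgroup.card_top] at h
  rw [← h, mul_comm]
  congr 1
  refine Nat.card_congr
    { toFun := fun z => ⟨⟨z, hH z.2⟩, Subtype.ext ((QuotientGroup.eq_one_iff _).2 z.2)⟩
      invFun := fun z => ⟨z.1.1, (QuotientGroup.eq_one_iff _).1 (congrArg Subtype.val z.2)⟩
      left_inv := fun z => rfl
      right_inv := fun z => rfl }

variable [Fintype F]

theorem isCyclic_map_cent {g : SL(2, F)} (h4 : tr g ^ 2 ≠ 4) : IsCyclic ((cent g).map mk) :=
  have := isCyclic_cent h4
  isCyclic_of_surjective _ (MonoidHom.subgroupMap_surjective mk (cent g))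

theorem card_map_cent (g : SL(2, F)) :
    Nat.gcd 2 (Fintype.card F - 1) * Nat.card ((cent g).map mk) = Nat.card (cent g) :=
  gcd_mul_card_map_mk (center_le_cent g)

omit [Fintype F] in
theorem mk_mem_map_iff {H : Subgroup SL(2, F)} (hH : Subgroup.center SL(2, F) ≤ H)
    {x : SL(2, F)} : mk x ∈ H.map mk ↔ x ∈ H := by
  refine ⟨?_, Subgroup.mem_map_of_mem mk⟩
  rintro ⟨y, hy, hxy⟩
  rcases mk_eq_mk.1 hxy with rfl | rfl
  · exact hy
  · rw [← neg_neg x, neg_eq_neg_one_mul (-x)]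
    exact H.mul_mem (hH neg_one_mem_center) hy

/-- The normalizer of a maximal torus in `PSL` is dihedral. -/
theorem dihedral_normalizer {g : SL(2, F)} (h4 : tr g ^ 2 ≠ 4) {n : ℕ}
    (hn : Nat.card ((cent g).map mk) = n) :
    Nonempty ((Subgroup.normalizer (cent g : Set SL(2, F))).map mk ≃* DihedralGroup n) := by
  set N := Subgroup.normalizer (cent g : Set SL(2, F))
  obtain ⟨w, hw⟩ := exists_inverting h4
  obtain ⟨⟨c, hc⟩, hgen⟩ := (isCyclic_map_cent h4).exists_generator
  obtain ⟨z, hz, rfl⟩ := Subgroup.mem_map.1 hc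
  have hzN : mk z ∈ N.map mk := Subgroup.mem_map_of_mem _ (cent_le_normalizer g hz)
  have hwN : mk w ∈ N.map mk :=
    Subgroup.mem_map_of_mem _ ((mem_normalizer_cent h4).2 (Or.inr hw))
  have hord : orderOf (mk z) = n := by
    rw [← Subgroup.orderOf_mk _ hc, orderOf_eq_card_of_forall_mem_zpowers hgen, hn]
  refine PGroup.dihedralEquivOfRel (a := ⟨mk z, hzN⟩) (b := ⟨mk w, hwN⟩)
    (by rw [Subgroup.orderOf_mk, hord]) ?_ ?_ ?_ ?_
  · rintro ⟨i, hi⟩
    refine not_mem_cent_of_inverting h4 hw ((mk_mem_map_iff (center_le_cent g)).1 ?_)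
    rw [← (show mk z ^ i = mk w by simpa using congrArg Subtype.val hi)]
    exact zpow_mem hc i
  · apply Subtype.ext
    show mk w ^ 2 = 1
    rw [← map_pow, pow_two, sq_eq_neg_one_of_inverting h4 hw, mk_neg_one]
  · apply Subtype.ext
    show mk w * mk z * (mk w)⁻¹ = (mk z)⁻¹
    rw [← map_inv, ← map_inv, ← map_mul, ← map_mul,
      conj_eq_inv (not_mem_center_of_tr h4) (mem_cent.1 hz) hw]
  · have h1 := card_map_cent g
    have h2 : Nat.gcd 2 (Fintype.card F - 1) * Nat.card (N.map mk) = Nat.card N :=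
      gcd_mul_card_map_mk ((center_le_cent g).trans (cent_le_normalizer g))
    rw [card_normalizer_cent h4, ← h1, hn, mul_left_comm] at h2
    exact Nat.eq_of_mul_eq_mul_left (Nat.gcd_pos_of_pos_left _ two_pos) h2

end Image

end Cfsg.Agent.PSL2
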