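import Mathlib
import Cfsg.Agent.Lib.GL.Simple

/-!
Basic elements and subgroups of `SL(2, F)` and `PSL(2, F)`.

* `uu t = (1 t; 0 1)`, `ll t = (1 0; t 1)`, `dd a = diag(a, a⁻¹)`, `ww = (0 1; -1 0)`;
* `borel`, `unip` (upper unitriangular), `torus` (diagonal) and their orders;
* centre `{1, -1}`, the map `mk : SL(2, F) →* PSL(2, F)`, orders of both groups.
-/

set_option autoImplicit false

open Matrix
open scoped MatrixGroups

namespace Cfsg.Agent.PSL2

variable {F : Type*} [Field F]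

section Entries

theorem ext2 {g h : SL(2, F)} (h00 : g 0 0 = h 0 0) (h01 : g 0 1 = h 0 1) (h10 : g 1 0 = h 1 0)
    (h11 : g 1 1 = h 1 1) : g = h := by
  refine Matrix.SpecialLinearGroup.ext g h fun i j => ?_
  fin_cases i <;> fin_cases j <;> assumption

theorem det_eq (g : SL(2, F)) : g 0 0 * g 1 1 - g 0 1 * g 1 0 = 1 := by
  rw [← Matrix.det_fin_two]
  exact g.det_coe

theorem mul00 (g h : SL(2, F)) : (g * h) 0 0 = g 0 0 * h 0 0 + g 0 1 * h 1 0 := by
  simp [Matrix.mul_apply, Fin.sum_univ_two]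

theorem mul01 (g h : SL(2, F)) : (g * h) 0 1 = g 0 0 * h 0 1 + g 0 1 * h 1 1 := by
  simp [Matrix.mul_apply, Fin.sum_univ_two]

theorem mul10 (g h : SL(2, F)) : (g * h) 1 0 = g 1 0 * h 0 0 + g 1 1 * h 1 0 := by
  simp [Matrix.mul_apply, Fin.sum_univ_two]

theorem mul11 (g h : SL(2, F)) : (g * h) 1 1 = g 1 0 * h 0 1 + g 1 1 * h 1 1 := by
  simp [Matrix.mul_apply, Fin.sum_univ_two]

theorem inv00 (g : SL(2, F)) : g⁻¹ 0 0 = g 1 1 := by
  simp [Matrix.adjugate_fin_two]

theorem inv01 (g : SL(2, F)) : g⁻¹ 0 1 = -g 0 1 := by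
  simp [Matrix.adjugate_fin_two]

theorem inv10 (g : SL(2, F)) : g⁻¹ 1 0 = -g 1 0 := by
  simp [Matrix.adjugate_fin_two]

theorem inv11 (g : SL(2, F)) : g⁻¹ 1 1 = g 0 0 := by
  simp [Matrix.adjugate_fin_two]

end Entries

section Elements

/-- `(1 t; 0 1)`. -/
def uu (t : F) : SL(2, F) := ⟨!![1, t; 0, 1], by simp⟩

/-- `(1 0; t 1)`. -/
def ll (t : F) : SL(2, F) := ⟨!![1, 0; t, 1], by simp⟩

/-- `diag(a, a⁻¹)`. -/
def dd (a : Fˣ) : SL(2, F) := ⟨!![(a : F), 0; 0, ((a⁻¹ : Fˣ) : F)], by simp⟩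

/-- `(0 1; -1 0)`. -/
def ww : SL(2, F) := ⟨!![0, 1; -1, 0], by simp⟩

@[simp] theorem uu00 (t : F) : uu t 0 0 = 1 := rfl
@[simp] theorem uu01 (t : F) : uu t 0 1 = t := rfl
@[simp] theorem uu10 (t : F) : uu t 1 0 = 0 := rfl
@[simp] theorem uu11 (t : F) : uu t 1 1 = 1 := rfl
@[simp] theorem ll00 (t : F) : ll t 0 0 = 1 := rfl
@[simp] theorem ll01 (t : F) : ll t 0 1 = 0 := rfl
@[simp] theorem ll10 (t : F) : ll t 1 0 = t := rfl
@[simp] theorem ll11 (t : F) : ll t 1 1 = 1 := rfl
@[simp] theorem dd00 (a : Fˣ) : dd a 0 0 = (a : F) := rfl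
@[simp] theorem dd01 (a : Fˣ) : dd a 0 1 = 0 := rfl
@[simp] theorem dd10 (a : Fˣ) : dd a 1 0 = 0 := rfl
@[simp] theorem dd11 (a : Fˣ) : dd a 1 1 = ((a⁻¹ : Fˣ) : F) := rfl
@[simp] theorem ww00 : (ww : SL(2, F)) 0 0 = 0 := rfl
@[simp] theorem ww01 : (ww : SL(2, F)) 0 1 = 1 := rfl
@[simp] theorem ww10 : (ww : SL(2, F)) 1 0 = -1 := rfl
@[simp] theorem ww11 : (ww : SL(2, F)) 1 1 = 0 := rfl

theorem uu_mul_uu (s t : F) : uu s * uu t = uu (s + t) := by
  apply ext2 <;> simp only [mul00, mul01, mul10, mul11] <;> simp [add_comm]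

theorem ll_mul_ll (s t : F) : ll s * ll t = ll (s + t) := by
  apply ext2 <;> simp only [mul00, mul01, mul10, mul11] <;> simp

theorem dd_mul_dd (a b : Fˣ) : dd a * dd b = dd (a * b) := by
  apply ext2 <;> simp only [mul00, mul01, mul10, mul11] <;> simp [mul_comm]

@[simp] theorem uu_zero : uu (0 : F) = 1 := by apply ext2 <;> simp
@[simp] theorem ll_zero : ll (0 : F) = 1 := by apply ext2 <;> simp
@[simp] theorem dd_one : dd (1 : Fˣ) = 1 := by apply ext2 <;> simp

theorem uu_inv (t : F) : (uu t)⁻¹ = uu (-t) := by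
  rw [inv_eq_iff_mul_eq_one, uu_mul_uu, add_neg_cancel, uu_zero]

theorem ll_inv (t : F) : (ll t)⁻¹ = ll (-t) := by
  rw [inv_eq_iff_mul_eq_one, ll_mul_ll, add_neg_cancel, ll_zero]

theorem dd_inv (a : Fˣ) : (dd a)⁻¹ = dd a⁻¹ := by
  rw [inv_eq_iff_mul_eq_one, dd_mul_dd, mul_inv_cancel, dd_one]

theorem uu_injective : Function.Injective (uu : F → SL(2, F)) := fun s t h => by
  have h' := congrArg (fun g : SL(2, F) => g 0 1) h
  simpa using h'

theorem ll_injective : Function.Injective (ll : F → SL(2, F)) := fun s t h => by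
  have h' := congrArg (fun g : SL(2, F) => g 1 0) h
  simpa using h'

theorem dd_injective : Function.Injective (dd : Fˣ → SL(2, F)) := fun s t h => by
  have h' := congrArg (fun g : SL(2, F) => g 0 0) h
  exact Units.ext (by simpa using h')

@[simp] theorem uu_eq_one_iff {t : F} : uu t = 1 ↔ t = 0 :=
  ⟨fun h => uu_injective (h.trans uu_zero.symm), fun h => h ▸ uu_zero⟩

@[simp] theorem dd_eq_one_iff {a : Fˣ} : dd a = 1 ↔ a = 1 :=
  ⟨fun h => dd_injective (h.trans dd_one.symm), fun h => h ▸ dd_one⟩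

/-- `t ↦ (1 t; 0 1)` as a hom. -/
def uuHom : Multiplicative F →* SL(2, F) where
  toFun t := uu t.toAdd
  map_one' := uu_zero
  map_mul' s t := (uu_mul_uu s.toAdd t.toAdd).symm

/-- `t ↦ (1 0; t 1)` as a hom. -/
def llHom : Multiplicative F →* SL(2, F) where
  toFun t := ll t.toAdd
  map_one' := ll_zero
  map_mul' s t := (ll_mul_ll s.toAdd t.toAdd).symm

/-- `a ↦ diag(a, a⁻¹)` as a hom. -/
def ddHom : Fˣ →* SL(2, F) where
  toFun := dd
  map_one' := dd_one
  map_mul' a b := (dd_mul_dd a b).symm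

theorem uuHom_injective : Function.Injective (uuHom : Multiplicative F →* SL(2, F)) :=
  fun _ _ h => Multiplicative.toAdd.injective (uu_injective h)

theorem ddHom_injective : Function.Injective (ddHom : Fˣ →* SL(2, F)) := dd_injective

theorem uu_pow (t : F) (n : ℕ) : uu t ^ n = uu ((n : F) * t) := by
  induction n with
  | zero => simp
  | succ n ih => rw [pow_succ, ih, uu_mul_uu]; push_cast; ring_nf

theorem dd_pow (a : Fˣ) (n : ℕ) : dd a ^ n = dd (a ^ n) := (map_pow ddHom a n).symm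

theorem orderOf_dd (a : Fˣ) : orderOf (dd a) = orderOf a :=
  orderOf_injective ddHom ddHom_injective a

theorem orderOf_uu (p : ℕ) [Fact p.Prime] [CharP F p] {t : F} (ht : t ≠ 0) : orderOf (uu t) = p :=
  orderOf_eq_prime (by rw [uu_pow, CharP.cast_eq_zero F p, zero_mul, uu_zero]) (by simpa using ht)

theorem dd_conj_uu (a : Fˣ) (t : F) : dd a * uu t * (dd a)⁻¹ = uu ((a : F) ^ 2 * t) := by
  rw [mul_inv_eq_iff_eq_mul]
  apply ext2 <;> simp only [mul00, mul01, mul10, mul11] <;> simp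
  field_simp

theorem dd_conj_ll (a : Fˣ) (t : F) :
    dd a * ll t * (dd a)⁻¹ = ll (((a⁻¹ : Fˣ) : F) ^ 2 * t) := by
  rw [mul_inv_eq_iff_eq_mul]
  apply ext2 <;> simp only [mul00, mul01, mul10, mul11] <;> simp
  field_simp

theorem ww_conj_uu (t : F) : ww * uu t * ww⁻¹ = ll (-t) := by
  rw [mul_inv_eq_iff_eq_mul]
  apply ext2 <;> simp only [mul00, mul01, mul10, mul11] <;> simp

theorem ww_conj_ll (t : F) : ww * ll t * ww⁻¹ = uu (-t) := by
  rw [mul_inv_eq_iff_eq_mul]
  apply ext2 <;> simp only [mul00, mul01, mul10, mul11] <;> simp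

theorem ww_conj_dd (a : Fˣ) : ww * dd a * ww⁻¹ = dd a⁻¹ := by
  rw [mul_inv_eq_iff_eq_mul]
  apply ext2 <;> simp only [mul00, mul01, mul10, mul11] <;> simp

theorem ww_mul_self : (ww : SL(2, F)) * ww = -1 := by
  apply ext2 <;> simp only [mul00, mul01, mul10, mul11] <;> simp

/-- Bruhat decomposition of the big cell. -/
theorem bruhat (g : SL(2, F)) (hc : g 1 0 ≠ 0) :
    g = uu (g 0 0 / g 1 0) * ww * dd (Units.mk0 (-g 1 0) (neg_ne_zero.2 hc)) * uu (g 1 1 / g 1 0) := by
  apply ext2 <;> simp only [mul00, mul01, mul10, mul11] <;> simp <;> field_simp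
  linear_combination -det_eq g

theorem closure_uu_ll :
    Subgroup.closure (Set.range (uu : F → SL(2, F)) ∪ Set.range ll) = ⊤ := by
  refine GL.SL_eq_top_of_transvection_mem fun i j hij c => Subgroup.subset_closure ?_
  fin_cases i <;> fin_cases j <;> simp at hij
  · left
    refine ⟨c, ?_⟩
    apply ext2 <;> simp [Matrix.SpecialLinearGroup.transvection_coe]
  · right
    refine ⟨c, ?_⟩
    apply ext2 <;> simp [Matrix.SpecialLinearGroup.transvection_coe]

/-- A subgroup containing all `uu t` and all `ll t` is everything. -/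
theorem eq_top_of_uu_ll {H : Subgroup SL(2, F)} (h₁ : ∀ t, uu t ∈ H) (h₂ : ∀ t, ll t ∈ H) :
    H = ⊤ := by
  rw [eq_top_iff, ← closure_uu_ll, Subgroup.closure_le]
  rintro _ (⟨t, rfl⟩ | ⟨t, rfl⟩)
  exacts [h₁ t, h₂ t]

end Elements

section Centre

theorem mem_center_iff_entries {g : SL(2, F)} :
    g ∈ Subgroup.center SL(2, F) ↔ g 0 1 = 0 ∧ g 1 0 = 0 ∧ g 0 0 = g 1 1 := by
  constructor
  · intro h
    obtain ⟨r, -, hr⟩ := Matrix.SpecialLinearGroup.mem_center_iff.1 h
    have e : ∀ i j, g i j = (Matrix.scalar (Fin 2) r) i j := fun i j => by rw [hr]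
    simp [e, Matrix.scalar_apply]
  · rintro ⟨h1, h2, h3⟩
    refine Subgroup.mem_center_iff.2 fun x => ?_
    apply ext2 <;> simp only [mul00, mul01, mul10, mul11, h1, h2, h3] <;> ring

theorem mem_center_iff_pm {g : SL(2, F)} :
    g ∈ Subgroup.center SL(2, F) ↔ g = 1 ∨ g = -1 := by
  rw [mem_center_iff_entries]
  constructor
  · rintro ⟨h1, h2, h3⟩
    have h := det_eq g
    rw [h1, h2, ← h3, mul_zero, sub_zero, mul_self_eq_one_iff] at h
    rcases h with h | h
    · left; apply ext2 <;> simp [h1, h2, h, ← h3]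
    · right; apply ext2 <;> simp [h1, h2, h, ← h3]
  · rintro (rfl | rfl) <;> simp

theorem neg_one_mem_center : (-1 : SL(2, F)) ∈ Subgroup.center SL(2, F) :=
  mem_center_iff_pm.2 (Or.inr rfl)

theorem neg_eq_neg_one_mul (g : SL(2, F)) : -g = -1 * g := by
  simp

theorem commute_neg_one (g : SL(2, F)) : Commute (-1) g :=
  (Subgroup.mem_center_iff.1 neg_one_mem_center g).symm

theorem neg_one_eq_one_iff : (-1 : SL(2, F)) = 1 ↔ (2 : F) = 0 := by
  constructor
  · intro h
    have h' := congrArg (fun g : SL(2, F) => g 0 0) h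
    simp at h'
    linear_combination -h'
  · intro h
    apply ext2 <;> simp <;> linear_combination -h

theorem neg_one_ne_one (h2 : (2 : F) ≠ 0) : (-1 : SL(2, F)) ≠ 1 :=
  fun h => h2 (neg_one_eq_one_iff.1 h)

theorem orderOf_neg_one (h2 : (2 : F) ≠ 0) : orderOf (-1 : SL(2, F)) = 2 :=
  orderOf_eq_prime (by simp) (neg_one_ne_one h2)

/-- In odd characteristic `-1` is the only involution of `SL(2, F)`. -/
theorem eq_pm_of_mul_self_eq_one (h2 : (2 : F) ≠ 0) {g : SL(2, F)} (h : g * g = 1) :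
    g = 1 ∨ g = -1 := by
  have e00 : (g * g) 0 0 = 1 := by rw [h]; simp
  have e01 : (g * g) 0 1 = 0 := by rw [h]; simp
  have e10 : (g * g) 1 0 = 0 := by rw [h]; simp
  have e11 : (g * g) 1 1 = 1 := by rw [h]; simp
  rw [mul00] at e00; rw [mul01] at e01; rw [mul10] at e10; rw [mul11] at e11
  have hd := det_eq g
  have hs : g 0 0 + g 1 1 ≠ 0 := by
    intro hs
    apply h2
    linear_combination (g 0 0) * hs - e00 - hd
  refine mem_center_iff_pm.1 (mem_center_iff_entries.2 ⟨?_, ?_, ?_⟩)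
  · exact (mul_eq_zero.1 (show (g 0 0 + g 1 1) * g 0 1 = 0 by linear_combination e01)).resolve_left hs
  · exact (mul_eq_zero.1 (show (g 0 0 + g 1 1) * g 1 0 = 0 by linear_combination e10)).resolve_left hs
  · have h0 : (g 0 0 + g 1 1) * (g 0 0 - g 1 1) = 0 := by linear_combination e00 - e11
    exact sub_eq_zero.1 ((mul_eq_zero.1 h0).resolve_left hs)

theorem eq_neg_one_of_orderOf_eq_two (h2 : (2 : F) ≠ 0) {g : SL(2, F)} (h : orderOf g = 2) :
    g = -1 := by
  have hg : g * g = 1 := by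
    have h' := pow_orderOf_eq_one g
    rwa [h, pow_two] at h'
  refine (eq_pm_of_mul_self_eq_one h2 hg).resolve_left ?_
  rintro rfl
  simp at h

/-- The natural map `SL(2, F) →* PSL(2, F)`. -/
abbrev mk : SL(2, F) →* PSL(2, F) := QuotientGroup.mk' (Subgroup.center SL(2, F))

theorem mk_surjective : Function.Surjective (mk : SL(2, F) →* PSL(2, F)) :=
  QuotientGroup.mk'_surjective _

theorem ker_mk : (mk : SL(2, F) →* PSL(2, F)).ker = Subgroup.center SL(2, F) :=
  QuotientGroup.ker_mk' _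

theorem mk_eq_one {g : SL(2, F)} : mk g = 1 ↔ g = 1 ∨ g = -1 :=
  (QuotientGroup.eq_one_iff g).trans mem_center_iff_pm

theorem mk_eq_mk {g h : SL(2, F)} : mk g = mk h ↔ g = h ∨ g = -h := by
  rw [← mul_inv_eq_one, ← map_inv, ← map_mul, mk_eq_one, mul_inv_eq_one, mul_inv_eq_iff_eq_mul,
    ← neg_eq_neg_one_mul]

theorem mk_neg (g : SL(2, F)) : mk (-g) = mk g := mk_eq_mk.2 (Or.inr rfl)

theorem mk_neg_one : mk (-1 : SL(2, F)) = 1 := mk_eq_one.2 (Or.inr rfl)

end Centre

section Subgroups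

/-- Upper triangular matrices of determinant one. -/
def borel (F : Type*) [Field F] : Subgroup SL(2, F) where
  carrier := {g | g 1 0 = 0}
  one_mem' := by simp
  mul_mem' {g h} hg hh := by
    simp only [Set.mem_ofPred_eq] at *
    rw [mul10, hg, hh]; ring
  inv_mem' {g} hg := by
    simp only [Set.mem_ofPred_eq] at *
    rw [inv10, hg, neg_zero]

theorem mem_borel {g : SL(2, F)} : g ∈ borel F ↔ g 1 0 = 0 := Iff.rfl

/-- Upper unitriangular matrices. -/
def unip (F : Type*) [Field F] : Subgroup SL(2, F) := (uuHom : Multiplicative F →* SL(2, F)).range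

theorem mem_unip {g : SL(2, F)} : g ∈ unip F ↔ ∃ t, uu t = g :=
  ⟨fun ⟨t, h⟩ => ⟨t.toAdd, h⟩, fun ⟨t, h⟩ => ⟨Multiplicative.ofAdd t, h⟩⟩

theorem uu_mem_unip (t : F) : uu t ∈ unip F := mem_unip.2 ⟨t, rfl⟩

theorem mem_unip_iff_entries {g : SL(2, F)} : g ∈ unip F ↔ g 1 0 = 0 ∧ g 0 0 = 1 := by
  rw [mem_unip]
  constructor
  · rintro ⟨t, rfl⟩; simp
  · rintro ⟨h1, h2⟩
    have h := det_eq g
    rw [h1, h2, one_mul, mul_zero, sub_zero] at h
    exact ⟨g 0 1, by apply ext2 <;> simp [h1, h2, h]⟩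

theorem unip_le_borel : unip F ≤ borel F := fun _ hg => (mem_unip_iff_entries.1 hg).1

instance unip_isMulCommutative : IsMulCommutative (unip F) := by
  unfold unip; infer_instance

/-- Diagonal matrices. -/
def torus (F : Type*) [Field F] : Subgroup SL(2, F) := (ddHom : Fˣ →* SL(2, F)).range

theorem mem_torus {g : SL(2, F)} : g ∈ torus F ↔ ∃ a, dd a = g := Iff.rfl

theorem mem_torus_iff_entries {g : SL(2, F)} : g ∈ torus F ↔ g 0 1 = 0 ∧ g 1 0 = 0 := by
  rw [mem_torus]
  constructor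
  · rintro ⟨a, rfl⟩; simp
  · rintro ⟨h1, h2⟩
    have h := det_eq g
    rw [h1, h2, mul_zero, sub_zero] at h
    refine ⟨⟨g 0 0, g 1 1, h, mul_comm (g 1 1) _ ▸ h⟩, ?_⟩
    apply ext2 <;> simp [h1, h2]

theorem torus_le_borel : torus F ≤ borel F := fun _ hg => (mem_torus_iff_entries.1 hg).2

instance torus_isCyclic [Finite F] : IsCyclic (torus F) :=
  isCyclic_of_surjective (ddHom : Fˣ →* SL(2, F)).rangeRestrict
    (MonoidHom.rangeRestrict_surjective _)

theorem exists_eq_dd_mul_uu {g : SL(2, F)} (hg : g ∈ borel F) :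
    ∃ a t, g = dd a * uu t ∧ g 0 0 = (a : F) := by
  have h := det_eq g
  rw [mem_borel.1 hg, mul_zero, sub_zero] at h
  have h00 : g 0 0 ≠ 0 := left_ne_zero_of_mul_eq_one h
  refine ⟨Units.mk0 _ h00, g 0 1 / g 0 0, ?_, rfl⟩
  apply ext2 <;> simp only [mul00, mul01, mul10, mul11] <;> simp [mem_borel.1 hg] <;> field_simp
  linear_combination h

theorem uu_conj_mem_borel {g : SL(2, F)} {s t : F} (ht : t ≠ 0) (h : g * uu t * g⁻¹ = uu s) :
    g ∈ borel F := by
  rw [mul_inv_eq_iff_eq_mul] at h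
  have h' := congrArg (fun x : SL(2, F) => x 1 1) h
  simp only [mul11, uu01, uu11, uu10] at h'
  rw [mem_borel]
  have : g 1 0 * t = 0 := by linear_combination h'
  exact (mul_eq_zero.1 this).resolve_right ht

theorem borel_conj_uu {g : SL(2, F)} (hg : g ∈ borel F) (t : F) :
    g * uu t * g⁻¹ = uu (g 0 0 ^ 2 * t) := by
  obtain ⟨a, s, rfl, ha⟩ := exists_eq_dd_mul_uu hg
  have hc : uu s * uu t * (uu s)⁻¹ = uu t := by
    rw [uu_mul_uu, add_comm, ← uu_mul_uu, mul_inv_cancel_right]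
  rw [ha, ← dd_conj_uu a t]
  conv_rhs => rw [← hc]
  group

theorem unip_conj_mem {g u : SL(2, F)} (hg : g ∈ borel F) (hu : u ∈ unip F) :
    g * u * g⁻¹ ∈ unip F := by
  obtain ⟨t, rfl⟩ := mem_unip.1 hu
  rw [borel_conj_uu hg]
  exact uu_mem_unip _

theorem normalizer_unip : Subgroup.normalizer (unip F : Set SL(2, F)) = borel F := by
  ext g
  constructor
  · intro hg
    obtain ⟨s, hs⟩ := mem_unip.1 ((Subgroup.mem_normalizer_iff.1 hg _).1 (uu_mem_unip 1))
    exact uu_conj_mem_borel one_ne_zero hs.symm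
  · intro hg
    rw [Subgroup.mem_normalizer_iff]
    refine fun u => ⟨fun hu => unip_conj_mem hg hu, fun hu => ?_⟩
    have := unip_conj_mem ((borel F).inv_mem hg) hu
    simpa [mul_assoc] using this

/-- The upper unitriangular group is a TI subgroup. -/
theorem unip_inf_conj {g : SL(2, F)} (hg : g ∉ borel F) {u : SL(2, F)} (hu : u ∈ unip F)
    (hu' : g * u * g⁻¹ ∈ unip F) : u = 1 := by
  obtain ⟨t, rfl⟩ := mem_unip.1 hu
  obtain ⟨s, hs⟩ := mem_unip.1 hu'
  by_contra h
  exact hg (uu_conj_mem_borel (by simpa using h) hs.symm)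

theorem card_unip : Nat.card (unip F) = Nat.card F :=
  ((Nat.card_congr (MonoidHom.ofInjective uuHom_injective).toEquiv).symm.trans
    (Nat.card_congr Multiplicative.toAdd))

theorem card_torus : Nat.card (torus F) = Nat.card Fˣ :=
  (Nat.card_congr (MonoidHom.ofInjective ddHom_injective).toEquiv).symm

/-- The Borel subgroup is in bijection with `Fˣ × F`. -/
noncomputable def borelEquiv : Fˣ × F ≃ borel F :=
  Equiv.ofBijective
    (fun x => ⟨dd x.1 * uu x.2,
      (borel F).mul_mem (torus_le_borel ⟨x.1, rfl⟩) (unip_le_borel (uu_mem_unip _))⟩)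
    ⟨fun x y h => by
      have h' := congrArg Subtype.val h
      have h00 := congrArg (fun g : SL(2, F) => g 0 0) h'
      have h01 := congrArg (fun g : SL(2, F) => g 0 1) h'
      simp [mul00, mul01] at h00 h01
      rw [Units.val_inj.1 h00] at h01
      exact Prod.ext (Units.val_inj.1 h00) (mul_left_cancel₀ (Units.ne_zero _) h01),
    fun ⟨g, hg⟩ => by
      obtain ⟨a, t, h, -⟩ := exists_eq_dd_mul_uu hg
      exact ⟨(a, t), Subtype.ext h.symm⟩⟩

theorem card_borel : Nat.card (borel F) = Nat.card Fˣ * Nat.card F := by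
  rw [← Nat.card_congr borelEquiv, Nat.card_prod]

theorem dd_mem_center_iff {a : Fˣ} : dd a ∈ Subgroup.center SL(2, F) ↔ (a : F) ^ 2 = 1 := by
  rw [mem_center_iff_entries]
  simp only [dd01, dd10, dd00, dd11, true_and]
  rw [Units.val_inv_eq_inv_val, sq, ← mul_eq_one_iff_eq_inv₀ (Units.ne_zero a)]

/-- The centraliser of `(1 t; 0 1)`, `t ≠ 0`, consists of the `± (1 s; 0 1)`. -/
theorem centralizer_uu {t : F} (ht : t ≠ 0) {g : SL(2, F)} :
    Commute g (uu t) ↔ g ∈ unip F ∨ -g ∈ unip F := by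
  constructor
  · intro h
    have hg : g ∈ borel F := uu_conj_mem_borel ht (mul_inv_eq_iff_eq_mul.2 h.eq)
    have e := uu_injective ((borel_conj_uu hg t).symm.trans (mul_inv_eq_iff_eq_mul.2 h.eq))
    have : g 0 0 ^ 2 = 1 := by
      exact mul_right_cancel₀ ht (e.trans (one_mul t).symm)
    rcases sq_eq_one_iff.1 this with h1 | h1
    · exact Or.inl (mem_unip_iff_entries.2 ⟨hg, h1⟩)
    · exact Or.inr (mem_unip_iff_entries.2 (by simp [mem_borel.1 hg, h1]))
  · rintro (h | h) <;> obtain ⟨s, hs⟩ := mem_unip.1 h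
    · rw [← hs, Commute, SemiconjBy, uu_mul_uu, uu_mul_uu, add_comm]
    · have : g = -1 * uu s := by rw [← neg_eq_neg_one_mul, hs, neg_neg]
      rw [this]
      exact (commute_neg_one _).mul_left (by
        rw [Commute, SemiconjBy, uu_mul_uu, uu_mul_uu, add_comm])

/-- The centraliser of `diag(a, a⁻¹)`, `a² ≠ 1`, is the diagonal torus. -/
theorem centralizer_dd {a : Fˣ} (ha : (a : F) ^ 2 ≠ 1) {g : SL(2, F)} :
    Commute g (dd a) ↔ g ∈ torus F := by
  constructor
  · intro h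
    have e01 := congrArg (fun x : SL(2, F) => x 0 1) h.eq
    have e10 := congrArg (fun x : SL(2, F) => x 1 0) h.eq
    simp [mul01, mul10] at e01 e10
    have hne : (a : F) - (a : F)⁻¹ ≠ 0 := by
      intro h0
      apply ha
      rw [sub_eq_zero] at h0
      rw [sq]
      nth_rw 2 [h0]
      exact mul_inv_cancel₀ (Units.ne_zero a)
    rw [mem_torus_iff_entries]
    constructor
    · have : ((a : F) - (a : F)⁻¹) * g 0 1 = 0 := by linear_combination -e01
      exact (mul_eq_zero.1 this).resolve_left hne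
    · have : ((a : F) - (a : F)⁻¹) * g 1 0 = 0 := by linear_combination e10
      exact (mul_eq_zero.1 this).resolve_left hne
  · rintro ⟨b, rfl⟩
    exact ((dd_mul_dd b a).trans (by rw [mul_comm])).trans (dd_mul_dd a b).symm

end Subgroups

section Orders

variable [Fintype F]

theorem one_lt_q : 1 < Fintype.card F := Fintype.one_lt_card

theorem card_SL : Nat.card SL(2, F) = Fintype.card F * (Fintype.card F ^ 2 - 1) := GL.card_SL2

omit [Field F] in
theorem q_sq_sub_one :
    Fintype.card F ^ 2 - 1 = (Fintype.card F + 1) * (Fintype.card F - 1) := by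
  simpa using Nat.sq_sub_sq (Fintype.card F) 1

theorem card_SL' :
    Nat.card SL(2, F) = Fintype.card F * (Fintype.card F - 1) * (Fintype.card F + 1) := by
  rw [card_SL, q_sq_sub_one, mul_assoc]
  ring

theorem card_center : Nat.card (Subgroup.center SL(2, F)) = Nat.gcd 2 (Fintype.card F - 1) := by
  rw [GL.card_center_SL, Fintype.card_fin]

theorem gcd_mul_card_PSL :
    Nat.gcd 2 (Fintype.card F - 1) * Nat.card PSL(2, F) =
      Fintype.card F * (Fintype.card F ^ 2 - 1) := by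
  rw [GL.gcd_mul_card_PSL 2 one_le_two, card_SL]

theorem card_PSL : Nat.card PSL(2, F) =
    Fintype.card F * (Fintype.card F ^ 2 - 1) / Nat.gcd 2 (Fintype.card F - 1) := by
  rw [← gcd_mul_card_PSL, Nat.mul_div_cancel_left _ (Nat.gcd_pos_of_pos_left _ two_pos)]

theorem even_card_iff : Even (Fintype.card F) ↔ (2 : F) = 0 := by
  constructor
  · intro h
    by_contra h2
    have := FiniteField.odd_card_of_char_ne_two (F := F) (fun hc => h2 (by
      rw [← Nat.cast_ofNat, ← hc]; exact ringChar.Nat.cast_ringChar))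
    exact Nat.not_even_iff.2 this h
  · intro h
    rw [Nat.even_iff]
    exact FiniteField.even_card_of_char_two
      (CharP.ringChar_of_prime_eq_zero Nat.prime_two (by simpa using h))

theorem odd_card_iff : Odd (Fintype.card F) ↔ (2 : F) ≠ 0 := by
  rw [← Nat.not_even_iff_odd, even_card_iff]

theorem two_mul_card_PSL (h2 : (2 : F) ≠ 0) :
    2 * Nat.card PSL(2, F) = Fintype.card F * (Fintype.card F ^ 2 - 1) := by
  have h : Nat.gcd 2 (Fintype.card F - 1) = 2 := by
    obtain ⟨k, hk⟩ := odd_card_iff.2 h2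
    exact Nat.gcd_eq_left ⟨k, by omega⟩
  rw [← gcd_mul_card_PSL, h]

theorem card_PSL_of_two_eq_zero (h2 : (2 : F) = 0) :
    Nat.card PSL(2, F) = Fintype.card F * (Fintype.card F ^ 2 - 1) := by
  have h : Nat.gcd 2 (Fintype.card F - 1) = 1 := by
    obtain ⟨k, hk⟩ := even_card_iff.2 h2
    have := one_lt_q (F := F)
    rw [Nat.gcd_rec, show (Fintype.card F - 1) % 2 = 1 by omega]
    rfl
  rw [← gcd_mul_card_PSL, h, one_mul]

theorem card_unip' : Nat.card (unip F) = Fintype.card F := by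
  rw [card_unip, Nat.card_eq_fintype_card]

theorem card_torus' : Nat.card (torus F) = Fintype.card F - 1 := by
  rw [card_torus, GL.card_units_field]

theorem card_borel' : Nat.card (borel F) = (Fintype.card F - 1) * Fintype.card F := by
  rw [card_borel, GL.card_units_field, Nat.card_eq_fintype_card]

theorem borel_index : (borel F).index = Fintype.card F + 1 := by
  have h := (borel F).index_mul_card
  rw [card_borel', card_SL'] at h
  have hq := one_lt_q (F := F)
  refine Nat.eq_of_mul_eq_mul_right (show 0 < (Fintype.card F - 1) * Fintype.card F from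
    Nat.mul_pos (by omega) (by omega)) (h.trans ?_)
  ring

theorem psl_isSimpleGroup (hF : 4 ≤ Fintype.card F) : IsSimpleGroup PSL(2, F) :=
  GL.PSL_isSimpleGroup 2 le_rfl fun _ => by rwa [Nat.card_eq_fintype_card]

theorem sl_commutator_eq_top (hF : 4 ≤ Fintype.card F) : commutator SL(2, F) = ⊤ :=
  GL.SL_commutator_eq_top 2 le_rfl fun _ =>
    GL.exists_sq_ne_one_of_four_le_card (by rwa [Nat.card_eq_fintype_card])

end Orders

end Cfsg.Agent.PSL2
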