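import Mathlib

/-!
Conjugacy in SL₂ over a field through traces, and products of two conjugates (Macbeath's trick).
-/

namespace Cfsg.Agent.PSL2.TraceClasses

open Matrix
open scoped MatrixGroups

variable {F : Type*} [Field F]

abbrev SL2 (F : Type*) [Field F] := Matrix.SpecialLinearGroup (Fin 2) F

/-- Being scalar. -/
def IsScalar' (g : Matrix (Fin 2) (Fin 2) F) : Prop := g 0 1 = 0 ∧ g 1 0 = 0 ∧ g 0 0 = g 1 1

theorem det_eq (g : SL2 F) :
    (g : Matrix (Fin 2) (Fin 2) F) 0 0 * (g : Matrix (Fin 2) (Fin 2) F) 1 1 -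
      (g : Matrix (Fin 2) (Fin 2) F) 0 1 * (g : Matrix (Fin 2) (Fin 2) F) 1 0 = 1 := by
  have := g.2
  rwa [Matrix.det_fin_two] at this

theorem mem_center_of_isScalar' {g : SL2 F} (h : IsScalar' (g : Matrix (Fin 2) (Fin 2) F)) :
    g ∈ Subgroup.center (SL2 F) := by
  rw [Matrix.SpecialLinearGroup.mem_center_iff]
  refine ⟨(g : Matrix (Fin 2) (Fin 2) F) 0 0, ?_, ?_⟩
  · have := det_eq g
    rw [h.1, ← h.2.2] at this
    rw [Fintype.card_fin]
    linear_combination this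
  · ext i j
    fin_cases i <;> fin_cases j <;> simp [Matrix.scalar_apply, h.1, h.2.1, h.2.2]

theorem isScalar'_of_mem_center {g : SL2 F} (h : g ∈ Subgroup.center (SL2 F)) :
    IsScalar' (g : Matrix (Fin 2) (Fin 2) F) := by
  obtain ⟨r, -, hr⟩ := Matrix.SpecialLinearGroup.mem_center_iff.1 h
  rw [← hr]
  simp [IsScalar', Matrix.scalar_apply]

/-- For a non-scalar matrix some vector `v` is independent of `g v`. -/
theorem exists_cyclic_vec (g : Matrix (Fin 2) (Fin 2) F) (h : ¬ IsScalar' g) :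
    ∃ x y : F, x * (g 1 0 * x + g 1 1 * y) - y * (g 0 0 * x + g 0 1 * y) ≠ 0 := by
  by_contra H
  push Not at H
  have h1 := H 1 0
  have h2 := H 0 1
  have h3 := H 1 1
  apply h
  have e1 : g 1 0 = 0 := by linear_combination h1
  have e2 : g 0 1 = 0 := by linear_combination -h2
  exact ⟨e2, e1, by linear_combination h1 + h2 - h3⟩

/-- A companion shape with parameter. -/
def comp (c t : F) (hc : c ≠ 0) : SL2 F :=
  ⟨!![0, -c⁻¹; c, t], by simp [Matrix.det_fin_two_of, hc]⟩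

theorem coe_comp (c t : F) (hc : c ≠ 0) :
    (comp c t hc : Matrix (Fin 2) (Fin 2) F) = !![0, -c⁻¹; c, t] := rfl

theorem exists_conj_comp (g : SL2 F) (h : ¬ IsScalar' (g : Matrix (Fin 2) (Fin 2) F)) :
    ∃ (c : F) (hc : c ≠ 0) (u : SL2 F),
      g = u * comp c ((g : Matrix (Fin 2) (Fin 2) F) 0 0 + (g : Matrix (Fin 2) (Fin 2) F) 1 1) hc * u⁻¹ := by
  obtain ⟨x, y, hne⟩ := exists_cyclic_vec _ h
  have hd := det_eq g
  obtain ⟨gm, hgm⟩ : ∃ gm, gm = (g : Matrix (Fin 2) (Fin 2) F) := ⟨_, rfl⟩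
  rw [← hgm] at hne hd ⊢
  set c := x * (gm 1 0 * x + gm 1 1 * y) - y * (gm 0 0 * x + gm 0 1 * y) with hc
  let u : SL2 F := ⟨!![x, (gm 0 0 * x + gm 0 1 * y) / c; y, (gm 1 0 * x + gm 1 1 * y) / c], by
    rw [Matrix.det_fin_two_of]
    field_simp
    rw [hc]; ring⟩
  refine ⟨c, hne, u, ?_⟩
  rw [eq_mul_inv_iff_mul_eq]
  apply Subtype.ext
  simp only [Matrix.SpecialLinearGroup.coe_mul, coe_comp, ← hgm]
  ext i j
  fin_cases i <;> fin_cases j <;> simp [u, Matrix.mul_apply, Fin.sum_univ_two] <;> field_simp <;>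
    grind

/-- Two non-scalar elements of equal trace are conjugate in GL₂. -/
theorem exists_gl_conj (g h : SL2 F) (hg : ¬ IsScalar' (g : Matrix (Fin 2) (Fin 2) F))
    (hh : ¬ IsScalar' (h : Matrix (Fin 2) (Fin 2) F))
    (ht : Matrix.trace (g : Matrix (Fin 2) (Fin 2) F) = Matrix.trace (h : Matrix (Fin 2) (Fin 2) F)) :
    ∃ φ : SL2 F →* SL2 F, φ h = g ∧
      (∀ z, Matrix.trace (φ z : Matrix (Fin 2) (Fin 2) F) = Matrix.trace (z : Matrix (Fin 2) (Fin 2) F)) := by
  obtain ⟨c, hc, u, hu⟩ := exists_conj_comp g hg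
  obtain ⟨d, hd, w, hw⟩ := exists_conj_comp h hh
  simp only [Matrix.trace_fin_two] at ht
  rw [ht] at hu
  set t := (h : Matrix (Fin 2) (Fin 2) F) 0 0 + (h : Matrix (Fin 2) (Fin 2) F) 1 1
  let D : GL (Fin 2) F := Matrix.GeneralLinearGroup.mkOfDetNeZero !![1, 0; 0, c / d]
    (by simp [Matrix.det_fin_two_of, hc, hd])
  let P : GL (Fin 2) F :=
    Matrix.SpecialLinearGroup.toGL u * D * (Matrix.SpecialLinearGroup.toGL w)⁻¹
  let φ : SL2 F →* SL2 F :=
    { toFun := fun z => ⟨(P : Matrix (Fin 2) (Fin 2) F) * (z : Matrix (Fin 2) (Fin 2) F) *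
        ((P⁻¹ : GL (Fin 2) F) : Matrix (Fin 2) (Fin 2) F), by
          rw [Matrix.det_units_conj, z.2]⟩
      map_one' := Subtype.ext (by simp)
      map_mul' := fun a b => Subtype.ext (by
        show _ = (_ * _ * _) * (_ * _ * _)
        simp [mul_assoc]) }
  refine ⟨φ, ?_, fun z => ?_⟩
  · apply Subtype.ext
    have key : (D : Matrix (Fin 2) (Fin 2) F) * (comp d t hd : Matrix (Fin 2) (Fin 2) F)
        = (comp c t hc : Matrix (Fin 2) (Fin 2) F) * (D : Matrix (Fin 2) (Fin 2) F) := by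
      ext i j
      fin_cases i <;> fin_cases j <;>
        simp [D, coe_comp, Matrix.mul_apply, Fin.sum_univ_two] <;> field_simp
    have key' : D * Matrix.SpecialLinearGroup.toGL (comp d t hd) * D⁻¹ =
        Matrix.SpecialLinearGroup.toGL (comp c t hc) := by
      rw [mul_inv_eq_iff_eq_mul]
      exact Units.ext key
    have : P * Matrix.SpecialLinearGroup.toGL h * P⁻¹ = Matrix.SpecialLinearGroup.toGL g := by
      rw [hu, hw]
      simp only [map_mul, map_inv, P]
      rw [← key']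
      group
    have := congrArg (fun z : GL (Fin 2) F => (z : Matrix (Fin 2) (Fin 2) F)) this
    exact this
  · exact Matrix.trace_units_conj P _

variable [Fintype F]

/-- A non-degenerate binary form `w² + αwy + y²` represents every value. -/
theorem exists_binary (α e : F) (hα : α ^ 2 ≠ 4) : ∃ w y : F, w ^ 2 + α * w * y + y ^ 2 = e := by
  by_cases h2 : ringChar F = 2
  · obtain ⟨r, hr⟩ := FiniteField.isSquare_of_char_two h2 e
    exact ⟨r, 0, by rw [hr]; ring⟩
  · have hodd : Fintype.card F % 2 = 1 := FiniteField.odd_card_of_char_ne_two h2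
    have hk : (1 - α ^ 2 / 4 : F) ≠ 0 := by
      have h20 : (2 : F) ≠ 0 := Ring.two_ne_zero h2
      have h40 : (4 : F) ≠ 0 := by
        have := mul_ne_zero h20 h20; norm_num at this; exact this
      intro hc
      apply hα
      field_simp at hc
      linear_combination -hc
    open Polynomial in
    obtain ⟨a, b, hab⟩ := FiniteField.exists_root_sum_quadratic
      (f := (X ^ 2 : F[X])) (g := (C (1 - α ^ 2 / 4) * X ^ 2 - C e : F[X]))
      (by simp) (by
        rw [Polynomial.degree_sub_C] <;> rw [Polynomial.degree_C_mul_X_pow 2 hk] <;> norm_num) hodd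
    simp at hab
    refine ⟨a - α * b / 2, b, ?_⟩
    have h20 : (2 : F) ≠ 0 := Ring.two_ne_zero h2
    have h40 : (4 : F) ≠ 0 := by
      have := mul_ne_zero h20 h20; norm_num at this; exact this
    field_simp at hab ⊢
    linear_combination hab

theorem comp_conj_one (c α : F) (hc : c ≠ 0) (hα : α ^ 2 ≠ 4) :
    ∃ u : SL2 F, comp c α hc = u * comp 1 α one_ne_zero * u⁻¹ := by
  obtain ⟨w, y, hwy⟩ := exists_binary α c hα
  let u : SL2 F := ⟨!![w / c, -y / c; y, w + α * y], by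
    rw [Matrix.det_fin_two_of]
    field_simp
    linear_combination hwy⟩
  refine ⟨u, ?_⟩
  · rw [eq_mul_inv_iff_mul_eq]
    apply Subtype.ext
    simp only [Matrix.SpecialLinearGroup.coe_mul, coe_comp]
    ext i j
    fin_cases i <;> fin_cases j <;> simp [u, Matrix.mul_apply, Fin.sum_univ_two] <;> field_simp <;>
      grind

/-- Non-scalar elements with the same trace `α`, `α² ≠ 4`, are conjugate in SL₂. -/
theorem isConj_of_trace (g h : SL2 F) (hg : ¬ IsScalar' (g : Matrix (Fin 2) (Fin 2) F))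
    (hh : ¬ IsScalar' (h : Matrix (Fin 2) (Fin 2) F))
    (ht : Matrix.trace (g : Matrix (Fin 2) (Fin 2) F) = Matrix.trace (h : Matrix (Fin 2) (Fin 2) F))
    (h4 : Matrix.trace (g : Matrix (Fin 2) (Fin 2) F) ^ 2 ≠ 4) : IsConj g h := by
  obtain ⟨c, hc, u, hu⟩ := exists_conj_comp g hg
  obtain ⟨d, hd, w, hw⟩ := exists_conj_comp h hh
  simp only [Matrix.trace_fin_two] at ht h4
  rw [ht] at hu h4
  obtain ⟨a, ha⟩ := comp_conj_one c _ hc h4
  obtain ⟨b, hb⟩ := comp_conj_one d _ hd h4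
  set t := (h : Matrix (Fin 2) (Fin 2) F) 0 0 + (h : Matrix (Fin 2) (Fin 2) F) 1 1
  have k1 : IsConj (comp 1 t one_ne_zero) g := isConj_iff.2 ⟨u * a, by rw [hu, ha]; group⟩
  have k2 : IsConj (comp 1 t one_ne_zero) h := isConj_iff.2 ⟨w * b, by rw [hw, hb]; group⟩
  exact k1.symm.trans k2

omit [Fintype F] in
theorem not_isScalar'_of_trace (g : SL2 F)
    (h4 : Matrix.trace (g : Matrix (Fin 2) (Fin 2) F) ^ 2 ≠ 4) :
    ¬ IsScalar' (g : Matrix (Fin 2) (Fin 2) F) := by
  rintro ⟨h01, h10, h⟩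
  apply h4
  have := det_eq g
  rw [h01, h] at this
  rw [Matrix.trace_fin_two, h]
  linear_combination 4 * this

/-- If the product of two elements of trace `α` can be a non-scalar of trace `τ`, then every non-scalar
element of trace `τ` is a product of two conjugates of a given `X` of trace `α`. -/
theorem product_of_conj (X G Y₁ Y₂ : SL2 F)
    (hα : Matrix.trace (X : Matrix (Fin 2) (Fin 2) F) ^ 2 ≠ 4)
    (h1 : Matrix.trace (Y₁ : Matrix (Fin 2) (Fin 2) F) = Matrix.trace (X : Matrix (Fin 2) (Fin 2) F))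
    (h2 : Matrix.trace (Y₂ : Matrix (Fin 2) (Fin 2) F) = Matrix.trace (X : Matrix (Fin 2) (Fin 2) F))
    (hG : ¬ IsScalar' (G : Matrix (Fin 2) (Fin 2) F))
    (hP : ¬ IsScalar' ((Y₁ * Y₂ : SL2 F) : Matrix (Fin 2) (Fin 2) F))
    (ht : Matrix.trace (G : Matrix (Fin 2) (Fin 2) F) =
      Matrix.trace ((Y₁ * Y₂ : SL2 F) : Matrix (Fin 2) (Fin 2) F)) :
    ∃ u v : SL2 F, G = (u * X * u⁻¹) * (v * X * v⁻¹) := by
  obtain ⟨φ, hφ, htr⟩ := exists_gl_conj G (Y₁ * Y₂) hG hP ht
  have key : ∀ Y : SL2 F, Matrix.trace (Y : Matrix (Fin 2) (Fin 2) F) = Matrix.trace (X : Matrix (Fin 2) (Fin 2) F) →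
      ∃ u : SL2 F, u * X * u⁻¹ = φ Y := by
    intro Y hY
    refine isConj_iff.1 (isConj_of_trace X (φ Y) (not_isScalar'_of_trace X hα) ?_ ?_ hα)
    · exact not_isScalar'_of_trace _ (by rw [htr, hY]; exact hα)
    · rw [htr, hY]
  obtain ⟨u, hu⟩ := key Y₁ h1
  obtain ⟨v, hv⟩ := key Y₂ h2
  exact ⟨u, v, by rw [hu, hv, ← map_mul, hφ]⟩

end Cfsg.Agent.PSL2.TraceClasses
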