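import Cfsg.Agent.Lib.PSL2.Dickson

/-!
Orders and maximality consequences of Dickson's list.

* `card_normalizer_sylow`, `orderOf_psl_le`, `orderOf_pgl_le`;
* `card_mul_le_of_ne_top`: proper subgroups have index at least `q + 1`;
* `isCoatom_normalizer_torus`: torus normalisers are maximal.
-/

set_option autoImplicit false

open Matrix
open scoped MatrixGroups

namespace Cfsg.Agent.PSL2

variable {F : Type*} [Field F] [Fintype F]

/-- The arithmetic of `q` and `d = gcd 2 (q - 1)`. -/
theorem q_facts (F : Type*) [Field F] [Fintype F] :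
    (Nat.gcd 2 (Fintype.card F - 1) = 1 ∨ Nat.gcd 2 (Fintype.card F - 1) = 2) ∧
      Nat.gcd 2 (Fintype.card F - 1) *
          ((Fintype.card F + 1) / Nat.gcd 2 (Fintype.card F - 1)) = Fintype.card F + 1 ∧
      Nat.gcd 2 (Fintype.card F - 1) *
          ((Fintype.card F - 1) / Nat.gcd 2 (Fintype.card F - 1)) = Fintype.card F - 1 := by
  have hq := one_lt_q (F := F)
  have hd := Nat.gcd_dvd_right 2 (Fintype.card F - 1)
  refine ⟨(Nat.dvd_prime Nat.prime_two).1 (Nat.gcd_dvd_left _ _), Nat.mul_div_cancel' ?_,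
    Nat.mul_div_cancel' hd⟩
  have h : Fintype.card F + 1 = Fintype.card F - 1 + 2 := by omega
  rw [h]
  exact Nat.dvd_add hd (Nat.gcd_dvd_left _ _)

theorem card_normalizer_sylow (p : ℕ) [Fact p.Prime] [CharP F p] (P : Sylow p PSL(2, F)) :
    Nat.gcd 2 (Fintype.card F - 1) *
        Nat.card (Subgroup.normalizer ((P : Subgroup PSL(2, F)) : Set PSL(2, F))) =
      (Fintype.card F - 1) * Fintype.card F := by
  obtain ⟨g, hg⟩ := MulAction.exists_smul_eq PSL(2, F) P (unipSylowPSL F p)
  have hP : (P : Subgroup PSL(2, F)).map (MulAut.conj g).toMonoidHom = (unip F).map mk := by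
    rw [← coe_unipSylowPSL p, ← hg]; rfl
  have hN : (Subgroup.normalizer ((P : Subgroup PSL(2, F)) : Set PSL(2, F))).map
      (MulAut.conj g).toMonoidHom = (borel F).map mk := by
    rw [← normalizer_unip_map, ← hP]
    exact Subgroup.map_equiv_normalizer_eq _ (MulAut.conj g)
  rw [← Part.Partition.card_map_conj _ g, hN, gcd_mul_card_map_mk, card_borel']
  intro z hz
  exact mem_borel.2 (mem_center_iff_entries.1 hz).2.1

/-- Element orders of `PSL(2, r)`. -/
theorem orderOf_psl_le (x : PSL(2, F)) :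
    orderOf x ≤ Fintype.card F + 1 ∧ ((2 : F) ≠ 0 → orderOf x ≤ Fintype.card F) := by
  obtain ⟨p, hc⟩ := CharP.exists F
  have := Fact.mk (CharP.char_is_prime F p)
  have hp : p ≤ Fintype.card F := Nat.le_of_dvd Fintype.card_pos (p_dvd_q p)
  obtain ⟨hd, h1, h2⟩ := q_facts F
  have hq := one_lt_q (F := F)
  have hd2 : (2 : F) ≠ 0 → Nat.gcd 2 (Fintype.card F - 1) = 2 := fun h => by
    obtain ⟨k, hk⟩ := odd_card_iff.2 h
    exact Nat.gcd_eq_left ⟨k, by omega⟩
  set a := (Fintype.card F + 1) / Nat.gcd 2 (Fintype.card F - 1)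
  set b := (Fintype.card F - 1) / Nat.gcd 2 (Fintype.card F - 1)
  have hb : 0 < b := by
    rcases hd with e | e <;> rw [e] at h2 <;> omega
  have ha : 0 < a := by
    rcases hd with e | e <;> rw [e] at h1 <;> omega
  refine ⟨?_, fun h => ?_⟩
  · rcases psl_orderOf_dvd p x with e | e | e
    · have := Nat.le_of_dvd (Nat.Prime.pos Fact.out) e; omega
    · have := Nat.le_of_dvd hb e
      rcases hd with e | e <;> rw [e] at h2 <;> omega
    · have := Nat.le_of_dvd ha e
      rcases hd with e | e <;> rw [e] at h1 <;> omega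
  · rw [hd2 h] at h1 h2
    rcases psl_orderOf_dvd p x with e | e | e
    · have := Nat.le_of_dvd (Nat.Prime.pos Fact.out) e; omega
    · have := Nat.le_of_dvd hb e; omega
    · have := Nat.le_of_dvd ha e; omega

/-- Element orders of `PGL(2, r)`. -/
theorem orderOf_pgl_le (x : PGL(2, F)) : orderOf x ≤ 2 * Fintype.card F := by
  have hq := one_lt_q (F := F)
  set φ : PSL(2, F) →* PGL(2, F) := Matrix.ProjectiveSpecialLinearGroup.toPGL
  have hφ : Function.Injective φ := Matrix.ProjectiveSpecialLinearGroup.toPGL_injective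
  have hc : Nat.card φ.range = Nat.card PSL(2, F) :=
    (Nat.card_congr (MonoidHom.ofInjective hφ).toEquiv).symm
  have hi := φ.range.index_mul_card
  rw [hc, GL.card_PGL, card_SL, ← gcd_mul_card_PSL] at hi
  have hidx := Nat.eq_of_mul_eq_mul_right Nat.card_pos hi
  by_cases h2 : (2 : F) = 0
  · have h1 : φ.range.index = 1 := by
      obtain ⟨k, hk⟩ := even_card_iff.2 h2
      rw [hidx, Nat.gcd_rec, show (Fintype.card F - 1) % 2 = 1 by omega]
      rfl
    obtain ⟨y, rfl⟩ : x ∈ φ.range := by rw [Subgroup.index_eq_one.1 h1]; trivial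
    rw [orderOf_injective φ hφ]
    have := (orderOf_psl_le y).1
    omega
  · have h1 : φ.range.index = 2 := by
      obtain ⟨k, hk⟩ := odd_card_iff.2 h2
      rw [hidx]
      exact Nat.gcd_eq_left ⟨k, by omega⟩
    obtain ⟨y, hy⟩ := Subgroup.sq_mem_of_index_two h1 x
    have hx : x ^ (2 * orderOf y) = 1 := by
      rw [pow_mul, ← hy, ← map_pow, pow_orderOf_eq_one, map_one]
    have := (orderOf_psl_le y).2 h2
    have := Nat.le_of_dvd (by have := orderOf_pos y; omega) (orderOf_dvd_of_pow_eq_one hx)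
    omega

/-- Proper subgroups are small. -/
theorem card_mul_le_of_ne_top (hq : Fintype.card F ∉ ({2, 3, 5, 7, 9, 11} : Finset ℕ))
    {H : Subgroup PSL(2, F)} (hH : H ≠ ⊤) :
    Nat.card H * (Fintype.card F + 1) ≤ Nat.card PSL(2, F) := by
  obtain ⟨p, hc⟩ := CharP.exists F
  have := Fact.mk (CharP.char_is_prime F p)
  obtain ⟨hd, h1, h2⟩ := q_facts F
  have hG : Nat.gcd 2 (Fintype.card F - 1) * Nat.card PSL(2, F) =
      Fintype.card F * (Fintype.card F - 1) * (Fintype.card F + 1) := by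
    rw [gcd_mul_card_PSL, q_sq_sub_one]; ring
  have hlt : Nat.card H < Nat.card PSL(2, F) := lt_of_le_of_ne (Subgroup.card_le_card_group H)
    fun h => hH (Subgroup.eq_top_of_card_eq H h)
  have hdvd := H.card_subgroup_dvd_card
  simp only [Finset.mem_insert, Finset.mem_singleton, not_or] at hq
  set q := Fintype.card F with hqdef
  set d := Nat.gcd 2 (q - 1) with hddef
  have hd0 : 0 < d := by omega
  have hq4 : 4 ≤ q := by have := one_lt_q (F := F); omega
  obtain ⟨n, hp, hn⟩ := FiniteField.card F p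
  have hpp : IsPrimePow q := (isPrimePow_def _).2 ⟨p, n, hp.prime, n.pos, hn.symm⟩
  -- it suffices to bound `d * |H|` by `q (q - 1)`
  suffices h : d * Nat.card H ≤ q * (q - 1) by
    refine Nat.le_of_mul_le_mul_left ?_ hd0
    rw [hG, ← mul_assoc]
    exact Nat.mul_le_mul_right _ h
  have hsmall : 2 * (q + 1) ≤ q * (q - 1) := by
    obtain ⟨m, hm⟩ : ∃ m, q = m + 4 := ⟨q - 4, by omega⟩
    rw [hm, show m + 4 - 1 = m + 3 by omega]; nlinarith
  rcases dickson p H with ⟨k, hk, hH'⟩ | ⟨P, hP⟩ | h | h | h | ⟨K, _, _, m, hm, hK⟩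
  · have hHle : Nat.card H ≤ 2 * k := by
      rcases hH' with ⟨-, h⟩ | ⟨⟨e⟩⟩
      · omega
      · rw [Nat.card_congr e.toEquiv, DihedralGroup.nat_card]
    have hkle : d * k ≤ q + 1 := by
      rcases hk with h | h <;> obtain ⟨c, hc⟩ := h
      · rw [hc] at h1
        have : c ≠ 0 := by rintro rfl; simp at h1
        calc d * k ≤ d * (k * c) := Nat.mul_le_mul_left _ (Nat.le_mul_of_pos_right _ (by omega))
          _ = q + 1 := h1
      · rw [hc] at h2
        have : c ≠ 0 := by rintro rfl; simp at h2; omega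
        calc d * k ≤ d * (k * c) := Nat.mul_le_mul_left _ (Nat.le_mul_of_pos_right _ (by omega))
          _ = q - 1 := h2
          _ ≤ q + 1 := by omega
    calc d * Nat.card H ≤ d * (2 * k) := Nat.mul_le_mul_left _ hHle
      _ = 2 * (d * k) := by ring
      _ ≤ q * (q - 1) := by omega
  · calc d * Nat.card H ≤ d * Nat.card (Subgroup.normalizer ((P : Subgroup PSL(2, F)) : Set PSL(2, F))) :=
          Nat.mul_le_mul_left _ (Subgroup.card_le_of_le hP)
      _ = (q - 1) * q := card_normalizer_sylow p P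
      _ = q * (q - 1) := mul_comm _ _
  case inr.inr.inr.inr.inr =>
    have hr := one_lt_q (F := K)
    rw [← hqdef] at hm
    set r := Fintype.card K with hrdef
    have hHle : Nat.card H ≤ r * (r ^ 2 - 1) ∧ (m = 1 → Nat.card PSL(2, F) ≤ Nat.card H) := by
      rcases hK with ⟨⟨e⟩⟩ | ⟨⟨e⟩⟩
      · rw [Nat.card_congr e.toEquiv]
        refine ⟨?_, fun h => ?_⟩
        · rw [card_PSL]; exact Nat.div_le_self _ _
        · rw [card_PSL, card_PSL, ← hrdef, ← hqdef, ← hm, h, pow_one]
      · rw [Nat.card_congr e.toEquiv, GL.card_PGL, card_SL]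
        refine ⟨le_rfl, fun h => ?_⟩
        rw [card_PSL, ← hrdef, ← hqdef, ← hm, h, pow_one]
        exact Nat.div_le_self _ _
    rcases m with _ | _ | m
    · rw [pow_zero] at hm; omega
    · exact absurd (hHle.2 rfl) (not_le.2 hlt)
    · have hr2q : r ^ 2 ≤ q := hm ▸ Nat.pow_le_pow_right (by omega) (by omega)
      calc d * Nat.card H ≤ 2 * (r * (r ^ 2 - 1)) :=
            Nat.mul_le_mul (Nat.le_of_dvd two_pos (Nat.gcd_dvd_left _ _)) hHle.1
        _ = (2 * r) * (r ^ 2 - 1) := by ring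
        _ ≤ q * (q - 1) := Nat.mul_le_mul (le_trans (by nlinarith) hr2q) (by omega)
  all_goals
    obtain ⟨e⟩ := h
    have hcard := Nat.card_congr e.toEquiv
    simp only [nat_card_alternatingGroup, Nat.card_perm, Nat.card_fin] at hcard
    norm_num [Nat.factorial] at hcard
    rw [hcard] at hlt hdvd ⊢
    by_cases h13 : 13 ≤ q
    · obtain ⟨j, hj⟩ : ∃ j, q = j + 13 := ⟨q - 13, by omega⟩
      rw [hj, show j + 13 - 1 = j + 12 by omega]
      nlinarith [Nat.le_of_dvd two_pos (Nat.gcd_dvd_left 2 (q - 1))]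
    · have hq6 : q ≠ 6 ∧ q ≠ 10 ∧ q ≠ 12 := by
        refine ⟨?_, ?_, ?_⟩ <;> intro hbad <;> rw [hbad] at hpp <;> revert hpp <;> decide +kernel
      obtain h | h : q = 4 ∨ q = 8 := by omega
      all_goals
        rw [h] at hG ⊢
        norm_num [hddef, h] at hG hlt hdvd ⊢
        all_goals omega

/-- In `A₄` there is no subgroup of order six. -/
theorem alternatingFour_no_six (X : Subgroup (alternatingGroup (Fin 4))) : Nat.card X ≠ 6 := by
  intro h
  have hi : X.index = 2 := by
    have := X.index_mul_card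
    rw [h, nat_card_alternatingGroup, Nat.card_fin] at this
    norm_num [Nat.factorial] at this
    omega
  have hsq : (Finset.univ.image fun g : alternatingGroup (Fin 4) => g ^ 2).card ≤ 6 := by
    classical
    rw [← h, Nat.card_eq_fintype_card, ← Fintype.card_coe]
    refine Fintype.card_le_of_injective (fun g => ⟨g.1, ?_⟩) fun a b e =>
      Subtype.ext (congrArg (fun z : X => (z : alternatingGroup (Fin 4))) e)
    obtain ⟨z, -, hz⟩ := Finset.mem_image.1 g.2
    rw [← hz]
    exact Subgroup.sq_mem_of_index_two hi z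
  revert hsq
  decide +kernel

theorem orderOf_alternatingFour_le (g : alternatingGroup (Fin 4)) : orderOf g ≤ 3 := by
  have h : g ^ 1 = 1 ∨ g ^ 2 = 1 ∨ g ^ 3 = 1 := by revert g; decide +kernel
  rcases h with h | h | h <;> have := Nat.le_of_dvd (by norm_num) (orderOf_dvd_of_pow_eq_one h) <;>
    omega

theorem orderOf_permFour_le (g : Equiv.Perm (Fin 4)) : orderOf g ≤ 4 := by
  have h : g ^ 3 = 1 ∨ g ^ 4 = 1 := by revert g; decide +kernel
  rcases h with h | h <;> have := Nat.le_of_dvd (by norm_num) (orderOf_dvd_of_pow_eq_one h) <;> omega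

theorem orderOf_alternatingFive_le (g : alternatingGroup (Fin 5)) : orderOf g ≤ 5 := by
  have h : g ^ 2 = 1 ∨ g ^ 3 = 1 ∨ g ^ 5 = 1 := by revert g; decide +kernel
  rcases h with h | h | h <;> have := Nat.le_of_dvd (by norm_num) (orderOf_dvd_of_pow_eq_one h) <;>
    omega

/-- A torus normaliser is never inside the normaliser of a Sylow `p`-subgroup. -/
theorem normalizer_torus_not_le (p : ℕ) [Fact p.Prime] [CharP F p] {g : SL(2, F)}
    (h4 : tr g ^ 2 ≠ 4) (P : Sylow p PSL(2, F)) :
    ¬ (Subgroup.normalizer (cent g : Set SL(2, F))).map mk ≤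
      Subgroup.normalizer ((P : Subgroup PSL(2, F)) : Set PSL(2, F)) := by
  intro hle
  obtain ⟨k, hk⟩ := MulAction.exists_smul_eq PSL(2, F) (unipSylowPSL F p) P
  obtain ⟨k, rfl⟩ := mk_surjective k
  have hP : (P : Subgroup PSL(2, F)) =
      ((unip F).map mk).map (MulAut.conj (mk k)).toMonoidHom := by
    rw [← coe_unipSylowPSL p, ← hk]; rfl
  have hg := not_mem_center_of_tr h4
  set P' := pslPartition F p
  set u := k * uu 1 * k⁻¹ with hu
  have hu1 : u ∉ Subgroup.center SL(2, F) := fun h => uu_not_mem_center (F := F) one_ne_zero (by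
    have := Subgroup.Normal.conj_mem inferInstance _ h k⁻¹
    simpa [hu, mul_assoc] using this)
  have hu4 : tr u ^ 2 = 4 := by rw [hu, tr_conj, tr_uu]; norm_num
  have hPu : (P : Subgroup PSL(2, F)) = P'.comp (mk u) := by
    rw [pslPartition_comp, hu, cent_conj, hP, unip_map_eq_pmUnip_map, Subgroup.map_map,
      Subgroup.map_map, pmUnip]
    congr 1
  have hTp : ¬ IsPGroup p (P'.comp (mk g)) := by
    rw [pslPartition_comp, isPGroup_comp_iff p hg]; exact h4
  have hPp : IsPGroup p (P'.comp (mk u)) := hPu ▸ P.isPGroup'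
  have hmem : mk g ∈ Subgroup.normalizer (P'.comp (mk u) : Set PSL(2, F)) := by
    rw [← hPu]
    exact hle (Subgroup.mem_map_of_mem mk (cent_le_normalizer g (mem_cent.2 (Commute.refl g))))
  obtain ⟨-, hinf⟩ := P'.borel (mk u) (mk g) (mk_ne_one_iff.2 hu1) (mk_ne_one_iff.2 hg) hPp hTp hmem
  obtain ⟨w, hw⟩ := exists_inverting h4
  have hwN : mk w ∈ (Subgroup.normalizer (cent g : Set SL(2, F))).map mk :=
    Subgroup.mem_map_of_mem _ ((mem_normalizer_cent h4).2 (Or.inr hw))
  refine not_mem_cent_of_inverting h4 hw ((mk_mem_map_iff (center_le_cent g)).1 ?_)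
  have hw1 : mk w ∈ Subgroup.normalizer (P'.comp (mk u) : Set PSL(2, F)) := hPu ▸ hle hwN
  have hw2 : mk w ∈ Subgroup.normalizer (P'.comp (mk g) : Set PSL(2, F)) := by
    rw [pslPartition_comp, normalizer_map_mk (center_le_cent g)]; exact hwN
  rw [← pslPartition_comp p]
  exact hinf ⟨hw1, hw2⟩

/-- A subfield group is too small to contain a torus normaliser properly. -/
theorem torus_subfield_arith {q k d a b r m M : ℕ} (hr : 1 < r) (hm : r ^ (m + 1 + 1) = q)
    (hd : d = 1 ∨ d = 2) (h1 : d * a = q + 1) (h2 : d * b = q - 1)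
    (hodd : d = 2 → (q - 1) % 2 = 0)
    (hq : 3 ≤ q ∧ (k = a ∧ q ≠ 7 ∧ q ≠ 9 ∨ k = b ∧ 4 ≤ q ∧ q ≠ 5 ∧ q ≠ 7 ∧ q ≠ 9 ∧ q ≠ 11))
    (hkr : k ≤ 2 * r) (hM : M ≤ r * (r ^ 2 - 1)) (hlt : 2 * k < M) : False := by
  have hr2q : r ^ 2 ≤ q := hm ▸ Nat.pow_le_pow_right (by omega) (by omega)
  have hqk : q - 1 ≤ 4 * r := by
    rcases hq.2 with ⟨rfl, -⟩ | ⟨rfl, -⟩ <;> rcases hd with rfl | rfl <;> omega
  have hr4 : r ≤ 4 := by
    by_contra h5
    have : 5 * r ≤ r ^ 2 := by rw [pow_two]; exact Nat.mul_le_mul_right r (by omega)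
    omega
  have hm1 : m ≤ 1 := by
    by_contra h
    have h4 : r ^ 4 ≤ q := hm ▸ Nat.pow_le_pow_right (by omega) (by omega)
    interval_cases r <;> norm_num at h4 <;> omega
  rcases hd with rfl | rfl <;> interval_cases r <;> interval_cases m <;> norm_num at hm hM hodd <;>
    omega

/-- Normalisers of maximal tori are maximal subgroups, apart from small `q`. -/
theorem isCoatom_normalizer_torus (p : ℕ) [Fact p.Prime] [CharP F p] {g : SL(2, F)}
    (h4 : tr g ^ 2 ≠ 4) {k : ℕ} (hk : Nat.card ((cent g).map mk) = k)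
    (hcase : k = (Fintype.card F + 1) / Nat.gcd 2 (Fintype.card F - 1) ∧
        Fintype.card F ∉ ({2, 7, 9} : Finset ℕ) ∨
      k = (Fintype.card F - 1) / Nat.gcd 2 (Fintype.card F - 1) ∧
        Fintype.card F ∉ ({2, 3, 5, 7, 9, 11} : Finset ℕ)) :
    IsCoatom ((Subgroup.normalizer (cent g : Set SL(2, F))).map mk) := by
  set H := (Subgroup.normalizer (cent g : Set SL(2, F))).map mk with hHdef
  obtain ⟨eH⟩ := dihedral_normalizer h4 hk
  have hcardH : Nat.card H = 2 * k := by rw [Nat.card_congr eH.toEquiv, DihedralGroup.nat_card]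
  have hTH : (cent g).map mk ≤ H := Subgroup.map_mono (cent_le_normalizer g)
  obtain ⟨c, hc⟩ := (isCyclic_map_cent h4).exists_generator
  have hordc : orderOf (c : PSL(2, F)) = k := by
    rw [Subgroup.orderOf_coe, orderOf_eq_card_of_forall_mem_zpowers hc, hk]
  obtain ⟨hd, h1, h2⟩ := q_facts F
  have hq1 := one_lt_q (F := F)
  have hG := gcd_mul_card_PSL (F := F)
  set q := Fintype.card F with hqdef
  set d := Nat.gcd 2 (q - 1) with hddef
  set a := (q + 1) / d
  set b := (q - 1) / d
  obtain ⟨n, hp, hn⟩ := FiniteField.card F p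
  have hpp : IsPrimePow q := (isPrimePow_def _).2 ⟨p, n, hp.prime, n.pos, hn.symm⟩
  have hq : 3 ≤ q ∧ (k = a ∧ q ≠ 7 ∧ q ≠ 9 ∨ k = b ∧ 4 ≤ q ∧ q ≠ 5 ∧ q ≠ 7 ∧ q ≠ 9 ∧ q ≠ 11) := by
    simp only [Finset.mem_insert, Finset.mem_singleton, not_or] at hcase
    omega
  refine ⟨fun htop => ?_, fun M hM => ?_⟩
  · rw [htop, Subgroup.card_top] at hcardH
    have : d * k ≤ q + 1 := by rcases hq.2 with ⟨rfl, -⟩ | ⟨rfl, -⟩ <;> omega
    have h3 : 2 * (q + 1) < q * (q ^ 2 - 1) := by
      rw [q_sq_sub_one (F := F)]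
      nlinarith [Nat.mul_le_mul hq.1 (show 2 ≤ q - 1 by omega)]
    rw [hcardH] at hG
    nlinarith
  by_contra hMt
  have hlt : Nat.card H < Nat.card M := by
    by_contra hc'
    exact hM.ne (Subgroup.eq_of_le_of_card_ge hM.le (not_lt.1 hc'))
  have hMG : Nat.card M < Nat.card PSL(2, F) := lt_of_le_of_ne (Subgroup.card_le_card_group M)
    fun h => hMt (Subgroup.eq_top_of_card_eq M h)
  have hdvd : 2 * k ∣ Nat.card M := hcardH ▸ Subgroup.card_dvd_of_le hM.le
  rw [hcardH] at hlt
  let cM : M := ⟨c, hM.le (hTH c.2)⟩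
  have hordM : orderOf cM = k := by rw [← Subgroup.orderOf_coe]; exact hordc
  have hMdvd := M.card_subgroup_dvd_card
  rcases dickson p M with ⟨j, hj, hM'⟩ | ⟨P, hP⟩ | ⟨⟨e⟩⟩ | ⟨⟨e⟩⟩ | ⟨⟨e⟩⟩ | ⟨K, _, _, m, hm, hK⟩
  · have hMle : Nat.card M ≤ 2 * j := by
      rcases hM' with ⟨-, h⟩ | ⟨⟨e⟩⟩
      · omega
      · rw [Nat.card_congr e.toEquiv, DihedralGroup.nat_card]
    have hjle : j ≤ a := by
      have ha : 0 < a := by rcases hd with e | e <;> rw [e] at h1 <;> omega
      have hb : 0 < b := by rcases hd with e | e <;> rw [e] at h2 <;> omega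
      rcases hj with h | h
      · exact Nat.le_of_dvd ha h
      · have := Nat.le_of_dvd hb h
        rcases hd with e | e <;> rw [e] at h1 h2 <;> omega
    obtain ⟨t, ht⟩ := hdvd
    have ht2 : 2 ≤ t := by
      by_contra ht'
      have : t = 0 ∨ t = 1 := by omega
      rcases this with rfl | rfl <;> omega
    have : 4 * k ≤ 2 * a := by nlinarith
    rcases hd with e | e <;> rw [e] at h1 h2 <;> omega
  · exact normalizer_torus_not_le p h4 P (hM.le.trans hP)
  · have hk3 := orderOf_alternatingFour_le (e cM)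
    rw [show orderOf (e cM) = k from (orderOf_injective e.toMonoidHom e.injective cM).trans hordM]
      at hk3
    rw [Nat.card_congr e.toEquiv, nat_card_alternatingGroup, Nat.card_fin] at hlt hMG hdvd
    norm_num [Nat.factorial] at hlt hMG hdvd
    rcases (show k = 0 ∨ k = 1 ∨ k = 2 ∨ k = 3 by omega) with rfl | rfl | rfl | rfl
    · simp at hdvd
    · rcases hd with e | e <;> rw [e] at h1 h2 <;> omega
    · have hq3 : q = 3 := by rcases hd with e | e <;> rw [e] at h1 h2 <;> omega
      rw [hddef, hq3] at hG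
      norm_num at hG
      omega
    · refine alternatingFour_no_six (H.subgroupOf M |>.map e.toMonoidHom) ?_
      rw [Subgroup.card_map_of_injective e.injective,
        Nat.card_congr (Subgroup.subgroupOfEquivOfLe hM.le).toEquiv, hcardH]
  · have hk4 := orderOf_permFour_le (e cM)
    rw [show orderOf (e cM) = k from (orderOf_injective e.toMonoidHom e.injective cM).trans hordM]
      at hk4
    rw [Nat.card_congr e.toEquiv, Nat.card_perm, Nat.card_fin] at hlt hMG hMdvd
    norm_num [Nat.factorial] at hlt hMG hMdvd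
    have hq5 : q = 3 ∨ q = 4 ∨ q = 5 := by
      have h6 : q ≠ 6 := by rintro h; rw [h] at hpp; revert hpp; decide +kernel
      rcases hd with e | e <;> rw [e] at h1 h2 <;> omega
    rcases hq5 with e | e | e <;> rw [hddef, e] at hG <;> norm_num at hG <;> omega
  · have hk5 := orderOf_alternatingFive_le (e cM)
    rw [show orderOf (e cM) = k from (orderOf_injective e.toMonoidHom e.injective cM).trans hordM]
      at hk5
    rw [Nat.card_congr e.toEquiv, nat_card_alternatingGroup, Nat.card_fin] at hlt hMG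
    norm_num [Nat.factorial] at hlt hMG
    have hq5 : q = 3 ∨ q = 4 ∨ q = 5 := by
      have h6 : q ≠ 6 ∧ q ≠ 10 := by
        refine ⟨?_, ?_⟩ <;> rintro h <;> rw [h] at hpp <;> revert hpp <;> decide +kernel
      rcases hd with e | e <;> rw [e] at h1 h2 <;> omega
    rcases hq5 with e | e | e <;> rw [hddef, e] at hG <;> norm_num at hG <;> omega
  · have hr := one_lt_q (F := K)
    rw [← hqdef] at hm
    set r := Fintype.card K with hrdef
    have hkr : k ≤ 2 * r ∧ (Nat.card M ≤ r * (r ^ 2 - 1)) ∧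
        (m = 1 → Nat.card PSL(2, F) ≤ Nat.card M) := by
      rcases hK with ⟨⟨e⟩⟩ | ⟨⟨e⟩⟩
      · rw [← hordM, ← orderOf_injective e.toMonoidHom e.injective cM, Nat.card_congr e.toEquiv]
        refine ⟨?_, ?_, fun h => ?_⟩
        · have := (orderOf_psl_le (e cM)).1
          show orderOf (e cM) ≤ _
          omega
        · rw [card_PSL]; exact Nat.div_le_self _ _
        · rw [card_PSL, card_PSL, ← hrdef, ← hqdef, ← hm, h, pow_one]
      · rw [← hordM, ← orderOf_injective e.toMonoidHom e.injective cM, Nat.card_congr e.toEquiv,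
          GL.card_PGL, card_SL]
        refine ⟨orderOf_pgl_le (e cM), le_rfl, fun h => ?_⟩
        rw [card_PSL, ← hrdef, ← hqdef, ← hm, h, pow_one]
        exact Nat.div_le_self _ _
    obtain ⟨hkr, hMle, hm1⟩ := hkr
    rcases m with _ | _ | m
    · rw [pow_zero] at hm; omega
    · exact absurd (hm1 rfl) (not_le.2 hMG)
    · exact torus_subfield_arith hr hm hd h1 h2
        (fun h => Nat.mod_eq_zero_of_dvd (h ▸ Nat.gcd_dvd_right 2 (q - 1))) hq hkr hMle hlt

end Cfsg.Agent.PSL2
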