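import Cfsg.Agent.Lib.PSL2.Basic
import Cfsg.Agent.Lib.PSL2.TraceClasses
import Cfsg.Agent.Lib.Fusion.DihedralAut

/-!
For odd `q` with `16 ∣ q² - 1`: the Sylow 2-subgroup of `PSL(2, q)` is dihedral, built from the
centraliser `{(a b; -b a)}` of `ww`; all involutions of `PSL(2, q)` are conjugate.
-/

set_option autoImplicit false

open Matrix
open scoped MatrixGroups

namespace Cfsg.Agent.PSL2.Circle

variable {F : Type*} [Field F]

/-- The matrices `(a b; -b a)` in `SL(2, F)`. -/
def circle (F : Type*) [Field F] : Subgroup SL(2, F) where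
  carrier := {g | g 0 0 = g 1 1 ∧ g 1 0 = -g 0 1}
  one_mem' := by simp
  mul_mem' := by
    intro g h ⟨g1, g2⟩ ⟨h1, h2⟩
    constructor
    · rw [mul00, mul11, g2, h2, ← g1, ← h1]; ring
    · rw [mul10, mul01, g2, h2, ← g1, ← h1]; ring
  inv_mem' := by
    intro g ⟨g1, g2⟩
    exact ⟨by rw [inv00, inv11, g1], by rw [inv10, inv01, g2]⟩

theorem mem_circle {g : SL(2, F)} : g ∈ circle F ↔ g 0 0 = g 1 1 ∧ g 1 0 = -g 0 1 := Iff.rfl

theorem circle_det {g : SL(2, F)} (hg : g ∈ circle F) : g 0 0 ^ 2 + g 0 1 ^ 2 = 1 := by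
  have := det_eq g
  rw [← hg.1, hg.2] at this
  linear_combination this

/-- The element with parameters `a, b`. -/
def mkCircle (a b : F) (h : a ^ 2 + b ^ 2 = 1) : SL(2, F) :=
  ⟨!![a, b; -b, a], by rw [Matrix.det_fin_two_of]; linear_combination h⟩

theorem mkCircle_mem (a b : F) (h : a ^ 2 + b ^ 2 = 1) : mkCircle a b h ∈ circle F :=
  ⟨rfl, rfl⟩

theorem circle_isCyclic [Finite F] (h2 : (2 : F) ≠ 0) : IsCyclic (circle F) := by
  obtain ⟨i, hi⟩ := IsAlgClosed.exists_pow_nat_eq (-1 : AlgebraicClosure F) two_pos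
  let ι := algebraMap F (AlgebraicClosure F)
  have hii : i * i = -1 := by rw [← sq]; exact hi
  let f : circle F →* AlgebraicClosure F :=
    { toFun := fun g => ι ((g : SL(2, F)) 0 0) + ι ((g : SL(2, F)) 0 1) * i
      map_one' := by simp
      map_mul' := fun g h => by
        simp only [Subgroup.coe_mul]
        rw [mul00, mul01, g.2.2.symm.trans rfl |> (fun _ => ((h : circle F).2.2)), ← (h : circle F).2.1]
        simp only [map_add, map_mul, map_neg]
        linear_combination -ι ((g : SL(2, F)) 0 1) * ι ((h : SL(2, F)) 0 1) * hii }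
  refine isCyclic_of_subgroup_isDomain f ?_
  rw [injective_iff_map_eq_one]
  intro g hg
  change ι ((g : SL(2, F)) 0 0) + ι ((g : SL(2, F)) 0 1) * i = 1 at hg
  have hdet := congrArg ι (circle_det g.2)
  simp only [map_add, map_pow, map_one] at hdet
  have h2' : (2 : AlgebraicClosure F) ≠ 0 := by
    rw [← map_ofNat ι 2]
    exact fun h => h2 ((FaithfulSMul.algebraMap_injective F (AlgebraicClosure F)) (h.trans (map_zero ι).symm))
  have ha : ι ((g : SL(2, F)) 0 0) = 1 := by
    refine mul_left_cancel₀ h2' ?_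
    linear_combination (1 - ι ((g : SL(2, F)) 0 0) + ι ((g : SL(2, F)) 0 1) * i) * hg + hdet -
      ι ((g : SL(2, F)) 0 1) ^ 2 * hii
  have hb : ι ((g : SL(2, F)) 0 1) = 0 := by
    have hi0 : i ≠ 0 := fun h => by simp [h] at hii
    refine (mul_eq_zero.1 (?_ : ι ((g : SL(2, F)) 0 1) * i = 0)).resolve_right hi0
    linear_combination hg - ha
  have ha' : (g : SL(2, F)) 0 0 = 1 :=
    (FaithfulSMul.algebraMap_injective F (AlgebraicClosure F)) (ha.trans (map_one ι).symm)
  have hb' : (g : SL(2, F)) 0 1 = 0 :=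
    (FaithfulSMul.algebraMap_injective F (AlgebraicClosure F)) (hb.trans (map_zero ι).symm)
  apply Subtype.ext
  refine ext2 ?_ ?_ ?_ ?_
  · simpa using ha'
  · simpa using hb'
  · simpa [hb'] using g.2.2
  · simpa [ha'] using g.2.1.symm

variable [Fintype F]

theorem card_circle_of_sq {i : F} (hi : i * i = -1) (h2 : (2 : F) ≠ 0) :
    Nat.card (circle F) = Fintype.card F - 1 := by
  classical
  rw [← Fintype.card_units, ← Nat.card_eq_fintype_card]
  refine (Nat.card_congr ?_).symm
  have hi0 : i ≠ 0 := fun h => by simp [h] at hi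
  exact
  { toFun := fun u => ⟨mkCircle (((u : F) + (u : F)⁻¹) / 2) (((u : F) - (u : F)⁻¹) / (2 * i)) (by
      field_simp [u.ne_zero, hi0, h2]
      grind), mkCircle_mem _ _ _⟩
    invFun := fun g => Units.mkOfMulEqOne ((g : SL(2, F)) 0 0 + (g : SL(2, F)) 0 1 * i)
      ((g : SL(2, F)) 0 0 - (g : SL(2, F)) 0 1 * i)
      (by linear_combination circle_det g.2 - (g : SL(2, F)) 0 1 ^ 2 * hi)
    left_inv := fun u => by
      apply Units.ext
      simp only [Units.val_mkOfMulEqOne, mkCircle]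
      simp
      field_simp [u.ne_zero, hi0, h2]
      ring
    right_inv := fun g => by
      have hd : ((g : SL(2, F)) 0 0 + (g : SL(2, F)) 0 1 * i) *
          ((g : SL(2, F)) 0 0 - (g : SL(2, F)) 0 1 * i) = 1 := by
        linear_combination circle_det g.2 - (g : SL(2, F)) 0 1 ^ 2 * hi
      apply Subtype.ext
      simp only [Units.val_mkOfMulEqOne, inv_eq_of_mul_eq_one_right hd]
      refine ext2 ?_ ?_ ?_ ?_
      · simp [mkCircle]; field_simp; ring
      · simp [mkCircle]; field_simp; ring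
      · simp [mkCircle, g.2.2]; field_simp; ring
      · simp [mkCircle, ← g.2.1]; field_simp; ring }

theorem card_circle_of_not_sq (hns : ∀ i : F, i * i ≠ -1) (h2 : (2 : F) ≠ 0) :
    Nat.card (circle F) = Fintype.card F + 1 := by
  classical
  have hd : ∀ t : F, 1 + t ^ 2 ≠ 0 := fun t h => hns t (by linear_combination h)
  rw [show Fintype.card F + 1 = Nat.card (Option F) by simp]
  refine (Nat.card_congr ?_).symm
  refine Equiv.ofBijective (fun o => o.elim
      (⟨mkCircle (-1) 0 (by ring), mkCircle_mem _ _ _⟩ : circle F)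
      (fun t => ⟨mkCircle ((1 - t ^ 2) / (1 + t ^ 2)) (2 * t / (1 + t ^ 2)) (by
        field_simp [hd t]; ring), mkCircle_mem _ _ _⟩)) ⟨?_, ?_⟩
  · intro a b hab
    have h00 := congrArg (fun g : circle F => (g : SL(2, F)) 0 0) hab
    have h01 := congrArg (fun g : circle F => (g : SL(2, F)) 0 1) hab
    rcases a with _ | a <;> rcases b with _ | b <;> simp [mkCircle] at h00 h01 ⊢
    · field_simp [hd b] at h00
      exact h2 (by linear_combination -h00)
    · field_simp [hd a] at h00
      exact h2 (by linear_combination h00)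
    · field_simp [hd a, hd b] at h00 h01
      have h3 : 2 * (a ^ 2 - b ^ 2) = 0 := by linear_combination -h00
      have h4 : a ^ 2 = b ^ 2 := sub_eq_zero.1 ((mul_eq_zero.1 h3).resolve_left h2)
      have h5 : 2 * ((a - b) * (1 + a ^ 2)) = 0 := by
        linear_combination 2 * h01 + 2 * a * h4
      exact sub_eq_zero.1 (((mul_eq_zero.1 ((mul_eq_zero.1 h5).resolve_left h2))).resolve_right (hd a))
  · intro g
    have hg := circle_det g.2
    by_cases h : (g : SL(2, F)) 0 0 = -1
    · refine ⟨none, Subtype.ext ?_⟩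
      have h01 : (g : SL(2, F)) 0 1 = 0 := by
        rw [h] at hg
        exact (pow_eq_zero_iff two_ne_zero).1 (by linear_combination hg)
      refine ext2 ?_ ?_ ?_ ?_ <;> simp [mkCircle, h, h01, g.2.2, ← g.2.1]
    · have h1 : 1 + (g : SL(2, F)) 0 0 ≠ 0 := fun h' => h (by linear_combination h')
      refine ⟨some ((g : SL(2, F)) 0 1 / (1 + (g : SL(2, F)) 0 0)), Subtype.ext ?_⟩
      have e : 1 + ((g : SL(2, F)) 0 1 / (1 + (g : SL(2, F)) 0 0)) ^ 2 =
          2 / (1 + (g : SL(2, F)) 0 0) := by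
        field_simp
        linear_combination hg
      refine ext2 ?_ ?_ ?_ ?_
      · simp [mkCircle, e]; field_simp; linear_combination -hg
      · simp [mkCircle, e]; field_simp
      · simp [mkCircle, e, g.2.2]; field_simp
      · simp [mkCircle, e, ← g.2.1]; field_simp; linear_combination -hg

/-- The 2-part of `q² - 1` is twice the 2-part of the circle group. -/
theorem factorization_circle (h2 : (2 : F) ≠ 0) :
    (Fintype.card F ^ 2 - 1).factorization 2 = (Nat.card (circle F)).factorization 2 + 1 := by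
  obtain ⟨k, hk⟩ := odd_card_iff.2 h2
  have hq1 := Fintype.one_lt_card (α := F)
  rw [q_sq_sub_one, Nat.factorization_mul (by omega) (by omega), Finsupp.add_apply]
  have key : ∀ n : ℕ, n % 4 = 2 → n.factorization 2 = 1 := fun n hn => by
    obtain ⟨m, rfl⟩ : ∃ m, n = 2 * m := ⟨n / 2, by omega⟩
    rw [Nat.factorization_mul two_ne_zero (by omega), Finsupp.add_apply,
      Nat.prime_two.factorization_self, Nat.factorization_eq_zero_of_not_dvd (by omega)]
  by_cases hsq : IsSquare (-1 : F)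
  · obtain ⟨i, hi⟩ := hsq
    rw [card_circle_of_sq hi.symm h2, key (Fintype.card F + 1)]
    · omega
    · have := FiniteField.isSquare_neg_one_iff.1 ⟨i, hi⟩
      omega
  · rw [card_circle_of_not_sq (fun i hi => hsq ⟨i, hi.symm⟩) h2, key (Fintype.card F - 1)]
    have : Fintype.card F % 4 = 3 := by
      rw [FiniteField.isSquare_neg_one_iff] at hsq
      omega
    omega

/-- An element anticommuting with the circle. -/
def circleFlip (c d : F) (hcd : -c ^ 2 - d ^ 2 = 1) : SL(2, F) :=
  ⟨!![c, d; d, -c], by rw [Matrix.det_fin_two_of]; linear_combination hcd⟩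

omit [Fintype F] in
theorem circleFlip_entries (c d : F) (hcd : -c ^ 2 - d ^ 2 = 1) :
    circleFlip c d hcd 0 0 = c ∧ circleFlip c d hcd 0 1 = d ∧ circleFlip c d hcd 1 0 = d ∧
      circleFlip c d hcd 1 1 = -c := ⟨rfl, rfl, rfl, rfl⟩

omit [Fintype F] in
theorem circleFlip_mul_self (c d : F) (hcd : -c ^ 2 - d ^ 2 = 1) :
    circleFlip c d hcd * circleFlip c d hcd = -1 := by
  obtain ⟨e1, e2, e3, e4⟩ := circleFlip_entries c d hcd
  refine ext2 ?_ ?_ ?_ ?_ <;>
    simp only [mul00, mul01, mul10, mul11, e1, e2, e3, e4] <;> simp <;>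
    first
      | linear_combination -hcd
      | ring

omit [Fintype F] in
theorem circle_conj_flip {c d : F} (hcd : -c ^ 2 - d ^ 2 = 1) {g : SL(2, F)} (hg : g ∈ circle F) :
    circleFlip c d hcd * g = g⁻¹ * circleFlip c d hcd := by
  obtain ⟨e1, e2, e3, e4⟩ := circleFlip_entries c d hcd
  obtain ⟨h1, h2⟩ := hg
  refine ext2 ?_ ?_ ?_ ?_ <;>
    simp [mul00, mul01, mul10, mul11, inv00, inv01, inv10, inv11, h2, ← h1, e1, e2, e3, e4] <;>
    ring

/-- The dihedral Sylow 2-subgroup. -/
theorem exists_dihedral_sylow (h2 : (2 : F) ≠ 0) (h16 : 16 ∣ Fintype.card F ^ 2 - 1) :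
    ∃ (T : Sylow 2 PSL(2, F)) (x t : PSL(2, F)) (k : ℕ),
      Cfsg.Agent.Fusion.Dihedral.DihedralGen (T : Subgroup PSL(2, F)) x t k := by
  haveI := Fact.mk Nat.prime_two
  have hq0 : Fintype.card F ^ 2 - 1 ≠ 0 := by
    have hq1 := Fintype.one_lt_card (α := F)
    have : 2 ^ 2 ≤ Fintype.card F ^ 2 := Nat.pow_le_pow_left hq1 2
    omega
  set m := (Nat.card (circle F)).factorization 2 with hm
  have hm3 : 3 ≤ m := by
    have h := (Nat.prime_two.pow_dvd_iff_le_factorization hq0).1 (show 2 ^ 4 ∣ _ from h16)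
    have := factorization_circle h2
    omega
  obtain ⟨m', hm'⟩ : ∃ m', m = m' + 1 := ⟨m - 1, by omega⟩
  have hcyc : IsCyclic (circle F) := circle_isCyclic h2
  obtain ⟨r, hr⟩ : ∃ r : circle F, orderOf r = 2 ^ m := by
    obtain ⟨g, hg⟩ := IsCyclic.exists_ofOrder_eq_natCard (α := circle F)
    refine ⟨g ^ (orderOf g / 2 ^ m), orderOf_pow_orderOf_div ?_ ?_⟩
    · rw [hg]; exact Nat.card_pos.ne'
    · rw [hg, hm]; exact Nat.ordProj_dvd _ _
  have hrS : orderOf (r : SL(2, F)) = 2 ^ m := by rw [Subgroup.orderOf_coe, hr]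
  have hneg : (r : SL(2, F)) ^ 2 ^ m' = -1 := by
    refine eq_neg_one_of_orderOf_eq_two h2 ?_
    rw [orderOf_pow' _ (by positivity), hrS, hm', Nat.gcd_eq_right (pow_dvd_pow 2 m'.le_succ),
      pow_succ, Nat.mul_div_cancel_left _ (by positivity)]
  set x : PSL(2, F) := mk (r : SL(2, F)) with hx
  have hxo : orderOf x = 2 ^ m' := by
    obtain ⟨m'', rfl⟩ : ∃ m'', m' = m'' + 1 := ⟨m' - 1, by omega⟩
    refine orderOf_eq_prime_pow ?_ ?_
    · rw [hx, ← map_pow, mk_eq_one, not_or]
      constructor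
      · intro h
        have := Nat.le_of_dvd (by positivity) (hrS ▸ orderOf_dvd_of_pow_eq_one h)
        have := Nat.pow_lt_pow_right one_lt_two (show m'' < m by omega)
        omega
      · intro h
        have h' : (r : SL(2, F)) ^ 2 ^ (m'' + 1) = 1 := by
          rw [pow_succ, pow_mul, h, sq, neg_mul_neg, one_mul]
        rw [hneg] at h'
        exact neg_one_ne_one h2 h'
    · rw [hx, ← map_pow, hneg, mk_neg_one]
  obtain ⟨c, d, hcd⟩ : ∃ c d : F, -c ^ 2 - d ^ 2 = 1 := by
    obtain ⟨c, d, h⟩ := TraceClasses.exists_binary (0 : F) (-1)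
      (by intro h; exact h2 (pow_eq_zero_iff two_ne_zero |>.1 (by linear_combination -h)))
    exact ⟨c, d, by linear_combination -h⟩
  let j : SL(2, F) := circleFlip c d hcd
  have hj2 : j * j = -1 := circleFlip_mul_self c d hcd
  set t : PSL(2, F) := mk j with ht
  have htt : t * t = 1 := by rw [ht, ← map_mul, hj2, mk_neg_one]
  have hinv : t * x * t⁻¹ = x⁻¹ := by
    rw [ht, hx, ← map_inv, ← map_mul, ← map_mul, ← map_inv]
    congr 1
    rw [mul_inv_eq_iff_eq_mul]
    exact circle_conj_flip hcd r.2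
  set T₀ := Subgroup.zpowers x ⊔ Subgroup.zpowers t with hT₀
  have hD : Cfsg.Agent.Fusion.Dihedral.DihedralGen T₀ x t m' := ⟨by omega, hxo, htt, hinv, rfl⟩
  have hp1 : IsPGroup 2 (Subgroup.zpowers x) :=
    IsPGroup.of_card (n := m') (by rw [Nat.card_zpowers, hxo])
  have hp2 : IsPGroup 2 (Subgroup.zpowers t) := by
    intro y
    obtain ⟨i, hi⟩ := Subgroup.mem_zpowers_iff.1 y.2
    refine ⟨1, Subtype.ext ?_⟩
    show (y : PSL(2, F)) ^ 2 ^ 1 = 1
    rw [← hi, pow_one, ← zpow_natCast, ← _root_.zpow_mul, mul_comm, _root_.zpow_mul, zpow_natCast, sq, htt, _root_.one_zpow]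
  have hp : IsPGroup 2 T₀ := by
    refine hp1.to_sup_of_normal_left' hp2 ?_
    rw [Subgroup.zpowers_le, Subgroup.mem_normalizer_iff]
    intro y
    constructor
    · intro hy
      obtain ⟨i, rfl⟩ := Subgroup.mem_zpowers_iff.1 hy
      exact Subgroup.mem_zpowers_iff.2 ⟨-i, (hD.conj_zpow i).symm⟩
    · intro hy
      obtain ⟨i, hi⟩ := Subgroup.mem_zpowers_iff.1 hy
      refine Subgroup.mem_zpowers_iff.2 ⟨-i, ?_⟩
      have : y = t⁻¹ * x ^ i * t := by rw [hi]; group
      rw [this, inv_eq_of_mul_eq_one_right htt, ← hD.conj_zpow, inv_eq_of_mul_eq_one_right htt]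
  have hfac : (Nat.card PSL(2, F)).factorization 2 = m := by
    have h := congrArg (fun n => n.factorization 2) (two_mul_card_PSL h2)
    simp only [Nat.factorization_mul two_ne_zero Nat.card_pos.ne',
      Nat.factorization_mul Fintype.card_ne_zero hq0, Finsupp.add_apply,
      Nat.prime_two.factorization_self, factorization_circle h2] at h
    have hodd : ¬ 2 ∣ Fintype.card F := by
      obtain ⟨k, hk⟩ := odd_card_iff.2 h2
      omega
    rw [Nat.factorization_eq_zero_of_not_dvd hodd] at h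
    omega
  refine ⟨Sylow.ofCard T₀ ?_, x, t, m', ?_⟩
  · obtain ⟨n, hn⟩ := hp.exists_card_eq
    rw [hfac, hn]
    have hle : n ≤ m := by
      rw [← hfac]
      refine (Nat.prime_two.pow_dvd_iff_le_factorization Nat.card_pos.ne').1 ?_
      rw [← hn]
      exact Subgroup.card_subgroup_dvd_card T₀
    have hlt : Nat.card (Subgroup.zpowers x) < Nat.card T₀ := by
      refine lt_of_not_ge fun h => hD.t_not_mem ?_
      rw [Subgroup.eq_of_le_of_card_ge le_sup_left h]
      exact Subgroup.mem_sup_right (Subgroup.mem_zpowers t)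
    rw [Nat.card_zpowers, hxo, hn] at hlt
    have := (Nat.pow_lt_pow_iff_right one_lt_two).1 hlt
    congr 1
    omega
  · rw [Sylow.coe_ofCard]; exact hD

/-- All involutions of `PSL(2, q)` are conjugate. -/
theorem involutions_conj (h2 : (2 : F) ≠ 0) (a b : PSL(2, F)) (ha : orderOf a = 2)
    (hb : orderOf b = 2) : ∃ g : PSL(2, F), g * a * g⁻¹ = b := by
  have key : ∀ a : PSL(2, F), orderOf a = 2 → ∃ u : SL(2, F), mk u = a ∧
      Matrix.trace (u : Matrix (Fin 2) (Fin 2) F) = 0 := by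
    intro a ha
    obtain ⟨u, rfl⟩ := mk_surjective a
    refine ⟨u, rfl, ?_⟩
    have h1 : mk (u * u) = 1 := by
      have := pow_orderOf_eq_one (mk u)
      rwa [ha, sq, ← map_mul] at this
    have hne : mk u ≠ 1 := fun h => by simp [h] at ha
    rcases mk_eq_one.1 h1 with h | h
    · refine absurd ?_ hne
      rcases eq_pm_of_mul_self_eq_one h2 h with h' | h'
      · rw [h', map_one]
      · rw [h', mk_neg_one]
    · rw [Matrix.trace_fin_two]
      by_contra htr
      have e01 : (u * u) 0 1 = 0 := by rw [h]; simp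
      have e10 : (u * u) 1 0 = 0 := by rw [h]; simp
      have e00 : (u * u) 0 0 = -1 := by rw [h]; simp
      rw [mul01] at e01
      rw [mul10] at e10
      rw [mul00] at e00
      have u01 : u 0 1 = 0 :=
        (mul_eq_zero.1 (by linear_combination e01 :
          (u 0 0 + u 1 1) * u 0 1 = 0)).resolve_left htr
      have u10 : u 1 0 = 0 :=
        (mul_eq_zero.1 (by linear_combination e10 :
          (u 0 0 + u 1 1) * u 1 0 = 0)).resolve_left htr
      have hdet := det_eq u
      rw [u01, u10] at hdet e00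
      refine htr (mul_left_cancel₀ (left_ne_zero_of_mul_eq_one (a := u 0 0) (b := u 1 1)
        (by linear_combination hdet)) ?_)
      linear_combination e00 + hdet
  obtain ⟨u, rfl, hu⟩ := key a ha
  obtain ⟨v, rfl, hv⟩ := key b hb
  have h4 : ∀ w : SL(2, F), Matrix.trace (w : Matrix (Fin 2) (Fin 2) F) = 0 →
      Matrix.trace (w : Matrix (Fin 2) (Fin 2) F) ^ 2 ≠ 4 := fun w hw h => by
    rw [hw] at h
    exact h2 (pow_eq_zero_iff two_ne_zero |>.1 (by linear_combination -h))
  obtain ⟨g, hg⟩ := isConj_iff.1 (TraceClasses.isConj_of_trace u v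
    (TraceClasses.not_isScalar'_of_trace u (h4 u hu))
    (TraceClasses.not_isScalar'_of_trace v (h4 v hv)) (hu.trans hv.symm) (h4 u hu))
  exact ⟨mk g, by rw [← hg, map_mul, map_mul, map_inv]⟩

/-- The 2-fusion system of `PSL(2, q)`, `16 ∣ q² - 1`, is simple. -/
theorem psl_fusion_isSimple (h2 : (2 : F) ≠ 0) (h16 : 16 ∣ Fintype.card F ^ 2 - 1)
    (S : Sylow 2 PSL(2, F)) :
    (Cfsg.groupFusionSystem (S : Subgroup PSL(2, F))).IsSimple 2 := by
  haveI := Fact.mk Nat.prime_two
  obtain ⟨T, x, t, k, hT⟩ := exists_dihedral_sylow h2 h16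
  obtain ⟨g, rfl⟩ := MulAction.exists_smul_eq PSL(2, F) T S
  refine Cfsg.Agent.Fusion.Dihedral.isSimple (g • T) (x := g * x * g⁻¹) (t := g * t * g⁻¹) (k := k)
    ?_ (involutions_conj h2)
  refine ⟨hT.two_le, ?_, ?_, ?_, ?_⟩
  · rw [← MulAut.conj_apply, MulEquiv.orderOf_eq]; exact hT.order
  · calc g * t * g⁻¹ * (g * t * g⁻¹) = g * (t * t) * g⁻¹ := by group
      _ = 1 := by rw [hT.ht]; group
  · calc g * t * g⁻¹ * (g * x * g⁻¹) * (g * t * g⁻¹)⁻¹ = g * (t * x * t⁻¹) * g⁻¹ := by group
      _ = _ := by rw [hT.inv]; group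
  · rw [Sylow.coe_subgroup_smul, hT.gen]
    show (Subgroup.zpowers x ⊔ Subgroup.zpowers t).map (MulAut.conj g).toMonoidHom = _
    rw [Subgroup.map_sup, MonoidHom.map_zpowers, MonoidHom.map_zpowers]
    rfl

end Cfsg.Agent.PSL2.Circle
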