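import Cfsg.Agent.Lib.PSL2.SubgroupPartition
import Cfsg.Agent.Lib.PSL2.Sylow

/-!
A subgroup of `SL(2, F)`, `F` finite of odd characteristic `p`, with more than one Sylow
`p`-subgroup contains a copy of `SL(2, ZMod p)` (Dickson).

After normalising to `uu a, ll b ∈ H`, the points `g 0 0 / g 1 0` of `H ∖ borel` form `m` cosets of
`{t | uu t ∈ H}`; the partition equation gives `m = 1` (done: the points of `ll b` and `ll (2b)`
differ by some `t`) or `q = 3` with all traces in an explicit set (done by an identity).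
-/

set_option autoImplicit false

open Matrix
open scoped MatrixGroups

namespace Cfsg.Agent.PSL2

section CharP

variable {F : Type*} [Field F] (p : ℕ) [Fact p.Prime] [CharP F p]

theorem eq_one_of_pow_ppow {a : F} {k : ℕ} (h : a ^ p ^ k = 1) : a = 1 := by
  apply sub_eq_zero.1
  have : (a - 1) ^ p ^ k = 0 := by rw [sub_pow_char_pow, h, one_pow, sub_self]
  exact eq_zero_of_pow_eq_zero this

theorem pow00_of_mem_borel {g : SL(2, F)} (hg : g ∈ borel F) (n : ℕ) :
    (g ^ n) 0 0 = g 0 0 ^ n := by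
  induction n with
  | zero => simp
  | succ n ih => rw [pow_succ, mul00, ih, mem_borel.1 hg, pow_succ]; ring

theorem mem_unip_of_pow_ppow {g : SL(2, F)} (hg : g ∈ borel F) {k : ℕ} (h : g ^ p ^ k = 1) :
    g ∈ unip F := by
  refine mem_unip_iff_entries.2 ⟨hg, eq_one_of_pow_ppow p (k := k) ?_⟩
  rw [← pow00_of_mem_borel hg, h]; simp

theorem exists_conj_uu_of_pow_ppow [Fintype F] {g : SL(2, F)} {k : ℕ} (h : g ^ p ^ k = 1) :
    ∃ c s, g = c * uu s * c⁻¹ := by
  by_cases ht : IsEll (tr g)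
  · have h1 : orderOf g ∣ Fintype.card F + 1 := by
      rw [← ht.card_cent]
      exact Subgroup.orderOf_dvd_natCard _ (mem_cent.2 (Commute.refl g))
    have h2 : orderOf g ∣ p ^ k := orderOf_dvd_of_pow_eq_one h
    obtain ⟨n, -, hn⟩ := FiniteField.card F p
    have hcop : (p ^ k).Coprime (Fintype.card F + 1) := by
      refine Nat.Coprime.pow_left k ((Fact.out : p.Prime).coprime_iff_not_dvd.2 fun hd => ?_)
      rw [hn] at hd
      exact (Fact.out : p.Prime).not_dvd_one
        ((Nat.dvd_add_right (dvd_pow_self p n.ne_zero)).1 hd)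
    have := Nat.eq_one_of_dvd_coprimes hcop h2 h1
    rw [orderOf_eq_one_iff] at this
    exact ⟨1, 0, by simp [this]⟩
  · obtain ⟨c, b, hb, rfl⟩ := exists_conj_borel ht
    rw [conj_pow, conj_eq_one_iff] at h
    obtain ⟨s, rfl⟩ := mem_unip.1 (mem_unip_of_pow_ppow p hb h)
    exact ⟨c, s, rfl⟩

end CharP

section Copy

variable {F : Type*} [Field F] {p : ℕ} [Fact p.Prime] [CharP F p]

/-- The prime field inclusion. -/
def incl : ZMod p →+* F := ZMod.castHom (dvd_refl p) F

theorem incl_val (t : ZMod p) : (incl t : F) = ((t.val : ℕ) : F) := by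
  conv_lhs => rw [← ZMod.natCast_zmod_val t]
  rw [map_natCast]

/-- `(x y; z w) ↦ (x, a y; b z, w)` as a map. -/
def twistFun (a b : F) (hab : a * b = 1) (M : SL(2, ZMod p)) : SL(2, F) :=
  ⟨!![incl (M 0 0), a * incl (M 0 1); b * incl (M 1 0), incl (M 1 1)], by
    rw [Matrix.det_fin_two_of]
    have h := congrArg (incl (p := p) (F := F)) (det_eq M)
    simp only [map_sub, map_mul, map_one] at h
    linear_combination h - (incl (M 0 1) : F) * incl (M 1 0) * hab⟩

@[simp] theorem twistFun00 (a b : F) (hab : a * b = 1) (M : SL(2, ZMod p)) :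
    twistFun a b hab M 0 0 = incl (M 0 0) := rfl
@[simp] theorem twistFun01 (a b : F) (hab : a * b = 1) (M : SL(2, ZMod p)) :
    twistFun a b hab M 0 1 = a * incl (M 0 1) := rfl
@[simp] theorem twistFun10 (a b : F) (hab : a * b = 1) (M : SL(2, ZMod p)) :
    twistFun a b hab M 1 0 = b * incl (M 1 0) := rfl
@[simp] theorem twistFun11 (a b : F) (hab : a * b = 1) (M : SL(2, ZMod p)) :
    twistFun a b hab M 1 1 = incl (M 1 1) := rfl

/-- `(x y; z w) ↦ (x, a y; b z, w)` for `a b = 1`. -/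
def twist (a b : F) (hab : a * b = 1) : SL(2, ZMod p) →* SL(2, F) where
  toFun := twistFun a b hab
  map_one' := by apply ext2 <;> simp
  map_mul' M N := by
    apply ext2 <;> simp only [twistFun00, twistFun01, twistFun10, twistFun11, mul00, mul01, mul10,
      mul11, map_add, map_mul]
    · linear_combination -(incl (M 0 1) : F) * incl (N 1 0) * hab
    · ring
    · ring
    · linear_combination -(incl (M 1 0) : F) * incl (N 0 1) * hab

@[simp] theorem twist_apply (a b : F) (hab : a * b = 1) (M : SL(2, ZMod p)) :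
    twist a b hab M = twistFun a b hab M := rfl

theorem twist_uu (a b : F) (hab : a * b = 1) (t : ZMod p) :
    twist a b hab (uu t) = uu a ^ t.val := by
  rw [uu_pow]
  apply ext2 <;> simp [incl, mul_comm]

theorem twist_ll (a b : F) (hab : a * b = 1) (t : ZMod p) :
    twist a b hab (ll t) = ll (t.val * b) := by
  apply ext2 <;> simp [incl, mul_comm]

theorem twist_injective (a b : F) (hab : a * b = 1) :
    Function.Injective (twist (p := p) a b hab) := by
  intro M N h
  have e := fun i j => congrArg (fun g : SL(2, F) => g i j) h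
  have e00 := e 0 0
  have e01 := e 0 1
  have e10 := e 1 0
  have e11 := e 1 1
  simp only [twist_apply, twistFun00, twistFun01, twistFun10, twistFun11] at e00 e01 e10 e11
  exact ext2 ((incl (p := p) (F := F)).injective e00)
    ((incl (p := p) (F := F)).injective (mul_left_cancel₀ (left_ne_zero_of_mul_eq_one hab) e01))
    ((incl (p := p) (F := F)).injective (mul_left_cancel₀ (right_ne_zero_of_mul_eq_one hab) e10))
    ((incl (p := p) (F := F)).injective e11)

theorem ll_pow (b : F) (n : ℕ) : ll b ^ n = ll ((n : F) * b) := by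
  induction n with
  | zero => simp
  | succ n ih => rw [pow_succ, ih, ll_mul_ll]; push_cast; ring_nf

/-- `H` contains the image of an injective hom from `SL(2, ZMod p)`. -/
def HasCopy (p : ℕ) (H : Subgroup SL(2, F)) : Prop :=
  ∃ θ : SL(2, ZMod p) →* SL(2, F), Function.Injective θ ∧ θ.range ≤ H

theorem hasCopy_of_uu_ll {H : Subgroup SL(2, F)} {a b : F} (hab : a * b = 1) (ha : uu a ∈ H)
    (hb : ll b ∈ H) : HasCopy p H := by
  refine ⟨twist a b hab, twist_injective a b hab, ?_⟩
  rw [MonoidHom.range_eq_map, ← eq_top_of_uu_ll (H := H.comap (twist (p := p) a b hab)) (fun t => ?_)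
    (fun t => ?_)]
  · exact Subgroup.map_comap_le _ _
  · rw [Subgroup.mem_comap, twist_uu]; exact H.pow_mem ha _
  · rw [Subgroup.mem_comap, twist_ll, ← ll_pow]; exact H.pow_mem hb _

theorem HasCopy.of_conj {H : Subgroup SL(2, F)} {c : SL(2, F)}
    (h : HasCopy p (H.comap (MulAut.conj c).toMonoidHom)) : HasCopy p H := by
  obtain ⟨θ, hθ, hle⟩ := h
  refine ⟨(MulAut.conj c).toMonoidHom.comp θ, (MulAut.conj c).injective.comp hθ, ?_⟩
  rintro _ ⟨x, rfl⟩
  exact hle ⟨x, rfl⟩

end Copy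

section Main

open scoped Classical

variable {F : Type*} [Field F] [Fintype F] {p : ℕ} [Fact p.Prime] [CharP F p]

theorem two_ne_zero_of_charP (hp : p ≠ 2) : (2 : F) ≠ 0 :=
  Ring.two_ne_zero (by rwa [ringChar.eq F p])

/-- The `t` with `uu t ∈ H`. -/
def transl (H : Subgroup SL(2, F)) : AddSubgroup F where
  carrier := {t | uu t ∈ H}
  zero_mem' := by simp
  add_mem' {s t} hs ht := by
    simp only [Set.mem_ofPred_eq] at *
    rw [← uu_mul_uu]; exact H.mul_mem hs ht
  neg_mem' {t} ht := by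
    simp only [Set.mem_ofPred_eq] at *
    rw [← uu_inv]; exact H.inv_mem ht

theorem mem_transl {H : Subgroup SL(2, F)} {t : F} : t ∈ transl H ↔ uu t ∈ H := Iff.rfl

theorem card_transl (H : Subgroup SL(2, F)) :
    Nat.card (transl H) = Nat.card ↥(H ⊓ unip F) := by
  refine Nat.card_eq_of_bijective
    (fun t : transl H => (⟨uu t.1, t.2, uu_mem_unip _⟩ : ↥(H ⊓ unip F)))
    ⟨fun s t h => Subtype.ext (uu_injective (congrArg Subtype.val h)), fun g => ?_⟩
  obtain ⟨t, ht⟩ := mem_unip.1 g.2.2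
  exact ⟨⟨t, mem_transl.2 (ht ▸ g.2.1)⟩, Subtype.ext ht⟩

theorem prime_dvd_card_transl {H : Subgroup SL(2, F)} {a : F} (ha0 : a ≠ 0) (ha : uu a ∈ H) :
    p ∣ Nat.card (transl H) := by
  rw [card_transl, ← orderOf_uu p ha0]
  exact Subgroup.orderOf_dvd_natCard _ ⟨ha, uu_mem_unip a⟩

/-- The points `g 0 0 / g 1 0` of `H ∖ borel`. -/
noncomputable def points (H : Subgroup SL(2, F)) : Finset F :=
  (Finset.univ.filter fun g : SL(2, F) => g ∈ H ∧ g 1 0 ≠ 0).image fun g => g 0 0 / g 1 0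

theorem mem_points {H : Subgroup SL(2, F)} {x : F} :
    x ∈ points H ↔ ∃ g ∈ H, g 1 0 ≠ 0 ∧ g 0 0 / g 1 0 = x := by
  simp [points, and_assoc]

theorem card_eq_mul_points (H : Subgroup SL(2, F)) :
    Nat.card H = Nat.card ↥(H ⊓ borel F) * (1 + (points H).card) := by
  rw [natCard_eq_filter,
    ← Finset.card_filter_add_card_filter_not (fun g : SL(2, F) => g 1 0 = 0), Finset.filter_filter,
    Finset.filter_filter, mul_add, mul_one]
  congr 1
  · rw [natCard_eq_filter]
    simp [Subgroup.mem_inf, mem_borel]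
  · rw [Finset.card_eq_sum_card_fiberwise (t := points H) (f := fun g => g 0 0 / g 1 0)
      (fun g hg => Finset.mem_image_of_mem _ hg)]
    rw [mul_comm, ← smul_eq_mul, ← Finset.sum_const]
    refine Finset.sum_congr rfl fun x hx => ?_
    obtain ⟨g, hg, hg0, rfl⟩ := mem_points.1 hx
    rw [natCard_eq_filter]
    symm
    refine Finset.card_bij (fun n _ => g * n) ?_ (fun n _ m _ h => mul_left_cancel h) ?_
    · intro n hn
      simp only [Finset.mem_filter, Finset.mem_univ, true_and, Subgroup.mem_inf, mem_borel] at hn ⊢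
      have h00 : n 0 0 ≠ 0 := by
        intro h0
        have := det_eq n
        rw [h0, hn.2] at this; simp at this
      rw [mul00, mul10, hn.2, mul_zero, add_zero, mul_zero, add_zero]
      exact ⟨⟨H.mul_mem hg hn.1, mul_ne_zero hg0 h00⟩, mul_div_mul_right _ _ h00⟩
    · intro y hy
      simp only [Finset.mem_filter, Finset.mem_univ, true_and, Subgroup.mem_inf, mem_borel] at hy ⊢
      refine ⟨g⁻¹ * y, ⟨H.mul_mem (H.inv_mem hg) hy.1.1, ?_⟩, mul_inv_cancel_left g y⟩
      have := hy.2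
      rw [div_eq_div_iff hy.1.2 hg0] at this
      rw [mul10, inv10, inv11]
      linear_combination -this

theorem exists_card_points (H : Subgroup SL(2, F)) :
    ∃ m, (points H).card = Nat.card (transl H) * m ∧
      (m = 1 → ∀ x ∈ points H, ∀ y ∈ points H, x - y ∈ transl H) := by
  set π : F → F ⧸ transl H := fun x => (x : F ⧸ transl H)
  refine ⟨((points H).image π).card, ?_, fun hm x hx y hy => ?_⟩
  · rw [Finset.card_eq_sum_card_image π (points H), mul_comm, ← smul_eq_mul, ← Finset.sum_const]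
    refine Finset.sum_congr rfl fun z hz => ?_
    obtain ⟨x, hx, rfl⟩ := Finset.mem_image.1 hz
    rw [Nat.card_eq_fintype_card, Fintype.card_subtype]
    symm
    refine Finset.card_bij (fun t _ => t + x) ?_ (fun s _ t _ h => add_right_cancel h) ?_
    · intro t ht
      simp only [Finset.mem_filter, Finset.mem_univ, true_and] at ht ⊢
      obtain ⟨g, hg, hg0, rfl⟩ := mem_points.1 hx
      refine ⟨mem_points.2 ⟨uu t * g, H.mul_mem ht hg, ?_, ?_⟩, ?_⟩
      · rwa [mul10, uu10, uu11, zero_mul, one_mul, zero_add]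
      · rw [mul00, mul10, uu00, uu01, uu10, uu11, zero_mul, one_mul, one_mul, zero_add]
        field_simp
        ring
      · show ((t + g 0 0 / g 1 0 : F) : F ⧸ transl H) = _
        rw [QuotientAddGroup.eq_iff_sub_mem]
        simpa using ht
    · intro y hy
      simp only [Finset.mem_filter, Finset.mem_univ, true_and] at hy ⊢
      exact ⟨y - x, QuotientAddGroup.eq_iff_sub_mem.1 hy.2, sub_add_cancel y x⟩
  · obtain ⟨z, hz⟩ := Finset.card_eq_one.1 hm
    have hx' := Finset.mem_image_of_mem π hx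
    have hy' := Finset.mem_image_of_mem π hy
    rw [hz, Finset.mem_singleton] at hx' hy'
    exact QuotientAddGroup.eq_iff_sub_mem.1 (hx'.trans hy'.symm)

theorem Nx_uu {H : Subgroup SL(2, F)} {a : F} (ha0 : a ≠ 0) (ha : uu a ∈ H) :
    Nx H (uu a) = H ⊓ borel F := by
  have hC : Cx H (uu a) = H ⊓ pmUnip F := by rw [Cx, cent_uu ha0]
  ext g
  constructor
  · rintro ⟨hg, hN⟩
    refine ⟨hg, ?_⟩
    have hu : uu a ∈ Cx H (uu a) := ⟨ha, mem_cent.2 (Commute.refl _)⟩
    have h1 := (Subgroup.mem_normalizer_iff.1 hN _).1 hu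
    rw [hC] at h1
    rcases mem_pmUnip.1 h1.2 with h | h
    · obtain ⟨s, hs⟩ := mem_unip.1 h
      exact uu_conj_mem_borel ha0 hs.symm
    · obtain ⟨s, hs⟩ := mem_unip.1 h
      have e := congrArg tr hs
      rw [tr_uu, tr_neg, tr_conj, tr_uu] at e
      have h22 : (4 : F) = 0 := by linear_combination e
      have h2' : (2 : F) = 0 := mul_self_eq_zero.1 (by linear_combination h22)
      have hn1 : (-1 : SL(2, F)) = 1 := neg_one_eq_one_iff.2 h2'
      rw [neg_eq_neg_one_mul, hn1, one_mul] at hs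
      exact uu_conj_mem_borel ha0 hs.symm
  · rintro ⟨hg, hB⟩
    refine Subgroup.mem_inf.2 ⟨hg, ?_⟩
    have key : ∀ g' ∈ H ⊓ borel F, ∀ w ∈ Cx H (uu a), g' * w * g'⁻¹ ∈ Cx H (uu a) := by
      intro g' hg' w hw
      rw [hC] at hw ⊢
      refine ⟨H.mul_mem (H.mul_mem hg'.1 hw.1) (H.inv_mem hg'.1), mem_pmUnip.2 ?_⟩
      rcases mem_pmUnip.1 hw.2 with h | h
      · exact Or.inl (unip_conj_mem hg'.2 h)
      · exact Or.inr (by simpa using unip_conj_mem hg'.2 h)
    rw [Subgroup.mem_normalizer_iff]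
    refine fun w => ⟨key g ⟨hg, hB⟩ w, fun hw => ?_⟩
    have := key g⁻¹ ⟨H.inv_mem hg, (borel F).inv_mem hB⟩ _ hw
    simpa [mul_assoc] using this

theorem card_Cx_uu (h2 : (2 : F) ≠ 0) {H : Subgroup SL(2, F)} (hH : (-1 : SL(2, F)) ∈ H) {a : F}
    (ha0 : a ≠ 0) : Nat.card (Cx H (uu a)) = 2 * Nat.card (transl H) := by
  rw [card_transl, two_mul, natCard_eq_filter, natCard_eq_filter]
  have h : (Finset.univ.filter fun g => g ∈ Cx H (uu a)) =
      (Finset.univ.filter fun g => g ∈ H ⊓ unip F) ∪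
        (Finset.univ.filter fun g => g ∈ H ⊓ unip F).image (fun g => -g) := by
    ext g
    simp only [Cx, cent_uu ha0, Subgroup.mem_inf, Finset.mem_filter, Finset.mem_univ, true_and,
      Finset.mem_union, Finset.mem_image, mem_pmUnip]
    constructor
    · rintro ⟨hg, h | h⟩
      · exact Or.inl ⟨hg, h⟩
      · exact Or.inr ⟨-g, ⟨by rw [neg_eq_neg_one_mul]; exact H.mul_mem hH hg, h⟩, neg_neg g⟩
    · rintro (⟨hg, h⟩ | ⟨g, ⟨hg, h⟩, rfl⟩)
      · exact ⟨hg, Or.inl h⟩
      · exact ⟨by rw [neg_eq_neg_one_mul]; exact H.mul_mem hH hg, Or.inr (by rwa [neg_neg])⟩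
  rw [h, Finset.card_union_of_disjoint, Finset.card_image_of_injective _ neg_injective]
  rw [Finset.disjoint_left]
  intro g hg hg'
  simp only [Finset.mem_filter, Finset.mem_univ, true_and, Subgroup.mem_inf, Finset.mem_image]
    at hg hg'
  obtain ⟨u, ⟨-, hu⟩, rfl⟩ := hg'
  obtain ⟨-, h1⟩ := mem_unip_iff_entries.1 hg.2
  obtain ⟨-, h3⟩ := mem_unip_iff_entries.1 hu
  simp [h3] at h1
  exact h2 (by linear_combination -h1)

/-- A semisimple element of `H ⊓ borel` splits it. -/
theorem card_borel_inf_of_split (h2 : (2 : F) ≠ 0) {H : Subgroup SL(2, F)} {g : SL(2, F)}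
    (hg : g ∈ H ⊓ borel F) (ha : g 0 0 ^ 2 ≠ 1) :
    Nat.card ↥(H ⊓ borel F) = Nat.card (transl H) * Nat.card (Cx H g) ∧
      (∀ y ∈ Cx H g, y 1 0 = 0 ∧ (y 0 0 = 1 → y = 1)) := by
  have hgc : g ∉ Subgroup.center SL(2, F) := fun h => by
    rcases mem_center_iff_pm.1 h with rfl | rfl <;> simp at ha
  have hC : ∀ y ∈ Cx H g, y 1 0 = 0 ∧ (y 0 0 = 1 → y = 1) := by
    intro y hy
    obtain ⟨x, η, e1, e2, e3, e4⟩ := exists_coords hgc (mem_cent.1 hy.2)
    have hy10 : y 1 0 = 0 := by rw [e3, mem_borel.1 hg.2, mul_zero]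
    refine ⟨hy10, fun h00 => ?_⟩
    obtain ⟨t, rfl⟩ := mem_unip.1 (mem_unip_iff_entries.2 ⟨hy10, h00⟩)
    by_contra hne
    have ht : t ≠ 0 := fun h => hne (by rw [h, uu_zero])
    rcases (centralizer_uu ht).1 (mem_cent.1 hy.2).symm with h | h
    · exact ha (by rw [(mem_unip_iff_entries.1 h).2, one_pow])
    · have := (mem_unip_iff_entries.1 h).2
      simp at this
      exact ha (by linear_combination (1 - g 0 0) * this)
  refine ⟨?_, hC⟩
  rw [card_transl, ← Nat.card_prod]
  symm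
  refine Nat.card_eq_of_bijective
    (fun x : ↥(H ⊓ unip F) × Cx H g => (⟨(x.1 : SL(2, F)) * x.2,
      H.mul_mem x.1.2.1 x.2.2.1, (borel F).mul_mem (unip_le_borel x.1.2.2) (hC _ x.2.2).1⟩ :
      ↥(H ⊓ borel F))) ⟨?_, ?_⟩
  · rintro ⟨⟨u, hu⟩, ⟨y, hy⟩⟩ ⟨⟨u', hu'⟩, ⟨y', hy'⟩⟩ h
    have h' : u * y = u' * y' := congrArg Subtype.val h
    have hm : y' * y⁻¹ ∈ unip F := by
      rw [show y' * y⁻¹ = u'⁻¹ * (u' * y') * y⁻¹ by group, ← h']
      simpa [mul_assoc] using (unip F).mul_mem ((unip F).inv_mem hu'.2) hu.2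
    have e := (hC _ ((Cx H g).mul_mem hy' ((Cx H g).inv_mem hy))).2 (mem_unip_iff_entries.1 hm).2
    rw [mul_inv_eq_one] at e
    subst e
    rw [mul_left_inj] at h'
    subst h'
    rfl
  · rintro ⟨w, hw⟩
    -- `g` is conjugate to `w g w⁻¹` by some element of `H ⊓ unip`
    have hinj : Function.Injective fun t : transl H => uu t.1 * g * (uu t.1)⁻¹ * g⁻¹ := by
      intro s t h
      have h' : uu ((s : F) - g 0 0 ^ 2 * s) = uu ((t : F) - g 0 0 ^ 2 * t) := by
        have e : ∀ r : F, uu r * g * (uu r)⁻¹ * g⁻¹ = uu (r - g 0 0 ^ 2 * r) := fun r => by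
          rw [mul_assoc, mul_assoc, ← mul_assoc g, uu_inv, borel_conj_uu hg.2, uu_mul_uu]
          congr 1; ring
        rw [← e, ← e]; exact h
      have := uu_injective h'
      have h1 : (1 - g 0 0 ^ 2) * ((s : F) - t) = 0 := by linear_combination this
      exact Subtype.ext (sub_eq_zero.1 ((mul_eq_zero.1 h1).resolve_left (sub_ne_zero.2 ha.symm)))
    have hmem : ∀ t : transl H, uu t.1 * g * (uu t.1)⁻¹ * g⁻¹ ∈ H ⊓ unip F := fun t =>
      ⟨H.mul_mem (H.mul_mem (H.mul_mem t.2 hg.1) (H.inv_mem t.2)) (H.inv_mem hg.1), by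
        rw [mul_assoc, mul_assoc, ← mul_assoc g]
        exact (unip F).mul_mem (uu_mem_unip _)
          (unip_conj_mem hg.2 ((unip F).inv_mem (uu_mem_unip _)))⟩
    have hsurj := ((Fintype.bijective_iff_injective_and_card
      (fun t : transl H => (⟨_, hmem t⟩ : ↥(H ⊓ unip F)))).2
      ⟨fun s t h => hinj (congrArg Subtype.val h), by
        rw [← Nat.card_eq_fintype_card, ← Nat.card_eq_fintype_card, card_transl]⟩).2
    have hwg : w * g * w⁻¹ * g⁻¹ ∈ H ⊓ unip F := by
      refine ⟨H.mul_mem (H.mul_mem (H.mul_mem hw.1 hg.1) (H.inv_mem hw.1)) (H.inv_mem hg.1),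
        mem_unip_iff_entries.2 ⟨(borel F).mul_mem ((borel F).mul_mem ((borel F).mul_mem hw.2 hg.2)
          ((borel F).inv_mem hw.2)) ((borel F).inv_mem hg.2), ?_⟩⟩
      have d1 := det_eq w
      have d2 := det_eq g
      have b1 := mem_borel.1 hw.2
      have b2 := mem_borel.1 hg.2
      simp only [mul00, mul10, inv00, inv10, b1, b2]
      rw [b1] at d1; rw [b2] at d2
      linear_combination (g 0 0 * g 1 1) * d1 + d2
    obtain ⟨t, ht⟩ := hsurj ⟨_, hwg⟩
    have ht' : uu t.1 * g * (uu t.1)⁻¹ = w * g * w⁻¹ :=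
      mul_right_cancel (congrArg Subtype.val ht)
    refine ⟨⟨⟨uu t.1, t.2, uu_mem_unip _⟩, ⟨(uu t.1)⁻¹ * w,
      H.mul_mem (H.inv_mem t.2) hw.1, mem_cent.2 ?_⟩⟩, Subtype.ext (mul_inv_cancel_left _ _)⟩
    show (uu t.1)⁻¹ * w * g = g * ((uu t.1)⁻¹ * w)
    calc (uu t.1)⁻¹ * w * g = (uu t.1)⁻¹ * (w * g * w⁻¹) * w := by group
      _ = (uu t.1)⁻¹ * (uu t.1 * g * (uu t.1)⁻¹) * w := by rw [ht']
      _ = g * ((uu t.1)⁻¹ * w) := by group


/-- One class besides the parabolic one when `|H ⊓ borel| = 2q`. -/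
theorem arith_small {q n c s S : ℕ} (hq : 3 ≤ q) (hc : 4 ≤ c) (hc2 : 2 ∣ c) (hn : 1 ≤ n)
    (hs : s = 1 ∨ s = 2) (e : S * (s * c) + 2 * (q * 2 * n) = q * 2 * n * c)
    (hS : S + 2 ≤ 2 * n) : q = 3 ∧ 2 * S = 3 * n := by
  obtain ⟨d, rfl⟩ := hc2
  have h1 : S * (s * (2 * d)) < 2 * n * (s * (2 * d)) :=
    Nat.mul_lt_mul_of_pos_right (by omega) (by rcases hs with rfl | rfl <;> omega)
  rcases hs with rfl | rfl
  · have h2 : q * d < d + q := by nlinarith
    exfalso; nlinarith
  · have h2 : q * d < 2 * d + q := by nlinarith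
    have hq3 : q = 3 := by
      by_contra hne
      have : 4 ≤ q := by omega
      nlinarith
    subst hq3
    have hd : d = 2 := by omega
    subst hd
    exact ⟨rfl, by omega⟩

/-- The torus class has index two. -/
theorem arith_index_one {q n t c s S : ℕ} (hq : 3 ≤ q) (ht : 4 ≤ t) (hc : 4 ≤ c) (hn : 1 ≤ n)
    (hs : s = 1 ∨ s = 2) (e : S * (s * c) + 2 * (q * t * n) = q * t * n * c)
    (hS : S + 2 ≤ 2 * n) : False := by
  have h1 : S * (s * c) ≤ 2 * n * (2 * c) := by
    refine Nat.mul_le_mul (by omega) ?_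
    rcases hs with rfl | rfl <;> omega
  have h2 : 12 ≤ q * t := Nat.mul_le_mul hq ht
  have h3 : q * t * n * c ≤ 8 * n * c := by
    have h5 : 4 * (q * t * n) ≤ q * t * n * c := by rw [mul_comm 4]; gcongr
    linarith
  have h4 : 12 * n * c ≤ q * t * n * c := by gcongr
  nlinarith

/-- The last class when the torus class has index two. -/
theorem arith_last {q n t c s S R : ℕ} (hq : 3 ≤ q) (hc : 4 ≤ c) (hn : 1 ≤ n)
    (hs : s = 1 ∨ s = 2) (e : S * (s * c) + 2 * (q * t * n) = q * t * n * c)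
    (hS : S ≤ R) (hR : 2 * R + 2 * (q * n) + 4 = q * t * n + 4 * n) :
    s = 2 ∧ q * t * n ≤ 4 * S := by
  have h0 : 2 * R < q * t * n := by
    have : 3 * n ≤ q * n := Nat.mul_le_mul_right n hq
    omega
  rcases hs with rfl | rfl
  · exfalso
    have h1 : 2 * S * c < q * t * n * c := Nat.mul_lt_mul_of_pos_right (by omega) (by omega)
    nlinarith
  · refine ⟨rfl, ?_⟩
    by_contra hlt
    have h1 : 4 * S * c < q * t * n * c := Nat.mul_lt_mul_of_pos_right (by omega) (by omega)
    nlinarith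

/-- The final equation. -/
theorem arith_final {q m t c R : ℕ} (hqo : Odd q) (hq : 3 ≤ q) (hm : 1 ≤ m) (ht2 : 2 ∣ t)
    (ht : t + 2 ≤ 2 * q) (hc2 : 2 ∣ c) (hc : 4 ≤ c)
    (e : R * (2 * c) + 2 * (q * t * (1 + q * m)) = q * t * (1 + q * m) * c)
    (hR : 2 * R + 2 * (q * (1 + q * m)) + 4 = q * t * (1 + q * m) + 4 * (1 + q * m)) :
    m = 1 ∨ (q = 3 ∧ t = 4 ∧ c = 10) := by
  obtain ⟨T, rfl⟩ := ht2
  obtain ⟨d, rfl⟩ := hc2
  have e1 : (1 + (q : ℤ) * m) * ((q : ℤ) * T - d * (q - 2)) = 2 * d := by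
    have e' := congrArg (Nat.cast : ℕ → ℤ) e
    have hR' := congrArg (Nat.cast : ℕ → ℤ) hR
    push_cast at e' hR'
    have : (R : ℤ) * 2 = (q : ℤ) * (2 * T) * (1 + q * m) + 4 * (1 + q * m)
        - 2 * (q * (1 + q * m)) - 4 := by linear_combination hR'
    nlinarith [e', this]
  obtain ⟨E, hE⟩ : ∃ E : ℤ, E = (q : ℤ) * T - d * (q - 2) := ⟨_, rfl⟩
  rw [← hE] at e1
  have e2 : 2 * (T : ℤ) = E * (1 + m * (q - 2)) := by
    refine mul_left_cancel₀ (show (q : ℤ) ≠ 0 by omega) ?_
    linear_combination (-2 : ℤ) * hE - ((q : ℤ) - 2) * e1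
  have hE1 : 1 ≤ E := by
    by_contra h
    have h1 : (1 + (q : ℤ) * m) * E ≤ 0 :=
      mul_nonpos_of_nonneg_of_nonpos (by positivity) (by omega)
    omega
  have hTq : (T : ℤ) + 1 ≤ q := by omega
  have hq' : (3 : ℤ) ≤ q := by omega
  have hm' : (1 : ℤ) ≤ m := by omega
  rcases Nat.lt_or_ge m 2 with hm1 | hm2
  · exact Or.inl (by omega)
  have hm2' : (2 : ℤ) ≤ m := by omega
  have hE2 : E = 1 := by
    by_contra h
    have h2 : 2 * (1 + (m : ℤ) * (q - 2)) ≤ E * (1 + m * (q - 2)) :=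
      mul_le_mul_of_nonneg_right (by omega) (by nlinarith)
    nlinarith
  rw [hE2, one_mul] at e2
  rw [hE2, mul_one] at e1
  obtain ⟨k, hk⟩ := hqo
  have hm3 : m ≠ 2 := by
    rintro rfl
    omega
  have hq3 : q = 3 := by
    by_contra hne
    have h5 : (5 : ℤ) ≤ q := by omega
    have : (3 : ℤ) ≤ m := by omega
    nlinarith
  subst hq3
  push_cast at e1 e2 hE hTq
  exact Or.inr ⟨rfl, by omega, by omega⟩

theorem trace_sq_four_iff (hp : p ≠ 2) {H : Subgroup SL(2, F)} (hH : (-1 : SL(2, F)) ∈ H) {a : F}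
    (ha0 : a ≠ 0) (hsyl : ∀ u ∈ H, u ^ p = 1 → ∃ g ∈ H, g * u * g⁻¹ ∈ unip F) {y : SL(2, F)}
    (hy : y ∈ noncentral H) : y ∈ Sx H (uu a) ↔ tr y ^ 2 = 4 := by
  constructor
  · intro h
    obtain ⟨-, g, -, hg⟩ := mem_Sx.1 h
    rw [cent_uu ha0, mem_pmUnip] at hg
    rcases hg with h1 | h1 <;> obtain ⟨s, hs⟩ := mem_unip.1 h1 <;> have e := congrArg tr hs
    · rw [tr_uu, tr_conj] at e; rw [← e]; norm_num
    · rw [tr_uu, tr_neg, tr_conj] at e; linear_combination (tr y - 2) * e
  · intro h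
    have key : ∀ z ∈ H, tr z = 2 → ∃ g ∈ H, g * z * g⁻¹ ∈ unip F := by
      intro z hz htr
      refine hsyl z hz ?_
      obtain ⟨c, b, hb, rfl⟩ := exists_conj_borel (g := z)
        (fun he => he.sq_ne_four (by rw [htr]; norm_num))
      rw [tr_conj, tr_def] at htr
      have hd := det_eq b
      rw [mem_borel.1 hb] at hd
      have h00 : b 0 0 = 1 :=
        sub_eq_zero.1 (mul_self_eq_zero.1 (by linear_combination (b 0 0) * htr - hd))
      obtain ⟨s, hs⟩ := mem_unip.1 (mem_unip_iff_entries.2 ⟨hb, h00⟩)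
      rw [conj_pow, conj_eq_one_iff, ← hs, uu_pow, CharP.cast_eq_zero F p, zero_mul, uu_zero]
    have hfac : (tr y - 2) * (tr y + 2) = 0 := by linear_combination h
    refine mem_Sx.2 ⟨hy, ?_⟩
    rw [cent_uu ha0]
    rcases mul_eq_zero.1 hfac with h1 | h1
    · obtain ⟨g, hg, hgy⟩ := key y (mem_noncentral.1 hy).1 (sub_eq_zero.1 h1)
      exact ⟨g, hg, mem_pmUnip.2 (Or.inl hgy)⟩
    · obtain ⟨g, hg, hgy⟩ := key (-y)
        (by rw [neg_eq_neg_one_mul]; exact H.mul_mem hH (mem_noncentral.1 hy).1)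
        (by rw [tr_neg]; linear_combination -h1)
      refine ⟨g, hg, mem_pmUnip.2 (Or.inr ?_)⟩
      simpa using hgy

theorem borel_cases (hp : p ≠ 2) {H : Subgroup SL(2, F)} (hH : (-1 : SL(2, F)) ∈ H) {a : F}
    (ha0 : a ≠ 0) (ha : uu a ∈ H) :
    (Nat.card ↥(H ⊓ borel F) = Nat.card (transl H) * 2) ∨
    ∃ g ∈ noncentral H, tr g ^ 2 ≠ 4 ∧
      Nat.card ↥(H ⊓ borel F) = Nat.card (transl H) * Nat.card (Cx H g) ∧
      ¬ p ∣ Nat.card (Cx H g) ∧ Nat.card (Cx H g) + 2 ≤ 2 * Nat.card (transl H) := by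
  have h2 : (2 : F) ≠ 0 := two_ne_zero_of_charP hp
  by_cases hall : ∀ n ∈ H ⊓ borel F, n 0 0 ^ 2 = 1
  · left
    rw [mul_comm, ← card_Cx_uu h2 hH ha0]
    congr 2
    ext g
    simp only [Cx, Subgroup.mem_inf, cent_uu ha0, mem_pmUnip]
    constructor
    · rintro ⟨hg, hb⟩
      refine ⟨hg, ?_⟩
      rcases sq_eq_one_iff.1 (hall g ⟨hg, hb⟩) with h1 | h1
      · exact Or.inl (mem_unip_iff_entries.2 ⟨hb, h1⟩)
      · exact Or.inr (mem_unip_iff_entries.2 (by simp [mem_borel.1 hb, h1]))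
    · rintro ⟨hg, h | h⟩
      · exact ⟨hg, unip_le_borel h⟩
      · exact ⟨hg, by simpa [mem_borel] using (mem_borel.1 (unip_le_borel h))⟩
  · push Not at hall
    obtain ⟨g, hg, hga⟩ := hall
    right
    obtain ⟨hcard, hC⟩ := card_borel_inf_of_split h2 hg hga
    have hgc : g ∉ Subgroup.center SL(2, F) := fun h => by
      rcases mem_center_iff_pm.1 h with rfl | rfl <;> simp at hga
    have hd := det_eq g
    rw [mem_borel.1 hg.2] at hd
    refine ⟨g, mem_noncentral.2 ⟨hg.1, hgc⟩, fun h4 => hga ?_, hcard, fun hdvd => ?_, ?_⟩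
    · rw [tr_def] at h4
      have : g 0 0 - g 1 1 = 0 := sq_eq_zero_iff.1 (by linear_combination h4 - 4 * hd)
      linear_combination hd + (g 0 0) * this
    · obtain ⟨⟨y, hy⟩, hy1⟩ := exists_prime_orderOf_dvd_card' (G := Cx H g) p hdvd
      rw [Subgroup.orderOf_mk] at hy1
      have hpy : y ^ p ^ 1 = 1 := by rw [pow_one, ← hy1, pow_orderOf_eq_one]
      have h1 := (hC y hy).2 (mem_unip_iff_entries.1 (mem_unip_of_pow_ppow p (hC y hy).1 hpy)).2
      rw [h1, orderOf_one] at hy1
      exact (Fact.out : p.Prime).ne_one hy1.symm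
    · have hq : 1 ≤ Nat.card (transl H) := Nat.card_pos
      have hsub : (Finset.univ.filter fun y => y ∈ Cx H g).image (fun y => y 0 0 ^ 2 * a) ⊆
          (Finset.univ.filter fun x : F => x ∈ transl H).erase 0 := by
        intro x hx
        simp only [Finset.mem_image, Finset.mem_filter, Finset.mem_univ, true_and] at hx
        obtain ⟨y, hy, rfl⟩ := hx
        simp only [Finset.mem_erase, Finset.mem_filter, Finset.mem_univ, true_and, mem_transl]
        refine ⟨mul_ne_zero (pow_ne_zero 2 fun h0 => ?_) ha0, ?_⟩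
        · have := det_eq y
          rw [h0, (hC y hy).1] at this
          simp at this
        · rw [← borel_conj_uu (mem_borel.2 (hC y hy).1)]
          exact H.mul_mem (H.mul_mem hy.1 ha) (H.inv_mem hy.1)
      have h1 := Finset.card_le_mul_card_image (f := fun y : SL(2, F) => y 0 0 ^ 2 * a)
        (Finset.univ.filter fun y => y ∈ Cx H g) 2 (fun x hx => ?_)
      · have h3 := Finset.card_le_card hsub
        rw [Finset.card_erase_of_mem (by simp [mem_transl]), ← Fintype.card_subtype,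
          ← Nat.card_eq_fintype_card] at h3
        rw [natCard_eq_filter (Cx H g)]
        have : Nat.card {x : F // x ∈ transl H} = Nat.card (transl H) := rfl
        omega
      · obtain ⟨z, hz, rfl⟩ := Finset.mem_image.1 hx
        simp only [Finset.mem_filter, Finset.mem_univ, true_and] at hz
        refine (Finset.card_le_card (t := {z, -z}) fun y hy => ?_).trans Finset.card_le_two
        simp only [Finset.mem_filter, Finset.mem_univ, true_and] at hy
        obtain ⟨hy, hyz⟩ := hy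
        have e := mul_right_cancel₀ ha0 hyz
        rw [Finset.mem_insert, Finset.mem_singleton]
        have hz00 : z⁻¹ ∈ Cx H g := (Cx H g).inv_mem hz
        have key : ∀ w ∈ Cx H g, w 0 0 = z 0 0 → w = z := fun w hw hwz => by
          have hd := det_eq z
          rw [(hC z hz).1] at hd
          refine (inv_mul_eq_one.1 ((hC _ ((Cx H g).mul_mem hz00 hw)).2 ?_)).symm
          rw [mul00, inv00, inv01, (hC w hw).1, hwz]
          linear_combination hd
        rcases sq_eq_sq_iff_eq_or_eq_neg.1 e with h | h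
        · exact Or.inl (key y hy h)
        · refine Or.inr (neg_eq_iff_eq_neg.1 (key (-y) ?_ (by simp [h])))
          rw [neg_eq_neg_one_mul]
          exact (Cx H g).mul_mem (neg_one_mem_Cx hH g) hy

/-- Sylow: every element of order dividing `p` of `H` is conjugate in `H` into `unip`. -/
theorem exists_conj_mem_unip (hp : p ≠ 2) {H : Subgroup SL(2, F)} (hH : (-1 : SL(2, F)) ∈ H)
    {a : F} (ha0 : a ≠ 0) (ha : uu a ∈ H) {u : SL(2, F)} (hu : u ∈ H) (hup : u ^ p = 1) :
    ∃ g ∈ H, g * u * g⁻¹ ∈ unip F := by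
  obtain ⟨m, hm, -⟩ := exists_card_points H
  have hH1 := card_eq_mul_points H
  obtain ⟨t, ht, htp⟩ : ∃ t, Nat.card ↥(H ⊓ borel F) = Nat.card (transl H) * t ∧ ¬ p ∣ t := by
    rcases borel_cases hp hH ha0 ha with h | ⟨g, -, -, h, hp', -⟩
    · exact ⟨2, h, fun h' => hp ((Nat.prime_dvd_prime_iff_eq Fact.out Nat.prime_two).1 h')⟩
    · exact ⟨_, h, hp'⟩
  set A := (H ⊓ unip F).subgroupOf H
  have hAp : IsPGroup p A :=
    ((isPGroup_unip p).to_le inf_le_right).of_equiv (Subgroup.subgroupOfEquivOfLe inf_le_left).symm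
  have hAcard : Nat.card A = Nat.card (transl H) := by
    rw [card_transl]; exact Nat.card_congr (Subgroup.subgroupOfEquivOfLe inf_le_left).toEquiv
  have hidx : ¬ p ∣ A.index := by
    have hA : A.index = t * (1 + (points H).card) := by
      refine index_eq_of_card_mul ?_
      rw [hAcard, ← mul_assoc, ← ht, hH1]
    rw [hA, (Fact.out : p.Prime).dvd_mul]
    rintro (h | h)
    · exact htp h
    · rw [hm] at h
      exact (Fact.out : p.Prime).not_dvd_one ((Nat.dvd_add_left
        (dvd_mul_of_dvd_left (prime_dvd_card_transl ha0 ha) m)).1 h)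
  have hQ : IsPGroup p (Subgroup.zpowers (⟨u, hu⟩ : H)) := by
    rw [IsPGroup.iff_card, Nat.card_zpowers]
    have hd : orderOf (⟨u, hu⟩ : H) ∣ p ^ 1 := by
      rw [pow_one]
      exact orderOf_dvd_of_pow_eq_one (Subtype.ext (by simpa using hup))
    obtain ⟨i, -, hi⟩ := (Nat.dvd_prime_pow (Fact.out : p.Prime)).1 hd
    exact ⟨i, hi⟩
  obtain ⟨Q, hQle⟩ := hQ.exists_le_sylow
  let P : Sylow p H := hAp.toSylow hidx
  obtain ⟨g, hg⟩ := MulAction.exists_smul_eq H Q P
  refine ⟨g, g.2, ?_⟩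
  have h1 : g * ⟨u, hu⟩ * g⁻¹ ∈ (P : Subgroup H) := by
    rw [← hg, Sylow.coe_subgroup_smul]
    exact Subgroup.smul_mem_pointwise_smul _ (MulAut.conj g) _ (hQle (Subgroup.mem_zpowers _))
  exact (Subgroup.mem_subgroupOf.1 h1).2

/-- The partition equation. -/
theorem partition_cases (hp : p ≠ 2) {H : Subgroup SL(2, F)} (hH : (-1 : SL(2, F)) ∈ H) {a : F}
    (ha0 : a ≠ 0) (ha : uu a ∈ H) {m : ℕ} (hm : (points H).card = Nat.card (transl H) * m)
    (hm1 : 1 ≤ m) :
    m = 1 ∨ (Nat.card (transl H) = 3 ∧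
      ∀ y ∈ noncentral H, tr y ^ 2 = 4 ∨ y ^ 4 = 1 ∨ y ^ 10 = 1) := by
  have h2 : (2 : F) ≠ 0 := two_ne_zero_of_charP hp
  set q := Nat.card (transl H) with hqdef
  obtain ⟨hqodd, hq⟩ : Odd q ∧ 3 ≤ q := by
    obtain ⟨k, hk⟩ := IsPGroup.iff_card.1 ((isPGroup_unip p).to_le
      (inf_le_right : H ⊓ unip F ≤ unip F))
    rw [← card_transl, ← hqdef] at hk
    have hpo : Odd p := (Fact.out : p.Prime).odd_of_ne_two hp
    have hqp : p ≤ q := Nat.le_of_dvd Nat.card_pos (prime_dvd_card_transl ha0 ha)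
    have h3 : 3 ≤ p := by
      obtain ⟨j, hj⟩ := hpo
      have := (Fact.out : p.Prime).two_le
      omega
    exact ⟨hk ▸ hpo.pow, h3.trans hqp⟩
  obtain ⟨n, hn⟩ : ∃ n, n = 1 + q * m := ⟨_, rfl⟩
  have hn0 : 1 ≤ n := by omega
  have hsyl : ∀ u ∈ H, u ^ p = 1 → ∃ g ∈ H, g * u * g⁻¹ ∈ unip F := fun u hu h =>
    exists_conj_mem_unip hp hH ha0 ha hu h
  have huX : uu a ∈ noncentral H := mem_noncentral.2 ⟨ha, uu_not_mem_center ha0⟩
  have hHb := card_eq_mul_points H
  rw [hm, ← hn] at hHb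
  have hX := card_filter_noncentral h2 hH
  have eP := card_Sx_mul h2 hH huX
  rw [Nx_uu ha0 ha, card_Cx_uu h2 hH ha0, ← hqdef] at eP
  have hP : (Sx H (uu a)).card + 2 * n = 2 * q * n := by
    refine Nat.eq_of_mul_eq_mul_right (Nat.card_pos (α := ↥(H ⊓ borel F))) ?_
    rw [hHb] at eP
    linear_combination eP
  have hrest : ∀ x ∈ noncentral H, x ∉ Sx H (uu a) → tr x ^ 2 ≠ 4 := fun x hx h h4 =>
    h ((trace_sq_four_iff hp hH ha0 hsyl hx).2 h4)
  rcases borel_cases hp hH ha0 ha with hb | ⟨g, hgX, hg4, hb, -, hgle⟩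
  · rw [hb, ← hqdef] at hHb
    have hlt : (Sx H (uu a)).card < (noncentral H).card := by
      rw [hHb] at hX
      have : 2 * q * n = q * 2 * n := by ring
      have : q * m > 0 := Nat.mul_pos (by omega) (by omega)
      omega
    obtain ⟨x, hx, hxP⟩ := Finset.exists_mem_notMem_of_card_lt_card hlt
    have key : ∀ x ∈ noncentral H, x ∉ Sx H (uu a) →
        q = 3 ∧ 2 * (Sx H x).card = 3 * n := by
      intro x hx hxP
      obtain ⟨s, hs, hN⟩ := card_Nx_le hx (hrest x hx hxP)
      have e := card_Sx_mul h2 hH hx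
      rw [hN, hHb] at e
      refine arith_small hq (four_le_card_Cx h2 hH hx) (two_dvd_card_Cx h2 hH x) hn0 hs e ?_
      have h := Finset.card_le_card (Finset.union_subset (Sx_subset H (uu a)) (Sx_subset H x))
      rw [Finset.card_union_of_disjoint (disjoint_Sx (uu_not_mem_center ha0) hx hxP)] at h
      rw [hHb] at hX
      have : 2 * q * n = q * 2 * n := by ring
      omega
    obtain ⟨hq3, hSx⟩ := key x hx hxP
    left
    by_contra hm'
    have hlt' : (Sx H (uu a) ∪ Sx H x).card < (noncentral H).card := by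
      rw [Finset.card_union_of_disjoint (disjoint_Sx (uu_not_mem_center ha0) hx hxP)]
      rw [hHb, hq3] at hX
      rw [hq3] at hP hn
      omega
    obtain ⟨y, hy, hyU⟩ := Finset.exists_mem_notMem_of_card_lt_card hlt'
    rw [Finset.mem_union, not_or] at hyU
    obtain ⟨-, hSy⟩ := key y hy hyU.1
    have h := Finset.card_le_card (Finset.union_subset (Finset.union_subset (Sx_subset H (uu a))
      (Sx_subset H x)) (Sx_subset H y))
    rw [Finset.card_union_of_disjoint (Finset.disjoint_union_left.2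
        ⟨disjoint_Sx (uu_not_mem_center ha0) hy hyU.1,
          disjoint_Sx (mem_noncentral.1 hx).2 hy hyU.2⟩),
      Finset.card_union_of_disjoint (disjoint_Sx (uu_not_mem_center ha0) hx hxP)] at h
    rw [hHb, hq3] at hX
    rw [hq3] at hP
    omega
  · rw [hb, ← hqdef] at hHb
    set t := Nat.card (Cx H g) with htdef
    have ht4 : 4 ≤ t := four_le_card_Cx h2 hH hgX
    have hgP : g ∉ Sx H (uu a) := fun h => hg4 ((trace_sq_four_iff hp hH ha0 hsyl hgX).1 h)
    obtain ⟨s, hs, hN⟩ := card_Nx_le hgX hg4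
    have eT := card_Sx_mul h2 hH hgX
    rw [hN, hHb, ← htdef] at eT
    have hT : s * (Sx H g).card + 2 * (q * n) = q * t * n := by
      refine Nat.eq_of_mul_eq_mul_right (show 0 < t by omega) ?_
      linear_combination eT
    have dTP := disjoint_Sx (uu_not_mem_center ha0) hgX hgP
    rw [hHb] at hX
    have hqn : 2 * q * n = 2 * (q * n) := by ring
    have hqtn : 4 * (q * n) ≤ q * t * n := by
      calc 4 * (q * n) ≤ t * (q * n) := Nat.mul_le_mul_right _ ht4
        _ = q * t * n := by ring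
    have hlt : (Sx H (uu a) ∪ Sx H g).card < (noncentral H).card := by
      rw [Finset.card_union_of_disjoint dTP]
      have : q * m > 0 := Nat.mul_pos (by omega) (by omega)
      have : 3 * n ≤ q * n := Nat.mul_le_mul_right n hq
      rcases hs with rfl | rfl <;> omega
    obtain ⟨x, hx, hxU⟩ := Finset.exists_mem_notMem_of_card_lt_card hlt
    rw [Finset.mem_union, not_or] at hxU
    have hd3 : ∀ x ∈ noncentral H, x ∉ Sx H (uu a) → x ∉ Sx H g →
        Disjoint (Sx H (uu a) ∪ Sx H g) (Sx H x) := fun x hx h1 h2' =>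
      Finset.disjoint_union_left.2 ⟨disjoint_Sx (uu_not_mem_center ha0) hx h1,
        disjoint_Sx (mem_noncentral.1 hgX).2 hx h2'⟩
    have hle3 : ∀ x ∈ noncentral H, x ∉ Sx H (uu a) → x ∉ Sx H g →
        (Sx H (uu a)).card + (Sx H g).card + (Sx H x).card ≤ (noncentral H).card := by
      intro x hx h1 h2'
      rw [← Finset.card_union_of_disjoint dTP, ← Finset.card_union_of_disjoint (hd3 x hx h1 h2')]
      exact Finset.card_le_card (Finset.union_subset (Finset.union_subset (Sx_subset H _)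
        (Sx_subset H _)) (Sx_subset H _))
    rcases hs with rfl | rfl
    · exfalso
      obtain ⟨s', hs', hN'⟩ := card_Nx_le hx (hrest x hx hxU.1)
      have e := card_Sx_mul h2 hH hx
      rw [hN', hHb] at e
      have := hle3 x hx hxU.1 hxU.2
      exact arith_index_one hq ht4 (four_le_card_Cx h2 hH hx) hn0 hs' e (by omega)
    · obtain ⟨R, hR⟩ : ∃ R, R + ((Sx H (uu a)).card + (Sx H g).card) = (noncentral H).card :=
        ⟨_, Nat.sub_add_cancel (by have := hle3 x hx hxU.1 hxU.2; omega)⟩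
      have hR' : 2 * R + 2 * (q * n) + 4 = q * t * n + 4 * n := by omega
      have key : ∀ x ∈ noncentral H, x ∉ Sx H (uu a) → x ∉ Sx H g →
          Nat.card (Nx H x) = 2 * Nat.card (Cx H x) ∧ q * t * n ≤ 4 * (Sx H x).card := by
        intro x hx h1 h2'
        obtain ⟨s', hs', hN'⟩ := card_Nx_le hx (hrest x hx h1)
        have e := card_Sx_mul h2 hH hx
        rw [hN', hHb] at e
        have := hle3 x hx h1 h2'
        obtain ⟨rfl, h⟩ := arith_last hq (four_le_card_Cx h2 hH hx) hn0 hs' e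
          (show (Sx H x).card ≤ R by omega) hR'
        exact ⟨hN', h⟩
      obtain ⟨hNx, hSx⟩ := key x hx hxU.1 hxU.2
      have hcover : ∀ y ∈ noncentral H, y ∈ Sx H (uu a) ∨ y ∈ Sx H g ∨ y ∈ Sx H x := by
        intro y hy
        by_contra hn'
        simp only [not_or] at hn'
        obtain ⟨-, hSy⟩ := key y hy hn'.1 hn'.2.1
        have h : ((Sx H (uu a) ∪ Sx H g) ∪ Sx H x ∪ Sx H y).card ≤ (noncentral H).card :=
          Finset.card_le_card (Finset.union_subset (Finset.union_subset (Finset.union_subset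
            (Sx_subset H _) (Sx_subset H _)) (Sx_subset H _)) (Sx_subset H _))
        rw [Finset.card_union_of_disjoint (Finset.disjoint_union_left.2 ⟨hd3 y hy hn'.1 hn'.2.1,
            disjoint_Sx (mem_noncentral.1 hx).2 hy hn'.2.2⟩),
          Finset.card_union_of_disjoint (hd3 x hx hxU.1 hxU.2),
          Finset.card_union_of_disjoint dTP] at h
        have : 3 * n ≤ q * n := Nat.mul_le_mul_right n hq
        omega
      have hSR : (Sx H x).card = R := by
        have h : (noncentral H).card ≤ ((Sx H (uu a) ∪ Sx H g) ∪ Sx H x).card :=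
          Finset.card_le_card fun y hy => by
            rcases hcover y hy with h | h | h
            · exact Finset.mem_union_left _ (Finset.mem_union_left _ h)
            · exact Finset.mem_union_left _ (Finset.mem_union_right _ h)
            · exact Finset.mem_union_right _ h
        rw [Finset.card_union_of_disjoint (hd3 x hx hxU.1 hxU.2),
          Finset.card_union_of_disjoint dTP] at h
        have := hle3 x hx hxU.1 hxU.2
        omega
      have e := card_Sx_mul h2 hH hx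
      rw [hNx, hHb, hSR, hn] at e
      rw [hn] at hR'
      rcases arith_final hqodd hq hm1 (two_dvd_card_Cx h2 hH g) (by omega)
        (two_dvd_card_Cx h2 hH x) (four_le_card_Cx h2 hH hx) e hR' with h | ⟨h3, h4, h10⟩
      · exact Or.inl h
      refine Or.inr ⟨h3, fun y hy => ?_⟩
      rcases hcover y hy with h | h | h
      · exact Or.inl ((trace_sq_four_iff hp hH ha0 hsyl hy).1 h)
      · refine Or.inr (Or.inl ?_)
        have := pow_card_Cx_eq_one h
        rwa [h4] at this
      · refine Or.inr (Or.inr ?_)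
        have := pow_card_Cx_eq_one h
        rwa [h10] at this

omit [Fintype F] in
theorem tr_sq (y : SL(2, F)) : tr (y ^ 2) = tr y ^ 2 - 2 := by
  have hd := det_eq y
  simp only [tr_def, pow_two, mul00, mul11]
  linear_combination -2 * hd

omit [Fintype F] in
theorem tr_cube (y : SL(2, F)) : tr (y ^ 3) = tr y ^ 3 - 3 * tr y := by
  have hd := det_eq y
  simp only [tr_def, pow_succ, pow_zero, one_mul, mul00, mul11, mul01, mul10]
  linear_combination -3 * (y 0 0 + y 1 1) * hd

/-- Traces of elements of orders `1, 2, 3, 5` modulo `±1` in characteristic three. -/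
theorem trace_cases_three (h3 : (3 : F) = 0) (h2 : (2 : F) ≠ 0) {y : SL(2, F)}
    (hy : y ∉ Subgroup.center SL(2, F)) (h : tr y ^ 2 = 4 ∨ y ^ 4 = 1 ∨ y ^ 10 = 1) :
    tr y = 0 ∨ tr y ^ 2 = 1 ∨ tr y ^ 4 = -1 := by
  rcases h with h | h | h
  · exact Or.inr (Or.inl (by linear_combination h + h3))
  · left
    have h' : y ^ 2 * y ^ 2 = 1 := by rw [← pow_add]; exact h
    rcases eq_pm_of_mul_self_eq_one h2 h' with e | e
    · exfalso
      rw [pow_two] at e
      exact hy (mem_center_iff_pm.2 (eq_pm_of_mul_self_eq_one h2 e))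
    · rw [pow_two] at e; exact tr_eq_zero_of_sq_eq_neg_one e
  · right
    have h5 : y ^ 5 = 1 ∨ y ^ 5 = -1 := by
      refine eq_pm_of_mul_self_eq_one h2 ?_
      rw [← pow_add]; exact h
    have e : tr (y ^ 3) = tr (y ^ 2) ∨ tr (y ^ 3) = -tr (y ^ 2) := by
      rcases h5 with h5 | h5
      · left
        rw [show y ^ 3 = (y ^ 2)⁻¹ from eq_inv_of_mul_eq_one_left (by rw [← pow_add, h5]), tr_inv]
      · right
        rw [show y ^ 3 = -(y ^ 2)⁻¹ by
          rw [neg_eq_neg_one_mul ((y ^ 2)⁻¹), eq_mul_inv_iff_mul_eq, ← pow_add, h5], tr_neg, tr_inv]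
    rw [tr_sq, tr_cube] at e
    have key : (tr y ^ 2 - 1) * (tr y ^ 4 + 1) = 0 := by
      rcases e with e | e
      · linear_combination (tr y ^ 3 + tr y ^ 2 + 1) * e +
          ((tr y ^ 3 + tr y ^ 2 + 1) * (tr y - 1) + tr y ^ 2) * h3
      · linear_combination (tr y ^ 3 - tr y ^ 2 - 1) * e +
          ((tr y ^ 3 - tr y ^ 2 - 1) * (tr y + 1) + tr y ^ 2) * h3
    rcases mul_eq_zero.1 key with k | k
    · exact Or.inl (sub_eq_zero.1 k)
    · exact Or.inr (by linear_combination k)

/-- The normalised form of Dickson's theorem. -/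
theorem hasCopy_of_ne_zero (hp : p ≠ 2) {H : Subgroup SL(2, F)} (hH : (-1 : SL(2, F)) ∈ H)
    {a b : F} (ha0 : a ≠ 0) (ha : uu a ∈ H) (hb0 : b ≠ 0) (hb : ll b ∈ H) : HasCopy p H := by
  have h2 : (2 : F) ≠ 0 := two_ne_zero_of_charP hp
  obtain ⟨m, hm, hm'⟩ := exists_card_points H
  have hb' : ll (2 * b) ∈ H := by
    have := H.pow_mem hb 2
    rwa [ll_pow, Nat.cast_ofNat] at this
  have hpt : ∀ c : F, c ≠ 0 → ll c ∈ H → (1 / c : F) ∈ points H := fun c hc hcH =>
    mem_points.2 ⟨ll c, hcH, by simpa using hc, by simp⟩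
  have hm1 : 1 ≤ m := by
    rcases Nat.eq_zero_or_pos m with rfl | h
    · rw [mul_zero, Finset.card_eq_zero] at hm
      exact absurd (hpt b hb0 hb) (by rw [hm]; simp)
    · exact h
  rcases partition_cases hp hH ha0 ha hm hm1 with rfl | ⟨hq3, htr⟩
  · have h := hm' rfl _ (hpt b hb0 hb) _ (hpt _ (mul_ne_zero h2 hb0) hb')
    refine hasCopy_of_uu_ll (a := 1 / b - 1 / (2 * b)) (b := 2 * b) ?_ h hb'
    field_simp
    ring
  · have h3 : (3 : F) = 0 := by
      have hd : p ∣ 3 := hq3 ▸ prime_dvd_card_transl ha0 ha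
      have : p = 3 := (Nat.prime_dvd_prime_iff_eq Fact.out Nat.prime_three).1 hd
      subst this
      exact CharP.cast_eq_zero F 3
    have htr' : ∀ c : F, uu c ∈ H → c ≠ 0 →
        2 + c * b = 0 ∨ (2 + c * b) ^ 2 = 1 ∨ (2 + c * b) ^ 4 = -1 := by
      intro c hc hc0
      have hnc : uu c * ll b ∉ Subgroup.center SL(2, F) := fun h => by
        have := (mem_center_iff_entries.1 h).1
        simp only [mul01, uu00, uu01, ll01, ll11] at this
        exact hc0 (by linear_combination this)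
      have := trace_cases_three h3 h2 hnc (htr _ (mem_noncentral.2 ⟨H.mul_mem hc hb, hnc⟩))
      simp only [tr_def, mul00, mul11, uu00, uu01, uu10, uu11, ll00, ll01, ll10, ll11] at this
      rw [show (1 * 1 + c * b + (0 * 0 + 1 * 1) : F) = 2 + c * b by ring] at this
      exact this
    have hna : uu (-a) ∈ H := by rw [← uu_inv]; exact H.inv_mem ha
    -- `a b = ± 1` finishes
    have fin : ∀ c : F, uu c ∈ H → c ≠ 0 →
        (2 + c * b = 0 ∨ (2 + c * b) ^ 2 = 1) → HasCopy p H := by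
      intro c hc hc0 h
      rcases h with h | h
      · exact hasCopy_of_uu_ll (show c * b = 1 by linear_combination h - h3) hc hb
      · have e : c * b * (c * b + 4) = 0 := by linear_combination h - h3
        have e' : c * b + 4 = 0 := (mul_eq_zero.1 e).resolve_left (mul_ne_zero hc0 hb0)
        exact hasCopy_of_uu_ll (show -c * b = 1 by linear_combination -e' + h3)
          (by rw [← uu_inv]; exact H.inv_mem hc) hb
    rcases htr' a ha ha0 with h | h | h
    · exact fin a ha ha0 (Or.inl h)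
    · exact fin a ha ha0 (Or.inr h)
    rcases htr' (-a) hna (neg_ne_zero.2 ha0) with h' | h' | h'
    · exact fin (-a) hna (neg_ne_zero.2 ha0) (Or.inl h')
    · exact fin (-a) hna (neg_ne_zero.2 ha0) (Or.inr h')
    -- `(a b)² = -1`: move the fixed point of `uu a * ll b * uu (-a)` to infinity
    have hc : (a * b) ^ 2 = -1 := by
      have e : (16 * (a * b)) * ((a * b) ^ 2 + 4) = 0 := by linear_combination h - h'
      have h16 : (16 : F) ≠ 0 := fun h16 => h2 (sq_eq_zero_iff.1 (sq_eq_zero_iff.1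
        (by linear_combination h16)))
      have e' := (mul_eq_zero.1 e).resolve_left (mul_ne_zero h16 (mul_ne_zero ha0 hb0))
      linear_combination e' - h3
    obtain ⟨r, hra⟩ : ∃ r : F, r * a = -1 := ⟨-1 / a, by field_simp⟩
    refine HasCopy.of_conj (c := (ll r)⁻¹) ?_
    have e1 : uu (-(a ^ 2 * b)) ∈ H.comap (MulAut.conj (ll r)⁻¹).toMonoidHom := by
      rw [Subgroup.mem_comap]
      show (ll r)⁻¹ * uu (-(a ^ 2 * b)) * ((ll r)⁻¹)⁻¹ ∈ H
      have hmem := H.mul_mem (H.mul_mem ha hb) hna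
      have : (ll r)⁻¹ * uu (-(a ^ 2 * b)) * ((ll r)⁻¹)⁻¹ = uu a * ll b * uu (-a) := by
        rw [inv_inv, ll_inv]
        apply ext2 <;> simp only [mul00, mul01, mul10, mul11] <;> simp
        · linear_combination (-(a * b)) * hra
        · linear_combination (0 : F) * hra
        · linear_combination (b * (r * a - 1)) * hra
        · linear_combination (a * b) * hra
      rw [this]; exact hmem
    have e2 : ll b ∈ H.comap (MulAut.conj (ll r)⁻¹).toMonoidHom := by
      rw [Subgroup.mem_comap]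
      show (ll r)⁻¹ * ll b * ((ll r)⁻¹)⁻¹ ∈ H
      rw [inv_inv, ll_inv, ll_mul_ll, ll_mul_ll]
      simpa using hb
    exact hasCopy_of_uu_ll (by linear_combination -hc) e1 e2

/-- **Dickson**: more than one Sylow `p`-subgroup gives a copy of `SL(2, p)`. -/
theorem hasCopy_of_one_lt_card_sylow (hp : p ≠ 2) {H : Subgroup SL(2, F)}
    (hH : (-1 : SL(2, F)) ∈ H) (hS : 1 < Nat.card (Sylow p H)) : HasCopy p H := by
  obtain ⟨P, Q, hPQ⟩ := Finite.one_lt_card_iff_nontrivial.1 hS
  have hpd : p ∣ Nat.card H := by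
    by_contra h
    have h0 : ∀ R : Sylow p H, (R : Subgroup H) = ⊥ := fun R => by
      obtain ⟨k, hk⟩ := IsPGroup.iff_card.1 R.isPGroup'
      rcases Nat.eq_zero_or_pos k with rfl | hk0
      · exact Subgroup.eq_bot_of_card_eq _ (by rw [hk, pow_zero])
      · exact absurd ((dvd_pow_self p hk0.ne').trans (hk ▸ Subgroup.card_subgroup_dvd_card _)) h
    exact hPQ (Sylow.ext ((h0 P).trans (h0 Q).symm))
  obtain ⟨⟨x, hx⟩, hxo⟩ := exists_prime_orderOf_dvd_card' (G := H) p hpd
  rw [Subgroup.orderOf_mk] at hxo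
  obtain ⟨c, a, hca⟩ := exists_conj_uu_of_pow_ppow p (g := x) (k := 1)
    (by rw [pow_one, ← hxo, pow_orderOf_eq_one])
  have ha0 : a ≠ 0 := by
    rintro rfl
    rw [uu_zero, mul_one, mul_inv_cancel] at hca
    rw [hca, orderOf_one] at hxo
    exact (Fact.out : p.Prime).ne_one hxo.symm
  refine HasCopy.of_conj (c := c) ?_
  set H' := H.comap (MulAut.conj c).toMonoidHom
  have ha : uu a ∈ H' := by
    rw [Subgroup.mem_comap]
    show c * uu a * c⁻¹ ∈ H
    rw [← hca]; exact hx
  have hH' : (-1 : SL(2, F)) ∈ H' := by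
    rw [Subgroup.mem_comap]
    show c * -1 * c⁻¹ ∈ H
    simpa using hH
  obtain ⟨y, hyH, k, hyp, hyb⟩ : ∃ y ∈ H', ∃ k, y ^ p ^ k = 1 ∧ y ∉ borel F := by
    by_contra hno
    simp only [not_exists, not_and, not_not] at hno
    let e : H' ≃* H :=
      { toFun := fun w => ⟨c * w * c⁻¹, w.2⟩
        invFun := fun w => ⟨c⁻¹ * w * c, by
          rw [Subgroup.mem_comap]
          show c * (c⁻¹ * w * c) * c⁻¹ ∈ H
          simpa [mul_assoc] using w.2⟩
        left_inv := fun w => Subtype.ext (by simp [mul_assoc])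
        right_inv := fun w => Subtype.ext (by simp [mul_assoc])
        map_mul' := fun w z => Subtype.ext (by simp [mul_assoc]) }
    apply hPQ
    have hU : IsPGroup p (((H' ⊓ unip F).subgroupOf H').map e.toMonoidHom) :=
      (((isPGroup_unip p).to_le inf_le_right).of_equiv
        (Subgroup.subgroupOfEquivOfLe inf_le_left).symm).map _
    have hle : ∀ R : Sylow p H, (R : Subgroup H) ≤
        ((H' ⊓ unip F).subgroupOf H').map e.toMonoidHom := by
      intro R w hw
      obtain ⟨k, hk⟩ := R.isPGroup' ⟨w, hw⟩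
      have hw' : (e.symm w : SL(2, F)) ^ p ^ k = 1 := by
        rw [← Subgroup.coe_pow, ← map_pow,
          show w ^ p ^ k = 1 by simpa using congrArg Subtype.val hk, map_one, Subgroup.coe_one]
      exact ⟨e.symm w, ⟨(e.symm w).2,
        mem_unip_of_pow_ppow p (hno _ (e.symm w).2 _ hw') hw'⟩, e.apply_symm_apply w⟩
    exact Sylow.ext ((P.3 hU (hle P)).symm.trans (Q.3 hU (hle Q)))
  obtain ⟨d, s, rfl⟩ := exists_conj_uu_of_pow_ppow p hyp
  have hd10 : d 1 0 ≠ 0 := fun h0 => hyb ((borel F).mul_mem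
    ((borel F).mul_mem h0 (unip_le_borel (uu_mem_unip s))) ((borel F).inv_mem h0))
  have hs0 : s ≠ 0 := by
    rintro rfl
    exact hyb (by simp [mem_borel])
  set r := d 0 0 / d 1 0
  refine HasCopy.of_conj (c := uu r) ?_
  set d' := uu (-r) * d with hd'
  have hd00 : d' 0 0 = 0 := by
    rw [hd', mul00, uu00, uu01]
    simp only [r]
    field_simp
    ring
  have hd10' : d' 1 0 = d 1 0 := by rw [hd', mul10]; simp
  refine hasCopy_of_ne_zero hp (a := a) (b := -(d 1 0 ^ 2 * s)) ?_ ha0 ?_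
    (neg_ne_zero.2 (mul_ne_zero (pow_ne_zero 2 hd10) hs0)) ?_ <;> rw [Subgroup.mem_comap]
  · show uu r * -1 * (uu r)⁻¹ ∈ H'
    simpa using hH'
  · show uu r * uu a * (uu r)⁻¹ ∈ H'
    rw [uu_mul_uu, add_comm, ← uu_mul_uu, mul_inv_cancel_right]
    exact ha
  · show uu r * ll (-(d 1 0 ^ 2 * s)) * (uu r)⁻¹ ∈ H'
    have : ll (-(d 1 0 ^ 2 * s)) = d' * uu s * d'⁻¹ := by
      have hdet := det_eq d'
      rw [hd00, hd10'] at hdet
      apply ext2 <;>
        simp only [mul00, mul01, mul10, mul11, inv00, inv01, inv10, inv11, hd00, hd10', uu00,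
          uu01, uu10, uu11, ll00, ll01, ll10, ll11]
      · linear_combination -hdet
      · ring
      · ring
      · linear_combination -hdet
    rw [this, hd', ← uu_inv]
    simpa [mul_assoc] using hyH

/-- The statement with `-1` not assumed in `H`, as an isomorphic subgroup. -/
theorem exists_subgroup_mulEquiv (hp : p ≠ 2) (H : Subgroup SL(2, F))
    (hH : 1 < Nat.card (Sylow p H)) :
    ∃ K : Subgroup SL(2, F), K ≤ H ∧ Nonempty (K ≃* SL(2, ZMod p)) := by
  set Z := Subgroup.center SL(2, F)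
  set H' := H ⊔ Z
  have hpm : ∀ h ∈ H', h ∈ H ∨ -h ∈ H := by
    intro h hh
    obtain ⟨u, hu, z, hz, rfl⟩ := Subgroup.mem_sup_of_normal_right.1 hh
    rcases mem_center_iff_pm.1 hz with rfl | rfl
    · exact Or.inl (by simpa using hu)
    · exact Or.inr (by simpa using hu)
  have hcard : 1 < Nat.card (Sylow p H') := by
    refine hH.trans_le (Finite.card_le_of_embedding
      ⟨fun P => ((P.isPGroup'.map (Subgroup.inclusion le_sup_left)).exists_le_sylow).choose,
        fun P Q h => ?_⟩)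
    have hP := ((P.isPGroup'.map (Subgroup.inclusion le_sup_left)).exists_le_sylow
      (G := H')).choose_spec
    have hQ := ((Q.isPGroup'.map (Subgroup.inclusion le_sup_left)).exists_le_sylow
      (G := H')).choose_spec
    simp only at h
    set R := ((Q.isPGroup'.map (Subgroup.inclusion le_sup_left)).exists_le_sylow (G := H')).choose
    rw [h] at hP
    have hR : IsPGroup p ((R : Subgroup H').comap (Subgroup.inclusion (le_sup_left : H ≤ H'))) :=
      R.isPGroup'.comap_of_injective _ (Subgroup.inclusion_injective _)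
    exact Sylow.ext ((P.3 hR (Subgroup.map_le_iff_le_comap.1 hP)).symm.trans
      (Q.3 hR (Subgroup.map_le_iff_le_comap.1 hQ)))
  obtain ⟨θ, hθ, hle⟩ := hasCopy_of_one_lt_card_sylow (H := H') hp
    ((le_sup_right : Z ≤ H') neg_one_mem_center) hcard
  refine ⟨θ.range, ?_, ⟨(MonoidHom.ofInjective hθ).symm⟩⟩
  obtain ⟨j, hj⟩ := (Fact.out : p.Prime).odd_of_ne_two hp
  -- elements of order `p` of `±H` lie in `H`
  have key : ∀ x : SL(2, ZMod p), x ^ p = 1 → x ∈ H.comap θ := by
    intro x hx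
    rw [Subgroup.mem_comap]
    have e : θ x = (θ x ^ 2) ^ (j + 1) := by
      rw [← pow_mul, show 2 * (j + 1) = p + 1 by omega, pow_succ, ← map_pow, hx, map_one, one_mul]
    rw [e]
    refine H.pow_mem ?_ _
    rw [pow_two]
    rcases hpm _ (hle ⟨x, rfl⟩) with h | h
    · exact H.mul_mem h h
    · simpa using H.mul_mem h h
  rw [MonoidHom.range_eq_map, Subgroup.map_le_iff_le_comap]
  refine le_of_eq (eq_top_of_uu_ll (fun t => key _ ?_) (fun t => key _ ?_)).symm
  · rw [uu_pow, CharP.cast_eq_zero (ZMod p) p, zero_mul, uu_zero]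
  · rw [ll_pow, CharP.cast_eq_zero (ZMod p) p, zero_mul, ll_zero]

end Main

end Cfsg.Agent.PSL2
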