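import Cfsg.Agent.Lib.PSL2.Partition
import Cfsg.Agent.Lib.SmallSimple.Low

/-!
Dickson's arithmetic: the possible shapes of a finite group with a `PSL(2, p^n)`-type partition:
trivial, cyclic, dihedral, with normal Sylow `p`-subgroup, `A₄`, `S₄`, `A₅`, or "big"
(`q₁ + 1` Sylow `p`-subgroups of order `q₁`, with complement of order `q₁ - 1` or `(q₁ - 1)/2`).
-/

set_option autoImplicit false

namespace Cfsg.Agent.PSL2.Part

namespace Partition

variable {G : Type*} [Group G] {p : ℕ} (P : Partition G p)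

/-- The shape of `PSL(2, q₁)` or `PGL(2, q₁)`. -/
def IsBig : Prop :=
  ∃ x y, x ≠ 1 ∧ IsPGroup p (P.comp x) ∧ y ≠ 1 ∧ ¬ IsPGroup p (P.comp y) ∧
    P.comp y ≤ Subgroup.normalizer (P.comp x : Set G) ∧ 3 ≤ Nat.card (P.comp x) ∧
    (Nat.card (P.comp y) + 1 = Nat.card (P.comp x) ∨
      2 * Nat.card (P.comp y) + 1 = Nat.card (P.comp x)) ∧
    Nat.card (Subgroup.normalizer (P.comp x : Set G)) =
      Nat.card (P.comp x) * Nat.card (P.comp y) ∧
    (Subgroup.normalizer (P.comp x : Set G)).index = Nat.card (P.comp x) + 1 ∧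
    Nat.card (Subgroup.normalizer (P.comp y : Set G)) = 2 * Nat.card (P.comp y)

/-- Dickson's list of shapes. -/
def IsShape : Prop :=
  Subsingleton G ∨
  (∃ x, x ≠ 1 ∧ ¬ IsPGroup p (P.comp x) ∧ P.comp x = ⊤) ∨
  (∃ x, x ≠ 1 ∧ ¬ IsPGroup p (P.comp x) ∧ Subgroup.normalizer (P.comp x : Set G) = ⊤ ∧
    Nat.card G = 2 * Nat.card (P.comp x)) ∨
  (∃ x, x ≠ 1 ∧ IsPGroup p (P.comp x) ∧ Subgroup.normalizer (P.comp x : Set G) = ⊤) ∨
  Nonempty (G ≃* alternatingGroup (Fin 4)) ∨
  Nonempty (G ≃* Equiv.Perm (Fin 4)) ∨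
  Nonempty (G ≃* alternatingGroup (Fin 5)) ∨
  P.IsBig

end Partition

section Recognise

variable {G : Type*} [Group G] [Finite G]

theorem exists_permFour {X : Subgroup G} (h : X.index = 4) (hc : X.normalCore = ⊥) :
    ∃ ψ : G →* Equiv.Perm (Fin 4), Function.Injective ψ := by
  have : Fintype (G ⧸ X) := Fintype.ofFinite _
  have e4 : (G ⧸ X) ≃ Fin 4 := Fintype.equivFinOfCardEq (by
    rw [← Nat.card_eq_fintype_card]; exact h)
  refine ⟨e4.permCongrHom.toMonoidHom.comp (MulAction.toPermHom G (G ⧸ X)),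
    e4.permCongrHom.injective.comp ?_⟩
  rw [← MonoidHom.ker_eq_bot_iff, ← Subgroup.normalCore_eq_ker, hc]

theorem iso_alternatingFour {X : Subgroup G} (hG : Nat.card G = 12) (hX : Nat.card X = 3)
    (hN : Nat.card (Subgroup.normalizer (X : Set G)) = 3) :
    Nonempty (G ≃* alternatingGroup (Fin 4)) := by
  have hidx : X.index = 4 := by
    have := X.index_mul_card; rw [hX, hG] at this; omega
  have hcore : X.normalCore = ⊥ := by
    by_contra hne
    have hd : Nat.card X.normalCore ∣ 3 := hX ▸ Subgroup.card_dvd_of_le X.normalCore_le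
    have h3 : Nat.card X.normalCore = 3 :=
      ((Nat.dvd_prime Nat.prime_three).1 hd).resolve_left fun e => hne (Subgroup.card_eq_one.1 e)
    have heq : X.normalCore = X :=
      Subgroup.eq_of_le_of_card_ge X.normalCore_le (by rw [h3, hX])
    have : X.Normal := heq ▸ X.normalCore_normal
    rw [Subgroup.normalizer_eq_top, Subgroup.card_top, hG] at hN
    omega
  obtain ⟨ψ, hψ⟩ := exists_permFour hidx hcore
  have hr : ψ.range = alternatingGroup (Fin 4) := by
    refine Equiv.Perm.eq_alternatingGroup_of_index_eq_two ?_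
    have := ψ.range.index_mul_card
    rw [← Nat.card_congr (MonoidHom.ofInjective hψ).toEquiv, hG, Nat.card_perm, Nat.card_fin] at this
    simp only [Nat.factorial] at this
    omega
  exact ⟨(MonoidHom.ofInjective hψ).trans (MulEquiv.subgroupCongr hr)⟩

theorem iso_permFour {X : Subgroup G} (hG : Nat.card G = 24) (hX : Nat.card X = 3)
    (hN : Nat.card (Subgroup.normalizer (X : Set G)) = 6)
    (hC : ∀ k ∈ Subgroup.normalizer (X : Set G), k ∉ X → ∃ y ∈ X, k * y ≠ y * k) :
    Nonempty (G ≃* Equiv.Perm (Fin 4)) := by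
  set N := Subgroup.normalizer (X : Set G) with hNdef
  have hidx : N.index = 4 := by
    have := N.index_mul_card; rw [hN, hG] at this; omega
  have hXN : X ≤ N := Subgroup.le_normalizer
  have hthree : ∀ t ∈ N, t ^ 3 = 1 → t ∈ X := by
    intro t ht h3
    have hi : (X.subgroupOf N).index = 2 := by
      have := (X.subgroupOf N).index_mul_card
      rw [Nat.card_congr (Subgroup.subgroupOfEquivOfLe hXN).toEquiv, hX, hN] at this
      omega
    have h4 : t = (t ^ 2) ^ 2 := by
      rw [← pow_mul, show 2 * 2 = 3 + 1 from rfl, pow_succ, h3, one_mul]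
    have := Subgroup.sq_mem_of_index_two hi ⟨t ^ 2, pow_mem ht 2⟩
    rw [Subgroup.mem_subgroupOf] at this
    rw [h4]
    simpa using this
  have hcore : N.normalCore = ⊥ := by
    by_contra hne
    set K := N.normalCore
    have hKN : K ≤ N := N.normalCore_le
    have hK : K.Normal := N.normalCore_normal
    by_cases h3 : 3 ∣ Nat.card K
    · have : Fact (Nat.Prime 3) := ⟨Nat.prime_three⟩
      obtain ⟨⟨t, htK⟩, ht⟩ := exists_prime_orderOf_dvd_card' (G := K) 3 h3
      rw [Subgroup.orderOf_mk] at ht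
      have htX : t ∈ X := hthree t (hKN htK) (by rw [← ht, pow_orderOf_eq_one])
      have hgen : Subgroup.zpowers t = X :=
        Subgroup.eq_of_le_of_card_ge (Subgroup.zpowers_le.2 htX) (by rw [Nat.card_zpowers, ht, hX])
      have hnX : X.Normal := by
        refine ⟨fun y hy k => ?_⟩
        rw [← hgen] at hy
        obtain ⟨i, rfl⟩ := hy
        refine hthree _ (hKN (hK.conj_mem _ (zpow_mem htK i) k)) ?_
        rw [conj_pow, ← zpow_natCast (t ^ i) 3, ← zpow_mul, mul_comm i, zpow_mul, zpow_natCast, ← ht,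
          pow_orderOf_eq_one, one_zpow, mul_one, mul_inv_cancel]
      have h6 := hN
      rw [hNdef, Subgroup.normalizer_eq_top, Subgroup.card_top, hG] at h6
      omega
    · have hd : Nat.card K ∣ 2 * 3 := by
        have := Subgroup.card_dvd_of_le hKN
        rwa [hN] at this
      have hd2 : Nat.card K ∣ 2 :=
        ((Nat.prime_three.coprime_iff_not_dvd.2 h3).symm).dvd_of_dvd_mul_right hd
      have h2 : Nat.card K = 2 :=
        ((Nat.dvd_prime Nat.prime_two).1 hd2).resolve_left fun e => hne (Subgroup.card_eq_one.1 e)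
      obtain ⟨⟨z, hzK⟩, -, huniv⟩ := (Nat.card_eq_two_iff' (1 : K)).1 h2
      by_cases hz1 : z = 1
      · subst hz1
        obtain ⟨u, hu⟩ := @exists_ne _ ((Subgroup.nontrivial_iff_ne_bot K).2 hne) (1 : K)
        exact hu (huniv u hu)
      have hzX : z ∉ X := fun h => by
        have hd := orderOf_dvd_natCard (⟨z, h⟩ : X)
        have hd' := orderOf_dvd_natCard (⟨z, hzK⟩ : K)
        rw [Subgroup.orderOf_mk, hX] at hd
        rw [Subgroup.orderOf_mk, h2] at hd'
        exact hz1 (orderOf_eq_one_iff.1 (Nat.eq_one_of_dvd_coprimes (by norm_num) hd hd'))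
      obtain ⟨y, -, hy⟩ := hC z (hKN hzK) hzX
      apply hy
      have hmem : y * z * y⁻¹ ∈ K := hK.conj_mem z hzK y
      have : (⟨y * z * y⁻¹, hmem⟩ : K) = ⟨z, hzK⟩ :=
        huniv _ fun e => hz1 (by simpa using congrArg Subtype.val e)
      have h := congrArg Subtype.val this
      simp only at h
      exact (mul_inv_eq_iff_eq_mul.1 h).symm
  obtain ⟨ψ, hψ⟩ := exists_permFour hidx hcore
  exact ⟨MulEquiv.ofBijective ψ ((Nat.bijective_iff_injective_and_card ψ).2
    ⟨hψ, by rw [hG, Nat.card_perm, Nat.card_fin]; rfl⟩)⟩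

/-- Free actions: the acting group's order divides the size. -/
theorem card_dvd_of_free {T Ω : Type*} [Group T] [MulAction T Ω] [Finite Ω] [Finite T]
    (h : ∀ a : Ω, MulAction.stabilizer T a = ⊥) : Nat.card T ∣ Nat.card Ω := by
  classical
  have := Fintype.ofFinite (Quotient (MulAction.orbitRel T Ω))
  rw [Nat.card_congr (MulAction.selfEquivSigmaOrbitsQuotientStabilizer T Ω), Nat.card_sigma]
  refine Finset.dvd_sum fun o _ => ?_
  rw [h, ← Subgroup.index_eq_card, Subgroup.index_bot]

end Recognise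

namespace Partition

variable {G : Type*} [Group G] [Finite G] {p : ℕ} [hp : Fact p.Prime] (P : Partition G p)

omit hp in
theorem card_normalizer_conj {X Y : Subgroup G} (h : IsConjComp X Y) :
    Nat.card X = Nat.card Y ∧
      Nat.card (Subgroup.normalizer (X : Set G)) = Nat.card (Subgroup.normalizer (Y : Set G)) := by
  obtain ⟨k, rfl⟩ := h
  refine ⟨(card_map_conj X k).symm, ?_⟩
  rw [← card_map_conj (Subgroup.normalizer (X : Set G)) k]
  exact congrArg (fun H : Subgroup G => Nat.card H)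
    (Subgroup.map_equiv_normalizer_eq X (MulAut.conj k))

omit hp in
theorem torus_data {X : Subgroup G} (hX : X ∈ P.components) (hT : ¬ IsPGroup p X) :
    2 ≤ Nat.card X ∧
      ((Nat.card (Subgroup.normalizer (X : Set G)) = Nat.card X ∧
          term X = 1 - 1 / (Nat.card X : ℚ)) ∨
        (Nat.card (Subgroup.normalizer (X : Set G)) = 2 * Nat.card X ∧
          term X = 1 / 2 - 1 / (2 * (Nat.card X : ℚ)))) := by
  obtain ⟨x, hx, rfl⟩ := hX
  have h2 := P.two_le_card hx
  have hne : (Nat.card (P.comp x) : ℚ) ≠ 0 := Nat.cast_ne_zero.2 (by omega)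
  refine ⟨h2, ?_⟩
  rcases P.card_normalizer_torus hx hT with e | e
  · refine Or.inl ⟨e, ?_⟩
    rw [term, e]; field_simp
  · refine Or.inr ⟨e, ?_⟩
    rw [term, e]; push_cast; field_simp

omit hp in
theorem quarter_le_term {X : Subgroup G} (hX : X ∈ P.components) (hT : ¬ IsPGroup p X) :
    1 / 4 ≤ term X := by
  obtain ⟨h2, h⟩ := P.torus_data hX hT
  have h2' : (2 : ℚ) ≤ Nat.card X := by exact_mod_cast h2
  have : 1 / (Nat.card X : ℚ) ≤ 1 / 2 := one_div_le_one_div_of_le two_pos h2'
  have h3 : 1 / (2 * (Nat.card X : ℚ)) ≤ 1 / 4 :=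
    one_div_le_one_div_of_le (by norm_num) (by linarith)
  rcases h with ⟨-, h⟩ | ⟨-, h⟩ <;> rw [h] <;> linarith

theorem mem_comp_of_pow {x z : G} (hx : x ≠ 1) (hP : IsPGroup p (P.comp x))
    (hz : z ∈ Subgroup.normalizer (P.comp x : Set G)) (n : ℕ) (hn : z ^ p ^ n = 1) :
    z ∈ P.comp x := by
  have hzP : IsPGroup p (Subgroup.zpowers z) := by
    rintro ⟨_, i, rfl⟩
    refine ⟨n, Subtype.ext ?_⟩
    show (z ^ i) ^ p ^ n = 1
    rw [← zpow_natCast, ← zpow_mul, mul_comm, zpow_mul, zpow_natCast, hn, one_zpow]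
  exact P.le_of_mem_pGroup hx hP
    (hzP.to_sup_of_normal_right' hP (Subgroup.zpowers_le.2 hz)) le_sup_right
    (Subgroup.mem_sup_left (Subgroup.mem_zpowers z))

/-- The normaliser of a Sylow subgroup: the subgroup itself, or extended by one torus component. -/
theorem borel_complement {x : G} (hx : x ≠ 1) (hP : IsPGroup p (P.comp x)) :
    Nat.card (Subgroup.normalizer (P.comp x : Set G)) = Nat.card (P.comp x) ∨
    ∃ y, y ≠ 1 ∧ ¬ IsPGroup p (P.comp y) ∧ P.comp y ≤ Subgroup.normalizer (P.comp x : Set G) ∧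
      Nat.card (Subgroup.normalizer (P.comp x : Set G)) =
        Nat.card (P.comp x) * Nat.card (P.comp y) ∧
      Subgroup.normalizer (P.comp x : Set G) ⊓ Subgroup.normalizer (P.comp y : Set G) ≤
        P.comp y := by
  classical
  set N := Subgroup.normalizer (P.comp x : Set G) with hNdef
  set Q := P.restrict N with hQ
  obtain ⟨R, hR1, hR2, hR3, hR4⟩ := Q.class_equation
  have hxN : x ∈ N := Subgroup.le_normalizer (P.mem_self x hx)
  let xN : N := ⟨x, hxN⟩
  have hxN1 : xN ≠ 1 := fun e => hx (congrArg Subtype.val e)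
  have hcx : Q.comp xN = (P.comp x).subgroupOf N := rfl
  have hcard : Nat.card (Q.comp xN) = Nat.card (P.comp x) :=
    Nat.card_congr (Subgroup.subgroupOfEquivOfLe Subgroup.le_normalizer).toEquiv
  have hPx : IsPGroup p (Q.comp xN) := hP.comap_of_injective N.subtype N.subtype_injective
  -- the components of `N`
  have hcomp : ∀ z : N, z ≠ 1 → (IsPGroup p (Q.comp z) → Q.comp z = Q.comp xN) ∧
      (¬ IsPGroup p (Q.comp z) → P.comp (z : G) ≤ N ∧
        Subgroup.normalizer (Q.comp z : Set N) = Q.comp z) := by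
    intro z hz
    have hz' : (z : G) ≠ 1 := fun e => hz (Subtype.ext e)
    constructor
    · intro hpz
      obtain ⟨n, hn⟩ := (Q.isPGroup_iff_orderOf hz).1 hpz
      refine Q.eq_of_mem xN z hxN1 (Subgroup.mem_subgroupOf.2 (P.mem_comp_of_pow hx hP z.2 n ?_)) hz
      rw [← hn, Subgroup.orderOf_coe z |>.symm, pow_orderOf_eq_one]
    · intro hT
      have hT' : ¬ IsPGroup p (P.comp (z : G)) := fun e =>
        hT (e.comap_of_injective N.subtype N.subtype_injective)
      obtain ⟨h1, h2⟩ := P.borel x z hx hz' hP hT' z.2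
      refine ⟨h1, le_antisymm (fun k hk => ?_) Subgroup.le_normalizer⟩
      rw [hQ, restrict_comp, Subgroup.mem_subgroupOf]
      refine h2 ⟨k.2, P.mem_normalizer_of_conj_mem hz' ?_⟩
      exact (Subgroup.mem_normalizer_iff.1 hk z).1 (Subgroup.mem_subgroupOf.2 (P.mem_self _ hz'))
  obtain ⟨X, hXR, hXc⟩ := hR2 _ ⟨xN, hxN1, rfl⟩
  have hXp : IsPGroup p X := by
    obtain ⟨k, hk⟩ := hXc
    rw [← hk] at hPx
    exact hPx.of_equiv (Subgroup.equivMapOfInjective X _ (MulEquiv.injective _)).symm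
  have hother : ∀ Y ∈ R.erase X, ¬ IsPGroup p Y := by
    intro Y hY hYp
    obtain ⟨hne, hYR⟩ := Finset.mem_erase.1 hY
    obtain ⟨z, hz, rfl⟩ := hR1 Y hYR
    exact hne ((hR3 X hXR _ hYR (by rw [(hcomp z hz).1 hYp]; exact hXc)).symm)
  set n : ℕ := Nat.card N with hn
  set q₁ : ℕ := Nat.card (P.comp x)
  have hXcomp : X = Q.comp xN := by
    obtain ⟨z, hz, rfl⟩ := hR1 X hXR
    exact (hcomp z hz).1 hXp
  have hNX : Subgroup.normalizer (X : Set N) = ⊤ := by
    rw [hXcomp, hcx, eq_top_iff]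
    intro k _
    rw [Subgroup.mem_normalizer_iff]
    intro y
    simpa [Subgroup.mem_subgroupOf] using Subgroup.mem_normalizer_iff.1 k.2 (y : G)
  have htX : term X = ((q₁ : ℚ) - 1) / n := by
    rw [term, hNX, Subgroup.card_top, hXcomp, hcard]
  have hterm : ∀ Y ∈ R.erase X, term Y = 1 - 1 / (Nat.card Y : ℚ) ∧ 2 ≤ Nat.card Y := by
    intro Y hY
    have hT := hother Y hY
    obtain ⟨z, hz, rfl⟩ := hR1 Y (Finset.mem_of_mem_erase hY)
    obtain ⟨h2, ⟨-, h⟩ | ⟨h, -⟩⟩ := Q.torus_data ⟨z, hz, rfl⟩ hT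
    · exact ⟨h, h2⟩
    · rw [((hcomp z hz).2 hT).2] at h; omega
  have hsum : ∑ Y ∈ R.erase X, term Y = 1 - (q₁ : ℚ) / n := by
    rw [← Finset.add_sum_erase R term hXR, htX] at hR4
    have : ((q₁ : ℚ) - 1) / n = (q₁ : ℚ) / n - 1 / n := sub_div _ _ _
    linarith
  have hnpos : (0 : ℚ) < n := Nat.cast_pos.2 Nat.card_pos
  have hqpos : (0 : ℚ) < q₁ := Nat.cast_pos.2 Nat.card_pos
  have hle1 : (R.erase X).card ≤ 1 := by
    by_contra hgt
    have h := Finset.card_nsmul_le_sum (R.erase X) term (1 / 2) fun Y hY => by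
      obtain ⟨h, h2⟩ := hterm Y hY
      have h2' : (2 : ℚ) ≤ Nat.card Y := by exact_mod_cast h2
      have := one_div_le_one_div_of_le two_pos h2'
      rw [h]; linarith
    rw [hsum, nsmul_eq_mul] at h
    have h2 : (2 : ℚ) ≤ ((R.erase X).card : ℚ) := by exact_mod_cast (by omega : 2 ≤ (R.erase X).card)
    have : 0 < (q₁ : ℚ) / n := div_pos hqpos hnpos
    nlinarith
  rcases Nat.le_one_iff_eq_zero_or_eq_one.1 hle1 with h0 | h1
  · left
    rw [Finset.card_eq_zero.1 h0, Finset.sum_empty, eq_comm, sub_eq_zero, eq_comm,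
      div_eq_one_iff_eq hnpos.ne'] at hsum
    exact_mod_cast hsum.symm
  · right
    obtain ⟨Y, hY⟩ := Finset.card_eq_one.1 h1
    have hYm : Y ∈ R.erase X := hY ▸ Finset.mem_singleton_self Y
    have hT := hother Y hYm
    obtain ⟨h, hd2⟩ := hterm Y hYm
    rw [hY, Finset.sum_singleton, h] at hsum
    obtain ⟨z, hz, rfl⟩ := hR1 Y (Finset.mem_of_mem_erase hYm)
    have hz' : (z : G) ≠ 1 := fun e => hz (Subtype.ext e)
    have hT' : ¬ IsPGroup p (P.comp (z : G)) := fun e =>
      hT (e.comap_of_injective N.subtype N.subtype_injective)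
    have hle := ((hcomp z hz).2 hT).1
    have hcz : Nat.card (Q.comp z) = Nat.card (P.comp (z : G)) :=
      Nat.card_congr (Subgroup.subgroupOfEquivOfLe hle).toEquiv
    refine ⟨z, hz', hT', hle, ?_, (P.borel x z hx hz' hP hT' z.2).2⟩
    rw [hcz] at hsum hd2
    have hd : (Nat.card (P.comp (z : G)) : ℚ) ≠ 0 := Nat.cast_ne_zero.2 (by omega)
    field_simp at hsum
    have : (n : ℚ) = q₁ * Nat.card (P.comp (z : G)) := by linear_combination -hsum
    exact_mod_cast this

/-- The complement acts freely on the non-trivial elements of the Sylow subgroup. -/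
theorem card_dvd_sub_one {x y : G} (hx : x ≠ 1) (hP : IsPGroup p (P.comp x)) (hy : y ≠ 1)
    (hT : ¬ IsPGroup p (P.comp y)) (hle : P.comp y ≤ Subgroup.normalizer (P.comp x : Set G)) :
    Nat.card (P.comp y) ∣ Nat.card (P.comp x) - 1 := by
  classical
  letI : MulAction (P.comp y) {u : G // u ∈ P.comp x ∧ u ≠ 1} :=
    { smul := fun t u => ⟨(t : G) * u.1 * (t : G)⁻¹,
        (Subgroup.mem_normalizer_iff.1 (hle t.2) u.1).1 u.2.1, conj_ne_one u.2.2⟩
      one_smul := fun u => Subtype.ext (show (1 : G) * u.1 * 1⁻¹ = u.1 by simp)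
      mul_smul := fun a b u => Subtype.ext (show ((a * b : P.comp y) : G) * u.1 *
          ((a * b : P.comp y) : G)⁻¹ = (a : G) * ((b : G) * u.1 * (b : G)⁻¹) * (a : G)⁻¹ by
        simp [mul_assoc]) }
  have h := card_dvd_of_free (T := P.comp y) (Ω := {u : G // u ∈ P.comp x ∧ u ≠ 1}) fun u => by
    rw [Subgroup.eq_bot_iff_forall]
    intro t ht
    have e : (t : G) * u.1 * (t : G)⁻¹ = u.1 := congrArg Subtype.val ht
    by_contra hne
    have ht1 : (t : G) ≠ 1 := fun h => hne (Subtype.ext h)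
    have hcu := P.eq_of_mem x u.1 hx u.2.1 u.2.2
    have hmem : (t : G) ∈ P.comp x := by
      rw [← hcu, P.centralizer_p u.1 _ u.2.2 (by rw [hcu]; exact hP)]
      exact mul_inv_eq_iff_eq_mul.1 e
    have e' : P.comp y = P.comp x :=
      (P.eq_of_mem y t hy t.2 ht1).symm.trans (P.eq_of_mem x t hx hmem ht1)
    rw [e'] at hT
    exact hT hP
  have hcard : Nat.card {u : G // u ∈ P.comp x ∧ u ≠ 1} = Nat.card (P.comp x) - 1 := by
    rw [show Nat.card {u : G // u ∈ P.comp x ∧ u ≠ 1} =
      Nat.card (((P.comp x : Set G) \ {1} : Set G)) from rfl, Nat.card_coe_set_eq,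
      Set.ncard_sdiff_singleton_of_mem (P.comp x).one_mem, ← Nat.card_coe_set_eq]
    rfl
  rwa [hcard] at h

/-- The number of Sylow `p`-subgroups is `1` mod their order. -/
theorem index_normalizer_mod {x : G} (hx : x ≠ 1) (hP : IsPGroup p (P.comp x)) :
    Nat.card (P.comp x) ∣ (Subgroup.normalizer (P.comp x : Set G)).index - 1 := by
  classical
  set N := Subgroup.normalizer (P.comp x : Set G) with hN
  letI : MulAction (P.comp x) {c : G ⧸ N // c ≠ ((1 : G) : G ⧸ N)} :=
    { smul := fun u c => ⟨(u : G) • c.1, fun h => c.2 (by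
        have h' := congrArg ((u : G)⁻¹ • ·) h
        simp only [inv_smul_smul, MulAction.Quotient.smul_mk, smul_eq_mul, mul_one] at h'
        rw [h', QuotientGroup.eq, inv_inv, mul_one]
        exact Subgroup.le_normalizer u.2)⟩
      one_smul := fun c => Subtype.ext (one_smul G c.1)
      mul_smul := fun a b c => Subtype.ext (mul_smul (a : G) (b : G) c.1) }
  have h := card_dvd_of_free (T := P.comp x) (Ω := {c : G ⧸ N // c ≠ ((1 : G) : G ⧸ N)}) ?_
  · have hcard : Nat.card {c : G ⧸ N // c ≠ ((1 : G) : G ⧸ N)} = N.index - 1 := by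
      rw [show Nat.card {c : G ⧸ N // c ≠ ((1 : G) : G ⧸ N)} =
        (({((1 : G) : G ⧸ N)}ᶜ : Set (G ⧸ N))).ncard from (Nat.card_coe_set_eq _).symm.trans rfl |>.symm.symm,
        Set.ncard_compl, Set.ncard_singleton, ← Subgroup.index_eq_card]
    rwa [hcard] at h
  · rintro ⟨c, hc⟩
    obtain ⟨k, rfl⟩ := QuotientGroup.mk_surjective c
    rw [Subgroup.eq_bot_iff_forall]
    intro u hu
    have e : ((u : G) • (k : G ⧸ N)) = (k : G ⧸ N) := congrArg Subtype.val hu
    rw [MulAction.Quotient.smul_mk, smul_eq_mul, QuotientGroup.eq] at e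
    by_contra hne
    have hu1 : (u : G) ≠ 1 := fun h => hne (Subtype.ext h)
    set z := k⁻¹ * (u : G) * k with hz
    have hzN : z ∈ N := by
      have := inv_mem e
      rwa [_root_.mul_inv_rev, inv_inv, ← mul_assoc] at this
    obtain ⟨n, hn⟩ := IsPGroup.iff_orderOf.1 hP u
    have hzc : z ∈ P.comp x := P.mem_comp_of_pow hx hP hzN n (by
      rw [hz, show k⁻¹ * (u : G) * k = k⁻¹ * (u : G) * k⁻¹⁻¹ by rw [inv_inv], conj_pow, ← hn,
        ← Subgroup.orderOf_coe, pow_orderOf_eq_one]
      group)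
    have hz1 : z ≠ 1 := fun h => hu1 (by
      rw [show (u : G) = k * z * k⁻¹ by rw [hz]; group, h]; group)
    refine hc (QuotientGroup.eq.2 ?_)
    rw [mul_one]
    refine inv_mem ?_
    have hcz := P.eq_of_mem x z hx hzc hz1
    rw [hN, ← hcz]
    refine P.mem_normalizer_of_conj_mem hz1 ?_
    rw [hcz, show k * z * k⁻¹ = (u : G) by rw [hz]; group]
    exact u.2

/-- Three components of orders `5, 3, 2` in a group of order `60`. -/
theorem iso_alternatingFive (hG : Nat.card G = 60) {R : Finset (Subgroup G)}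
    (hR2 : ∀ X ∈ P.components, ∃ Y ∈ R, IsConjComp Y X)
    (hN : ∀ (N : Subgroup G) [DecidablePred (· ≤ N)], N.Normal →
      (∀ x ∈ N, x ≠ 1 → P.comp x ≤ N) →
      ∑ X ∈ R.filter (· ≤ N), (Subgroup.normalizer (X : Set G)).index * (Nat.card X - 1) =
        Nat.card N - 1)
    {X Y Z : Subgroup G} (hXY : X ≠ Y) (hXZ : X ≠ Z) (hYZ : Y ≠ Z) (hR : ∀ W, W ∈ R ↔ W = X ∨ W = Y ∨ W = Z)
    (hX : Nat.card X = 5) (hY : Nat.card Y = 3) (hZ : Nat.card Z = 2)
    (hNX : Nat.card (Subgroup.normalizer (X : Set G)) = 10)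
    (hNY : Nat.card (Subgroup.normalizer (Y : Set G)) = 6)
    (hNZ : Nat.card (Subgroup.normalizer (Z : Set G)) = 4) :
    Nonempty (G ≃* alternatingGroup (Fin 5)) := by
  classical
  have hidx : ∀ {W : Subgroup G} {a b : ℕ}, Nat.card (Subgroup.normalizer (W : Set G)) = a →
      b * a = 60 → 0 < a → (Subgroup.normalizer (W : Set G)).index = b := by
    intro W a b h hab ha
    have := (Subgroup.normalizer (W : Set G)).index_mul_card
    rw [h, hG] at this
    exact Nat.eq_of_mul_eq_mul_right ha (this.trans hab.symm)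
  have hRset : R = {X, Y, Z} := by ext W; simp [hR]
  have hprime : ∀ x, x ≠ 1 → (Nat.card (P.comp x)).Prime := by
    intro x hx
    obtain ⟨W, hW, hWc⟩ := hR2 _ ⟨x, hx, rfl⟩
    rw [← (card_normalizer_conj hWc).1]
    rcases (hR W).1 hW with rfl | rfl | rfl
    · rw [hX]; norm_num
    · rw [hY]; norm_num
    · rw [hZ]; norm_num
  have hcl : ∀ N : Subgroup G, ∀ x ∈ N, x ≠ 1 → P.comp x ≤ N := by
    intro N x hxN hx
    have : Subgroup.zpowers x = P.comp x := by
      refine Subgroup.eq_of_le_of_card_ge (Subgroup.zpowers_le.2 (P.mem_self x hx)) ?_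
      have hd := Subgroup.card_dvd_of_le (Subgroup.zpowers_le.2 (P.mem_self x hx))
      rw [((Nat.dvd_prime (hprime x hx)).1 hd).resolve_left (by rwa [Nat.card_zpowers, orderOf_eq_one_iff])]
    rw [← this]
    exact Subgroup.zpowers_le.2 hxN
  have : IsSimpleGroup G := by
    have : Nontrivial G := Finite.one_lt_card_iff_nontrivial.1 (by rw [hG]; norm_num)
    refine ⟨fun N hNn => ?_⟩
    have h := hN N hNn (hcl N)
    rw [hRset, Finset.sum_filter, Finset.sum_insert (by simp [hXY, hXZ]),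
      Finset.sum_pair hYZ, hX, hY, hZ, hidx hNX (b := 6) rfl (by norm_num),
      hidx hNY (b := 10) rfl (by norm_num), hidx hNZ (b := 15) rfl (by norm_num)] at h
    have hd : Nat.card N ∣ 60 := hG ▸ Subgroup.card_subgroup_dvd_card N
    have hpos := Nat.card_pos (α := N)
    have : Nat.card N = 1 ∨ Nat.card N = 60 := by
      split_ifs at h <;>
        first
          | omega
          | (exfalso; obtain ⟨c, hc⟩ := hd
             rw [show Nat.card N = _ + 1 from (Nat.sub_add_cancel hpos).symm.trans (by rw [← h])] at hc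
             omega)
    rcases this with e | e
    · exact Or.inl (Subgroup.card_eq_one.1 e)
    · exact Or.inr (Subgroup.eq_top_of_card_eq N (e.trans hG.symm))
  refine SmallSimple.iso_alternating_five (fun hc => ?_) hG
  have hn : X.Normal := ⟨fun a ha k => by rwa [hc.is_comm.comm k a, mul_inv_cancel_right]⟩
  rw [Subgroup.normalizer_eq_top, Subgroup.card_top, hG] at hNX
  omega

/-- Arithmetic: three tori, ordered. -/
theorem arith_three {a b c g : ℕ} (ha : 2 ≤ a) (hab : a ≤ b) (hbc : b ≤ c) (hg : 0 < g)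
    (h : (1 : ℚ) / a + 1 / b + 1 / c = 1 + 2 / g) :
    (a = 2 ∧ b = 2 ∧ g = 2 * c) ∨ (a = 2 ∧ b = 3 ∧
      (c = 3 ∧ g = 12 ∨ c = 4 ∧ g = 24 ∨ c = 5 ∧ g = 60)) := by
  have hgq : (0 : ℚ) < g := Nat.cast_pos.2 hg
  have hpos : (0 : ℚ) < 2 / g := div_pos two_pos hgq
  have hbig : ∀ {u k : ℕ}, 0 < k → k ≤ u → (1 : ℚ) / u ≤ 1 / k := fun {u k} hk hku =>
    one_div_le_one_div_of_le (Nat.cast_pos.2 hk) (Nat.cast_le.2 hku)
  obtain rfl : a = 2 := by
    by_contra hne
    have h1 := hbig (u := a) (k := 3) (by omega) (by omega)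
    have h2 := hbig (u := b) (k := 3) (by omega) (by omega)
    have h3 := hbig (u := c) (k := 3) (by omega) (by omega)
    push_cast at h1 h2 h3
    linarith
  have hb : b = 2 ∨ b = 3 := by
    by_contra hne
    have h2 := hbig (u := b) (k := 4) (by omega) (by omega)
    have h3 := hbig (u := c) (k := 4) (by omega) (by omega)
    push_cast at h2 h3 h
    linarith
  have hc0 : (0 : ℚ) < c := Nat.cast_pos.2 (by omega)
  rcases hb with rfl | rfl
  · left
    refine ⟨rfl, rfl, ?_⟩
    field_simp at h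
    have : (g : ℚ) = 2 * c := by norm_num at h; linarith
    exact_mod_cast this
  · right
    refine ⟨rfl, rfl, ?_⟩
    have hc5 : c ≤ 5 := by
      by_contra hne
      have h3 := hbig (u := c) (k := 6) (by omega) (by omega)
      push_cast at h3 h
      linarith
    interval_cases c <;> field_simp at h <;> norm_num at h
    · exact Or.inl ⟨rfl, by exact_mod_cast (by linarith : (g : ℚ) = 12)⟩
    · exact Or.inr (Or.inl ⟨rfl, by exact_mod_cast (by linarith : (g : ℚ) = 24)⟩)
    · exact Or.inr (Or.inr ⟨rfl, by exact_mod_cast (by linarith : (g : ℚ) = 60)⟩)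

omit hp in
theorem dihedral_shape {x : G} (hx : x ≠ 1) (hT : ¬ IsPGroup p (P.comp x))
    (hN : Nat.card (Subgroup.normalizer (P.comp x : Set G)) = 2 * Nat.card (P.comp x))
    (hG : Nat.card G = 2 * Nat.card (P.comp x)) : P.IsShape :=
  Or.inr (Or.inr (Or.inl ⟨x, hx, hT, Subgroup.eq_top_of_card_eq _ (hN.trans hG.symm), hG⟩))

omit hp in
theorem permFour_torus (hG : Nat.card G = 24) {X : Subgroup G} (hX : X ∈ P.components)
    (hT : ¬ IsPGroup p X) (h3 : Nat.card X = 3)
    (h6 : Nat.card (Subgroup.normalizer (X : Set G)) = 6) :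
    Nonempty (G ≃* Equiv.Perm (Fin 4)) := by
  obtain ⟨x, hx, rfl⟩ := hX
  refine iso_permFour hG h3 h6 fun k hk hk' => ⟨x, P.mem_self x hx, fun e => ?_⟩
  have := (P.inverting x k hx hT hk hk').2 x (P.mem_self x hx)
  rw [e, mul_inv_cancel_right] at this
  have hd := orderOf_dvd_natCard (⟨x, P.mem_self x hx⟩ : P.comp x)
  rw [Subgroup.orderOf_mk, h3] at hd
  have hdvd : orderOf x ∣ 2 :=
    orderOf_dvd_of_pow_eq_one (by rw [pow_two, ← mul_inv_cancel x, ← this])
  exact hx (orderOf_eq_one_iff.1 (Nat.eq_one_of_dvd_coprimes (by norm_num) hd hdvd))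

/-- No `p`-elements: the finite rotation groups. -/
theorem shape_no_p {R : Finset (Subgroup G)} (hR1 : ∀ X ∈ R, X ∈ P.components)
    (hR2 : ∀ X ∈ P.components, ∃ Y ∈ R, IsConjComp Y X)
    (hR3 : ∀ X ∈ R, ∀ Y ∈ R, IsConjComp X Y → X = Y)
    (hN : ∀ (N : Subgroup G) [DecidablePred (· ≤ N)], N.Normal →
      (∀ x ∈ N, x ≠ 1 → P.comp x ≤ N) →
      ∑ X ∈ R.filter (· ≤ N), (Subgroup.normalizer (X : Set G)).index * (Nat.card X - 1) =
        Nat.card N - 1)
    (hsum : ∑ X ∈ R, term X = 1 - 1 / (Nat.card G : ℚ))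
    (hT : ∀ X ∈ R, ¬ IsPGroup p X) : P.IsShape := by
  classical
  set g := Nat.card G with hg
  have hgpos : 0 < g := Nat.card_pos
  have hgq : (0 : ℚ) < g := Nat.cast_pos.2 hgpos
  have hg1 : (0 : ℚ) < 1 / g := one_div_pos.2 hgq
  have hcard : R.card ≤ 3 := by
    by_contra hgt
    have h := Finset.card_nsmul_le_sum R term (1 / 4) fun Y hY =>
      P.quarter_le_term (hR1 Y hY) (hT Y hY)
    rw [hsum, nsmul_eq_mul] at h
    have : (4 : ℚ) ≤ (R.card : ℚ) := by exact_mod_cast (by omega : 4 ≤ R.card)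
    linarith
  have hhalf : ∀ X ∈ R, (Nat.card X : ℚ) ≥ 2 := fun X hX => by
    exact_mod_cast (P.torus_data (hR1 X hX) (hT X hX)).1
  -- a torus of index two in its normaliser with group twice as big
  have hdih : ∀ X ∈ R, Nat.card (Subgroup.normalizer (X : Set G)) = 2 * Nat.card X →
      g = 2 * Nat.card X → P.IsShape := by
    intro X hX hNX hgX
    have hTX := hT X hX
    obtain ⟨x, hx, rfl⟩ := hR1 X hX
    exact P.dihedral_shape hx hTX hNX hgX
  rcases (show R.card = 0 ∨ R.card = 1 ∨ R.card = 2 ∨ R.card = 3 by omega) with h | h | h | h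
  · left
    rw [Finset.card_eq_zero.1 h, Finset.sum_empty, eq_comm, sub_eq_zero, eq_comm,
      div_eq_one_iff_eq hgq.ne'] at hsum
    exact (Nat.card_eq_one_iff_unique.1 (by exact_mod_cast hsum.symm)).1
  · obtain ⟨X, rfl⟩ := Finset.card_eq_one.1 h
    have hXm := Finset.mem_singleton_self X
    obtain ⟨-, ⟨-, e⟩ | ⟨eN, e⟩⟩ := P.torus_data (hR1 X hXm) (hT X hXm)
    · rw [Finset.sum_singleton, e, sub_right_inj, one_div, one_div, inv_inj] at hsum
      have hTX := hT X hXm
      obtain ⟨x, hx, rfl⟩ := hR1 X hXm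
      exact Or.inr (Or.inl ⟨x, hx, hTX, Subgroup.eq_top_of_card_eq _ (by exact_mod_cast hsum)⟩)
    · exfalso
      rw [Finset.sum_singleton, e] at hsum
      have h2 : 2 * Nat.card X ≤ g := by
        rw [← eN]; exact Nat.le_of_dvd hgpos (Subgroup.card_subgroup_dvd_card _)
      have h2' : (4 : ℚ) ≤ g := by
        have := hhalf X hXm
        have : ((2 * Nat.card X : ℕ) : ℚ) ≤ g := Nat.cast_le.2 h2
        push_cast at this; linarith
      have h3 : (1 : ℚ) / g ≤ 1 / 4 := one_div_le_one_div_of_le (by norm_num) h2'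
      have h4 : (0 : ℚ) ≤ 1 / (2 * (Nat.card X : ℚ)) := by positivity
      linarith
  · obtain ⟨X, Y, hXY, rfl⟩ := Finset.card_eq_two.1 h
    rw [Finset.sum_pair hXY] at hsum
    have hXm : X ∈ ({X, Y} : Finset (Subgroup G)) := by simp
    have hYm : Y ∈ ({X, Y} : Finset (Subgroup G)) := by simp
    -- `X` self-normalising, `Y` of index two
    have key : ∀ X Y : Subgroup G, X ∈ P.components → ¬ IsPGroup p X → 2 ≤ Nat.card X → 2 ≤ Nat.card Y →
        Nat.card (Subgroup.normalizer (X : Set G)) = Nat.card X →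
        Nat.card (Subgroup.normalizer (Y : Set G)) = 2 * Nat.card Y →
        (1 : ℚ) / (Nat.card X) = 1 / g + 1 / 2 - 1 / (2 * (Nat.card Y : ℚ)) →
        (g = 2 * Nat.card Y) ∨ Nonempty (G ≃* alternatingGroup (Fin 4)) := by
      intro X Y hXc hXT hX2 hY2 hNX hNY e
      have hY0 : (2 : ℚ) ≤ Nat.card Y := by exact_mod_cast hY2
      have hY4 : 1 / (2 * (Nat.card Y : ℚ)) ≤ 1 / 4 :=
        one_div_le_one_div_of_le (by norm_num) (by linarith)
      have hX3 : Nat.card X ≤ 3 := by
        by_contra hgt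
        have h4 : (4 : ℚ) ≤ Nat.card X := by exact_mod_cast (by omega : 4 ≤ Nat.card X)
        have := one_div_le_one_div_of_le (by norm_num) h4
        linarith
      rcases (show Nat.card X = 2 ∨ Nat.card X = 3 by omega) with hX | hX <;> rw [hX] at e <;>
        push_cast at e
      · left
        have : (g : ℚ) = 2 * Nat.card Y := by field_simp at e; linarith
        exact_mod_cast this
      · right
        have hYle : Nat.card Y ≤ 2 := by
          by_contra hgt
          have h3 : (3 : ℚ) ≤ Nat.card Y := by exact_mod_cast (by omega : 3 ≤ Nat.card Y)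
          have : 1 / (2 * (Nat.card Y : ℚ)) ≤ 1 / 6 :=
            one_div_le_one_div_of_le (by norm_num) (by linarith)
          linarith
        rw [show Nat.card Y = 2 by omega] at e
        push_cast at e
        refine iso_alternatingFour ?_ hX (hNX.trans hX)
        have : (g : ℚ) = 12 := by field_simp at e; linarith
        exact_mod_cast this
    obtain ⟨hX2, hX⟩ := P.torus_data (hR1 X hXm) (hT X hXm)
    obtain ⟨hY2, hY⟩ := P.torus_data (hR1 Y hYm) (hT Y hYm)
    have hX2' := hhalf X hXm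
    have hY2' := hhalf Y hYm
    rcases hX with ⟨aX, eX⟩ | ⟨aX, eX⟩ <;> rcases hY with ⟨aY, eY⟩ | ⟨aY, eY⟩ <;>
      rw [eX, eY] at hsum
    · exfalso
      have := one_div_le_one_div_of_le two_pos hX2'
      have := one_div_le_one_div_of_le two_pos hY2'
      linarith
    · rcases key X Y (hR1 X hXm) (hT X hXm) hX2 hY2 aX aY (by linarith) with h | h
      · exact hdih Y hYm aY h
      · exact Or.inr (Or.inr (Or.inr (Or.inr (Or.inl h))))
    · rcases key Y X (hR1 Y hYm) (hT Y hYm) hY2 hX2 aY aX (by linarith) with h | h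
      · exact hdih X hXm aX h
      · exact Or.inr (Or.inr (Or.inr (Or.inr (Or.inl h))))
    · exfalso
      have hX0 : (2 * Nat.card X : ℕ) ≤ g := by
        rw [← aX]; exact Nat.le_of_dvd hgpos (Subgroup.card_subgroup_dvd_card _)
      have h1 : (1 : ℚ) / g ≤ 1 / (2 * (Nat.card X : ℚ)) :=
        one_div_le_one_div_of_le (by linarith) (by exact_mod_cast hX0)
      have : (0 : ℚ) < 1 / (2 * (Nat.card Y : ℚ)) := by positivity
      linarith
  · -- three components, all of index two in their normalisers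
    have htwo : ∀ X ∈ R, Nat.card (Subgroup.normalizer (X : Set G)) = 2 * Nat.card X ∧
        term X = 1 / 2 - 1 / (2 * (Nat.card X : ℚ)) := by
      intro X hX
      obtain ⟨-, ⟨-, e⟩ | e⟩ := P.torus_data (hR1 X hX) (hT X hX)
      · exfalso
        have h1 := Finset.card_nsmul_le_sum (R.erase X) term (1 / 4) fun Y hY =>
          P.quarter_le_term (hR1 Y (Finset.mem_of_mem_erase hY)) (hT Y (Finset.mem_of_mem_erase hY))
        rw [Finset.card_erase_of_mem hX, h] at h1
        rw [← Finset.add_sum_erase R term hX, e] at hsum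
        have := one_div_le_one_div_of_le two_pos (hhalf X hX)
        norm_num at h1
        linarith
      · exact e
    obtain ⟨X, Y, Z, hXY, hXZ, hYZ, rfl⟩ := Finset.card_eq_three.1 h
    rw [Finset.sum_insert (by simp [hXY, hXZ]), Finset.sum_pair hYZ, (htwo X (by simp)).2,
      (htwo Y (by simp)).2, (htwo Z (by simp)).2] at hsum
    have e : (1 : ℚ) / Nat.card X + 1 / Nat.card Y + 1 / Nat.card Z = 1 + 2 / g := by
      have hd : ∀ r : ℚ, 1 / (2 * r) = (1 / r) / 2 := fun r => by rw [div_div, mul_comm]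
      rw [hd, hd, hd] at hsum
      have : (2 : ℚ) / g = 2 * (1 / g) := by ring
      linarith
    -- apply the ordered lemma in each of the six orders
    have fin : ∀ A B C : Subgroup G, ({X, Y, Z} : Finset (Subgroup G)) = {A, B, C} →
        A ≠ B → A ≠ C → B ≠ C → Nat.card A ≤ Nat.card B → Nat.card B ≤ Nat.card C →
        (1 : ℚ) / Nat.card A + 1 / Nat.card B + 1 / Nat.card C = 1 + 2 / g → P.IsShape := by
      intro A B C hABC hAB hAC hBC hle hle' e
      have hA : A ∈ ({X, Y, Z} : Finset (Subgroup G)) := by rw [hABC]; simp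
      have hB : B ∈ ({X, Y, Z} : Finset (Subgroup G)) := by rw [hABC]; simp
      have hC : C ∈ ({X, Y, Z} : Finset (Subgroup G)) := by rw [hABC]; simp
      rcases arith_three (P.torus_data (hR1 A hA) (hT A hA)).1 hle hle' hgpos e with
        ⟨-, -, hg2⟩ | ⟨a2, b3, hc⟩
      · exact hdih C hC (htwo C hC).1 hg2
      rcases hc with ⟨c3, hg12⟩ | ⟨-, hg24⟩ | ⟨c5, hg60⟩
      · exfalso
        refine hBC (hR3 B hB C hC ?_)
        have : Fact (Nat.Prime 3) := ⟨Nat.prime_three⟩
        have hsyl : ∀ W : Subgroup G, Nat.card W = 3 → ∃ S : Sylow 3 G, (S : Subgroup G) = W := by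
          intro W hW
          refine ⟨(IsPGroup.of_card (p := 3) (n := 1) hW).toSylow ?_, rfl⟩
          have := W.index_mul_card
          rw [hW, ← hg, hg12] at this
          omega
        obtain ⟨S, hS⟩ := hsyl B b3
        obtain ⟨S', hS'⟩ := hsyl C c3
        obtain ⟨k, hk⟩ := MulAction.exists_smul_eq G S S'
        exact ⟨k, by rw [← hS, ← hS', ← hk]; rfl⟩
      · exact Or.inr (Or.inr (Or.inr (Or.inr (Or.inr (Or.inl
          (P.permFour_torus hg24 (hR1 B hB) (hT B hB) b3 (by rw [(htwo B hB).1, b3])))))))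
      · refine Or.inr (Or.inr (Or.inr (Or.inr (Or.inr (Or.inr (Or.inl ?_))))))
        refine P.iso_alternatingFive hg60 hR2 hN hBC.symm hAC.symm hAB.symm
          (fun W => by rw [hABC]; simp; tauto) c5 b3 a2 ?_ ?_ ?_
        · rw [(htwo C hC).1, c5]
        · rw [(htwo B hB).1, b3]
        · rw [(htwo A hA).1, a2]
    rcases le_total (Nat.card X) (Nat.card Y) with h1 | h1 <;>
      rcases le_total (Nat.card Y) (Nat.card Z) with h2 | h2 <;>
      rcases le_total (Nat.card X) (Nat.card Z) with h3 | h3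
    all_goals first
      | exact fin X Y Z rfl hXY hXZ hYZ h1 h2 e
      | exact fin X Z Y (by ext; simp; tauto) hXZ hXY hYZ.symm h3 h2 (by linarith)
      | exact fin Y X Z (by ext; simp; tauto) hXY.symm hYZ hXZ h1 h3 (by linarith)
      | exact fin Y Z X (by ext; simp; tauto) hYZ hXY.symm hXZ.symm h2 h3 (by linarith)
      | exact fin Z X Y (by ext; simp; tauto) hXZ.symm hYZ.symm hXY h3 h1 (by linarith)
      | exact fin Z Y X (by ext; simp; tauto) hYZ.symm hXZ.symm hXY.symm h2 h1 (by linarith)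

/-- With `p`-elements. -/
theorem shape_p {R : Finset (Subgroup G)} (hR1 : ∀ X ∈ R, X ∈ P.components)
    (hR2 : ∀ X ∈ P.components, ∃ Y ∈ R, IsConjComp Y X)
    (hR3 : ∀ X ∈ R, ∀ Y ∈ R, IsConjComp X Y → X = Y)
    (hN : ∀ (N : Subgroup G) [DecidablePred (· ≤ N)], N.Normal →
      (∀ x ∈ N, x ≠ 1 → P.comp x ≤ N) →
      ∑ X ∈ R.filter (· ≤ N), (Subgroup.normalizer (X : Set G)).index * (Nat.card X - 1) =
        Nat.card N - 1)
    (hsum : ∑ X ∈ R, term X = 1 - 1 / (Nat.card G : ℚ))
    {x : G} (hx : x ≠ 1) (hP : IsPGroup p (P.comp x)) (hxR : P.comp x ∈ R) : P.IsShape := by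
  classical
  set g := Nat.card G with hg
  have hgpos : 0 < g := Nat.card_pos
  have hgq : (0 : ℚ) < g := Nat.cast_pos.2 hgpos
  set R' := R.erase (P.comp x) with hR'
  have hT : ∀ X ∈ R', ¬ IsPGroup p X := by
    intro X hX hXp
    obtain ⟨hne, hXR⟩ := Finset.mem_erase.1 hX
    obtain ⟨z, hz, rfl⟩ := hR1 X hXR
    exact hne (hR3 _ hxR _ hXR (P.exists_conj_of_pGroup hx hz hP hXp)).symm
  have hmem : ∀ X ∈ R', X ∈ P.components := fun X hX => hR1 X (Finset.mem_of_mem_erase hX)
  set q₁ := Nat.card (P.comp x) with hq₁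
  have hq2 : 2 ≤ q₁ := P.two_le_card hx
  have hq2' : (2 : ℚ) ≤ q₁ := by exact_mod_cast hq2
  have hqinv : (1 : ℚ) / q₁ ≤ 1 / 2 := one_div_le_one_div_of_le two_pos hq2'
  set NP := Subgroup.normalizer (P.comp x : Set G) with hNP
  rw [← Finset.add_sum_erase R term hxR, ← hR'] at hsum
  have hpos1 : (0 : ℚ) < 1 / g := one_div_pos.2 hgq
  have hquart : ∀ X ∈ R', 1 / 4 ≤ term X := fun X hX => P.quarter_le_term (hmem X hX) (hT X hX)
  by_cases hNtop : NP = ⊤
  · exact Or.inr (Or.inr (Or.inr (Or.inl ⟨x, hx, hP, hNtop⟩)))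
  rcases P.borel_complement hx hP with hw | ⟨y, hy, hyT, hyle, hw, hyint⟩
  · -- trivial complement
    have htx : term (P.comp x) = 1 - 1 / (q₁ : ℚ) := by
      rw [term, hw, ← hq₁]; field_simp
    rw [htx] at hsum
    have hne : R'.Nonempty := by
      by_contra h0
      rw [Finset.not_nonempty_iff_eq_empty.1 h0, Finset.sum_empty, add_zero, sub_right_inj,
        one_div, one_div, inv_inj] at hsum
      exact hNtop (Subgroup.eq_top_of_card_eq _ (hw.trans (by exact_mod_cast hsum)))
    have hle1 : R'.card ≤ 1 := by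
      by_contra hgt
      have h1 := Finset.card_nsmul_le_sum R' term (1 / 4) hquart
      rw [nsmul_eq_mul] at h1
      have : (2 : ℚ) ≤ (R'.card : ℚ) := by exact_mod_cast (by omega : 2 ≤ R'.card)
      linarith
    obtain ⟨Y, hY⟩ := Finset.card_eq_one.1 (le_antisymm hle1 hne.card_pos)
    have hYm : Y ∈ R' := hY ▸ Finset.mem_singleton_self Y
    rw [hY, Finset.sum_singleton] at hsum
    obtain ⟨hd2, ⟨-, e⟩ | ⟨aN, e⟩⟩ := P.torus_data (hmem Y hYm) (hT Y hYm) <;> rw [e] at hsum
    · exfalso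
      have : (1 : ℚ) / Nat.card Y ≤ 1 / 2 := one_div_le_one_div_of_le two_pos (by exact_mod_cast hd2)
      linarith
    · have hd2' : (2 : ℚ) ≤ Nat.card Y := by exact_mod_cast hd2
      have hd4 : 1 / (2 * (Nat.card Y : ℚ)) ≤ 1 / 4 :=
        one_div_le_one_div_of_le (by norm_num) (by linarith)
      have hq3 : q₁ ≤ 3 := by
        by_contra hgt
        have := one_div_le_one_div_of_le (by norm_num)
          (show (4 : ℚ) ≤ q₁ by exact_mod_cast (by omega : 4 ≤ q₁))
        linarith
      rcases (show q₁ = 2 ∨ q₁ = 3 by omega) with hq | hq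
      · rw [hq] at hsum
        push_cast at hsum
        have hgY : g = 2 * Nat.card Y := by
          have : (g : ℚ) = 2 * Nat.card Y := by field_simp at hsum; linarith
          exact_mod_cast this
        have hTY := hT Y hYm
        obtain ⟨y, hy, rfl⟩ := hmem Y hYm
        exact P.dihedral_shape hy hTY aN hgY
      · rw [hq] at hsum
        push_cast at hsum
        have hd : Nat.card Y = 2 := by
          by_contra hne'
          have h3 : (3 : ℚ) ≤ Nat.card Y := by exact_mod_cast (by omega : 3 ≤ Nat.card Y)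
          have : 1 / (2 * (Nat.card Y : ℚ)) ≤ 1 / 6 :=
            one_div_le_one_div_of_le (by norm_num) (by linarith)
          linarith
        rw [hd] at hsum
        push_cast at hsum
        have hg12 : g = 12 := by
          have : (g : ℚ) = 12 := by field_simp at hsum; linarith
          exact_mod_cast this
        exact Or.inr (Or.inr (Or.inr (Or.inr (Or.inl
          (iso_alternatingFour hg12 (hq₁ ▸ hq) (hw.trans (hq₁ ▸ hq)))))))
  · -- the complement `comp y`
    set w := Nat.card (P.comp y) with hwdef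
    have hw2 : 2 ≤ w := P.two_le_card hy
    have hw2' : (2 : ℚ) ≤ w := by exact_mod_cast hw2
    have hwdvd := P.card_dvd_sub_one hx hP hy hyT hyle
    rw [← hq₁, ← hwdef] at hwdvd
    have hwle : w ≤ q₁ - 1 := Nat.le_of_dvd (by omega) hwdvd
    have hq3 : 3 ≤ q₁ := by omega
    have hq3' : (3 : ℚ) ≤ q₁ := by exact_mod_cast hq3
    have htx : term (P.comp x) = ((q₁ : ℚ) - 1) / (q₁ * w) := by
      rw [term, hw, ← hq₁]; push_cast; rfl
    rw [htx] at hsum
    obtain ⟨Y0, hY0R, hY0c⟩ := hR2 _ ⟨y, hy, rfl⟩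
    obtain ⟨cY0, cN0⟩ := card_normalizer_conj hY0c
    have hY0 : Y0 ∈ R' := by
      refine Finset.mem_erase.2 ⟨?_, hY0R⟩
      rintro rfl
      obtain ⟨k, hk⟩ := hY0c
      exact hyT (hk ▸ hP.of_equiv (Subgroup.equivMapOfInjective _ _ (MulEquiv.injective _)))
    rw [← Finset.add_sum_erase R' term hY0] at hsum
    -- the first two terms together are at least one half
    have hfirst : (1 : ℚ) / 2 + 1 / (6 * w) ≤
        ((q₁ : ℚ) - 1) / (q₁ * w) + (1 / 2 - 1 / (2 * (w : ℚ))) := by
      have h1 : ((q₁ : ℚ) - 1) / (q₁ * w) + (1 / 2 - 1 / (2 * (w : ℚ))) =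
          1 / 2 + ((1 : ℚ) / 2 - 1 / q₁) / w := by field_simp; ring
      have h2 : (1 : ℚ) / q₁ ≤ 1 / 3 := one_div_le_one_div_of_le (by norm_num) hq3'
      rw [h1, show (1 : ℚ) / (6 * w) = (1 / 6) / w by rw [div_div]]
      gcongr
      linarith
    have hw6 : (0 : ℚ) < 1 / (6 * w) := by positivity
    have hle1 : (R'.erase Y0).card ≤ 1 := by
      by_contra hgt
      have h1 := Finset.card_nsmul_le_sum (R'.erase Y0) term (1 / 4)
        fun Y hY => hquart Y (Finset.mem_of_mem_erase hY)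
      rw [nsmul_eq_mul] at h1
      have : (2 : ℚ) ≤ ((R'.erase Y0).card : ℚ) := by exact_mod_cast (by omega : 2 ≤ (R'.erase Y0).card)
      obtain ⟨-, ⟨-, e⟩ | ⟨-, e⟩⟩ := P.torus_data (hmem Y0 hY0) (hT Y0 hY0) <;>
        rw [e, cY0, ← hwdef] at hsum
      · have : 1 / (2 * (w : ℚ)) = (1 / (w : ℚ)) / 2 := by rw [div_div, mul_comm]
        have : (1 : ℚ) / w ≤ 1 / 2 := one_div_le_one_div_of_le two_pos hw2'
        linarith
      · linarith
    set m := NP.index with hm
    have hgm : g = q₁ * w * m := by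
      rw [hg, hm, ← NP.index_mul_card, hw, ← hq₁]; ring
    have hmne : m ≠ 1 := fun h => hNtop (Subgroup.index_eq_one.1 h)
    have hmpos : 0 < m := Nat.pos_of_ne_zero fun h => by rw [h, mul_zero] at hgm; omega
    -- `comp y` has index two in its normaliser and there is exactly one further component
    obtain ⟨-, ⟨aN0, e0⟩ | ⟨aN0, e0⟩⟩ := P.torus_data (hmem Y0 hY0) (hT Y0 hY0) <;> rw [e0, cY0, ← hwdef] at hsum
    · exfalso
      have hempty : R'.erase Y0 = ∅ := by
        rw [← Finset.not_nonempty_iff_eq_empty]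
        rintro ⟨Y, hY⟩
        have h1 : term Y ≤ ∑ Z ∈ R'.erase Y0, term Z :=
          Finset.single_le_sum (fun Z hZ => le_trans (by norm_num) (hquart Z (Finset.mem_of_mem_erase hZ))) hY
        have := hquart Y (Finset.mem_of_mem_erase hY)
        have hqw : (q₁ : ℚ) * w ≥ 6 := by nlinarith
        have e1 : ((q₁ : ℚ) - 1) / (q₁ * w) = 1 / (w : ℚ) - 1 / ((q₁ : ℚ) * w) := by field_simp
        have := one_div_le_one_div_of_le (by norm_num) hqw
        linarith
      rw [hempty, Finset.sum_empty, add_zero] at hsum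
      have e1 : ((q₁ : ℚ) - 1) / (q₁ * w) = 1 / (w : ℚ) - 1 / ((q₁ : ℚ) * w) := by field_simp
      have : (1 : ℚ) / g = 1 / ((q₁ : ℚ) * w) := by linarith
      rw [one_div, one_div, inv_inj] at this
      have hg' : g = q₁ * w := by exact_mod_cast this
      rw [hgm] at hg'
      exact hmne (Nat.eq_of_mul_eq_mul_left (Nat.mul_pos (by omega) (by omega)) (hg'.trans (mul_one _).symm))
    · have hne : (R'.erase Y0).Nonempty := by
        by_contra h0
        rw [Finset.not_nonempty_iff_eq_empty.1 h0, Finset.sum_empty, add_zero] at hsum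
        -- then `|G| < 2` times the Borel subgroup, so it is everything
        have h2 : (1 : ℚ) / g ≤ 1 / (2 * (q₁ * w)) := by
          refine one_div_le_one_div_of_le (by positivity) ?_
          have : 2 * (q₁ * w) ≤ g := by
            rw [hgm]; exact le_of_eq_of_le (mul_comm _ _) (Nat.mul_le_mul_left _ (by omega))
          exact_mod_cast this
        have h3 : 1 / (2 * ((q₁ : ℚ) * w)) ≤ 1 / 12 :=
          one_div_le_one_div_of_le (by norm_num) (by nlinarith)
        have h4 : ((q₁ : ℚ) - 1) / (q₁ * w) + (1 / 2 - 1 / (2 * (w : ℚ))) < 3 / 4 + 1 / 12 := by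
          have e1 : ((q₁ : ℚ) - 1) / (q₁ * w) + (1 / 2 - 1 / (2 * (w : ℚ))) =
              1 / 2 + (1 / (w : ℚ)) * (1 / 2) - 1 / ((q₁ : ℚ) * w) := by field_simp; ring
          have : (1 : ℚ) / w ≤ 1 / 2 := one_div_le_one_div_of_le two_pos hw2'
          have : (0 : ℚ) < 1 / ((q₁ : ℚ) * w) := by positivity
          linarith
        linarith
      obtain ⟨Y2, hY2⟩ := Finset.card_eq_one.1 (le_antisymm hle1 hne.card_pos)
      have hY2m : Y2 ∈ R'.erase Y0 := hY2 ▸ Finset.mem_singleton_self Y2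
      have hY2' : Y2 ∈ R' := Finset.mem_of_mem_erase hY2m
      rw [hY2, Finset.sum_singleton] at hsum
      obtain ⟨hd2, ⟨-, e2⟩ | ⟨aN2, e2⟩⟩ := P.torus_data (hmem Y2 hY2') (hT Y2 hY2') <;> rw [e2] at hsum
      · exfalso
        have : (1 : ℚ) / Nat.card Y2 ≤ 1 / 2 :=
          one_div_le_one_div_of_le two_pos (by exact_mod_cast hd2)
        linarith
      set d := Nat.card Y2 with hd
      have hd0 : (0 : ℚ) < d := by exact_mod_cast (by omega : 0 < d)
      -- `q₁ w m = d (2 + m (q₁ - 2))`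
      obtain ⟨s, hs⟩ : ∃ s, q₁ = s + 2 := ⟨q₁ - 2, by omega⟩
      have heq : q₁ * w * m = d * (2 + m * s) := by
        have hgq' : (g : ℚ) = q₁ * w * m := by exact_mod_cast hgm
        rw [hgq'] at hsum
        have hsq : (q₁ : ℚ) = s + 2 := by exact_mod_cast hs
        have hm0 : (0 : ℚ) < m := Nat.cast_pos.2 hmpos
        field_simp at hsum
        have : ((q₁ * w * m : ℕ) : ℚ) = ((d * (2 + m * s) : ℕ) : ℚ) := by
          push_cast
          rw [hsq] at hsum ⊢
          linarith
        exact_mod_cast this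
      obtain ⟨k, hk⟩ := P.index_normalizer_mod hx hP
      rw [← hq₁, ← hNP, ← hm] at hk
      have hk0 : k ≠ 0 := by rintro rfl; rw [mul_zero] at hk; omega
      have hmk : m = 1 + q₁ * k := by omega
      have hwe : w * m = d * (1 + k * s) := by
        refine Nat.eq_of_mul_eq_mul_left (show 0 < q₁ by omega) ?_
        rw [← mul_assoc, heq, hmk, hs]
        ring
      have he : (1 + k * s) ∣ 2 * w := by
        have h1 : (1 + k * s) ∣ w * m := Dvd.intro_left d hwe.symm
        rw [show w * m = w * (1 + k * s) + (2 * w) * k by rw [hmk, hs]; ring] at h1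
        refine (Nat.Coprime.dvd_of_dvd_mul_right ?_ ((Nat.dvd_add_right (dvd_mul_left _ _)).1 h1))
        rw [Nat.coprime_comm, Nat.coprime_add_mul_left_right]
        exact Nat.coprime_one_right k
      have hele : 1 + k * s ≤ 2 * w := Nat.le_of_dvd (by omega) he
      have hcards : Nat.card (Subgroup.normalizer (P.comp y : Set G)) = 2 * w := by
        rw [← cN0, aN0, cY0]
      -- only `k = 1`, or `q₁ = 3, k = 3`
      rcases (show k = 1 ∨ (k = 2 ∧ 2 ≤ s) ∨ (s = 1 ∧ 2 ≤ k) ∨ (3 ≤ k ∧ 2 ≤ s) by omega) with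
        h1 | ⟨h2, hs2⟩ | ⟨hs1, hk2⟩ | ⟨h3, hs2⟩
      · subst h1
        refine Or.inr (Or.inr (Or.inr (Or.inr (Or.inr (Or.inr (Or.inr
          ⟨x, y, hx, hP, hy, hyT, hyle, hq₁ ▸ hq3, ?_, hw, by rw [← hNP, ← hm, hmk, ← hq₁]; ring, hcards⟩))))))
        rw [← hwdef, ← hq₁]
        obtain ⟨c, hc⟩ := he
        obtain ⟨c', hc'⟩ := hwdvd
        rcases (show c' = 1 ∨ c' = 2 ∨ 3 ≤ c' ∨ c' = 0 by omega) with rfl | rfl | h | rfl
        · left; omega
        · right; omega
        · exfalso
          have : 3 * w ≤ w * c' := by rw [mul_comm w]; exact Nat.mul_le_mul_right _ h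
          omega
        · omega
      · exfalso
        subst h2
        have hodd : Nat.Coprime (1 + 2 * s) 2 := by
          rw [Nat.coprime_two_right]; exact ⟨s, by ring⟩
        have := Nat.le_of_dvd (by omega) (hodd.dvd_of_dvd_mul_left he)
        omega
      · -- `q₁ = 3`, `w = 2`
        subst hs1
        have hwval : w = 2 := by omega
        have hk3 : k = 3 := by
          rw [hwval] at he
          obtain ⟨c, hc⟩ := he
          have : c = 1 := by
            rcases c with _ | _ | c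
            · omega
            · rfl
            · exfalso
              have : (1 + k * 1) * 2 ≤ (1 + k * 1) * (c + 1 + 1) := Nat.mul_le_mul_left _ (by omega)
              omega
          subst this; omega
        subst hk3
        have hd5 : d = 5 := by rw [hwval, hmk, hs] at hwe; omega
        have hg60 : g = 60 := by rw [hgm, hwval, hmk, hs]
        refine Or.inr (Or.inr (Or.inr (Or.inr (Or.inr (Or.inr (Or.inl ?_))))))
        have hcx : Nat.card (P.comp x) = 3 := by rw [← hq₁, hs]
        refine P.iso_alternatingFive hg60 hR2 hN (X := Y2) (Y := P.comp x) (Z := Y0)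
          (Finset.ne_of_mem_erase hY2') (Finset.ne_of_mem_erase hY2m)
          (Finset.ne_of_mem_erase hY0).symm ?_ (hd ▸ hd5) hcx
          (cY0.trans (hwdef.symm.trans hwval)) (by rw [aN2, hd5]) (by rw [hw, hcx, hwval])
          (by rw [aN0, cY0, ← hwdef, hwval])
        intro W
        constructor
        · intro hW
          by_cases h1 : W = P.comp x
          · exact Or.inr (Or.inl h1)
          by_cases h0 : W = Y0
          · exact Or.inr (Or.inr h0)
          have : W ∈ R'.erase Y0 := Finset.mem_erase.2 ⟨h0, Finset.mem_erase.2 ⟨h1, hW⟩⟩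
          rw [hY2, Finset.mem_singleton] at this
          exact Or.inl this
        · rintro (rfl | rfl | rfl)
          exacts [Finset.mem_of_mem_erase hY2', hxR, hY0R]
      · exfalso
        have : 3 * s ≤ k * s := Nat.mul_le_mul_right _ h3
        omega

/-- **Dickson's shapes.** -/
theorem classify : P.IsShape := by
  classical
  obtain ⟨R, hR1, hR2, hR3, hN⟩ := P.class_equation_normal
  have hsum : ∑ X ∈ R, term X = 1 - 1 / (Nat.card G : ℚ) := by
    have h := hN ⊤ inferInstance (fun _ _ _ => le_top)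
    rw [Finset.filter_true_of_mem (fun _ _ => le_top), Subgroup.card_top] at h
    have hG : (Nat.card G : ℚ) ≠ 0 := Nat.cast_ne_zero.2 Nat.card_pos.ne'
    have hcast : (∑ X ∈ R, (((Subgroup.normalizer (X : Set G)).index * (Nat.card X - 1) : ℕ) : ℚ)) =
        (Nat.card G : ℚ) - 1 := by
      rw [← Nat.cast_sum, h, Nat.cast_sub Nat.card_pos, Nat.cast_one]
    rw [← mul_left_inj' hG, sub_mul, one_mul, one_div, inv_mul_cancel₀ hG, ← hcast, Finset.sum_mul]
    refine Finset.sum_congr rfl fun X _ => ?_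
    have hNne : (Nat.card (Subgroup.normalizer (X : Set G)) : ℚ) ≠ 0 :=
      Nat.cast_ne_zero.2 Nat.card_pos.ne'
    rw [← (Subgroup.normalizer (X : Set G)).index_mul_card, term, Nat.cast_mul, Nat.cast_mul,
      Nat.cast_sub (show 1 ≤ Nat.card X from Nat.card_pos), Nat.cast_one]
    field_simp
  by_cases h : ∃ X ∈ R, IsPGroup p X
  · obtain ⟨X, hX, hXp⟩ := h
    obtain ⟨x, hx, rfl⟩ := hR1 X hX
    exact P.shape_p hR1 hR2 hR3 hN hsum hx hXp hX
  · exact P.shape_no_p hR1 hR2 hR3 hN hsum fun X hX hp => h ⟨X, hX, hp⟩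

end Partition

end Cfsg.Agent.PSL2.Part
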