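import Mathlib

/-!
Finite groups partitioned like `PSL(2, q)`: each `x ≠ 1` lies in one component `comp x`, which is either
a `p`-group equal to the centraliser of `x`, or a cyclic `p'`-group of index at most two in its normaliser.
The structure passes to subgroups; we prove Dickson's class equation.
-/

set_option autoImplicit false

namespace Cfsg.Agent.PSL2.Part

/-- A partition of `G` of `PSL(2, p^n)` type. -/
structure Partition (G : Type*) [Group G] (p : ℕ) where
  /-- The component of an element. -/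
  comp : G → Subgroup G
  mem_self : ∀ x, x ≠ 1 → x ∈ comp x
  eq_of_mem : ∀ x y, x ≠ 1 → y ∈ comp x → y ≠ 1 → comp y = comp x
  conj : ∀ x k, x ≠ 1 → comp (k * x * k⁻¹) = (comp x).map (MulAut.conj k).toMonoidHom
  centralizer_p : ∀ x y, x ≠ 1 → IsPGroup p (comp x) → (y ∈ comp x ↔ y * x = x * y)
  cyclic : ∀ x, x ≠ 1 → ¬ IsPGroup p (comp x) → IsCyclic (comp x) ∧ ¬ p ∣ Nat.card (comp x)
  inverting : ∀ x k, x ≠ 1 → ¬ IsPGroup p (comp x) →
    k ∈ Subgroup.normalizer (comp x : Set G) → k ∉ comp x →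
    k * k = 1 ∧ ∀ y ∈ comp x, k * y * k⁻¹ = y⁻¹
  two : ∀ x a b, x ≠ 1 → ¬ IsPGroup p (comp x) →
    a ∈ Subgroup.normalizer (comp x : Set G) → b ∈ Subgroup.normalizer (comp x : Set G) →
    a ∉ comp x → b ∉ comp x → a * b ∈ comp x
  borel : ∀ x y, x ≠ 1 → y ≠ 1 → IsPGroup p (comp x) → ¬ IsPGroup p (comp y) →
    y ∈ Subgroup.normalizer (comp x : Set G) →
    comp y ≤ Subgroup.normalizer (comp x : Set G) ∧
      Subgroup.normalizer (comp x : Set G) ⊓ Subgroup.normalizer (comp y : Set G) ≤ comp y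

variable {G : Type*} [Group G] {p : ℕ} (P : Partition G p)

namespace Partition

theorem mem_map_conj {H : Subgroup G} {k y : G} :
    y ∈ H.map (MulAut.conj k).toMonoidHom ↔ k⁻¹ * y * k ∈ H := by
  rw [Subgroup.mem_map_equiv, MulAut.conj_symm_apply]

theorem conj_ne_one {x k : G} (hx : x ≠ 1) : k * x * k⁻¹ ≠ 1 := by
  simpa using hx

theorem mem_normalizer_of_conj_mem {x k : G} (hx : x ≠ 1) (h : k * x * k⁻¹ ∈ P.comp x) :
    k ∈ Subgroup.normalizer (P.comp x : Set G) := by
  have e := P.eq_of_mem x _ hx h (conj_ne_one hx)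
  rw [P.conj x k hx] at e
  rw [Subgroup.mem_normalizer_iff]
  intro y
  conv_rhs => rw [← e, mem_map_conj]
  group

theorem comp_ne_bot {x : G} (hx : x ≠ 1) : P.comp x ≠ ⊥ := fun h =>
  hx (Subgroup.mem_bot.1 (h ▸ P.mem_self x hx))

theorem two_le_card [Finite G] {x : G} (hx : x ≠ 1) : 2 ≤ Nat.card (P.comp x) :=
  (Subgroup.one_lt_card_iff_ne_bot _).2 (P.comp_ne_bot hx)

theorem le_of_mem_pGroup [hp : Fact p.Prime] [Finite G] {x : G} (hx : x ≠ 1)
    (hP : IsPGroup p (P.comp x)) {Q : Subgroup G} (hQ : IsPGroup p Q) (hle : P.comp x ≤ Q) :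
    Q ≤ P.comp x := by
  have : Nontrivial Q :=
    (Subgroup.nontrivial_iff_ne_bot Q).2 fun h => P.comp_ne_bot hx (le_bot_iff.1 (h ▸ hle))
  obtain ⟨z, hz1⟩ := @exists_ne _ hQ.center_nontrivial (1 : Subgroup.center Q)
  have hzc : ∀ y : Q, (y : G) * z.1.1 = z.1.1 * y := fun y =>
    congrArg Subtype.val (Subgroup.mem_center_iff.1 z.2 y)
  have hz : (z.1.1 : G) ≠ 1 := fun h => hz1 (Subtype.ext (Subtype.ext h))
  have hzx : z.1.1 ∈ P.comp x :=
    (P.centralizer_p x _ hx hP).2 (hzc ⟨x, hle (P.mem_self x hx)⟩).symm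
  intro y hy
  have e := P.eq_of_mem x _ hx hzx hz
  rw [← e, P.centralizer_p _ _ hz (e ▸ hP)]
  exact hzc ⟨y, hy⟩

/-- The `p`-components are Sylow subgroups. -/
def toSylow [Fact p.Prime] [Finite G] {x : G} (hx : x ≠ 1) (hP : IsPGroup p (P.comp x)) :
    Sylow p G where
  toSubgroup := P.comp x
  isPGroup' := hP
  is_maximal' hQ hle := le_antisymm (P.le_of_mem_pGroup hx hP hQ hle) hle

theorem exists_conj_of_pGroup [Fact p.Prime] [Finite G] {x y : G} (hx : x ≠ 1) (hy : y ≠ 1)
    (hPx : IsPGroup p (P.comp x)) (hPy : IsPGroup p (P.comp y)) :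
    ∃ k, (P.comp x).map (MulAut.conj k).toMonoidHom = P.comp y := by
  obtain ⟨k, hk⟩ := MulAction.exists_smul_eq G (P.toSylow hx hPx) (P.toSylow hy hPy)
  refine ⟨k, ?_⟩
  have h := congrArg Sylow.toSubgroup hk
  exact h

theorem isPGroup_iff_orderOf [hp : Fact p.Prime] [Finite G] {x : G} (hx : x ≠ 1) :
    IsPGroup p (P.comp x) ↔ ∃ n, orderOf x = p ^ n := by
  constructor
  · intro h
    obtain ⟨n, hn⟩ := IsPGroup.iff_orderOf.1 h ⟨x, P.mem_self x hx⟩
    exact ⟨n, by rwa [Subgroup.orderOf_mk] at hn⟩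
  · rintro ⟨n, hn⟩
    by_contra h
    have hd := orderOf_dvd_natCard (⟨x, P.mem_self x hx⟩ : P.comp x)
    rw [Subgroup.orderOf_mk, hn] at hd
    rcases n with _ | n
    · exact hx (orderOf_eq_one_iff.1 hn)
    · exact (P.cyclic x hx h).2 ((dvd_pow_self p (by omega)).trans hd)

theorem card_normalizer_torus [Finite G] {x : G} (hx : x ≠ 1) (hT : ¬ IsPGroup p (P.comp x)) :
    Nat.card (Subgroup.normalizer (P.comp x : Set G)) = Nat.card (P.comp x) ∨
      Nat.card (Subgroup.normalizer (P.comp x : Set G)) = 2 * Nat.card (P.comp x) := by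
  set N := Subgroup.normalizer (P.comp x : Set G) with hN
  by_cases h : N ≤ P.comp x
  · left
    rw [le_antisymm h Subgroup.le_normalizer]
  · right
    obtain ⟨w, hwN, hwc⟩ := SetLike.not_le_iff_exists.1 h
    have hidx : ((P.comp x).subgroupOf N).index = 2 := by
      rw [Subgroup.index_eq_two_iff]
      refine ⟨⟨w, hwN⟩, fun b => ?_⟩
      simp only [Subgroup.mem_subgroupOf, Subgroup.coe_mul]
      by_cases hb : (b : G) ∈ P.comp x
      · exact Or.inr ⟨hb, fun h => hwc ((Subgroup.mul_mem_cancel_left _ hb).1 h)⟩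
      · exact Or.inl ⟨P.two x b w hx hT b.2 hwN hb hwc, hb⟩
    have h2 := ((P.comp x).subgroupOf N).index_mul_card
    rw [hidx, Nat.card_congr (Subgroup.subgroupOfEquivOfLe Subgroup.le_normalizer).toEquiv] at h2
    exact h2.symm

theorem exists_inverting_of_card [Finite G] {x : G} (hx : x ≠ 1) (hT : ¬ IsPGroup p (P.comp x))
    (h : Nat.card (Subgroup.normalizer (P.comp x : Set G)) = 2 * Nat.card (P.comp x)) :
    ∃ k ∈ Subgroup.normalizer (P.comp x : Set G), k ∉ P.comp x ∧ k * k = 1 ∧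
      ∀ y ∈ P.comp x, k * y * k⁻¹ = y⁻¹ := by
  have hne : ¬ Subgroup.normalizer (P.comp x : Set G) ≤ P.comp x := fun hle => by
    have := Subgroup.card_le_of_le hle
    have := P.two_le_card hx
    omega
  obtain ⟨k, hk, hk'⟩ := SetLike.not_le_iff_exists.1 hne
  exact ⟨k, hk, hk', P.inverting x k hx hT hk hk'⟩

/-- Conjugate components. -/
def IsConjComp (X Y : Subgroup G) : Prop := ∃ k : G, X.map (MulAut.conj k).toMonoidHom = Y

theorem map_conj_one (X : Subgroup G) : X.map (MulAut.conj (1 : G)).toMonoidHom = X := by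
  ext y; simp [mem_map_conj]

theorem map_conj_conj (X : Subgroup G) (a b : G) :
    (X.map (MulAut.conj a).toMonoidHom).map (MulAut.conj b).toMonoidHom =
      X.map (MulAut.conj (b * a)).toMonoidHom := by
  ext y; simp [mul_assoc]

theorem card_map_conj (X : Subgroup G) (k : G) :
    Nat.card (X.map (MulAut.conj k).toMonoidHom) = Nat.card X :=
  (Nat.card_congr (Subgroup.equivMapOfInjective X _ (MulEquiv.injective _)).toEquiv).symm

/-- The number of conjugates is the index of the normaliser. -/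
theorem card_conjugates [Finite G] (X : Subgroup G) :
    Nat.card {Y // IsConjComp X Y} = (Subgroup.normalizer (X : Set G)).index := by
  rw [Subgroup.index_eq_card]
  have hfix : ∀ k, k ∈ Subgroup.normalizer (X : Set G) ↔ X.map (MulAut.conj k).toMonoidHom = X := by
    intro k
    rw [Subgroup.mem_normalizer_iff]
    constructor
    · intro h
      ext y
      rw [mem_map_conj, h]
      group
    · intro h y
      conv_rhs => rw [← h, mem_map_conj]
      group
  symm
  refine Nat.card_eq_of_bijective (Quotient.lift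
    (fun k : G => (⟨X.map (MulAut.conj k).toMonoidHom, k, rfl⟩ : {Y // IsConjComp X Y})) ?_) ⟨?_, ?_⟩
  · intro a b hab
    have h := (hfix _).1 (QuotientGroup.leftRel_apply.1 hab)
    refine Subtype.ext ?_
    show X.map _ = X.map _
    conv_lhs => rw [← h, map_conj_conj, mul_inv_cancel_left]
  · rintro ⟨a⟩ ⟨b⟩ hab
    have h : X.map (MulAut.conj a).toMonoidHom = X.map (MulAut.conj b).toMonoidHom :=
      congrArg Subtype.val hab
    refine Quotient.sound (QuotientGroup.leftRel_apply.2 ((hfix _).2 ?_))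
    rw [← map_conj_conj, ← h, map_conj_conj, inv_mul_cancel, map_conj_one]
  · rintro ⟨Y, k, rfl⟩
    exact ⟨Quotient.mk'' k, rfl⟩

/-- The restriction of the partition to a subgroup. -/
def restrict [hp : Fact p.Prime] [Finite G] (H : Subgroup G) : Partition H p where
  comp x := (P.comp (x : G)).subgroupOf H
  mem_self x hx := P.mem_self _ fun h => hx (Subtype.ext h)
  eq_of_mem x y hx hy hy1 := by
    rw [P.eq_of_mem _ _ (fun h => hx (Subtype.ext h)) (Subgroup.mem_subgroupOf.1 hy)
      (fun h => hy1 (Subtype.ext h))]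
  conj x k hx := by
    ext y
    rw [Subgroup.mem_subgroupOf]
    show (y : G) ∈ P.comp ((k : G) * x * (k : G)⁻¹) ↔ _
    rw [P.conj _ _ (fun h => hx (Subtype.ext h)), mem_map_conj, mem_map_conj,
      Subgroup.mem_subgroupOf]
    rfl
  centralizer_p x y hx h := by
    have hx' : (x : G) ≠ 1 := fun e => hx (Subtype.ext e)
    rw [Subgroup.mem_subgroupOf, P.centralizer_p _ _ hx' ?_]
    · exact ⟨fun e => Subtype.ext e, fun e => congrArg Subtype.val e⟩
    · rw [P.isPGroup_iff_orderOf hx']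
      obtain ⟨n, hn⟩ := IsPGroup.iff_orderOf.1 h ⟨x, Subgroup.mem_subgroupOf.2 (P.mem_self _ hx')⟩
      exact ⟨n, by rwa [Subgroup.orderOf_mk, ← Subgroup.orderOf_coe] at hn⟩
  cyclic x hx h := by
    have hx' : (x : G) ≠ 1 := fun e => hx (Subtype.ext e)
    have hT : ¬ IsPGroup p (P.comp (x : G)) := fun e =>
      h (e.comap_of_injective H.subtype H.subtype_injective)
    have := (P.cyclic _ hx' hT).1
    have hinj : Function.Injective ((H.subtype.comp ((P.comp (x : G)).subgroupOf H).subtype).codRestrict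
        (P.comp (x : G)) fun y => y.2) :=
      fun a b e => Subtype.ext (Subtype.ext (show ((a : H) : G) = ((b : H) : G) from
        congrArg (fun z : P.comp (x : G) => (z : G)) e))
    exact ⟨isCyclic_of_injective _ hinj,
      fun hd => (P.cyclic _ hx' hT).2 (hd.trans (Subgroup.card_dvd_of_injective _ hinj))⟩
  inverting x k hx h hk hk' := by
    have hx' : (x : G) ≠ 1 := fun e => hx (Subtype.ext e)
    have hT : ¬ IsPGroup p (P.comp (x : G)) := fun e =>
      h (e.comap_of_injective H.subtype H.subtype_injective)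
    have hN : (k : G) ∈ Subgroup.normalizer (P.comp (x : G) : Set G) :=
      P.mem_normalizer_of_conj_mem hx'
        ((Subgroup.mem_normalizer_iff.1 hk x).1 (Subgroup.mem_subgroupOf.2 (P.mem_self _ hx')))
    obtain ⟨a, b⟩ := P.inverting _ _ hx' hT hN hk'
    exact ⟨Subtype.ext a, fun y hy => Subtype.ext (b _ hy)⟩
  two x a b hx h ha hb ha' hb' := by
    have hx' : (x : G) ≠ 1 := fun e => hx (Subtype.ext e)
    have hT : ¬ IsPGroup p (P.comp (x : G)) := fun e =>
      h (e.comap_of_injective H.subtype H.subtype_injective)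
    have hN : ∀ k : H, k ∈ Subgroup.normalizer ((P.comp (x : G)).subgroupOf H : Set H) →
        (k : G) ∈ Subgroup.normalizer (P.comp (x : G) : Set G) := fun k hk =>
      P.mem_normalizer_of_conj_mem hx'
        ((Subgroup.mem_normalizer_iff.1 hk x).1 (Subgroup.mem_subgroupOf.2 (P.mem_self _ hx')))
    exact P.two _ _ _ hx' hT (hN a ha) (hN b hb) ha' hb'
  borel x y hx hy h h' hmem := by
    have hx' : (x : G) ≠ 1 := fun e => hx (Subtype.ext e)
    have hy' : (y : G) ≠ 1 := fun e => hy (Subtype.ext e)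
    have hT : ¬ IsPGroup p (P.comp (y : G)) := fun e =>
      h' (e.comap_of_injective H.subtype H.subtype_injective)
    have hP : IsPGroup p (P.comp (x : G)) := by
      rw [P.isPGroup_iff_orderOf hx']
      obtain ⟨n, hn⟩ := IsPGroup.iff_orderOf.1 h ⟨x, Subgroup.mem_subgroupOf.2 (P.mem_self _ hx')⟩
      exact ⟨n, by rwa [Subgroup.orderOf_mk, ← Subgroup.orderOf_coe] at hn⟩
    have hN : ∀ (z : G) (hz : z ∈ H) (u : H), (u : G) ≠ 1 →
        (⟨z, hz⟩ : H) ∈ Subgroup.normalizer ((P.comp (u : G)).subgroupOf H : Set H) →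
        z ∈ Subgroup.normalizer (P.comp (u : G) : Set G) := fun z hz u hu hk =>
      P.mem_normalizer_of_conj_mem hu
        ((Subgroup.mem_normalizer_iff.1 hk u).1 (Subgroup.mem_subgroupOf.2 (P.mem_self _ hu)))
    have hN' : ∀ k : H, (k : G) ∈ Subgroup.normalizer (P.comp (x : G) : Set G) →
        k ∈ Subgroup.normalizer ((P.comp (x : G)).subgroupOf H : Set H) := fun k hk => by
      rw [Subgroup.mem_normalizer_iff]
      intro z
      simpa [Subgroup.mem_subgroupOf] using Subgroup.mem_normalizer_iff.1 hk (z : G)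
    obtain ⟨a, b⟩ := P.borel _ _ hx' hy' hP hT (hN _ y.2 x hx' hmem)
    exact ⟨fun z hz => hN' z (a hz), fun z hz => b ⟨hN _ z.2 x hx' hz.1, hN _ z.2 y hy' hz.2⟩⟩

theorem restrict_comp [Fact p.Prime] [Finite G] (H : Subgroup G) (x : H) :
    (P.restrict H).comp x = (P.comp (x : G)).subgroupOf H := rfl

/-- The components. -/
def components : Set (Subgroup G) := {X | ∃ x, x ≠ 1 ∧ P.comp x = X}

/-- **Dickson's class equation**, for a normal subgroup made of components. -/
theorem class_equation_normal [Finite G] :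
    ∃ R : Finset (Subgroup G), (∀ X ∈ R, X ∈ P.components) ∧
      (∀ X ∈ P.components, ∃ Y ∈ R, IsConjComp Y X) ∧
      (∀ X ∈ R, ∀ Y ∈ R, IsConjComp X Y → X = Y) ∧
      ∀ (N : Subgroup G) [DecidablePred (· ≤ N)], N.Normal →
        (∀ x ∈ N, x ≠ 1 → P.comp x ≤ N) →
        ∑ X ∈ R.filter (· ≤ N), (Subgroup.normalizer (X : Set G)).index * (Nat.card X - 1) =
          Nat.card N - 1 := by
  classical
  have := Fintype.ofFinite G
  have hsymm : ∀ X Y : Subgroup G, IsConjComp X Y → IsConjComp Y X := by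
    rintro X Y ⟨k, rfl⟩
    exact ⟨k⁻¹, by rw [map_conj_conj, inv_mul_cancel, map_conj_one]⟩
  have htrans : ∀ X Y Z : Subgroup G, IsConjComp X Y → IsConjComp Y Z → IsConjComp X Z := by
    rintro X Y Z ⟨k, rfl⟩ ⟨l, rfl⟩
    exact ⟨l * k, (map_conj_conj _ _ _).symm⟩
  let s : Setoid (Subgroup G) :=
    ⟨IsConjComp, fun X => ⟨1, map_conj_one X⟩, fun h => hsymm _ _ h, fun h h' => htrans _ _ _ h h'⟩
  let f : Subgroup G → Subgroup G := fun X => (Quotient.mk s X).out
  have hf : ∀ X, IsConjComp (f X) X := fun X => Quotient.mk_out (s := s) X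
  have hfeq : ∀ X Y, IsConjComp X Y → f X = f Y := fun X Y h => by
    simp only [f, Quotient.sound (s := s) h]
  have hff : ∀ X, f (f X) = f X := fun X => hfeq _ _ (hf X)
  have hclosed : ∀ X Y, IsConjComp X Y → X ∈ P.components → Y ∈ P.components := by
    rintro X Y ⟨k, rfl⟩ ⟨x, hx, rfl⟩
    exact ⟨_, conj_ne_one hx, P.conj x k hx⟩
  set C := ((Finset.univ : Finset G).erase 1).image P.comp with hC
  have hCmem : ∀ X, X ∈ C ↔ X ∈ P.components := by
    intro X; simp [hC, components]
  refine ⟨C.image f, ?_, ?_, ?_, ?_⟩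
  · intro X hX
    obtain ⟨Y, hY, rfl⟩ := Finset.mem_image.1 hX
    exact hclosed _ _ (hsymm _ _ (hf Y)) ((hCmem Y).1 hY)
  · intro X hX
    exact ⟨f X, Finset.mem_image_of_mem f ((hCmem X).2 hX), hf X⟩
  · intro X hX Y hY h
    obtain ⟨X', -, rfl⟩ := Finset.mem_image.1 hX
    obtain ⟨Y', -, rfl⟩ := Finset.mem_image.1 hY
    rw [← hff X', ← hff Y', hfeq _ _ h]
  · intro N _ hN hcl
    have hconjN : ∀ X Y, IsConjComp X Y → X ≤ N → Y ≤ N := by
      rintro X Y ⟨k, rfl⟩ hle y hy
      rw [mem_map_conj] at hy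
      have := hN.conj_mem _ (hle hy) k
      rwa [show k * (k⁻¹ * y * k) * k⁻¹ = y by group] at this
    -- elements of `N` counted by component
    have hcount : ((Finset.univ.filter (· ∈ N)).erase 1).card =
        ∑ X ∈ C.filter (· ≤ N), (Nat.card X - 1) := by
      rw [Finset.card_eq_sum_card_fiberwise (f := P.comp) (t := C.filter (· ≤ N))]
      · refine Finset.sum_congr rfl fun X hX => ?_
        obtain ⟨hXC, hXN⟩ := Finset.mem_filter.1 hX
        obtain ⟨x, hx, rfl⟩ := (hCmem X).1 hXC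
        have e : {y ∈ (Finset.univ.filter (· ∈ N)).erase 1 | P.comp y = P.comp x} =
            (Finset.univ.filter (· ∈ P.comp x)).erase 1 := by
          ext y
          simp only [Finset.mem_filter, Finset.mem_erase, Finset.mem_univ, true_and]
          exact ⟨fun h => ⟨h.1.1, h.2 ▸ P.mem_self y h.1.1⟩,
            fun h => ⟨⟨h.1, hXN h.2⟩, P.eq_of_mem x y hx h.2 h.1⟩⟩
        rw [e, Finset.card_erase_of_mem (Finset.mem_filter.2 ⟨Finset.mem_univ _, one_mem _⟩)]
        congr 1
        rw [Nat.card_eq_fintype_card, Fintype.card_of_subtype _ (fun y => ⟨fun h => (Finset.mem_filter.1 h).2, fun h => Finset.mem_filter.2 ⟨Finset.mem_univ _, h⟩⟩)]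
      · intro x hx
        obtain ⟨h1, h2⟩ := Finset.mem_erase.1 hx
        simp only [Finset.mem_filter, Finset.mem_univ, true_and] at h2
        exact Finset.mem_filter.2 ⟨(hCmem _).2 ⟨x, h1, rfl⟩, hcl x h2 h1⟩
    have hN1 : ((Finset.univ.filter (· ∈ N)).erase 1).card = Nat.card N - 1 := by
      rw [Finset.card_erase_of_mem (Finset.mem_filter.2 ⟨Finset.mem_univ _, one_mem _⟩),
        Nat.card_eq_fintype_card,
        Fintype.card_of_subtype _ (fun y => ⟨fun h => (Finset.mem_filter.1 h).2, fun h => Finset.mem_filter.2 ⟨Finset.mem_univ _, h⟩⟩)]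
    rw [← hN1, hcount]
    rw [← Finset.sum_fiberwise_of_maps_to (g := f) (t := (C.image f).filter (· ≤ N))
      (f := fun X : Subgroup G => Nat.card X - 1) (s := C.filter (· ≤ N))]
    · refine Finset.sum_congr rfl fun X hX => ?_
      obtain ⟨hXf, hXN⟩ := Finset.mem_filter.1 hX
      obtain ⟨X', hX', rfl⟩ := Finset.mem_image.1 hXf
      have hmem : ∀ Y, Y ∈ (C.filter (· ≤ N)).filter (fun Y => f Y = f X') ↔
          IsConjComp (f X') Y := by
        intro Y
        simp only [Finset.mem_filter]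
        refine ⟨fun h => h.2 ▸ hf Y, fun h => ⟨⟨?_, hconjN _ _ h hXN⟩, ?_⟩⟩
        · rw [hCmem]
          exact hclosed _ _ h (hclosed _ _ (hsymm _ _ (hf X')) ((hCmem _).1 hX'))
        · rw [← hfeq _ _ h, hff]
      rw [← card_conjugates, ← smul_eq_mul, Nat.card_eq_fintype_card,
        Fintype.card_of_subtype _ hmem, ← Finset.sum_const]
      refine Finset.sum_congr rfl fun Y hY => ?_
      obtain ⟨k, hk⟩ := (hmem Y).1 hY
      rw [← hk, card_map_conj]
    · intro Y hY
      obtain ⟨hYC, hYN⟩ := Finset.mem_filter.1 hY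
      exact Finset.mem_filter.2 ⟨Finset.mem_image_of_mem f hYC, hconjN _ _ (hsymm _ _ (hf Y)) hYN⟩

/-- The contribution of a component to the class equation. -/
noncomputable def term (X : Subgroup G) : ℚ :=
  ((Nat.card X : ℚ) - 1) / Nat.card (Subgroup.normalizer (X : Set G))

/-- A system of representatives with `∑ term = 1 - 1/|G|`. -/
theorem class_equation [Finite G] :
    ∃ R : Finset (Subgroup G), (∀ X ∈ R, X ∈ P.components) ∧
      (∀ X ∈ P.components, ∃ Y ∈ R, IsConjComp Y X) ∧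
      (∀ X ∈ R, ∀ Y ∈ R, IsConjComp X Y → X = Y) ∧
      ∑ X ∈ R, term X = 1 - 1 / (Nat.card G : ℚ) := by
  classical
  obtain ⟨R, h1, h2, h3, h4⟩ := P.class_equation_normal
  refine ⟨R, h1, h2, h3, ?_⟩
  have h := h4 ⊤ inferInstance (fun _ _ _ => le_top)
  rw [Finset.filter_true_of_mem (fun _ _ => le_top), Subgroup.card_top] at h
  have hG : (Nat.card G : ℚ) ≠ 0 := Nat.cast_ne_zero.2 Nat.card_pos.ne'
  rw [eq_sub_iff_add_eq, ← mul_left_inj' hG, one_mul, add_mul, Finset.sum_mul, one_div,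
    inv_mul_cancel₀ hG]
  have hcast : ((∑ X ∈ R, (Subgroup.normalizer (X : Set G)).index * (Nat.card X - 1) : ℕ) : ℚ) + 1 =
      Nat.card G := by
    rw [h]
    have := Nat.card_pos (α := G)
    push_cast [Nat.cast_sub (show 1 ≤ Nat.card G by omega)]
    ring
  rw [Nat.cast_sum] at hcast
  rw [← hcast]
  congr 1
  refine Finset.sum_congr rfl fun X _ => ?_
  have hN : (Nat.card (Subgroup.normalizer (X : Set G)) : ℚ) ≠ 0 :=
    Nat.cast_ne_zero.2 Nat.card_pos.ne'
  have hX := Nat.card_pos (α := X)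
  rw [hcast, ← (Subgroup.normalizer (X : Set G)).index_mul_card, term, Nat.cast_mul, Nat.cast_mul,
    Nat.cast_sub (show 1 ≤ Nat.card X by omega)]
  field_simp
  ring

end Partition

end Cfsg.Agent.PSL2.Part
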