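import Cfsg.Agent.Lib.PSL2.Sylow
import Cfsg.Agent.Lib.PSL2.Partition

/-!
The partition of `PSL(2, F)` by images of centralisers: conjugates of `unip` and the maximal tori.
-/

set_option autoImplicit false

open Matrix
open scoped MatrixGroups

namespace Cfsg.Agent.PSL2

variable {F : Type*} [Field F]

/-- The component of an element of `PSL`: the image of the centraliser of a lift. -/
noncomputable def pslComp (x : PSL(2, F)) : Subgroup PSL(2, F) :=
  (cent (Function.surjInv mk_surjective x)).map mk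

theorem pslComp_mk (g : SL(2, F)) : pslComp (mk g) = (cent g).map mk := by
  rw [pslComp]
  rcases mk_eq_mk.1 (Function.surjInv_eq (f := mk) mk_surjective (mk g)) with h | h <;> rw [h]
  rw [cent_neg]

theorem normalizer_map_mk {H : Subgroup SL(2, F)} (hH : Subgroup.center SL(2, F) ≤ H) :
    Subgroup.normalizer (H.map mk : Set PSL(2, F)) =
      (Subgroup.normalizer (H : Set SL(2, F))).map mk := by
  ext x
  obtain ⟨k, rfl⟩ := mk_surjective x
  rw [mk_mem_map_iff (hH.trans Subgroup.le_normalizer), Subgroup.mem_normalizer_iff,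
    Subgroup.mem_normalizer_iff]
  constructor
  · intro h y
    rw [← mk_mem_map_iff hH, ← mk_mem_map_iff hH (x := k * y * k⁻¹), h]
    simp
  · intro h y
    obtain ⟨y, rfl⟩ := mk_surjective y
    rw [← map_inv, ← map_mul, ← map_mul, mk_mem_map_iff hH, mk_mem_map_iff hH, h]

theorem normalizer_pmUnip : Subgroup.normalizer (pmUnip F : Set SL(2, F)) = borel F := by
  refine le_antisymm (fun k hk => ?_) (fun k hk => ?_)
  · have h := (Subgroup.mem_normalizer_iff.1 hk _).1 (unip_le_pmUnip (uu_mem_unip 1))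
    rcases mem_pmUnip.1 h with h | h <;> obtain ⟨s, hs⟩ := mem_unip.1 h
    · exact uu_conj_mem_borel one_ne_zero hs.symm
    · refine uu_conj_mem_borel one_ne_zero (s := s) ?_
      have h2 : (2 : F) + 2 = 0 := by
        have := congrArg tr hs
        rw [tr_neg, tr_conj, tr_uu, tr_uu] at this
        linear_combination this
      have h2' : (2 : F) = 0 :=
        mul_self_eq_zero.1 (show (2 : F) * 2 = 0 by linear_combination h2)
      rw [hs, neg_eq_neg_one_mul, neg_one_eq_one_iff.2 h2', one_mul]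
  · have hle : ∀ k ∈ borel F, ∀ y ∈ pmUnip F, k * y * k⁻¹ ∈ pmUnip F := by
      intro k hk y hy
      rcases mem_pmUnip.1 hy with h | h
      · exact unip_le_pmUnip (unip_conj_mem hk h)
      · refine mem_pmUnip.2 (Or.inr ?_)
        rw [show -(k * y * k⁻¹) = k * -y * k⁻¹ by simp]
        exact unip_conj_mem hk h
    rw [Subgroup.mem_normalizer_iff]
    refine fun y => ⟨hle k hk y, fun h => ?_⟩
    have := hle k⁻¹ ((borel F).inv_mem hk) _ h
    simpa [mul_assoc] using this

theorem borel_cent {h : SL(2, F)} (hh : h ∈ borel F) (h4 : tr h ^ 2 ≠ 4) :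
    cent h ≤ borel F ∧ borel F ⊓ Subgroup.normalizer (cent h : Set SL(2, F)) ≤ cent h := by
  obtain ⟨a, s, rfl, -⟩ := exists_eq_dd_mul_uu hh
  have htr : tr (dd a * uu s) = (a : F) + (a : F)⁻¹ := by simp [tr_def, mul00, mul11]
  have ha : (a : F) ^ 2 ≠ 1 := by
    intro h1
    apply h4
    rw [htr]
    rcases sq_eq_one_iff.1 h1 with h1 | h1 <;> rw [h1] <;> norm_num
  refine ⟨?_, ?_⟩
  · intro x hx
    obtain ⟨x', y, -, -, a3, -⟩ := exists_coords (not_mem_center_of_tr h4) (mem_cent.1 hx)
    rw [mem_borel, a3, mul10]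
    simp
  · rintro k ⟨hkb, hkn⟩
    rcases (mem_normalizer_cent h4).1 hkn with e | e
    · exact mem_cent.2 (mul_inv_eq_iff_eq_mul.1 e)
    · exfalso
      apply ha
      rw [mul_inv_eq_iff_eq_mul] at e
      have e00 := congrArg (fun m : SL(2, F) => m 0 0) e
      have hk10 : k 1 0 = 0 := hkb
      simp only [mul00, mul01, mul10, mul11, inv00, inv01, hk10, dd00, dd01, dd10, dd11, uu00, uu01,
        uu10, uu11, mul_zero, zero_mul, add_zero, zero_add, mul_one, Units.val_inv_eq_inv_val] at e00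
      have hk00 : k 0 0 ≠ 0 := by
        intro h0
        have := det_eq k
        rw [h0, hk10] at this
        simp at this
      field_simp at e00
      exact e00

theorem parabolic_of_tr [Fintype F] {g : SL(2, F)} (hg : g ∉ Subgroup.center SL(2, F))
    (h4 : tr g ^ 2 = 4) : ∃ k, cent g = (pmUnip F).map (MulAut.conj k).toMonoidHom := by
  rcases trichotomy hg with ⟨k, a, ha, rfl⟩ | ⟨k, s, hs, rfl | rfl⟩ | ht
  · exact absurd (by rwa [tr_conj] at h4) (tr_dd_sq_ne_four ha)
  · exact ⟨k, by rw [cent_conj, cent_uu hs]⟩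
  · exact ⟨k, by rw [cent_neg, cent_conj, cent_uu hs]⟩
  · exact absurd h4 ht.sq_ne_four

theorem borel_general [Fintype F] {g h : SL(2, F)} (hg : g ∉ Subgroup.center SL(2, F))
    (hg4 : tr g ^ 2 = 4) (h4 : tr h ^ 2 ≠ 4)
    (hh : h ∈ Subgroup.normalizer (cent g : Set SL(2, F))) :
    cent h ≤ Subgroup.normalizer (cent g : Set SL(2, F)) ∧
      Subgroup.normalizer (cent g : Set SL(2, F)) ⊓ Subgroup.normalizer (cent h : Set SL(2, F)) ≤
        cent h := by
  obtain ⟨k, hk⟩ := parabolic_of_tr hg hg4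
  have hN : Subgroup.normalizer (cent g : Set SL(2, F)) =
      (borel F).map (MulAut.conj k).toMonoidHom := by
    rw [hk, ← normalizer_pmUnip]
    exact (Subgroup.map_equiv_normalizer_eq (pmUnip F) (MulAut.conj k)).symm
  rw [hN, Part.Partition.mem_map_conj] at hh
  obtain ⟨h1, h2⟩ := borel_cent hh (by
    rwa [show k⁻¹ * h * k = k⁻¹ * h * k⁻¹⁻¹ by rw [inv_inv], tr_conj])
  have hc : cent h = (cent (k⁻¹ * h * k)).map (MulAut.conj k).toMonoidHom := by
    rw [← cent_conj]; congr 1; group
  have hNh : Subgroup.normalizer (cent h : Set SL(2, F)) =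
      (Subgroup.normalizer (cent (k⁻¹ * h * k) : Set SL(2, F))).map (MulAut.conj k).toMonoidHom := by
    rw [hc]
    exact (Subgroup.map_equiv_normalizer_eq _ (MulAut.conj k)).symm
  rw [hN, hNh, hc]
  refine ⟨Subgroup.map_mono h1, ?_⟩
  rw [← Subgroup.map_inf _ _ _ (MulEquiv.injective _)]
  exact Subgroup.map_mono h2

section Instance

variable [Fintype F]

theorem isPGroup_comp_iff (p : ℕ) [hp : Fact p.Prime] [CharP F p] {g : SL(2, F)}
    (hg : g ∉ Subgroup.center SL(2, F)) :
    IsPGroup p ((cent g).map mk) ↔ tr g ^ 2 = 4 := by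
  have hd := Nat.gcd_pos_of_pos_left (Fintype.card F - 1) two_pos
  constructor
  · intro hP
    by_contra h4
    obtain ⟨n, hn⟩ := IsPGroup.iff_card.1 hP
    have hq := p_dvd_q (F := F) p
    have hcard := card_map_cent g
    rw [hn] at hcard
    rcases n with _ | n
    · have h1 : (cent g).map mk = ⊥ := Subgroup.card_eq_one.1 (by rw [hn, pow_zero])
      exact mk_ne_one_iff.2 hg
        (Subgroup.mem_bot.1 (h1 ▸ Subgroup.mem_map_of_mem mk (mem_cent.2 (Commute.refl g))))
    · have hdvd : p ∣ Nat.card (cent g) :=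
        hcard ▸ Dvd.dvd.mul_left (dvd_pow_self p (by omega)) _
      have hq2 := one_lt_q (F := F)
      rcases card_cent_of_tr h4 with e | e <;> rw [e] at hdvd
      · have := Nat.dvd_sub hq hdvd
        rw [Nat.sub_sub_self (by omega)] at this
        exact hp.out.not_dvd_one this
      · exact hp.out.not_dvd_one ((Nat.dvd_add_right hq).1 hdvd)
  · intro h4
    obtain ⟨n, -, hn⟩ := FiniteField.card F p
    refine IsPGroup.of_card (n := n) ?_
    obtain ⟨k, hk⟩ := parabolic_of_tr hg h4
    have h1 := card_map_cent g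
    rw [hk, Part.Partition.card_map_conj, card_pmUnip] at h1
    rw [← hn, hk]
    exact Nat.eq_of_mul_eq_mul_left hd h1

omit [Fintype F] in
theorem tr_cases {g : SL(2, F)} (h4 : tr g ^ 2 = 4) : tr g ≠ 0 ∨ (2 : F) = 0 := by
  by_cases h2 : (2 : F) = 0
  · exact Or.inr h2
  · refine Or.inl fun h0 => mul_ne_zero h2 h2 ?_
    rw [h0] at h4
    linear_combination -h4

/-- The partition of `PSL(2, F)`. -/
noncomputable def pslPartition (F : Type*) [Field F] [Fintype F] (p : ℕ) [Fact p.Prime]
    [CharP F p] : Part.Partition PSL(2, F) p where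
  comp := pslComp
  mem_self x hx := by
    obtain ⟨g, rfl⟩ := mk_surjective x
    rw [pslComp_mk]
    exact Subgroup.mem_map_of_mem mk (mem_cent.2 (Commute.refl g))
  eq_of_mem x y hx hy hy1 := by
    obtain ⟨g, rfl⟩ := mk_surjective x
    obtain ⟨h, rfl⟩ := mk_surjective y
    rw [pslComp_mk, mk_mem_map_iff (center_le_cent g)] at hy
    rw [pslComp_mk, pslComp_mk,
      cent_eq_cent (mk_ne_one_iff.1 hx) (mk_ne_one_iff.1 hy1) (mem_cent.1 hy)]
  conj x k _ := by
    obtain ⟨g, rfl⟩ := mk_surjective x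
    obtain ⟨k, rfl⟩ := mk_surjective k
    rw [← map_inv, ← map_mul, ← map_mul, pslComp_mk, pslComp_mk, cent_conj, Subgroup.map_map,
      Subgroup.map_map]
    congr 1
  centralizer_p x y hx hP := by
    obtain ⟨g, rfl⟩ := mk_surjective x
    rw [pslComp_mk] at hP ⊢
    rw [← psl_centralizer_eq (tr_cases ((isPGroup_comp_iff p (mk_ne_one_iff.1 hx)).1 hP)),
      Subgroup.mem_centralizer_singleton_iff]
  cyclic x hx hT := by
    obtain ⟨g, rfl⟩ := mk_surjective x
    rw [pslComp_mk] at hT ⊢
    have h4 : tr g ^ 2 ≠ 4 := fun h => hT ((isPGroup_comp_iff p (mk_ne_one_iff.1 hx)).2 h)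
    refine ⟨isCyclic_map_cent h4, fun hd => ?_⟩
    have hdvd : p ∣ Nat.card (cent g) := card_map_cent g ▸ hd.mul_left _
    have hq := p_dvd_q (F := F) p
    have hq2 := one_lt_q (F := F)
    rcases card_cent_of_tr h4 with e | e <;> rw [e] at hdvd
    · have := Nat.dvd_sub hq hdvd
      rw [Nat.sub_sub_self (by omega)] at this
      exact (Fact.out : p.Prime).not_dvd_one this
    · exact (Fact.out : p.Prime).not_dvd_one ((Nat.dvd_add_right hq).1 hdvd)
  inverting x k hx hT hk hk' := by
    obtain ⟨g, rfl⟩ := mk_surjective x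
    obtain ⟨k, rfl⟩ := mk_surjective k
    rw [pslComp_mk] at hT hk' hk ⊢
    have h4 : tr g ^ 2 ≠ 4 := fun h => hT ((isPGroup_comp_iff p (mk_ne_one_iff.1 hx)).2 h)
    rw [normalizer_map_mk (center_le_cent g),
      mk_mem_map_iff ((center_le_cent g).trans (cent_le_normalizer g))] at hk
    rw [mk_mem_map_iff (center_le_cent g)] at hk'
    have hinv := inverting_of_mem_normalizer h4 hk hk'
    refine ⟨by rw [← map_mul, sq_eq_neg_one_of_inverting h4
      (hinv g (mem_cent.2 (Commute.refl g))), mk_neg_one], ?_⟩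
    rintro _ ⟨y, hy, rfl⟩
    rw [← map_inv, ← map_inv, ← map_mul, ← map_mul, hinv y hy]
  two x a b hx hT ha hb ha' hb' := by
    obtain ⟨g, rfl⟩ := mk_surjective x
    obtain ⟨a, rfl⟩ := mk_surjective a
    obtain ⟨b, rfl⟩ := mk_surjective b
    rw [pslComp_mk] at hT ha hb ha' hb' ⊢
    have h4 : tr g ^ 2 ≠ 4 := fun h => hT ((isPGroup_comp_iff p (mk_ne_one_iff.1 hx)).2 h)
    rw [normalizer_map_mk (center_le_cent g),
      mk_mem_map_iff ((center_le_cent g).trans (cent_le_normalizer g))] at ha hb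
    rw [mk_mem_map_iff (center_le_cent g)] at ha' hb'
    rw [← map_mul]
    refine Subgroup.mem_map_of_mem mk (mem_cent.2 (mul_inv_eq_iff_eq_mul.1 ?_))
    have hgm := mem_cent.2 (Commute.refl g)
    rw [show a * b * g * (a * b)⁻¹ = a * (b * g * b⁻¹) * a⁻¹ by group,
      inverting_of_mem_normalizer h4 hb hb' g hgm, ← conj_inv,
      inverting_of_mem_normalizer h4 ha ha' g hgm, inv_inv]
  borel x y hx hy hP hT hmem := by
    obtain ⟨g, rfl⟩ := mk_surjective x
    obtain ⟨h, rfl⟩ := mk_surjective y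
    rw [pslComp_mk] at hP hmem ⊢
    rw [pslComp_mk] at hT ⊢
    have hg4 := (isPGroup_comp_iff p (mk_ne_one_iff.1 hx)).1 hP
    have h4 : tr h ^ 2 ≠ 4 := fun e => hT ((isPGroup_comp_iff p (mk_ne_one_iff.1 hy)).2 e)
    have hle := (center_le_cent g).trans (cent_le_normalizer g)
    rw [normalizer_map_mk (center_le_cent g), mk_mem_map_iff hle] at hmem
    obtain ⟨a, b⟩ := borel_general (mk_ne_one_iff.1 hx) hg4 h4 hmem
    rw [normalizer_map_mk (center_le_cent g), normalizer_map_mk (center_le_cent h)]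
    refine ⟨Subgroup.map_mono a, ?_⟩
    rintro z ⟨h1, h2⟩
    obtain ⟨z, rfl⟩ := mk_surjective z
    exact Subgroup.mem_map_of_mem mk (b ⟨(mk_mem_map_iff hle).1 h1,
      (mk_mem_map_iff ((center_le_cent h).trans (cent_le_normalizer h))).1 h2⟩)

theorem pslPartition_comp (p : ℕ) [Fact p.Prime] [CharP F p] (g : SL(2, F)) :
    (pslPartition F p).comp (mk g) = (cent g).map mk := pslComp_mk g

end Instance

end Cfsg.Agent.PSL2
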