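import Cfsg.Agent.Lib.PSL2.MaximalOdd

/-!
Maximal subgroups of `PGL(2, F)` not containing `PSL(2, F)`, `q` odd: the intersection with
`PSL(2, F)` is a point stabiliser, a torus normaliser, an `A₄` (`q` a prime `≡ ±3 mod 8`) or a
`PSL(2, L)` for a subfield of odd prime index.
-/

set_option autoImplicit false

open Matrix
open scoped MatrixGroups commutatorElement

namespace Cfsg.Agent.PSL2.Maximal

variable {F : Type*} [Field F]

/-- The inclusion of `PSL(2, F)` in `PGL(2, F)`. -/
abbrev psi : PSL(2, F) →* Matrix.ProjGenLinGroup (Fin 2) F :=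
  Matrix.ProjectiveSpecialLinearGroup.toPGL (n := Fin 2) (R := F)

theorem range_psi : (psi (F := F)).range =
    (Matrix.ProjGenLinGroup.mk.comp (Matrix.SpecialLinearGroup.toGL (n := Fin 2) (R := F))).range := by
  ext y
  constructor
  · rintro ⟨x, rfl⟩
    obtain ⟨g, rfl⟩ := mk_surjective x
    exact ⟨g, rfl⟩
  · rintro ⟨g, rfl⟩
    exact ⟨mk g, rfl⟩

theorem psi_injective : Function.Injective (psi (F := F)) :=
  Matrix.ProjectiveSpecialLinearGroup.toPGL_injective

theorem psi_conjP (A : GL (Fin 2) F) (x : PSL(2, F)) :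
    psi (AutPSL.conjP A x) =
      Matrix.ProjGenLinGroup.mk A * psi x * (Matrix.ProjGenLinGroup.mk A)⁻¹ := by
  obtain ⟨g, rfl⟩ := mk_surjective x
  rw [Conjugate.conjP_apply]
  show Matrix.ProjGenLinGroup.mk (Matrix.SpecialLinearGroup.toGL _) =
    _ * Matrix.ProjGenLinGroup.mk (Matrix.SpecialLinearGroup.toGL g) * _
  rw [← map_inv, ← map_mul, ← map_mul]
  congr 1
  exact Units.ext (AutPSL.conjSL_coe A g)

/-- Conjugation by an element of `PGL` restricts to an automorphism of `PSL`. -/
theorem exists_sigma (y : Matrix.ProjGenLinGroup (Fin 2) F) :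
    ∃ σ : MulAut PSL(2, F), ∀ x, psi (σ x) = y * psi x * y⁻¹ := by
  induction y using Matrix.ProjGenLinGroup.induction_on with | mk A => ?_
  exact ⟨AutPSL.conjP A, psi_conjP A⟩

variable [Fintype F]

theorem card_pgl_eq (hodd : Odd (Fintype.card F)) :
    Nat.card (Matrix.ProjGenLinGroup (Fin 2) F) = 2 * Nat.card PSL(2, F) := by
  rw [GL.card_PGL, card_SL, two_mul_card_PSL' hodd]

theorem index_range_psi (hodd : Odd (Fintype.card F)) : (psi (F := F)).range.index = 2 := by
  have h := (psi (F := F)).range.index_mul_card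
  rw [card_pgl_eq hodd, ← Nat.card_congr (MonoidHom.ofInjective psi_injective).toEquiv] at h
  exact Nat.eq_of_mul_eq_mul_right Nat.card_pos h

/-- The standing data: `M` maximal in `PGL(2, F)`, not containing `PSL(2, F)`. -/
structure Setup (M : Subgroup (Matrix.ProjGenLinGroup (Fin 2) F)) : Prop where of ::
  odd : Odd (Fintype.card F)
  five : 5 ≤ Fintype.card F
  coatom : IsCoatom M
  notLe : ¬ (psi (F := F)).range ≤ M

/-- `M ∩ PSL(2, F)`. -/
abbrev core (M : Subgroup (Matrix.ProjGenLinGroup (Fin 2) F)) : Subgroup PSL(2, F) :=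
  M.comap psi

namespace Setup

variable {M : Subgroup (Matrix.ProjGenLinGroup (Fin 2) F)} (hs : Setup M)
include hs

theorem core_ne_top : core M ≠ ⊤ := by
  intro h
  refine hs.notLe ?_
  rintro _ ⟨x, rfl⟩
  have hx : x ∈ core M := h ▸ Subgroup.mem_top x
  exact hx

theorem exists_not_mem : ∃ y ∈ M, y ∉ (psi (F := F)).range := by
  by_contra h
  push Not at h
  have hne : (psi (F := F)).range ≠ ⊤ := fun e => by
    have := index_range_psi (F := F) hs.odd
    rw [e, Subgroup.index_top] at this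
    omega
  exact hs.notLe (eq_of_le_of_ne_top hs.coatom h hne).le

theorem card_eq : Nat.card M = 2 * Nat.card (core M) := by
  obtain ⟨y, hy, hyL⟩ := hs.exists_not_mem
  have hidx : ((psi (F := F)).range.subgroupOf M).index = 2 := by
    rw [Subgroup.index_eq_two_iff]
    refine ⟨⟨y, hy⟩, fun b => ?_⟩
    simp only [Subgroup.mem_subgroupOf, Subgroup.coe_mul]
    have h2 := Subgroup.mul_mem_iff_of_index_two (index_range_psi (F := F) hs.odd) (a := (b : _)) (b := y)
    by_cases hb : (b : Matrix.ProjGenLinGroup (Fin 2) F) ∈ (psi (F := F)).range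
    · exact Or.inr ⟨hb, fun h => hyL ((h2.1 h).1 hb)⟩
    · exact Or.inl ⟨h2.2 ⟨fun h => absurd h hb, fun h => absurd h hyL⟩, hb⟩
  have h := ((psi (F := F)).range.subgroupOf M).index_mul_card
  rw [hidx] at h
  rw [← h]
  congr 1
  refine (Nat.card_congr ?_).symm
  exact
    { toFun := fun x => ⟨⟨psi x.1, x.2⟩, ⟨x.1, rfl⟩⟩
      invFun := fun z => ⟨(MonoidHom.ofInjective psi_injective).symm ⟨z.1.1, z.2⟩, by
        show psi _ ∈ M
        rw [MonoidHom.apply_ofInjective_symm]
        exact z.1.2⟩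
      left_inv := fun x => Subtype.ext (psi_injective (by rw [MonoidHom.apply_ofInjective_symm]))
      right_inv := fun z => Subtype.ext (Subtype.ext (by
        show psi _ = _
        rw [MonoidHom.apply_ofInjective_symm])) }

theorem sigma_mem {y : Matrix.ProjGenLinGroup (Fin 2) F} (hy : y ∈ M) {σ : MulAut PSL(2, F)}
    (hσ : ∀ x, psi (σ x) = y * psi x * y⁻¹) {x : PSL(2, F)} (hx : x ∈ core M) : σ x ∈ core M := by
  show psi (σ x) ∈ M
  rw [hσ]
  exact M.mul_mem (M.mul_mem hy hx) (M.inv_mem hy)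

theorem conj_mem {x z : PSL(2, F)} (hx : x ∈ core M) (hz : z ∈ core M) : z * x * z⁻¹ ∈ core M :=
  (core M).mul_mem ((core M).mul_mem hz hx) ((core M).inv_mem hz)

/-- Whatever normalises a proper non-trivial subgroup invariant under `M` lies in `M`. -/
theorem mem_of_normalizes {S : Subgroup PSL(2, F)} (hS : S ≠ ⊥) (hS' : S ≠ ⊤)
    (hinv : ∀ y ∈ M, ∀ x ∈ S, ∀ σ : MulAut PSL(2, F),
      (∀ z, psi (σ z) = y * psi z * y⁻¹) → σ x ∈ S)
    {w : Matrix.ProjGenLinGroup (Fin 2) F} (hw : ∀ x ∈ S, w * psi x * w⁻¹ ∈ S.map psi) : w ∈ M := by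
  set W := Subgroup.normalizer ((S.map psi : Subgroup (Matrix.ProjGenLinGroup (Fin 2) F)) : Set (Matrix.ProjGenLinGroup (Fin 2) F))
  have hmk : ∀ w : Matrix.ProjGenLinGroup (Fin 2) F, (∀ x ∈ S, w * psi x * w⁻¹ ∈ S.map psi) → w ∈ W := by
    intro w hw
    have hle : (S.map psi).map (MulAut.conj w).toMonoidHom ≤ S.map psi := by
      rintro _ ⟨_, ⟨x, hx, rfl⟩, rfl⟩
      exact hw x hx
    have heq := Subgroup.eq_of_le_of_card_ge hle
      (Nat.card_congr (Subgroup.equivMapOfInjective (S.map psi) (MulAut.conj w).toMonoidHom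
        (MulAut.conj w).injective).toEquiv).le
    rw [Subgroup.mem_normalizer_iff]
    intro v
    conv_rhs => rw [← heq, Subgroup.mem_map_equiv, MulAut.conj_symm_apply]
    group
  have hMW : M ≤ W := by
    intro y hy
    refine hmk y fun x hx => ?_
    obtain ⟨σ, hσ⟩ := exists_sigma y
    exact ⟨σ x, hinv y hy x hx σ hσ, hσ x⟩
  have hW : W ≠ ⊤ := by
    intro htop
    have hn : S.Normal := ⟨fun x hx z => by
      have h := (Subgroup.mem_normalizer_iff.1 (htop ▸ Subgroup.mem_top (psi z) : psi z ∈ W) (psi x)).1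
        (Subgroup.mem_map_of_mem psi hx)
      obtain ⟨v, hv, hv'⟩ := h
      rw [← map_inv, ← map_mul, ← map_mul] at hv'
      exact psi_injective hv' ▸ hv⟩
    have := psl_isSimpleGroup (F := F) (by have := hs.five; omega)
    rcases IsSimpleGroup.eq_bot_or_eq_top_of_normal S hn with h | h
    exacts [hS h, hS' h]
  rw [← eq_of_le_of_ne_top hs.coatom hMW hW]
  exact hmk w hw

/-- The version of `mem_of_normalizes` inside `PSL(2, F)`. -/
theorem mem_core_of_normalizes {S : Subgroup PSL(2, F)} (hS : S ≠ ⊥) (hS' : S ≠ ⊤)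
    (hinv : ∀ y ∈ M, ∀ x ∈ S, ∀ σ : MulAut PSL(2, F),
      (∀ z, psi (σ z) = y * psi z * y⁻¹) → σ x ∈ S)
    {w : PSL(2, F)} (hw : ∀ x ∈ S, w * x * w⁻¹ ∈ S) : w ∈ core M :=
  hs.mem_of_normalizes hS hS' hinv fun x hx => ⟨w * x * w⁻¹, hw x hx, by rw [map_mul, map_mul, map_inv]⟩

theorem core_ne_bot : core M ≠ ⊥ := by
  intro hbot
  have hc := hs.card_eq
  rw [hbot, Subgroup.card_bot] at hc
  obtain ⟨y, hy, hyL⟩ := hs.exists_not_mem
  have hy1 : y ≠ 1 := fun e => hyL (e ▸ (psi (F := F)).range.one_mem)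
  have hMy : ∀ z ∈ M, z = 1 ∨ z = y := by
    intro z hz
    by_contra hne
    push Not at hne
    have : 3 ≤ Nat.card M := by
      classical
      have hsub : ({⟨1, M.one_mem⟩, ⟨y, hy⟩, ⟨z, hz⟩} : Finset M).card = 3 := by
        rw [Finset.card_insert_of_notMem, Finset.card_insert_of_notMem, Finset.card_singleton]
        · simpa using fun e : y = z => hne.2 e.symm
        · simp only [Finset.mem_insert, Finset.mem_singleton, Subtype.mk.injEq, not_or]
          exact ⟨hy1.symm, fun e => hne.1 e.symm⟩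
      have : Fintype M := Fintype.ofFinite _
      rw [Nat.card_eq_fintype_card, ← hsub]
      exact Finset.card_le_univ _
    omega
  have hyy : y * y = 1 := by
    rcases hMy _ (M.mul_mem hy hy) with h | h
    · exact h
    · exact absurd (mul_eq_left.1 h) hy1
  obtain ⟨σ, hσ⟩ := exists_sigma y
  have h5 := hs.five
  have hnc : ¬ ∀ a b : PSL(2, F), a * b = b * a :=
    GL.PSL_not_comm 2 le_rfl fun _ => by rw [Nat.card_eq_fintype_card]; omega
  obtain ⟨z, hzσ, hz1⟩ : ∃ z, σ z = z ∧ z ≠ 1 := by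
    by_contra h
    push Not at h
    refine hnc fun a b => ?_
    refine (MonoidHom.FixedPointFree.commute_all_of_involutive (φ := σ.toMonoidHom) (fun g hg => h g hg)
      (fun g => psi_injective ?_) a b).eq
    show psi (σ (σ g)) = psi g
    rw [hσ, hσ, ← mul_assoc, ← mul_assoc, hyy, one_mul, mul_assoc, ← _root_.mul_inv_rev, hyy, inv_one, mul_one]
  have hcomm : y * psi z = psi z * y := by
    have := hσ z
    rw [hzσ] at this
    exact (eq_mul_inv_iff_mul_eq.1 this).symm
  have hle : M ≤ Subgroup.closure {y, psi z} := by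
    intro w hw
    rcases hMy w hw with rfl | rfl
    · exact one_mem _
    · exact Subgroup.subset_closure (Or.inl rfl)
  have hne : Subgroup.closure {y, psi z} ≠ ⊤ := by
    intro htop
    refine hnc fun a b => psi_injective ?_
    have hab : ∀ u ∈ Subgroup.closure ({y, psi z} : Set _), ∀ v ∈ Subgroup.closure ({y, psi z} : Set _),
        u * v = v * u := by
      intro u hu v hv
      induction hu, hv using Subgroup.closure_induction₂ with
      | mem u v hu hv =>
        rcases hu with rfl | rfl <;> rcases hv with rfl | rfl <;> first | rfl | exact hcomm | exact hcomm.symm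
      | one_left => simp
      | one_right => simp
      | mul_left x y z _ _ _ h1 h2 => rw [mul_assoc, h2, ← mul_assoc, h1, mul_assoc]
      | mul_right x y z _ _ _ h1 h2 => rw [← mul_assoc, h1, mul_assoc, h2, mul_assoc]
      | inv_left x y _ _ h1 => exact (Commute.inv_left h1).eq
      | inv_right x y _ _ h1 => exact (Commute.inv_right h1).eq
    rw [map_mul, map_mul]
    exact hab _ (htop ▸ Subgroup.mem_top _) _ (htop ▸ Subgroup.mem_top _)
  have hzM : z ∈ core M := by
    show psi z ∈ M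
    rw [← eq_of_le_of_ne_top hs.coatom hle hne]
    exact Subgroup.subset_closure (Or.inr rfl)
  rw [hbot, Subgroup.mem_bot] at hzM
  exact hz1 hzM

theorem card_core_ne_two : Nat.card (core M) ≠ 2 := by
  intro h2
  obtain ⟨x, hx, hx1⟩ := (core M).bot_or_exists_ne_one.resolve_left hs.core_ne_bot
  have hxo : orderOf x = 2 := by
    have := Subgroup.orderOf_dvd_natCard _ hx
    rw [h2] at this
    exact ((Nat.dvd_prime Nat.prime_two).1 this).resolve_left fun e => hx1 (orderOf_eq_one_iff.1 e)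
  have hz : Subgroup.zpowers x = core M := Subgroup.eq_of_le_of_card_ge (Subgroup.zpowers_le.2 hx)
    (by rw [Nat.card_zpowers, hxo, h2])
  have hle : Subgroup.centralizer {x} ≤ core M := by
    intro w hw
    refine hs.mem_core_of_normalizes hs.core_ne_bot hs.core_ne_top
      (fun y hy z hz σ hσ => hs.sigma_mem hy hσ hz) fun v hv => ?_
    rw [← hz] at hv ⊢
    obtain ⟨i, rfl⟩ := hv
    have hc : Commute w x := Subgroup.mem_centralizer_singleton_iff.1 hw
    rw [show w * x ^ i * w⁻¹ = x ^ i by rw [(hc.zpow_right i).eq, mul_inv_cancel_right]]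
    exact ⟨i, rfl⟩
  have := Nat.le_of_dvd Nat.card_pos (Subgroup.card_dvd_of_le hle)
  have h5 := hs.five
  obtain ⟨j, hj⟩ := hs.odd
  obtain ⟨h1, h3⟩ := card_centralizer_involution (odd_card_iff.1 hs.odd) hxo
  rcases (show Fintype.card F % 4 = 1 ∨ Fintype.card F % 4 = 3 by omega) with h | h
  · have := h1 h; omega
  · have := h3 h; omega

theorem not_klein {x y : PSL(2, F)} (hxy : IsInvPair x y) (hV : core M = klein x y hxy) : False := by
  have h2 : (2 : F) ≠ 0 := odd_card_iff.1 hs.odd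
  obtain ⟨g, hg, hg0, -⟩ := exists_tr_eq_zero hxy.1
  subst hg
  obtain ⟨w, hw, hwy⟩ := exists_lift h2 hg0 hxy
  subst hwy
  obtain ⟨ρ, hρ, e1, e2, e3⟩ := exists_rot_psl hw
  have hmem : ρ ∈ core M := by
    refine hs.mem_core_of_normalizes hs.core_ne_bot hs.core_ne_top
      (fun y hy z hz σ hσ => hs.sigma_mem hy hσ hz) fun v hv => ?_
    rw [hV] at hv ⊢
    rcases mem_klein.1 hv with rfl | rfl | rfl | rfl
    · simp
    · rw [e1]; exact mem_klein.2 (Or.inr (Or.inr (Or.inl rfl)))
    · rw [e2]; exact mem_klein.2 (Or.inr (Or.inr (Or.inr rfl)))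
    · rw [e3]; exact mem_klein.2 (Or.inr (Or.inl rfl))
  have := Subgroup.orderOf_dvd_natCard _ hmem
  rw [hρ, hV, card_klein] at this
  omega

end Setup

/-- `M ∩ PSL` is the stabiliser of a point. -/
def IsBorelType (H : Subgroup PSL(2, F)) : Prop :=
  ∃ c : PSL(2, F), H.map (MulAut.conj c).toMonoidHom = (borel F).map mk

/-- `M ∩ PSL` is the normaliser of a torus. -/
def IsTorusType (H : Subgroup PSL(2, F)) : Prop :=
  ∃ g : SL(2, F), tr g ^ 2 ≠ 4 ∧ H = (Subgroup.normalizer (cent g : Set SL(2, F))).map mk ∧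
    3 ≤ Nat.card ((cent g).map mk)

theorem tr_ne_zero_of_orderOf {g : SL(2, F)} (h : orderOf (mk g) ≠ 1) (h' : orderOf (mk g) ≠ 2) :
    tr g ≠ 0 := fun h0 =>
  h' (orderOf_mk_eq_two h0 (mk_ne_one_iff.1 fun e => h (by rw [e, orderOf_one])))

theorem centralizer_of_mem_unip (h2 : (2 : F) ≠ 0) {t : F} (ht : t ≠ 0) :
    Subgroup.centralizer ({mk (uu t)} : Set PSL(2, F)) = (unip F).map mk := by
  rw [psl_centralizer_eq (Or.inl (by rw [tr_uu]; exact h2)), cent_uu ht]
  refine le_antisymm ?_ (Subgroup.map_mono unip_le_pmUnip)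
  rintro _ ⟨g, hg, rfl⟩
  rcases mem_pmUnip.1 hg with h | h
  · exact Subgroup.mem_map_of_mem mk h
  · exact ⟨-g, h, mk_neg g⟩

namespace Setup

variable {M : Subgroup (Matrix.ProjGenLinGroup (Fin 2) F)} (hs : Setup M)
include hs

theorem borel_type (p : ℕ) [Fact p.Prime] [CharP F p] {Q : Subgroup PSL(2, F)} (hQ : IsPGroup p Q)
    (hne : Q ≠ ⊥) (hQH : Q ≤ core M)
    (hinv : ∀ y ∈ M, ∀ z ∈ Q, ∀ σ : MulAut PSL(2, F),
      (∀ v, psi (σ v) = y * psi v * y⁻¹) → σ z ∈ Q) :
    IsBorelType (core M) := by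
  have h2 : (2 : F) ≠ 0 := odd_card_iff.1 hs.odd
  have h5 := hs.five
  obtain ⟨P, hP⟩ := hQ.exists_le_sylow
  obtain ⟨c, hc⟩ := MulAction.exists_smul_eq PSL(2, F) P (unipSylowPSL F p)
  have hPU : (P : Subgroup PSL(2, F)).map (MulAut.conj c).toMonoidHom = (unip F).map mk := by
    rw [← coe_unipSylowPSL p, ← hc]; rfl
  -- the centraliser of each non-trivial element of `P` is `P`
  have hcent : ∀ z ∈ (P : Subgroup PSL(2, F)), z ≠ 1 →
      Subgroup.centralizer {z} = (P : Subgroup PSL(2, F)) := by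
    intro z hz hz1
    obtain ⟨u, hu, hu'⟩ : MulAut.conj c z ∈ (unip F).map mk :=
      hPU ▸ Subgroup.mem_map_of_mem (MulAut.conj c).toMonoidHom hz
    obtain ⟨t, rfl⟩ := mem_unip.1 hu
    have ht : t ≠ 0 := by
      rintro rfl
      rw [uu_zero, map_one, eq_comm, map_eq_one_iff _ (MulAut.conj c).injective] at hu'
      exact hz1 hu'
    have hC := centralizer_of_mem_unip h2 ht
    rw [← hPU, hu'] at hC
    ext w
    rw [Subgroup.mem_centralizer_singleton_iff]
    constructor
    · intro hw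
      have : MulAut.conj c w ∈ Subgroup.centralizer {MulAut.conj c z} := by
        rw [Subgroup.mem_centralizer_singleton_iff, ← map_mul, ← map_mul, hw]
      rw [hC] at this
      obtain ⟨w', hw', he⟩ := this
      rwa [← (MulAut.conj c).injective he]
    · intro hw
      have : MulAut.conj c w ∈ Subgroup.centralizer {MulAut.conj c z} := by
        rw [hC]; exact Subgroup.mem_map_of_mem _ hw
      rw [Subgroup.mem_centralizer_singleton_iff, ← map_mul, ← map_mul] at this
      exact (MulAut.conj c).injective this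
  obtain ⟨z, hzQ, hz1⟩ := Q.bot_or_exists_ne_one.resolve_left hne
  have hPne : (P : Subgroup PSL(2, F)) ≠ ⊥ := fun e => hz1 (Subgroup.mem_bot.1 (e ▸ hP hzQ))
  have hPtop : (P : Subgroup PSL(2, F)) ≠ ⊤ := by
    intro e
    have h1 := two_mul_succ_lt_card (F := F) (by omega)
    have h3 := Nat.card_congr
      ((P : Subgroup PSL(2, F)).equivMapOfInjective (MulAut.conj c).toMonoidHom (MulAut.conj c).injective).toEquiv
    rw [e, Subgroup.card_top] at h3
    have h4 := card_map_unip (F := F)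
    rw [← hPU, e] at h4
    omega
  have hPinv : ∀ y ∈ M, ∀ x ∈ (P : Subgroup PSL(2, F)), ∀ σ : MulAut PSL(2, F),
      (∀ v, psi (σ v) = y * psi v * y⁻¹) → σ x ∈ (P : Subgroup PSL(2, F)) := by
    intro y hy x hx σ hσ
    have hσz : σ z ∈ (P : Subgroup PSL(2, F)) := hP (hinv y hy z hzQ σ hσ)
    have hσz1 : σ z ≠ 1 := fun e => hz1 (σ.injective (by rw [e, map_one]))
    rw [← hcent _ hσz hσz1, Subgroup.mem_centralizer_singleton_iff, ← map_mul, ← map_mul]
    rw [← hcent z (hP hzQ) hz1, Subgroup.mem_centralizer_singleton_iff] at hx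
    rw [hx]
  refine ⟨c, le_antisymm ?_ ?_⟩
  · rintro _ ⟨h, hh, rfl⟩
    obtain ⟨s, hs'⟩ := mk_surjective (MulAut.conj c h)
    refine ⟨s, ?_, hs'⟩
    obtain ⟨σ, hσ⟩ := exists_sigma (psi h)
    have h1 : mk (uu 1) ∈ (unip F).map mk := Subgroup.mem_map_of_mem mk (uu_mem_unip 1)
    rw [← hPU] at h1
    obtain ⟨v, hv, hv'⟩ := h1
    have h3 := hPinv _ hh v hv σ hσ
    have e : σ v = h * v * h⁻¹ := psi_injective (by rw [hσ, map_mul, map_mul, map_inv])
    have h4 := Subgroup.mem_map_of_mem (MulAut.conj c).toMonoidHom h3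
    rw [hPU, e, map_mul, map_mul, map_inv, hv', MulEquiv.coe_toMonoidHom, ← hs'] at h4
    obtain ⟨u, hu, hu'⟩ := h4
    obtain ⟨t, rfl⟩ := mem_unip.1 hu
    rw [← map_inv, ← map_mul, ← map_mul, mk_eq_mk] at hu'
    rcases hu' with h | h
    · exact uu_conj_mem_borel one_ne_zero h.symm
    · have h10 := congrArg (fun a : SL(2, F) => a 1 0) h
      simp [Matrix.mul_apply, Fin.sum_univ_two, Matrix.adjugate_fin_two] at h10
      rw [SetLike.mem_coe, mem_borel]
      exact sq_eq_zero_iff.1 (by linear_combination -h10)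
  · rintro _ ⟨b, hb, rfl⟩
    refine ⟨(MulAut.conj c).symm (mk b), ?_, (MulAut.conj c).apply_symm_apply _⟩
    refine hs.mem_core_of_normalizes hPne hPtop hPinv fun v hv => ?_
    obtain ⟨u, hu, hu'⟩ : MulAut.conj c v ∈ (unip F).map mk :=
      hPU ▸ Subgroup.mem_map_of_mem (MulAut.conj c).toMonoidHom hv
    have : MulAut.conj c ((MulAut.conj c).symm (mk b) * v * ((MulAut.conj c).symm (mk b))⁻¹) ∈
        (unip F).map mk := by
      rw [map_mul, map_mul, map_inv, MulEquiv.apply_symm_apply, ← hu', ← map_inv, ← map_mul, ← map_mul]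
      exact Subgroup.mem_map_of_mem mk (unip_conj_mem hb hu)
    rw [← hPU] at this
    obtain ⟨v', hv'', he⟩ := this
    rwa [← (MulAut.conj c).injective he]

theorem torus_type (p : ℕ) [Fact p.Prime] [CharP F p] {x : PSL(2, F)}
    (hn : ∀ y ∈ M, ∀ σ : MulAut PSL(2, F), (∀ v, psi (σ v) = y * psi v * y⁻¹) →
      σ x * x = x * σ x) (ho : 3 ≤ orderOf x) (hp : ¬ p ∣ orderOf x) :
    IsTorusType (core M) := by
  have h5 := hs.five
  obtain ⟨g, rfl⟩ := mk_surjective x
  have h4 := tr_sq_ne_four_of_orderOf p (fun e => by rw [e, orderOf_one] at ho; omega) hp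
  have hgt : tr g ≠ 0 := tr_ne_zero_of_orderOf (by omega) (by omega)
  set T := (cent g).map mk with hT
  have hCg : Subgroup.centralizer ({mk g} : Set PSL(2, F)) = T := psl_centralizer_eq (Or.inl hgt)
  have hgT : mk g ∈ T := Subgroup.mem_map_of_mem mk (mem_cent.2 (Commute.refl g))
  have h3 : 3 ≤ Nat.card T := ho.trans (Nat.le_of_dvd Nat.card_pos (Subgroup.orderOf_dvd_natCard _ hgT))
  have hTne : T ≠ ⊥ := fun e => by rw [e, Subgroup.card_bot] at h3; omega
  have hTtop : T ≠ ⊤ := by
    intro e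
    have h1 := two_mul_succ_lt_card (F := F) (by omega)
    have h2 : Nat.card T ≤ Fintype.card F + 1 := by
      rcases card_torus_psl h4 with e' | e' <;> rw [e']
      · exact (Nat.div_le_self _ _).trans (by omega)
      · exact Nat.div_le_self _ _
    rw [e, Subgroup.card_top] at h2
    omega
  have hTinv : ∀ y ∈ M, ∀ z ∈ T, ∀ σ : MulAut PSL(2, F),
      (∀ v, psi (σ v) = y * psi v * y⁻¹) → σ z ∈ T := by
    intro y hy z hz σ hσ
    have hσx : σ (mk g) ∈ T := by
      rw [← hCg, Subgroup.mem_centralizer_singleton_iff]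
      exact hn y hy σ hσ
    obtain ⟨g', hg', hg''⟩ := hσx
    have ho' : orderOf (mk g') = orderOf (mk g) := by rw [hg'', MulEquiv.orderOf_eq]
    have hg'c : g' ∉ Subgroup.center SL(2, F) := mk_ne_one_iff.1 fun e => by
      rw [e, orderOf_one] at ho'; omega
    have hcc : cent g' = cent g := by
      ext v
      rw [mem_cent, mem_cent]
      exact ⟨fun hv => cent_comm hg'c hv (mem_cent.1 hg').symm,
        fun hv => cent_comm (not_mem_center_of_tr h4) hv (mem_cent.1 hg')⟩
    have hσC : σ z ∈ Subgroup.centralizer ({mk g'} : Set PSL(2, F)) := by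
      rw [Subgroup.mem_centralizer_singleton_iff, hg'', ← map_mul, ← map_mul]
      rw [← hCg, Subgroup.mem_centralizer_singleton_iff] at hz
      rw [hz]
    rwa [psl_centralizer_eq (Or.inl (tr_ne_zero_of_orderOf (by omega) (by omega))), hcc] at hσC
  refine ⟨g, h4, le_antisymm ?_ ?_, h3⟩
  · intro h hh
    obtain ⟨σ, hσ⟩ := exists_sigma (psi h)
    have hmem := hTinv _ hh (mk g) hgT σ hσ
    have e : σ (mk g) = h * mk g * h⁻¹ := psi_injective (by rw [hσ, map_mul, map_mul, map_inv])
    rw [e] at hmem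
    obtain ⟨s, rfl⟩ := mk_surjective h
    refine Subgroup.mem_map_of_mem mk ((mem_normalizer_cent h4).2 ?_)
    refine eq_or_eq_inv_of_tr_eq h4 (mem_cent.1 ((mk_mem_map_iff (center_le_cent g)).1 ?_)) (tr_conj s g)
    rw [map_mul, map_mul, map_inv]
    exact hmem
  · rintro _ ⟨s, hs', rfl⟩
    refine hs.mem_core_of_normalizes hTne hTtop hTinv ?_
    rintro _ ⟨v, hv, rfl⟩
    refine ⟨s * v * s⁻¹, (Subgroup.mem_normalizer_iff.1 hs' v).1 hv, ?_⟩
    rw [map_mul, map_mul, map_inv]

theorem abelian_case (p : ℕ) [Fact p.Prime] [CharP F p]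
    (hc : ∀ a ∈ core M, ∀ b ∈ core M, a * b = b * a)
    (hinv2 : ∀ a ∈ core M, ∀ b ∈ core M, orderOf a = 2 → orderOf b = 2 → a = b) :
    IsBorelType (core M) ∨ IsTorusType (core M) := by
  by_cases hp : ∃ x ∈ core M, p ∣ orderOf x
  · left
    obtain ⟨x, hx, hxp⟩ := hp
    let Q : Subgroup PSL(2, F) :=
      { carrier := {z | z ∈ core M ∧ z ^ p = 1}
        one_mem' := ⟨one_mem _, one_pow p⟩
        mul_mem' := fun {a b} ha hb => ⟨(core M).mul_mem ha.1 hb.1, by
          rw [(show Commute a b from hc a ha.1 b hb.1).mul_pow, ha.2, hb.2, one_mul]⟩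
        inv_mem' := fun {a} ha => ⟨(core M).inv_mem ha.1, by rw [inv_pow, ha.2, inv_one]⟩ }
    refine hs.borel_type p (Q := Q) (fun z => ⟨1, Subtype.ext (by
        rw [pow_one, Subgroup.coe_pow, z.2.2]; rfl)⟩) ?_ (fun z hz => hz.1)
      (fun y hy z hz σ hσ => ⟨hs.sigma_mem hy hσ hz.1, by rw [← map_pow, hz.2, map_one]⟩)
    intro hbot
    obtain ⟨d, hd⟩ := hxp
    have hd0 : d ≠ 0 := by
      rintro rfl
      simp at hd
      exact (orderOf_pos x).ne' (orderOf_eq_zero_iff.2 hd)
    have hxd : x ^ d ∈ Q := ⟨(core M).pow_mem hx d, by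
      rw [← pow_mul, mul_comm, ← hd, pow_orderOf_eq_one]⟩
    rw [hbot, Subgroup.mem_bot, ← orderOf_dvd_iff_pow_eq_one, hd] at hxd
    have := Nat.le_of_dvd (Nat.pos_of_ne_zero hd0) hxd
    have := (Fact.out : p.Prime).two_le
    nlinarith [Nat.pos_of_ne_zero hd0]
  · push Not at hp
    by_cases h3 : ∃ x ∈ core M, 3 ≤ orderOf x
    · obtain ⟨x, hx, hx3⟩ := h3
      exact Or.inr (hs.torus_type p
        (fun y hy σ hσ => hc _ (hs.sigma_mem hy hσ hx) x hx) hx3 (hp x hx))
    · exfalso
      push Not at h3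
      have hexp : ∀ a ∈ core M, a ≠ 1 → orderOf a = 2 := fun a ha ha1 => by
        have := h3 a ha
        have := orderOf_pos a
        have : orderOf a ≠ 1 := fun e => ha1 (orderOf_eq_one_iff.1 e)
        omega
      obtain ⟨x, hx, hx1⟩ := (core M).bot_or_exists_ne_one.resolve_left hs.core_ne_bot
      refine hs.card_core_ne_two ?_
      rw [Nat.card_eq_two_iff]
      refine ⟨1, ⟨x, hx⟩, fun e => hx1 (congrArg Subtype.val e).symm, ?_⟩
      rw [Set.eq_univ_iff_forall]
      intro a
      by_cases ha : (a : PSL(2, F)) = 1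
      · exact Or.inl (Subtype.ext ha)
      · exact Or.inr (Subtype.ext (hinv2 _ a.2 x hx (hexp _ a.2 ha) (hexp x hx hx1)))

theorem cyclic_case (p : ℕ) [Fact p.Prime] [CharP F p] (hcyc : IsCyclic (core M)) :
    IsBorelType (core M) ∨ IsTorusType (core M) := by
  refine hs.abelian_case p (fun a ha b hb => ?_) (fun a ha b hb h1 h2 => ?_)
  · haveI := hcyc
    exact congrArg Subtype.val (IsMulCommutative.is_comm.comm (⟨a, ha⟩ : core M) ⟨b, hb⟩)
  · classical
    haveI := hcyc
    have : Fintype (core M) := Fintype.ofFinite _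
    have hd : 2 ∣ Fintype.card (core M) := by
      have h := Subgroup.orderOf_dvd_natCard _ ha
      rwa [h1, Nat.card_eq_fintype_card] at h
    have hc := IsCyclic.card_orderOf_eq_totient hd
    rw [Nat.totient_two, Finset.card_eq_one] at hc
    obtain ⟨u, hu⟩ := hc
    have hmem : ∀ c, (hc : c ∈ core M) → orderOf c = 2 → (⟨c, hc⟩ : core M) = u := fun c hc h => by
      have : (⟨c, hc⟩ : core M) ∈ ({x | orderOf x = 2} : Finset (core M)) := by
        simp only [Finset.mem_filter, Finset.mem_univ, true_and]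
        rw [Subgroup.orderOf_mk, h]
      rw [hu, Finset.mem_singleton] at this
      exact this
    exact congrArg Subtype.val ((hmem a ha h1).trans (hmem b hb h2).symm)

theorem dihedral_case (p : ℕ) [Fact p.Prime] [CharP F p] {k : ℕ} (e : core M ≃* DihedralGroup k)
    (hk : k ∣ (Fintype.card F + 1) / Nat.gcd 2 (Fintype.card F - 1) ∨
      k ∣ (Fintype.card F - 1) / Nat.gcd 2 (Fintype.card F - 1)) :
    IsTorusType (core M) := by
  have hk0 : k ≠ 0 := by
    rintro rfl
    have : Finite (DihedralGroup 0) := Finite.of_equiv _ e.toEquiv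
    exact not_finite (DihedralGroup 0)
  have : NeZero k := ⟨hk0⟩
  have hcard : Nat.card (core M) = 2 * k := by rw [Nat.card_congr e.toEquiv, DihedralGroup.nat_card]
  have hk1 : k ≠ 1 := by rintro rfl; exact hs.card_core_ne_two hcard
  have hk2 : k ≠ 2 := by
    rintro rfl
    let x : PSL(2, F) := (e.symm (DihedralGroup.r 1) : core M)
    let y : PSL(2, F) := (e.symm (DihedralGroup.sr 0) : core M)
    have hxy : IsInvPair x y := by
      refine ⟨?_, ?_, ?_, ?_⟩
      · rw [Subgroup.orderOf_coe, MulEquiv.orderOf_eq, DihedralGroup.orderOf_r_one]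
      · rw [Subgroup.orderOf_coe, MulEquiv.orderOf_eq, DihedralGroup.orderOf_sr]
      · show x * y = y * x
        have h : DihedralGroup.r (1 : ZMod 2) * DihedralGroup.sr 0 =
            DihedralGroup.sr 0 * DihedralGroup.r 1 := by decide
        have h' := congrArg (fun z => ((e.symm z : core M) : PSL(2, F))) h
        simp only [map_mul, Subgroup.coe_mul] at h'
        exact h' 
      · intro h
        have := e.symm.injective (Subtype.ext h)
        simp at this
    refine hs.not_klein hxy (Subgroup.eq_of_le_of_card_ge (fun v hv => ?_) ?_).symm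
    · rcases mem_klein.1 hv with rfl | rfl | rfl | rfl
      · exact one_mem _
      · exact (e.symm _).2
      · exact (e.symm _).2
      · exact (core M).mul_mem (e.symm _).2 (e.symm _).2
    · rw [card_klein, hcard]
  have hk3 : 3 ≤ k := by omega
  have hr : orderOf (e.symm (DihedralGroup.r 1) : PSL(2, F)) = k := by
    rw [Subgroup.orderOf_coe, MulEquiv.orderOf_eq, DihedralGroup.orderOf_r_one]
  refine hs.torus_type p (x := (e.symm (DihedralGroup.r 1) : core M))
    ?_ (by omega) (by rw [hr]; exact not_dvd_torus p hk)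
  intro y hy σ hσ
  have hmem := hs.sigma_mem hy hσ (e.symm (DihedralGroup.r 1)).2
  have hord : orderOf (e ⟨_, hmem⟩) = k := by
    rw [MulEquiv.orderOf_eq, Subgroup.orderOf_mk, MulEquiv.orderOf_eq, hr]
  obtain ⟨i, hi⟩ : ∃ i, e ⟨_, hmem⟩ = DihedralGroup.r i := by
    rcases hv : e ⟨_, hmem⟩ with i | i
    · exact ⟨i, rfl⟩
    · rw [hv, DihedralGroup.orderOf_sr] at hord; omega
  have h : (⟨_, hmem⟩ : core M) * e.symm (DihedralGroup.r 1) =
      e.symm (DihedralGroup.r 1) * ⟨_, hmem⟩ := by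
    apply e.injective
    rw [map_mul, map_mul, e.apply_symm_apply, hi, DihedralGroup.r_mul_r, DihedralGroup.r_mul_r, add_comm]
  exact congrArg Subtype.val h

theorem sylow_normalizer_case (p : ℕ) [Fact p.Prime] [CharP F p] (P : Sylow p PSL(2, F))
    (K : Subgroup PSL(2, F))
    (hK : K ≤ Subgroup.normalizer ((P : Subgroup PSL(2, F)) : Set PSL(2, F))) (e : core M ≃* K) :
    IsBorelType (core M) ∨ IsTorusType (core M) := by
  let f : core M →* PSL(2, F) := K.subtype.comp e.toMonoidHom
  have hf : Function.Injective f := K.subtype_injective.comp e.injective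
  set Q := ((P : Subgroup PSL(2, F)).comap f).map (core M).subtype with hQ
  by_cases hne : Q = ⊥
  · obtain ⟨g, hg⟩ := MulAction.exists_smul_eq PSL(2, F) P (unipSylowPSL F p)
    have hPU : (P : Subgroup PSL(2, F)).map (MulAut.conj g).toMonoidHom = (unip F).map mk := by
      rw [← coe_unipSylowPSL p, ← hg]; rfl
    have hB : ∀ c : core M, MulAut.conj g (f c) ∈ (borel F).map mk := by
      intro c
      have hn : f c ∈ Subgroup.normalizer ((P : Subgroup PSL(2, F)) : Set PSL(2, F)) := hK (e c).2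
      obtain ⟨s, hs'⟩ := mk_surjective (MulAut.conj g (f c))
      refine ⟨s, ?_, hs'⟩
      have h1 : mk (uu 1) ∈ (unip F).map mk := Subgroup.mem_map_of_mem mk (uu_mem_unip 1)
      rw [← hPU] at h1
      obtain ⟨z, hz, hz'⟩ := h1
      have h2 := Subgroup.mem_map_of_mem (MulAut.conj g).toMonoidHom
        ((Subgroup.mem_normalizer_iff.1 hn z).1 hz)
      rw [hPU, map_mul, map_mul, map_inv, hz', MulEquiv.coe_toMonoidHom, ← hs'] at h2
      obtain ⟨u, hu, hu'⟩ := h2
      obtain ⟨t, rfl⟩ := mem_unip.1 hu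
      rw [← map_inv, ← map_mul, ← map_mul, mk_eq_mk] at hu'
      rcases hu' with h | h
      · exact uu_conj_mem_borel one_ne_zero h.symm
      · have h10 := congrArg (fun a : SL(2, F) => a 1 0) h
        simp [Matrix.mul_apply, Fin.sum_univ_two, Matrix.adjugate_fin_two] at h10
        rw [SetLike.mem_coe, mem_borel]
        exact sq_eq_zero_iff.1 (by linear_combination -h10)
    have hU : ∀ c : core M, MulAut.conj g (f c) ∈ (unip F).map mk → c = 1 := by
      intro c hc
      rw [← hPU] at hc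
      obtain ⟨z, hz, hz'⟩ := hc
      have : (c : PSL(2, F)) ∈ Q := ⟨c, by
        rw [SetLike.mem_coe, Subgroup.mem_comap, ← (MulAut.conj g).injective hz']; exact hz, rfl⟩
      rw [hne, Subgroup.mem_bot] at this
      exact Subtype.ext this
    refine hs.abelian_case p (fun a ha b hb => ?_) (fun a ha b hb h1 h2 => ?_)
    · obtain ⟨u, hu, hu'⟩ := hB ⟨a, ha⟩
      obtain ⟨v, hv, hv'⟩ := hB ⟨b, hb⟩
      have hmem : ⁅u, v⁆ ∈ unip F := by
        rw [mem_unip_iff_entries]
        have ha0 := mem_borel.1 hu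
        have hb0 := mem_borel.1 hv
        have hda := det_eq u
        have hdb := det_eq v
        rw [ha0, mul_zero, sub_zero] at hda
        rw [hb0, mul_zero, sub_zero] at hdb
        refine ⟨(borel F).mul_mem ((borel F).mul_mem ((borel F).mul_mem hu hv) ((borel F).inv_mem hu))
          ((borel F).inv_mem hv), ?_⟩
        rw [commutatorElement_def]
        simp only [mul00, mul01, inv00, inv01, inv10, inv11, ha0, hb0]
        linear_combination (v 0 0 * v 1 1) * hda + hdb
      have h3 := Subgroup.mem_map_of_mem mk hmem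
      rw [map_commutatorElement, hu', hv', ← map_commutatorElement, ← map_commutatorElement f] at h3
      have h4 := congrArg Subtype.val (commutatorElement_eq_one_iff_mul_comm.1 (hU _ h3))
      exact h4
    · obtain ⟨u, hu, hu'⟩ := hB ⟨a, ha⟩
      obtain ⟨v, hv, hv'⟩ := hB ⟨b, hb⟩
      have hab : (⟨a, ha⟩ : core M) * ⟨b, hb⟩ = 1 := by
        apply hU
        rw [map_mul, map_mul, ← hu', ← hv', ← map_mul]
        have hou : ∀ (c : core M) (w : SL(2, F)), orderOf (c : PSL(2, F)) = 2 → mk w = MulAut.conj g (f c) →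
            w 1 0 = 0 → w 0 0 + w 1 1 = 0 ∧ w 0 0 * w 1 1 = 1 := by
          intro c w hc hw hw0
          have ho : orderOf (mk w) = 2 := by
            rw [hw, MulEquiv.orderOf_eq, orderOf_injective f hf, ← Subgroup.orderOf_coe, hc]
          obtain ⟨w', hw', htr, -⟩ := exists_tr_eq_zero ho
          have hd := det_eq w
          rw [hw0, mul_zero, sub_zero] at hd
          refine ⟨?_, hd⟩
          rw [tr_def] at htr
          rcases mk_eq_mk.1 hw' with e | e <;> rw [e] at htr
          · exact htr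
          · simp at htr; linear_combination -htr
        obtain ⟨hu1, hu2⟩ := hou ⟨a, ha⟩ u h1 hu' (mem_borel.1 hu)
        obtain ⟨hv1, hv2⟩ := hou ⟨b, hb⟩ v h2 hv' (mem_borel.1 hv)
        have huv : (u * v) 1 0 = 0 := by rw [mul10, mem_borel.1 hu, mem_borel.1 hv]; ring
        have h00 : (u * v) 0 0 = u 0 0 * v 0 0 := by rw [mul00, mem_borel.1 hv]; ring
        rcases mul_eq_zero.1 (show (u 0 0 * v 0 0 - 1) * (u 0 0 * v 0 0 + 1) = 0 by
          linear_combination (u 0 0 * v 0 0 ^ 2) * hu1 + (-(v 0 0 ^ 2)) * hu2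
            - (v 0 0) * hv1 + hv2) with h | h
        · exact Subgroup.mem_map_of_mem mk (mem_unip_iff_entries.2 ⟨huv, by rw [h00]; linear_combination h⟩)
        · rw [← mk_neg]
          refine Subgroup.mem_map_of_mem mk (mem_unip_iff_entries.2 ⟨?_, ?_⟩)
          · simpa using huv
          · show (-(u * v)) 0 0 = 1
            simp only [Matrix.SpecialLinearGroup.coe_neg, Matrix.neg_apply]
            rw [h00]; linear_combination -h
      have := congrArg Subtype.val (eq_inv_of_mul_eq_one_left hab)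
      replace this : a = b⁻¹ := this
      rw [this, inv_eq_of_mul_eq_one_right]
      rw [← pow_two]
      exact orderOf_dvd_iff_pow_eq_one.1 h2.dvd
  · left
    refine hs.borel_type p (Q := Q) ((P.isPGroup'.comap_of_injective f hf).map _) hne
      (Subgroup.map_subtype_le _) ?_
    rintro y hy _ ⟨z, hz, rfl⟩ σ hσ
    have hmem := hs.sigma_mem hy hσ z.2
    refine ⟨⟨_, hmem⟩, ?_, rfl⟩
    rw [SetLike.mem_coe, Subgroup.mem_comap] at hz ⊢
    -- a `p`-element of the normaliser of `P` lies in `P`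
    obtain ⟨i, hi⟩ := P.isPGroup' ⟨_, hz⟩
    have hzp : z ^ p ^ i = 1 := hf (by
      rw [map_pow, map_one]; exact congrArg Subtype.val hi)
    have hwp : (⟨_, hmem⟩ : core M) ^ p ^ i = 1 := Subtype.ext (by
      show (σ (z : PSL(2, F))) ^ p ^ i = 1
      rw [← map_pow, ← Subgroup.coe_pow, hzp, Subgroup.coe_one, map_one])
    set w : core M := ⟨_, hmem⟩
    have hW : IsPGroup p (Subgroup.zpowers (f w)) := by
      intro v
      obtain ⟨v, n, rfl⟩ := v
      refine ⟨i, Subtype.ext ?_⟩
      show (f w ^ n) ^ p ^ i = 1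
      rw [← zpow_natCast, ← _root_.zpow_mul, mul_comm, _root_.zpow_mul, zpow_natCast, ← map_pow, hwp, map_one, _root_.one_zpow]
    have hwN : f w ∈ Subgroup.zpowers (f w) ⊓
        Subgroup.normalizer ((P : Subgroup PSL(2, F)) : Set PSL(2, F)) :=
      ⟨Subgroup.mem_zpowers _, hK (e w).2⟩
    exact ((hW.inf_normalizer_sylow P).le hwN).2

/-- The rough shapes of `M ∩ PSL(2, F)`. -/
theorem core_shape (p : ℕ) [Fact p.Prime] [CharP F p] (hD : IsDicksonType p (core M)) :
    IsBorelType (core M) ∨ IsTorusType (core M) ∨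
    Nonempty (core M ≃* alternatingGroup (Fin 4)) ∨ Nonempty (core M ≃* Equiv.Perm (Fin 4)) ∨
    Nonempty (core M ≃* alternatingGroup (Fin 5)) ∨
    (∃ (L : Type) (_ : Field L) (_ : Fintype L) (m : ℕ), Fintype.card L ^ m = Fintype.card F ∧
      (Nonempty (core M ≃* PSL(2, L)) ∨ Nonempty (core M ≃* Matrix.ProjGenLinGroup (Fin 2) L))) := by
  rcases hD with ⟨k, hk, ⟨hc, -⟩ | ⟨⟨e⟩⟩⟩ | ⟨P, N, hN, ⟨e⟩⟩ | h
  · exact (hs.cyclic_case p hc).imp_right Or.inl
  · exact Or.inr (Or.inl (hs.dihedral_case p e hk))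
  · exact (hs.sylow_normalizer_case p P N hN e).imp_right Or.inl
  · exact Or.inr (Or.inr h)

end Setup

end Cfsg.Agent.PSL2.Maximal
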