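import Cfsg.Agent.Lib.PSL2.Classify
import Cfsg.Agent.Lib.PSL2.PSLPartition
import Cfsg.Agent.Lib.PSL2.PGLHom
import Cfsg.Agent.Lib.PGroup.CyclicMaximal

/-!
Dickson's theorem: the subgroups of `PSL(2, q)`.

* `exists_subfield_line`: an additive subgroup with many multipliers is a line over a subfield;
* `big_iso`: a subgroup of big shape is `PSL(2, K)` or `PGL(2, K)` for a subfield `K`;
* `dickson`: the list.
-/

set_option autoImplicit false

open Matrix
open scoped MatrixGroups

namespace Cfsg.Agent.PSL2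

variable {F : Type*} [Field F]

theorem exists_subfield_line [Finite F] (A : AddSubgroup F) (L : Subgroup Fˣ)
    (hL : ∀ l ∈ L, ∀ t ∈ A, (l : F) * t ∈ A) (h1 : 1 < Nat.card A)
    (hw : Nat.card A ≤ 2 * Nat.card L + 1) :
    ∃ K : Subfield F, Nat.card K = Nat.card A ∧ (∀ l ∈ L, (l : F) ∈ K) ∧
      ∀ a ∈ A, a ≠ 0 → ∀ t, t ∈ A ↔ t / a ∈ K := by
  let K : Subfield F :=
    { carrier := {x | ∀ t ∈ A, x * t ∈ A}
      mul_mem' := fun {x y} hx hy t ht => by rw [mul_assoc]; exact hx _ (hy t ht)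
      one_mem' := fun t ht => by rwa [one_mul]
      add_mem' := fun {x y} hx hy t ht => by rw [add_mul]; exact A.add_mem (hx t ht) (hy t ht)
      zero_mem' := fun t _ => by rw [zero_mul]; exact A.zero_mem
      neg_mem' := fun {x} hx t ht => by rw [neg_mul]; exact A.neg_mem (hx t ht)
      inv_mem' := fun x hx t ht => by
        rcases eq_or_ne x 0 with rfl | h0
        · simp
        · have hinj : Function.Injective (fun s : A => (⟨x * s, hx _ s.2⟩ : A)) := fun s s' e =>
            Subtype.ext (mul_left_cancel₀ h0 (congrArg Subtype.val e))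
          obtain ⟨s, hs⟩ := Finite.surjective_of_injective hinj ⟨t, ht⟩
          rw [show t = x * (s : F) from (congrArg Subtype.val hs).symm, inv_mul_cancel_left₀ h0]
          exact s.2 }
  have hKmem : ∀ x, x ∈ K ↔ ∀ t ∈ A, x * t ∈ A := fun x => Iff.rfl
  have hLK : ∀ l ∈ L, (l : F) ∈ K := fun l hl => hL l hl
  have hcardL : Nat.card L + 1 ≤ Nat.card K := by
    have hinj : Function.Injective (fun o : Option L =>
        (o.elim (0 : K) fun l => ⟨(l : Fˣ), hLK _ l.2⟩)) := by
      rintro (_ | l) (_ | l') e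
      · rfl
      · exact absurd (congrArg (Subtype.val : K → F) e).symm (Units.ne_zero _)
      · exact absurd (congrArg (Subtype.val : K → F) e) (Units.ne_zero _)
      · exact congrArg some (Subtype.ext (Units.ext (congrArg (Subtype.val : K → F) e)))
    have := Nat.card_le_card_of_injective _ hinj
    rwa [Finite.card_option] at this
  obtain ⟨a₀, ha₀, ha₀'⟩ : ∃ a ∈ A, a ≠ 0 := by
    by_contra h
    push Not at h
    have : Nat.card A = 1 := Nat.card_eq_one_iff_unique.2
      ⟨⟨fun s t => Subtype.ext ((h _ s.2).trans (h _ t.2).symm)⟩, ⟨0⟩⟩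
    omega
  -- every element of `A` is a multiple of a nonzero one
  have hline : ∀ a ∈ A, a ≠ 0 → ∀ t ∈ A, t / a ∈ K := by
    intro a ha ha' t ht
    by_contra hta
    have hinj : Function.Injective (fun x : K × K => (⟨(x.1 : F) * a + x.2 * t,
        A.add_mem (x.1.2 a ha) (x.2.2 t ht)⟩ : A)) := by
      rintro ⟨x, y⟩ ⟨x', y'⟩ e
      have e' : (x : F) * a + y * t = x' * a + y' * t := congrArg Subtype.val e
      by_cases hy : (y : F) = y'
      · rw [hy] at e'
        exact Prod.ext (Subtype.ext (mul_right_cancel₀ ha' (add_right_cancel e'))) (Subtype.ext hy)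
      · exfalso
        apply hta
        have hy0 : (y : F) - y' ≠ 0 := sub_ne_zero.2 hy
        have hv : t / a = ((x' : F) - x) / (y - y') := by
          field_simp
          linear_combination e'
        rw [hv]
        exact K.div_mem (K.sub_mem x'.2 x.2) (K.sub_mem y.2 y'.2)
    have h := Nat.card_le_card_of_injective _ hinj
    rw [Nat.card_prod] at h
    have h2 : 2 ≤ Nat.card K := by
      have : Nontrivial K := inferInstance
      exact Finite.one_lt_card
    nlinarith
  refine ⟨K, ?_, hLK, fun a ha ha' t => ⟨hline a ha ha' t, fun h => ?_⟩⟩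
  · refine le_antisymm (Nat.card_le_card_of_injective (fun x : K => (⟨(x : F) * a₀, x.2 _ ha₀⟩ : A))
      fun x y e => Subtype.ext (mul_right_cancel₀ ha₀' (congrArg Subtype.val e))) ?_
    refine Nat.card_le_card_of_injective (fun t : A => (⟨(t : F) / a₀, hline _ ha₀ ha₀' _ t.2⟩ : K))
      fun x y e => Subtype.ext ?_
    exact (div_left_inj' ha₀').1 (congrArg Subtype.val e)
  · have := (hKmem _).1 h a ha
    rwa [div_mul_cancel₀ _ ha'] at this

/-- The fixed point data of an element of the big cell. -/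
theorem big_cell_ratio {m : SL(2, F)} {t : F} {b : Fˣ} {v : SL(2, F)} (hv : v ∈ borel F)
    (h : m = uu t * (dd b * ww) * v ∨ m = -(uu t * (dd b * ww) * v)) :
    m 1 0 ≠ 0 ∧ m 0 0 / m 1 0 = t := by
  have hv00 : v 0 0 ≠ 0 := by
    intro h0
    have := det_eq v
    rw [h0, mem_borel.1 hv] at this
    simp at this
  have e10 : ((uu t * (dd b * ww) * v : SL(2, F))) 1 0 = -((b : F)⁻¹ * v 0 0) := by
    simp [mul00, mul01, mul10, mul11, mem_borel.1 hv]
  have e00 : ((uu t * (dd b * ww) * v : SL(2, F))) 0 0 = -(t * (b : F)⁻¹ * v 0 0) := by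
    simp [mul00, mul01, mul10, mul11, mem_borel.1 hv]
  have hne : (b : F)⁻¹ * v 0 0 ≠ 0 := mul_ne_zero (inv_ne_zero b.ne_zero) hv00
  have hb := b.ne_zero
  rcases h with rfl | rfl
  · rw [e10, e00]
    exact ⟨neg_ne_zero.2 hne, by field_simp⟩
  · simp only [Matrix.SpecialLinearGroup.coe_neg, Matrix.neg_apply]
    rw [e10, e00, neg_neg, neg_neg]
    exact ⟨hne, by field_simp⟩

section Big

variable [Fintype F]

theorem mk_dd_eq_one_iff {a : Fˣ} : mk (dd a) = 1 ↔ (a : F) ^ 2 = 1 := by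
  exact (QuotientGroup.eq_one_iff _).trans dd_mem_center_iff

omit [Fintype F] in
theorem unip_inf_torus_map :
    (unip F).map mk ⊓ (torus F).map mk = (⊥ : Subgroup PSL(2, F)) := by
  rw [eq_bot_iff]
  rintro z ⟨⟨u, hu, rfl⟩, ⟨v, hv, hvu⟩⟩
  obtain ⟨s, rfl⟩ := mem_unip.1 hu
  obtain ⟨h1, -⟩ := mem_torus_iff_entries.1 hv
  rw [Subgroup.mem_bot]
  rcases mk_eq_mk.1 hvu with rfl | rfl
  · rw [uu01] at h1
    simp [h1]
  · simp at h1
    simp [h1]

omit [Fintype F] in
/-- The Borel part is the product of its torus and unipotent parts. -/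
theorem big_borel_prod [Finite F] (H : Subgroup PSL(2, F))
    (hB : Nat.card ↥((borel F).map mk ⊓ H) =
      Nat.card ↥((torus F).map mk ⊓ H) * Nat.card ↥((unip F).map mk ⊓ H))
    {z : PSL(2, F)} (hz : z ∈ (borel F).map mk ⊓ H) :
    ∃ x ∈ (torus F).map mk ⊓ H, ∃ y ∈ (unip F).map mk ⊓ H, z = x * y := by
  set U' := (unip F).map mk ⊓ H
  set T' := (torus F).map mk ⊓ H
  have hd : Disjoint T' U' := by
    rw [disjoint_iff, eq_bot_iff]
    exact le_trans (le_inf (inf_le_of_right_le inf_le_left) (inf_le_of_left_le inf_le_left))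
      unip_inf_torus_map.le
  have hmem : ∀ x : T' × U', (x.1 : PSL(2, F)) * x.2 ∈ (borel F).map mk ⊓ H := fun x =>
    ⟨Subgroup.mul_mem _ (Subgroup.map_mono torus_le_borel x.1.2.1)
      (Subgroup.map_mono unip_le_borel x.2.2.1), H.mul_mem x.1.2.2 x.2.2.2⟩
  let f : T' × U' → ↥((borel F).map mk ⊓ H) := fun x => ⟨_, hmem x⟩
  have hinj : Function.Injective f := fun x y e =>
    Subgroup.mul_injective_of_disjoint hd
      (show (fun g : T' × U' => (g.1 : PSL(2, F)) * g.2) x = (fun g => (g.1 : PSL(2, F)) * g.2) y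
        from congrArg Subtype.val e)
  obtain ⟨⟨x, y⟩, hxy⟩ := ((Nat.bijective_iff_injective_and_card f).2
    ⟨hinj, by rw [Nat.card_prod, hB]⟩).2 ⟨z, hz⟩
  exact ⟨x, x.2, y, y.2, (congrArg Subtype.val hxy).symm⟩

omit [Fintype F] in
/-- `H` consists of its Borel part and `r` further cosets. -/
theorem big_cosets [Finite F] (H : Subgroup PSL(2, F)) {r : ℕ}
    (hU : Nat.card ↥((unip F).map mk ⊓ H) = r)
    (hH : Nat.card H = (r + 1) * Nat.card ↥((borel F).map mk ⊓ H))
    {b : Fˣ} (hb : mk (dd b * ww) ∈ H) {g : PSL(2, F)} (hg : g ∈ H) :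
    g ∈ (borel F).map mk ∨ ∃ t, mk (uu t) ∈ H ∧
      (mk (uu t * (dd b * ww)))⁻¹ * g ∈ (borel F).map mk := by
  let A := {t : F // mk (uu t) ∈ H}
  have hAcard : Nat.card A = r := by
    rw [← hU]
    refine Nat.card_eq_of_bijective (fun t : A =>
      (⟨mk (uu t.1), Subgroup.mem_map_of_mem mk (uu_mem_unip _), t.2⟩ :
        ↥((unip F).map mk ⊓ H))) ⟨fun s t e => ?_, ?_⟩
    · exact Subtype.ext (uu_injective (mk_injOn_unip (uu_mem_unip _) (uu_mem_unip _)
        (congrArg Subtype.val e)))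
    · rintro ⟨z, ⟨u, hu, rfl⟩, hz⟩
      obtain ⟨t, rfl⟩ := mem_unip.1 hu
      exact ⟨⟨t, hz⟩, rfl⟩
  let B : Subgroup H := ((borel F).map mk).subgroupOf H
  have hBidx : B.index = r + 1 := by
    have h := B.index_mul_card
    have hBc : Nat.card B = Nat.card ↥((borel F).map mk ⊓ H) := by
      rw [← Subgroup.subgroupOf_map_subtype, Subgroup.card_map_of_injective H.subtype_injective]
    rw [hBc, hH] at h
    exact Nat.eq_of_mul_eq_mul_right Nat.card_pos h
  have hmem : ∀ t : A, mk (uu t.1 * (dd b * ww)) ∈ H := fun t => by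
    rw [map_mul]; exact H.mul_mem t.2 hb
  let cs : Option A → H ⧸ B := fun o =>
    o.elim (QuotientGroup.mk 1) fun t => QuotientGroup.mk ⟨_, hmem t⟩
  have hkey : ∀ (g : H) (t : A) (m : SL(2, F)), mk m = g → cs (some t) = QuotientGroup.mk g →
      m 1 0 ≠ 0 ∧ m 0 0 / m 1 0 = t.1 := by
    intro g t m hm e
    have h := QuotientGroup.eq.1 e
    obtain ⟨v, hv, hve⟩ := Subgroup.mem_map.1 (Subgroup.mem_subgroupOf.1 h)
    refine big_cell_ratio (b := b) hv (mk_eq_mk.1 ?_)
    rw [map_mul, hve, hm]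
    simp [mul_assoc]
  have hcs : Function.Bijective cs := by
    refine (Nat.bijective_iff_injective_and_card _).2 ⟨?_, ?_⟩
    · rintro (_ | s) (_ | t) e
      · rfl
      · exact absurd (by simp) (hkey 1 t 1 (map_one _) e.symm).1
      · exact absurd (by simp) (hkey 1 s 1 (map_one _) e).1
      · refine congrArg some (Subtype.ext ?_)
        obtain ⟨h1, h2⟩ := hkey ⟨_, hmem t⟩ s _ rfl e
        rw [← h2]
        simp [mul00, mul01, mul10, mul11]
    · rw [Finite.card_option, hAcard, ← hBidx]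
      exact B.index_eq_card
  obtain ⟨o, ho⟩ := hcs.2 (QuotientGroup.mk ⟨g, hg⟩)
  rcases o with _ | t
  · have h := Subgroup.mem_subgroupOf.1 (QuotientGroup.eq.1
      (show (QuotientGroup.mk (1 : H) : H ⧸ B) = QuotientGroup.mk ⟨g, hg⟩ from ho))
    exact Or.inl (by simpa using h)
  · have h := Subgroup.mem_subgroupOf.1 (QuotientGroup.eq.1
      (show (QuotientGroup.mk (⟨_, hmem t⟩ : H) : H ⧸ B) = QuotientGroup.mk ⟨g, hg⟩ from ho))
    exact Or.inr ⟨t.1, t.2, h⟩

/-- A subgroup of big shape in normal position, twisted into `PGL(2, K)`. -/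
theorem big_iso (H : Subgroup PSL(2, F)) {r w : ℕ} (hr : 3 ≤ r)
    (hU : Nat.card ↥((unip F).map mk ⊓ H) = r) (hT : Nat.card ↥((torus F).map mk ⊓ H) = w)
    (hB : Nat.card ↥((borel F).map mk ⊓ H) = r * w)
    (hH : Nat.card H = (r + 1) * (r * w)) (hw : w + 1 = r ∨ 2 * w + 1 = r)
    {b : Fˣ} (hb : mk (dd b * ww) ∈ H) :
    ∃ (a : Fˣ) (K : Subfield F), Nat.card K = r ∧
      (w + 1 = r ∧ H.map (pslTwist a) = (pglMap K.subtype).range ∨
        2 * w + 1 = r ∧ H.map (pslTwist a) =
          ((pglMap K.subtype).comp Matrix.SpecialLinearGroup.toPGL).range) := by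
  classical
  -- the additive group of the unipotent part
  let A : AddSubgroup F :=
    { carrier := {t | mk (uu t) ∈ H}
      zero_mem' := by simp
      add_mem' := fun {s t} hs ht => by
        show mk (uu (s + t)) ∈ H
        rw [← uu_mul_uu, map_mul]; exact H.mul_mem hs ht
      neg_mem' := fun {s} hs => by
        show mk (uu (-s)) ∈ H
        rw [← uu_inv, map_inv]; exact H.inv_mem hs }
  have hAmem : ∀ t, t ∈ A ↔ mk (uu t) ∈ H := fun t => Iff.rfl
  have hAcard : Nat.card A = r := by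
    rw [← hU]
    refine Nat.card_eq_of_bijective (fun t : A =>
      (⟨mk (uu (t : F)), Subgroup.mem_map_of_mem mk (uu_mem_unip _), t.2⟩ :
        ↥((unip F).map mk ⊓ H))) ⟨fun s t e => ?_, ?_⟩
    · exact Subtype.ext (uu_injective (mk_injOn_unip (uu_mem_unip _) (uu_mem_unip _)
        (congrArg Subtype.val e)))
    · rintro ⟨z, ⟨u, hu, rfl⟩, hz⟩
      obtain ⟨t, rfl⟩ := mem_unip.1 hu
      exact ⟨⟨t, hz⟩, rfl⟩
  -- the squares of the torus part
  let S : Subgroup Fˣ := H.comap (mk.comp ddHom)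
  let φ : S →* PSL(2, F) := (mk.comp ddHom).comp S.subtype
  let ψ : S →* Fˣ := (powMonoidHom 2).comp S.subtype
  have hker : φ.ker = ψ.ker := by
    ext ⟨a, ha⟩
    show mk (dd a) = 1 ↔ a ^ 2 = 1
    rw [mk_dd_eq_one_iff, Units.ext_iff, Units.val_pow_eq_pow_val, Units.val_one]
  have hφ : φ.range = (torus F).map mk ⊓ H := by
    ext z
    constructor
    · rintro ⟨⟨a, ha⟩, rfl⟩
      exact ⟨Subgroup.mem_map_of_mem mk (mem_torus.2 ⟨a, rfl⟩), ha⟩
    · rintro ⟨⟨v, hv, rfl⟩, hz⟩
      obtain ⟨a, rfl⟩ := mem_torus.1 hv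
      exact ⟨⟨a, hz⟩, rfl⟩
  have hLcard : Nat.card ψ.range = w := by
    rw [← Subgroup.index_ker, ← hker, Subgroup.index_ker, hφ, hT]
  have hLA : ∀ l ∈ ψ.range, ∀ t ∈ A, (l : F) * t ∈ A := by
    rintro _ ⟨⟨a, ha⟩, rfl⟩ t ht
    rw [hAmem] at ht ⊢
    have e : ((ψ ⟨a, ha⟩ : Fˣ) : F) = (a : F) ^ 2 := by simp [ψ]
    rw [e, ← dd_conj_uu, map_mul, map_mul, map_inv]
    exact H.mul_mem (H.mul_mem ha ht) (H.inv_mem ha)
  obtain ⟨K, hK, hLK, hline⟩ := exists_subfield_line A ψ.range hLA (by omega) (by omega)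
  have hBprod := fun z (hz : z ∈ (borel F).map mk ⊓ H) =>
    big_borel_prod H (by rw [hB, hT, hU, mul_comm]) hz
  have hH' : Nat.card H = (r + 1) * Nat.card ↥((borel F).map mk ⊓ H) := by rw [hB, hH]
  have hcosets := fun g (hg : g ∈ H) => big_cosets H hU hH' hb (g := g) hg
  -- the orbit of the point at infinity
  have hc : ∀ t ∈ A, t ≠ 0 → (b : F) ^ 2 / t ∈ A := by
    intro t ht ht0
    set m := dd b * ww * uu t * (dd b * ww) with hmdef
    have hmH : mk m ∈ H := by
      rw [hmdef, map_mul, map_mul]; exact H.mul_mem (H.mul_mem hb ht) hb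
    have hm10 : m 1 0 = t * ((b : F)⁻¹) ^ 2 := by
      simp [hmdef, mul00, mul01, mul10, mul11]; ring
    have hm00 : m 0 0 = -1 := by
      simp [hmdef, mul00, mul01, mul10, mul11]
    rcases hcosets _ hmH with h | ⟨s, hs, h⟩
    · exfalso
      have h0 : m 1 0 = 0 := by
        obtain ⟨v, hv, hve⟩ := Subgroup.mem_map.1 h
        rcases mk_eq_mk.1 hve with rfl | rfl
        · exact hv
        · simpa using mem_borel.1 hv
      rw [hm10] at h0
      simp [ht0] at h0
    · obtain ⟨v, hv, hve⟩ := Subgroup.mem_map.1 h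
      have hm : mk m = mk (uu s * (dd b * ww) * v) := by
        rw [map_mul (f := mk) (x := uu s * (dd b * ww)), hve, mul_inv_cancel_left]
      obtain ⟨-, h2⟩ := big_cell_ratio hv (mk_eq_mk.1 hm)
      rw [hm00, hm10] at h2
      have : (b : F) ^ 2 / t = -s := by rw [← h2]; field_simp
      rw [this]
      exact A.neg_mem hs
  obtain ⟨a₁, ha₁, ha₁'⟩ : ∃ a ∈ A, a ≠ 0 := by
    by_contra h
    push Not at h
    have : Nat.card A = 1 := Nat.card_eq_one_iff_unique.2
      ⟨⟨fun s t => Subtype.ext ((h _ s.2).trans (h _ t.2).symm)⟩, ⟨0⟩⟩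
    omega
  obtain ⟨κ, hκ, hκeq⟩ : ∃ κ ∈ K, (b : F) ^ 2 = a₁ ^ 2 * κ := by
    refine ⟨(b : F) ^ 2 / a₁ / a₁, (hline a₁ ha₁ ha₁' _).1 (hc _ ha₁ ha₁'), ?_⟩
    field_simp
  set a : Fˣ := Units.mk0 a₁ ha₁' with hadef
  refine ⟨a, K, hK.trans hAcard, ?_⟩
  set θ := pglMap K.subtype with hθ
  set J : Subgroup PSL(2, F) := θ.range.comap (pslTwist a) with hJ
  have hJmk : ∀ g : SL(2, F), mk g ∈ J ↔ twistHom a g ∈ θ.range := fun g => Iff.rfl
  have hJU : ∀ t ∈ A, mk (uu t) ∈ J := by
    intro t ht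
    rw [hJmk]
    let l : K := ⟨t / a₁, (hline a₁ ha₁ ha₁' t).1 ht⟩
    refine ⟨_, (twistHom_eq_of_entries K.subtype a (uu t)
      (Matrix.SpecialLinearGroup.toGL (uu l)) 1 ?_ ?_ ?_ ?_).symm⟩
    · simp
    · simp [l, hadef]; field_simp
    · simp
    · simp
  have hJT : ∀ c : Fˣ, mk (dd c) ∈ H → mk (dd c) ∈ J := by
    intro c hcH
    rw [hJmk]
    let l : K := ⟨((c ^ 2 : Fˣ) : F), hLK _ ⟨⟨c, hcH⟩, rfl⟩⟩
    have hl : l ≠ 0 := fun h => (c ^ 2).ne_zero (congrArg Subtype.val h)
    refine ⟨_, (twistHom_eq_of_entries K.subtype a (dd c)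
      (GL.diagHom ![Units.mk0 l hl, 1]) c⁻¹ ?_ ?_ ?_ ?_).symm⟩
    · simp [l, sq]
    · simp
    · simp
    · simp
  have hJW : mk (dd b * ww) ∈ J := by
    rw [hJmk]
    let k : K := ⟨κ, hκ⟩
    have hk : k ≠ 0 := fun h => by
      have : κ = 0 := congrArg Subtype.val h
      rw [this, mul_zero] at hκeq
      exact b.ne_zero (pow_eq_zero_iff two_ne_zero |>.1 hκeq)
    let M : GL (Fin 2) K := GeneralLinearGroup.mkOfDetNeZero !![0, k; -1, 0] (by simp [hk])
    refine ⟨_, (twistHom_eq_of_entries K.subtype a (dd b * ww) M (a / b) ?_ ?_ ?_ ?_).symm⟩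
    · simp [M, mul00]
    · simp [M, k, mul01, hadef]
      field_simp
      linear_combination hκeq
    · simp [M, mul10, hadef]
      field_simp
    · simp [M, mul11]
  have hHJ : H ≤ J := by
    have hBJ : ∀ z ∈ (borel F).map mk ⊓ H, z ∈ J := by
      intro z hz
      obtain ⟨x, ⟨hx, hxH⟩, y, ⟨hy, hyH⟩, rfl⟩ := hBprod z hz
      obtain ⟨x', hx', rfl⟩ := Subgroup.mem_map.1 hx
      obtain ⟨c, rfl⟩ := mem_torus.1 hx'
      obtain ⟨y', hy', rfl⟩ := Subgroup.mem_map.1 hy
      obtain ⟨t, rfl⟩ := mem_unip.1 hy'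
      exact J.mul_mem (hJT c hxH) (hJU t hyH)
    intro g hg
    rcases hcosets g hg with h | ⟨s, hs, h⟩
    · exact hBJ g ⟨h, hg⟩
    · have hy : mk (uu s * (dd b * ww)) ∈ J := by
        rw [map_mul]; exact J.mul_mem (hJU _ hs) hJW
      have hyH : mk (uu s * (dd b * ww)) ∈ H := by rw [map_mul]; exact H.mul_mem hs hb
      have := J.mul_mem hy (hBJ _ ⟨h, H.mul_mem (H.inv_mem hyH) hg⟩)
      rwa [mul_inv_cancel_left] at this
  set M := H.map (pslTwist a) with hM
  have hMθ : M ≤ θ.range := Subgroup.map_le_iff_le_comap.2 hHJ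
  set E := (θ.comp Matrix.SpecialLinearGroup.toPGL).range with hE
  have hEM : E ≤ M := by
    have hUA : ∀ l : K, a₁ * (l : F) ∈ A := fun l =>
      (hline a₁ ha₁ ha₁' _).2 (by rw [mul_div_cancel_left₀ _ ha₁']; exact l.2)
    rw [hE, MonoidHom.range_eq_map, ← closure_uu_ll, MonoidHom.map_closure, Subgroup.closure_le]
    rintro _ ⟨g, (⟨l, rfl⟩ | ⟨l, rfl⟩), rfl⟩
    · refine ⟨mk (uu (a₁ * (l : F))), hUA l, ?_⟩
      rw [pslTwist_mk]
      refine (twistHom_eq_of_entries K.subtype a _ (Matrix.SpecialLinearGroup.toGL (uu l)) 1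
        ?_ ?_ ?_ ?_).trans rfl <;> simp [hadef]
    · set t := a₁ * ((-(⟨κ, hκ⟩ * l) : K) : F)
      have ht : mk (uu t) ∈ H := hUA _
      refine ⟨mk ((dd b * ww) * uu t * (dd b * ww)⁻¹), ?_, ?_⟩
      · rw [map_mul, map_mul, map_inv]; exact H.mul_mem (H.mul_mem hb ht) (H.inv_mem hb)
      rw [pslTwist_mk]
      refine (twistHom_eq_of_entries K.subtype a _ (Matrix.SpecialLinearGroup.toGL (ll l)) 1
        ?_ ?_ ?_ ?_).trans rfl
      all_goals simp [mul00, mul01, mul10, mul11, inv00, inv01, inv10, inv11, t, hadef]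
      all_goals field_simp
      all_goals linear_combination (-(l : F)) * hκeq
  have hMcard : Nat.card M = (r + 1) * (r * w) := by
    rw [hM, Subgroup.card_map_of_injective (pslTwist_injective a), hH]
  have : Fintype K := Fintype.ofFinite K
  have hKr : Fintype.card K = r := by rw [← Nat.card_eq_fintype_card, hK, hAcard]
  have hsq : r ^ 2 - 1 = (r + 1) * (r - 1) := by simpa using Nat.sq_sub_sq r 1
  rcases hw with h | h
  · refine Or.inl ⟨h, Subgroup.eq_of_le_of_card_ge hMθ ?_⟩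
    rw [hMcard, ← Nat.card_congr (MonoidHom.ofInjective (pglMap_injective K.subtype)).toEquiv,
      GL.card_PGL, card_SL, hKr, hsq, show r - 1 = w by omega]
    exact (by ring : r * ((r + 1) * w) = (r + 1) * (r * w)).le
  · refine Or.inr ⟨h, (Subgroup.eq_of_le_of_card_ge hEM ?_).symm⟩
    have hE' : E = (θ.comp Matrix.ProjectiveSpecialLinearGroup.toPGL).range := by
      rw [hE]
      ext z
      constructor
      · rintro ⟨g, rfl⟩; exact ⟨mk g, rfl⟩
      · rintro ⟨g, rfl⟩
        obtain ⟨g, rfl⟩ := mk_surjective g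
        exact ⟨g, rfl⟩
    have h2 : (2 : K) ≠ 0 := odd_card_iff.1 (hKr.symm ▸ ⟨w, h.symm⟩)
    have hcard := two_mul_card_PSL h2
    rw [hKr, hsq, show r - 1 = 2 * w by omega] at hcard
    rw [hMcard, hE', ← Nat.card_congr (MonoidHom.ofInjective
      (f := θ.comp Matrix.ProjectiveSpecialLinearGroup.toPGL)
      ((pglMap_injective _).comp Matrix.ProjectiveSpecialLinearGroup.toPGL_injective)).toEquiv]
    nlinarith

end Big

section Main

variable [Fintype F]

theorem unip_map_eq_pmUnip_map : (unip F).map mk = ((pmUnip F).map mk : Subgroup PSL(2, F)) := by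
  refine le_antisymm (Subgroup.map_mono unip_le_pmUnip) ?_
  rintro _ ⟨g, hg, rfl⟩
  rcases mem_pmUnip.1 hg with h | h
  · exact Subgroup.mem_map_of_mem mk h
  · rw [← mk_neg g]; exact Subgroup.mem_map_of_mem mk h

theorem normalizer_unip_map :
    Subgroup.normalizer ((unip F).map mk : Set PSL(2, F)) = (borel F).map mk := by
  rw [unip_map_eq_pmUnip_map, normalizer_map_mk (H := pmUnip F) (center_le_cent _),
    normalizer_pmUnip]

omit [Fintype F] in
theorem map_inv_conj {G : Type*} [Group G] (X : Subgroup G) (c : G) :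
    (X.map (MulAut.conj c).toMonoidHom).map (MulAut.conj c⁻¹).toMonoidHom = X := by
  rw [Part.Partition.map_conj_conj, inv_mul_cancel, Part.Partition.map_conj_one]

omit [Fintype F] in
theorem card_subgroupOf_conj {G : Type*} [Group G] (X H : Subgroup G) (c : G) :
    Nat.card (X.subgroupOf H) = Nat.card ↥(X.map (MulAut.conj c).toMonoidHom ⊓
      H.map (MulAut.conj c).toMonoidHom) := by
  rw [← Subgroup.map_inf _ _ _ (MulEquiv.injective _), Part.Partition.card_map_conj,
    ← Subgroup.subgroupOf_map_subtype, Subgroup.card_map_of_injective H.subtype_injective]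

variable (p : ℕ) [Fact p.Prime] [CharP F p]

theorem torus_comp_data {x : PSL(2, F)} (hx : x ≠ 1)
    (hT : ¬ IsPGroup p ((pslPartition F p).comp x)) :
    IsCyclic ((pslPartition F p).comp x) ∧
      (Nat.card ((pslPartition F p).comp x) ∣
          (Fintype.card F + 1) / Nat.gcd 2 (Fintype.card F - 1) ∨
        Nat.card ((pslPartition F p).comp x) ∣
          (Fintype.card F - 1) / Nat.gcd 2 (Fintype.card F - 1)) := by
  obtain ⟨g, rfl⟩ := mk_surjective x
  rw [pslPartition_comp] at hT ⊢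
  have h4 : tr g ^ 2 ≠ 4 := fun h => hT ((isPGroup_comp_iff p (mk_ne_one_iff.1 hx)).2 h)
  refine ⟨isCyclic_map_cent h4, ?_⟩
  rw [card_map_cent_eq]
  rcases card_cent_of_tr h4 with e | e <;> rw [e]
  · exact Or.inr dvd_rfl
  · exact Or.inl dvd_rfl

variable {p}
variable (H : Subgroup PSL(2, F))

theorem coe_ne_one {x : H} (hx : x ≠ 1) : (x : PSL(2, F)) ≠ 1 := fun e => hx (Subtype.ext e)

theorem not_isPGroup_comp {x : H}
    (h : ¬ IsPGroup p (((pslPartition F p).restrict H).comp x)) :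
    ¬ IsPGroup p ((pslPartition F p).comp (x : PSL(2, F))) := fun e =>
  h (e.comap_of_injective H.subtype H.subtype_injective)

theorem isPGroup_comp {x : H} (hx : x ≠ 1)
    (h : IsPGroup p (((pslPartition F p).restrict H).comp x)) :
    IsPGroup p ((pslPartition F p).comp (x : PSL(2, F))) := by
  obtain ⟨n, hn⟩ := (((pslPartition F p).restrict H).isPGroup_iff_orderOf hx).1 h
  exact ((pslPartition F p).isPGroup_iff_orderOf (coe_ne_one H hx)).2
    ⟨n, by rwa [Subgroup.orderOf_coe]⟩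

theorem mem_normalizer_comp {x : H} (hx : x ≠ 1) (k : H) :
    k ∈ Subgroup.normalizer (((pslPartition F p).restrict H).comp x : Set H) ↔
      (k : PSL(2, F)) ∈ Subgroup.normalizer ((pslPartition F p).comp (x : PSL(2, F)) : Set _) := by
  constructor
  · intro hk
    exact (pslPartition F p).mem_normalizer_of_conj_mem (coe_ne_one H hx)
      ((Subgroup.mem_normalizer_iff.1 hk x).1
        (Subgroup.mem_subgroupOf.2 ((pslPartition F p).mem_self _ (coe_ne_one H hx))))
  · intro hk
    rw [Subgroup.mem_normalizer_iff]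
    intro z
    rw [Part.Partition.restrict_comp, Subgroup.mem_subgroupOf, Subgroup.mem_subgroupOf]
    simpa using Subgroup.mem_normalizer_iff.1 hk (z : PSL(2, F))

/-- A big subgroup can be moved into normal position. -/
theorem exists_normal_form (h : ((pslPartition F p).restrict H).IsBig) :
    ∃ (c : PSL(2, F)) (r w : ℕ) (b : Fˣ), 3 ≤ r ∧ (w + 1 = r ∨ 2 * w + 1 = r) ∧
      Nat.card ↥((unip F).map mk ⊓ H.map (MulAut.conj c).toMonoidHom) = r ∧
      Nat.card ↥((torus F).map mk ⊓ H.map (MulAut.conj c).toMonoidHom) = w ∧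
      Nat.card ↥((borel F).map mk ⊓ H.map (MulAut.conj c).toMonoidHom) = r * w ∧
      Nat.card (H.map (MulAut.conj c).toMonoidHom) = (r + 1) * (r * w) ∧
      mk (dd b * ww) ∈ H.map (MulAut.conj c).toMonoidHom := by
  set P := pslPartition F p with hPdef
  obtain ⟨x, y, hx, hPx, hy, hTy, hle, h3, hw, hN, hidx, hN2⟩ := h
  have hPx' := isPGroup_comp H hx hPx
  have hTy' := not_isPGroup_comp H hTy
  have hyN : (y : PSL(2, F)) ∈ Subgroup.normalizer (P.comp (x : PSL(2, F)) : Set _) :=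
    (mem_normalizer_comp H hx y).1 (hle ((P.restrict H).mem_self y hy))
  obtain ⟨g, hg⟩ := mk_surjective (x : PSL(2, F))
  have hg1 : g ∉ Subgroup.center SL(2, F) := mk_ne_one_iff.1 (hg ▸ coe_ne_one H hx)
  have hcx : P.comp (x : PSL(2, F)) = (cent g).map mk := by rw [← hg, hPdef, pslPartition_comp]
  obtain ⟨k, hk⟩ := parabolic_of_tr hg1 ((isPGroup_comp_iff p hg1).1 (hcx ▸ hPx'))
  have hcx' : P.comp (x : PSL(2, F)) = ((unip F).map mk).map (MulAut.conj (mk k)).toMonoidHom := by
    rw [hcx, hk, unip_map_eq_pmUnip_map, Subgroup.map_map, Subgroup.map_map]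
    congr 1
  have hNx : Subgroup.normalizer (P.comp (x : PSL(2, F)) : Set _) =
      ((borel F).map mk).map (MulAut.conj (mk k)).toMonoidHom := by
    rw [hcx', ← normalizer_unip_map]
    exact (Subgroup.map_equiv_normalizer_eq ((unip F).map mk) (MulAut.conj (mk k))).symm
  rw [hNx, Part.Partition.mem_map_conj] at hyN
  obtain ⟨v, hv, hvy⟩ := Subgroup.mem_map.1 hyN
  obtain ⟨a, s, rfl, -⟩ := exists_eq_dd_mul_uu hv
  have hv1 : dd a * uu s ∉ Subgroup.center SL(2, F) := mk_ne_one_iff.1 (by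
    rw [hvy]
    intro h
    apply coe_ne_one H hy
    simpa [mul_assoc] using congrArg (fun z => mk k * z * (mk k)⁻¹) h)
  have hcy : P.comp (mk (dd a * uu s)) =
      (P.comp (y : PSL(2, F))).map (MulAut.conj (mk k)⁻¹).toMonoidHom := by
    rw [hvy, ← P.conj _ _ (coe_ne_one H hy), inv_inv]
  have ha : (a : F) ^ 2 ≠ 1 := by
    intro ha
    have h4 : tr (dd a * uu s) ^ 2 = 4 := by
      rcases sq_eq_one_iff.1 ha with h | h <;> simp [tr_def, mul00, mul11, h] <;> norm_num
    apply hTy'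
    have hp := (isPGroup_comp_iff p hv1).2 h4
    rw [← pslPartition_comp p, hcy] at hp
    exact hp.of_equiv (Subgroup.equivMapOfInjective _ _ (MulEquiv.injective _)).symm
  have hd : (((a⁻¹ : Fˣ) : F)) ^ 2 - 1 ≠ 0 := by
    rw [Units.val_inv_eq_inv_val, sub_ne_zero, inv_pow]
    simpa using ha
  set r₀ := s / (((a⁻¹ : Fˣ) : F) ^ 2 - 1) with hr₀
  have hconj : uu r₀ * dd a * (uu r₀)⁻¹ = dd a * uu s := by
    have h1 : r₀ * (((a⁻¹ : Fˣ) : F) ^ 2 - 1) = s := div_mul_cancel₀ _ hd
    rw [mul_inv_eq_iff_eq_mul, mul_assoc, uu_mul_uu]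
    apply ext2 <;> simp only [mul00, mul01, mul10, mul11] <;> simp
    rw [← h1, Units.val_inv_eq_inv_val]
    field_simp
    ring
  set c : PSL(2, F) := (mk k * mk (uu r₀))⁻¹ with hc
  have hUc : (P.comp (x : PSL(2, F))).map (MulAut.conj c).toMonoidHom = (unip F).map mk := by
    have hu : ((unip F).map mk).map (MulAut.conj (mk (uu r₀))⁻¹).toMonoidHom = (unip F).map mk := by
      ext z
      rw [Part.Partition.mem_map_conj, inv_inv]
      exact (Subgroup.mem_normalizer_iff.1 (Subgroup.le_normalizer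
        (Subgroup.mem_map_of_mem mk (uu_mem_unip r₀))) z).symm
    rw [hcx', Part.Partition.map_conj_conj, hc, _root_.mul_inv_rev, inv_mul_cancel_right, hu]
  have hyc : c * (y : PSL(2, F)) * c⁻¹ = mk (dd a) := by
    have e : mk (dd a) = (mk (uu r₀))⁻¹ * mk (dd a * uu s) * mk (uu r₀) := by
      rw [← hconj, map_mul, map_mul, map_inv]; group
    rw [e, hvy, hc]
    group
  have hTc : (P.comp (y : PSL(2, F))).map (MulAut.conj c).toMonoidHom = (torus F).map mk := by
    rw [← P.conj _ _ (coe_ne_one H hy), hyc, hPdef, pslPartition_comp, cent_dd ha]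
  set H' := H.map (MulAut.conj c).toMonoidHom with hH'
  have hBc : (Subgroup.normalizer (P.comp (x : PSL(2, F)) : Set _)).map
      (MulAut.conj c).toMonoidHom = (borel F).map mk := by
    rw [← normalizer_unip_map, ← hUc]
    exact Subgroup.map_equiv_normalizer_eq _ (MulAut.conj c)
  have hNsub : Subgroup.normalizer ((P.restrict H).comp x : Set H) =
      (Subgroup.normalizer (P.comp (x : PSL(2, F)) : Set _)).subgroupOf H := by
    ext z
    rw [Subgroup.mem_subgroupOf]
    exact mem_normalizer_comp H hx z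
  have hr : Nat.card ↥((unip F).map mk ⊓ H') = Nat.card ((P.restrict H).comp x) := by
    rw [← hUc, hH', ← card_subgroupOf_conj]
    rfl
  have hw' : Nat.card ↥((torus F).map mk ⊓ H') = Nat.card ((P.restrict H).comp y) := by
    rw [← hTc, hH', ← card_subgroupOf_conj]
    rfl
  have hB : Nat.card ↥((borel F).map mk ⊓ H') =
      Nat.card (Subgroup.normalizer ((P.restrict H).comp x : Set H)) := by
    rw [← hBc, hH', ← card_subgroupOf_conj, hNsub]
  obtain ⟨k₀, -, hk₀', -, hinv⟩ := (P.restrict H).exists_inverting_of_card hy hTy hN2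
  obtain ⟨m, hm⟩ := mk_surjective (c * (k₀ : PSL(2, F)) * c⁻¹)
  have hmH : mk m ∈ H' := hm ▸ Subgroup.mem_map_of_mem _ k₀.2
  have hmT : mk m ∉ (torus F).map mk := by
    rw [← hTc, hm]
    intro hmem
    apply hk₀'
    rw [Part.Partition.mem_map_conj] at hmem
    refine Subgroup.mem_subgroupOf.2 ?_
    simpa [mul_assoc] using hmem
  have hminv : mk (m * dd a) = mk ((dd a)⁻¹ * m) := by
    have e := congrArg Subtype.val (hinv y ((P.restrict H).mem_self y hy))
    simp only [Subgroup.coe_mul, Subgroup.coe_inv] at e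
    rw [map_mul, map_mul, map_inv, hm, ← hyc, ← mul_inv_eq_iff_eq_mul]
    calc c * (k₀ : PSL(2, F)) * c⁻¹ * (c * y * c⁻¹) * (c * (k₀ : PSL(2, F)) * c⁻¹)⁻¹
        = c * ((k₀ : PSL(2, F)) * y * (k₀ : PSL(2, F))⁻¹) * c⁻¹ := by group
      _ = c * (y : PSL(2, F))⁻¹ * c⁻¹ := by rw [e]
      _ = (c * y * c⁻¹)⁻¹ := by group
  rw [dd_inv] at hminv
  obtain ⟨b, hb⟩ : ∃ b : Fˣ, m = dd b * ww := by
    have ha0 := a.ne_zero
    have hdet := det_eq m
    have key : m 0 0 = 0 ∧ m 1 1 = 0 := by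
      rcases mk_eq_mk.1 hminv with e | e
      · have e00 := congrArg (fun z : SL(2, F) => z 0 0) e
        have e11 := congrArg (fun z : SL(2, F) => z 1 1) e
        simp [mul00, mul11, Matrix.mul_apply, Fin.sum_univ_two] at e00 e11
        field_simp at e00 e11
        exact ⟨(mul_eq_zero.1 (show m 0 0 * ((a : F) ^ 2 - 1) = 0 by linear_combination e00)
          ).resolve_right (sub_ne_zero.2 ha),
          (mul_eq_zero.1 (show m 1 1 * ((a : F) ^ 2 - 1) = 0 by linear_combination -e11)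
          ).resolve_right (sub_ne_zero.2 ha)⟩
      · by_cases h2 : (2 : F) = 0
        · have e00 := congrArg (fun z : SL(2, F) => z 0 0) e
          have e11 := congrArg (fun z : SL(2, F) => z 1 1) e
          simp [mul00, mul11, Matrix.mul_apply, Fin.sum_univ_two] at e00 e11
          field_simp at e00 e11
          exact ⟨(mul_eq_zero.1 (show m 0 0 * ((a : F) ^ 2 - 1) = 0 by
            linear_combination e00 - m 0 0 * h2)).resolve_right (sub_ne_zero.2 ha),
            (mul_eq_zero.1 (show m 1 1 * ((a : F) ^ 2 - 1) = 0 by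
            linear_combination -e11 + (a : F) ^ 2 * m 1 1 * h2)).resolve_right (sub_ne_zero.2 ha)⟩
        · exfalso
          apply hmT
          refine Subgroup.mem_map_of_mem mk (mem_torus_iff_entries.2 ⟨?_, ?_⟩)
          · have e01 := congrArg (fun z : SL(2, F) => z 0 1) e
            simp [mul01, Matrix.mul_apply, Fin.sum_univ_two] at e01
            field_simp at e01
            exact (mul_eq_zero.1 (show m 0 1 * 2 = 0 by linear_combination e01)).resolve_right h2
          · have e10 := congrArg (fun z : SL(2, F) => z 1 0) e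
            simp [mul10, Matrix.mul_apply, Fin.sum_univ_two] at e10
            field_simp at e10
            exact (mul_eq_zero.1 (show m 1 0 * 2 = 0 by linear_combination e10)).resolve_right h2
    rw [key.1, key.2, zero_mul, zero_sub] at hdet
    have hb0 : m 0 1 ≠ 0 := fun h => by simp [h] at hdet
    refine ⟨Units.mk0 _ hb0, ?_⟩
    apply ext2 <;> simp only [mul00, mul01, mul10, mul11] <;> simp [key]
    field_simp
    linear_combination -hdet
  refine ⟨c, _, _, b, h3, hw, hr, hw', hB.trans hN, ?_, hb ▸ hmH⟩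
  rw [Part.Partition.card_map_conj,
    ← (Subgroup.normalizer ((P.restrict H).comp x : Set H)).index_mul_card, hidx, hN]

/-- A big subgroup is `PSL(2, K)` or `PGL(2, K)`. -/
theorem big_classify (h : ((pslPartition F p).restrict H).IsBig) :
    ∃ (K : Type) (_ : Field K) (_ : Fintype K) (m : ℕ), Fintype.card K ^ m = Fintype.card F ∧
      (Nonempty (H ≃* Matrix.ProjectiveSpecialLinearGroup (Fin 2) K) ∨
        Nonempty (H ≃* Matrix.ProjGenLinGroup (Fin 2) K)) := by
  classical
  obtain ⟨c, r, w, b, hr, hw, h1, h2, h3, h4, h5⟩ := exists_normal_form H h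
  obtain ⟨a, K, -, hK⟩ := big_iso _ hr h1 h2 h3 h4 hw h5
  let e₀ : H ≃* (H.map (MulAut.conj c).toMonoidHom).map (pslTwist a) :=
    (Subgroup.equivMapOfInjective H _ (MulEquiv.injective _)).trans
      (Subgroup.equivMapOfInjective _ _ (pslTwist_injective a))
  have : Fintype K := Fintype.ofFinite K
  let eK : K ≃+* Shrink.{0} K := (Shrink.ringEquiv.{0} K).symm
  refine ⟨Shrink.{0} K, inferInstance, Fintype.ofEquiv K eK.toEquiv, Module.finrank K F, ?_, ?_⟩
  · refine Eq.trans ?_ (Module.card_eq_pow_finrank (K := K) (V := F)).symm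
    congr 1
    exact @Fintype.card_congr _ _ (_) (_) eK.symm.toEquiv
  rcases hK with ⟨-, hK⟩ | ⟨-, hK⟩
  · exact Or.inr ⟨((e₀.trans (MulEquiv.subgroupCongr hK)).trans
      (MonoidHom.ofInjective (pglMap_injective K.subtype)).symm).trans (pglCongr eK)⟩
  · refine Or.inl ⟨((e₀.trans (MulEquiv.subgroupCongr (hK.trans ?_))).trans
      (MonoidHom.ofInjective (f := (pglMap K.subtype).comp Matrix.ProjectiveSpecialLinearGroup.toPGL)
        ((pglMap_injective _).comp Matrix.ProjectiveSpecialLinearGroup.toPGL_injective)).symm).trans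
      (pslCongr eK)⟩
    ext z
    constructor
    · rintro ⟨g, rfl⟩; exact ⟨mk g, rfl⟩
    · rintro ⟨g, rfl⟩
      obtain ⟨g, rfl⟩ := mk_surjective g
      exact ⟨g, rfl⟩

/-- **Dickson's theorem.** -/
theorem dickson (p : ℕ) [Fact p.Prime] [CharP F p] (H : Subgroup PSL(2, F)) :
    (∃ k : ℕ, (k ∣ (Fintype.card F + 1) / Nat.gcd 2 (Fintype.card F - 1) ∨
        k ∣ (Fintype.card F - 1) / Nat.gcd 2 (Fintype.card F - 1)) ∧
        ((IsCyclic H ∧ Nat.card H = k) ∨ Nonempty (H ≃* DihedralGroup k))) ∨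
      (∃ P : Sylow p PSL(2, F), H ≤ Subgroup.normalizer ((P : Subgroup PSL(2, F)) : Set PSL(2, F))) ∨
      Nonempty (H ≃* alternatingGroup (Fin 4)) ∨ Nonempty (H ≃* Equiv.Perm (Fin 4)) ∨
      Nonempty (H ≃* alternatingGroup (Fin 5)) ∨
      ∃ (K : Type) (_ : Field K) (_ : Fintype K) (m : ℕ), Fintype.card K ^ m = Fintype.card F ∧
        (Nonempty (H ≃* Matrix.ProjectiveSpecialLinearGroup (Fin 2) K) ∨
          Nonempty (H ≃* Matrix.ProjGenLinGroup (Fin 2) K)) := by
  set P := pslPartition F p with hPdef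
  set Q := P.restrict H with hQdef
  have hsub : ∀ x : H, Nat.card (Q.comp x) ∣ Nat.card (P.comp (x : PSL(2, F))) := by
    intro x
    rw [hQdef, Part.Partition.restrict_comp,
      ← Subgroup.card_map_of_injective H.subtype_injective, Subgroup.subgroupOf_map_subtype]
    exact Subgroup.card_dvd_of_le inf_le_left
  rcases Q.classify with h | ⟨x, hx, hT, htop⟩ | ⟨x, hx, hT, hN, hcard⟩ | ⟨x, hx, hP, hN⟩ |
    h | h | h | h
  · left
    exact ⟨1, Or.inl (one_dvd _), Or.inl ⟨isCyclic_of_subsingleton,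
      Nat.card_eq_one_iff_unique.2 ⟨h, ⟨1⟩⟩⟩⟩
  · left
    have hT' := not_isPGroup_comp H hT
    obtain ⟨hc, hd⟩ := torus_comp_data p (coe_ne_one H hx) hT'
    have hc' : IsCyclic (Q.comp x) := (Q.cyclic x hx hT).1
    rw [htop] at hc'
    have hcardH : Nat.card H ∣ Nat.card (P.comp (x : PSL(2, F))) := by
      have := hsub x
      rwa [htop, Subgroup.card_top] at this
    exact ⟨Nat.card H, hd.imp hcardH.trans hcardH.trans,
      Or.inl ⟨isCyclic_of_surjective (⊤ : Subgroup H).subtype fun z => ⟨⟨z, trivial⟩, rfl⟩, rfl⟩⟩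
  · left
    have hT' := not_isPGroup_comp H hT
    obtain ⟨-, hd⟩ := torus_comp_data p (coe_ne_one H hx) hT'
    refine ⟨Nat.card (Q.comp x), hd.imp (hsub x).trans (hsub x).trans, Or.inr ?_⟩
    obtain ⟨k, -, hk, hk2, hinv⟩ := Q.exists_inverting_of_card hx hT (by
      rw [hN, Subgroup.card_top]; exact hcard)
    obtain ⟨⟨c, hc⟩, hgen⟩ := (Q.cyclic x hx hT).1.exists_generator
    have hord : orderOf c = Nat.card (Q.comp x) := by
      rw [← Subgroup.orderOf_mk _ hc, orderOf_eq_card_of_forall_mem_zpowers hgen]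
    refine PGroup.dihedralEquivOfRel hord ?_ (by rw [pow_two, hk2]) (hinv c hc) hcard
    exact fun h => hk (Subgroup.zpowers_le.2 hc h)
  · right; left
    refine ⟨P.toSylow (coe_ne_one H hx) (isPGroup_comp H hx hP), fun k hk => ?_⟩
    exact (mem_normalizer_comp H hx ⟨k, hk⟩).1 (hN ▸ Subgroup.mem_top _)
  · exact Or.inr (Or.inr (Or.inl h))
  · exact Or.inr (Or.inr (Or.inr (Or.inl h)))
  · exact Or.inr (Or.inr (Or.inr (Or.inr (Or.inl h))))
  · exact Or.inr (Or.inr (Or.inr (Or.inr (Or.inr (big_classify H h)))))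

end Main

end Cfsg.Agent.PSL2
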