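import Cfsg.Agent.Lib.PSL2.Basic
import Cfsg.Agent.Lib.PSL2.TraceClasses

/-!
Centralisers in `SL(2, F)`.

For a non-central `g`, `cent g` is abelian and equals `{x + y g | x² + t x y + y² = 1}`, `t = tr g`.
Over a finite field every non-central `g` is of exactly one of three kinds:
* split: conjugate to `dd a`, `a² ≠ 1`, and `cent g` is cyclic of order `q - 1`;
* parabolic: conjugate to `± uu s`, `s ≠ 0`, and `cent g` is conjugate to `{±1} × unip`;
* elliptic (`IsEll (tr g)`): `cent g` is cyclic of order `q + 1`.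
-/

set_option autoImplicit false

open Matrix
open scoped MatrixGroups

namespace Cfsg.Agent.PSL2

variable {F : Type*} [Field F]

section Trace

/-- The trace of an element of `SL(2, F)`. -/
def tr (g : SL(2, F)) : F := g 0 0 + g 1 1

theorem tr_def (g : SL(2, F)) : tr g = g 0 0 + g 1 1 := rfl

theorem tr_eq_trace (g : SL(2, F)) : tr g = Matrix.trace (g : Matrix (Fin 2) (Fin 2) F) := by
  rw [Matrix.trace_fin_two, tr_def]

theorem tr_inv (g : SL(2, F)) : tr g⁻¹ = tr g := by
  rw [tr_def, tr_def, inv00, inv11, add_comm]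

theorem tr_mul_comm (g h : SL(2, F)) : tr (g * h) = tr (h * g) := by
  simp only [tr_def, mul00, mul11]; ring

theorem tr_conj (k g : SL(2, F)) : tr (k * g * k⁻¹) = tr g := by
  rw [tr_mul_comm, ← mul_assoc, inv_mul_cancel, one_mul]

theorem tr_neg (g : SL(2, F)) : tr (-g) = -tr g := by
  simp [tr_def]; ring

@[simp] theorem tr_one : tr (1 : SL(2, F)) = 2 := by
  rw [tr_def]; simp; norm_num

@[simp] theorem tr_uu (s : F) : tr (uu s) = 2 := by
  rw [tr_def]; simp; norm_num

@[simp] theorem tr_dd (a : Fˣ) : tr (dd a) = (a : F) + (a : F)⁻¹ := by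
  simp [tr_def]

theorem sq_eq_neg_one_of_tr_eq_zero {g : SL(2, F)} (h : tr g = 0) : g * g = -1 := by
  have hd := det_eq g
  rw [tr_def] at h
  apply ext2 <;> simp only [mul00, mul01, mul10, mul11] <;> simp
  · linear_combination (g 0 0) * h - hd
  · linear_combination (g 0 1) * h
  · linear_combination (g 1 0) * h
  · linear_combination (g 1 1) * h - hd

theorem tr_eq_zero_of_sq_eq_neg_one {g : SL(2, F)} (h : g * g = -1) :
    tr g = 0 := by
  have e00 : (g * g) 0 0 = -1 := by rw [h]; simp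
  have e01 : (g * g) 0 1 = 0 := by rw [h]; simp
  have e10 : (g * g) 1 0 = 0 := by rw [h]; simp
  rw [mul00] at e00; rw [mul01] at e01; rw [mul10] at e10
  have hd := det_eq g
  by_contra ht
  rw [tr_def] at ht
  have hb : g 0 1 = 0 :=
    (mul_eq_zero.1 (show (g 0 0 + g 1 1) * g 0 1 = 0 by linear_combination e01)).resolve_left ht
  have : g 0 0 * (g 0 0 + g 1 1) = 0 := by
    linear_combination e00 + hd
  rcases mul_eq_zero.1 this with h0 | h0
  · rw [h0, hb] at hd; simp at hd
  · exact ht h0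

theorem sq_eq_neg_one_iff {g : SL(2, F)} : g * g = -1 ↔ tr g = 0 :=
  ⟨tr_eq_zero_of_sq_eq_neg_one, sq_eq_neg_one_of_tr_eq_zero⟩

/-- An element of trace `±2` other than `±1` is not semisimple; `t² ≠ 4` forces non-central. -/
theorem not_mem_center_of_tr {g : SL(2, F)} (h : tr g ^ 2 ≠ 4) :
    g ∉ Subgroup.center SL(2, F) := by
  intro hg
  rcases mem_center_iff_pm.1 hg with rfl | rfl
  · rw [tr_one] at h; norm_num at h
  · rw [tr_neg, tr_one] at h; norm_num at h

theorem isConj_of_tr [Fintype F] {g h : SL(2, F)} (ht : tr g = tr h) (h4 : tr g ^ 2 ≠ 4) :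
    IsConj g h := by
  refine TraceClasses.isConj_of_trace g h ?_ ?_ (by rwa [← tr_eq_trace, ← tr_eq_trace])
    (by rwa [← tr_eq_trace])
  · exact TraceClasses.not_isScalar'_of_trace g (by rwa [← tr_eq_trace])
  · exact TraceClasses.not_isScalar'_of_trace h (by rwa [← tr_eq_trace, ← ht])

end Trace

section Cent

/-- The centraliser of an element. -/
abbrev cent (g : SL(2, F)) : Subgroup SL(2, F) := Subgroup.centralizer {g}

theorem mem_cent {g h : SL(2, F)} : h ∈ cent g ↔ Commute h g :=
  Subgroup.mem_centralizer_singleton_iff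

/-- An element commuting with a non-central `g` is of the form `x + y g`. -/
theorem exists_coords {g h : SL(2, F)} (hg : g ∉ Subgroup.center SL(2, F)) (hc : Commute h g) :
    ∃ x y : F, h 0 0 = x + y * g 0 0 ∧ h 0 1 = y * g 0 1 ∧ h 1 0 = y * g 1 0 ∧
      h 1 1 = x + y * g 1 1 := by
  have e00 := congrArg (fun m : SL(2, F) => m 0 0) hc.eq
  have e01 := congrArg (fun m : SL(2, F) => m 0 1) hc.eq
  have e10 := congrArg (fun m : SL(2, F) => m 1 0) hc.eq
  simp only [mul00, mul01, mul10] at e00 e01 e10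
  by_cases hb : g 0 1 = 0
  · by_cases hcc : g 1 0 = 0
    · have had : g 0 0 - g 1 1 ≠ 0 := fun h0 =>
        hg (mem_center_iff_entries.2 ⟨hb, hcc, sub_eq_zero.1 h0⟩)
      rw [hb] at e01; rw [hcc] at e10
      have h01 : h 0 1 = 0 :=
        (mul_eq_zero.1 (show (g 0 0 - g 1 1) * h 0 1 = 0 by linear_combination -e01)).resolve_left had
      have h10 : h 1 0 = 0 :=
        (mul_eq_zero.1 (show (g 0 0 - g 1 1) * h 1 0 = 0 by linear_combination e10)).resolve_left had
      refine ⟨h 0 0 - (h 0 0 - h 1 1) / (g 0 0 - g 1 1) * g 0 0,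
        (h 0 0 - h 1 1) / (g 0 0 - g 1 1), by ring, by simp [hb, h01], by simp [hcc, h10], ?_⟩
      field_simp
      ring
    · refine ⟨h 0 0 - h 1 0 / g 1 0 * g 0 0, h 1 0 / g 1 0, by ring, ?_, by field_simp, ?_⟩
      · field_simp; linear_combination e00
      · field_simp; linear_combination e10
  · refine ⟨h 0 0 - h 0 1 / g 0 1 * g 0 0, h 0 1 / g 0 1, by ring, by field_simp, ?_, ?_⟩
    · field_simp; linear_combination -e00
    · field_simp; linear_combination -e01

theorem cent_comm {g h k : SL(2, F)} (hg : g ∉ Subgroup.center SL(2, F)) (hh : Commute h g)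
    (hk : Commute k g) : Commute h k := by
  obtain ⟨x, y, a1, a2, a3, a4⟩ := exists_coords hg hh
  obtain ⟨x', y', b1, b2, b3, b4⟩ := exists_coords hg hk
  show h * k = k * h
  apply ext2 <;> simp only [mul00, mul01, mul10, mul11, a1, a2, a3, a4, b1, b2, b3, b4] <;> ring

theorem cent_isMulCommutative {g : SL(2, F)} (hg : g ∉ Subgroup.center SL(2, F)) :
    IsMulCommutative (cent g) :=
  ⟨⟨fun a b => Subtype.ext (cent_comm hg (mem_cent.1 a.2) (mem_cent.1 b.2)).eq⟩⟩

/-- Non-central commuting elements have the same centraliser. -/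
theorem cent_eq_cent {g h : SL(2, F)} (hg : g ∉ Subgroup.center SL(2, F))
    (hh : h ∉ Subgroup.center SL(2, F)) (hc : Commute h g) : cent h = cent g := by
  ext k
  rw [mem_cent, mem_cent]
  exact ⟨fun hk => cent_comm hh hk hc.symm, fun hk => cent_comm hg hk hc⟩

theorem center_le_cent (g : SL(2, F)) : Subgroup.center SL(2, F) ≤ cent g :=
  Subgroup.center_le_centralizer _

theorem cent_conj (k g : SL(2, F)) :
    cent (k * g * k⁻¹) = (cent g).map (MulAut.conj k).toMonoidHom := by
  ext h
  rw [Subgroup.mem_map_equiv, mem_cent, mem_cent, MulAut.conj_symm_apply]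
  constructor
  · intro hc
    have := (hc.map (MulAut.conj k⁻¹).toMonoidHom)
    simpa [mul_assoc] using this
  · intro hc
    have := (hc.map (MulAut.conj k).toMonoidHom)
    simpa [mul_assoc] using this

theorem cent_neg (g : SL(2, F)) : cent (-g) = cent g := by
  ext h
  rw [mem_cent, mem_cent, neg_eq_neg_one_mul]
  constructor
  · intro hc
    simpa using (commute_neg_one h).symm.mul_right hc
  · exact fun hc => (commute_neg_one h).symm.mul_right hc

/-- `{±1} × unip`. -/
def pmUnip (F : Type*) [Field F] : Subgroup SL(2, F) := cent (uu 1)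

theorem mem_pmUnip {g : SL(2, F)} : g ∈ pmUnip F ↔ g ∈ unip F ∨ -g ∈ unip F := by
  rw [pmUnip, mem_cent, centralizer_uu one_ne_zero]

theorem unip_le_pmUnip : unip F ≤ pmUnip F := fun _ hg => mem_pmUnip.2 (Or.inl hg)

theorem cent_uu {s : F} (hs : s ≠ 0) : cent (uu s) = pmUnip F := by
  ext g
  rw [mem_cent, centralizer_uu hs, mem_pmUnip]

theorem cent_dd {a : Fˣ} (ha : (a : F) ^ 2 ≠ 1) : cent (dd a) = torus F := by
  ext g
  rw [mem_cent, centralizer_dd ha]

theorem uu_not_mem_center {s : F} (hs : s ≠ 0) : uu s ∉ Subgroup.center SL(2, F) := by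
  simp [mem_center_iff_entries, hs]

/-- The only elements of `cent g` with the trace of `g` are `g` and `g⁻¹` (`t² ≠ 4`). -/
theorem eq_or_eq_inv_of_tr_eq {g h : SL(2, F)} (h4 : tr g ^ 2 ≠ 4) (hc : Commute h g)
    (ht : tr h = tr g) : h = g ∨ h = g⁻¹ := by
  obtain ⟨x, y, a1, a2, a3, a4⟩ := exists_coords (not_mem_center_of_tr h4) hc
  have hd := det_eq g
  have hdh := det_eq h
  rw [a1, a2, a3, a4] at hdh
  rw [tr_def, tr_def, a1, a4] at ht
  rw [tr_def] at h4
  have hn : x ^ 2 + (g 0 0 + g 1 1) * x * y + y ^ 2 = 1 := by linear_combination hdh - y ^ 2 * hd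
  set t := g 0 0 + g 1 1 with htdef
  have hx : 2 * x = t * (1 - y) := by rw [htdef]; linear_combination ht
  have key : y = 1 ∧ x = 0 ∨ y = -1 ∧ x = t := by
    by_cases h2 : (2 : F) = 0
    · have ht0 : t ≠ 0 := by
        rintro h0
        apply h4
        rw [h0]; linear_combination (-2) * h2
      rw [h2, zero_mul] at hx
      have hy : y = 1 := (sub_eq_zero.1 ((mul_eq_zero.1 hx.symm).resolve_left ht0)).symm
      rw [hy] at hn
      rcases mul_eq_zero.1 (show x * (x + t) = 0 by linear_combination hn) with h0 | h0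
      · exact Or.inl ⟨hy, h0⟩
      · exact Or.inr ⟨by linear_combination hy + h2, by linear_combination h0 - t * h2⟩
    · have h0 : (t ^ 2 - 4) * ((1 - y) * (1 + y)) = 0 := by
        linear_combination 4 * hn - (2 * x + t * (1 + y)) * hx
      rcases mul_eq_zero.1 ((mul_eq_zero.1 h0).resolve_left (sub_ne_zero.2 h4)) with h1 | h1
      · refine Or.inl ⟨(sub_eq_zero.1 h1).symm, ?_⟩
        rw [h1, mul_zero] at hx
        exact (mul_eq_zero.1 hx).resolve_left h2
      · have hy : y = -1 := by linear_combination h1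
        refine Or.inr ⟨hy, mul_left_cancel₀ h2 (hx.trans ?_)⟩
        rw [hy]; ring
  rcases key with ⟨rfl, rfl⟩ | ⟨rfl, hxt⟩
  · left
    apply ext2 <;> simp [a1, a2, a3, a4]
  · right
    apply ext2 <;> simp only [inv00, inv01, inv10, inv11, a1, a2, a3, a4, hxt, htdef] <;> ring

/-- If `k` sends `g` to `g⁻¹`, it inverts every element of `cent g`. -/
theorem conj_eq_inv {g h k : SL(2, F)} (hg : g ∉ Subgroup.center SL(2, F)) (hc : Commute h g)
    (hk : k * g * k⁻¹ = g⁻¹) : k * h * k⁻¹ = h⁻¹ := by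
  obtain ⟨x, y, a1, a2, a3, a4⟩ := exists_coords hg hc
  rw [mul_inv_eq_iff_eq_mul] at hk ⊢
  have e00 := congrArg (fun m : SL(2, F) => m 0 0) hk
  have e01 := congrArg (fun m : SL(2, F) => m 0 1) hk
  have e10 := congrArg (fun m : SL(2, F) => m 1 0) hk
  have e11 := congrArg (fun m : SL(2, F) => m 1 1) hk
  simp only [mul00, mul01, mul10, mul11, inv00, inv01, inv10, inv11] at e00 e01 e10 e11
  apply ext2 <;> simp only [mul00, mul01, mul10, mul11, inv00, inv01, inv10, inv11, a1, a2, a3, a4]
  · linear_combination y * e00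
  · linear_combination y * e01
  · linear_combination y * e10
  · linear_combination y * e11

end Cent

section Pair

/-! The algebra `F[X]/(X² - tX + 1)` on pairs `(x, y) = x + y X`. -/

/-- Multiplication of `x + yX` modulo `X² - tX + 1`. -/
def pairMul (t : F) (p r : F × F) : F × F :=
  (p.1 * r.1 - p.2 * r.2, p.1 * r.2 + p.2 * r.1 + t * p.2 * r.2)

/-- The norm of `x + yX`. -/
def pairNrm (t : F) (p : F × F) : F := p.1 ^ 2 + t * p.1 * p.2 + p.2 ^ 2

theorem pairNrm_mul (t : F) (p r : F × F) :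
    pairNrm t (pairMul t p r) = pairNrm t p * pairNrm t r := by
  simp only [pairNrm, pairMul]; ring

theorem pairMul_conj (t : F) (p : F × F) {r : F × F} {c : F} (hr : pairNrm t r = c) (hc : c ≠ 0) :
    pairMul t (pairMul t p r) ((r.1 + t * r.2) / c, -r.2 / c) = p ∧
    pairMul t (pairMul t p ((r.1 + t * r.2) / c, -r.2 / c)) r = p ∧
    pairNrm t ((r.1 + t * r.2) / c, -r.2 / c) = c⁻¹ := by
  have hu : c⁻¹ * (r.1 ^ 2 + t * r.1 * r.2 + r.2 ^ 2) = 1 := by
    rw [← inv_mul_cancel₀ hc, ← hr]; rfl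
  refine ⟨Prod.ext ?_ ?_, Prod.ext ?_ ?_, ?_⟩ <;> simp only [pairMul, pairNrm]
  · linear_combination p.1 * hu
  · linear_combination p.2 * hu
  · linear_combination p.1 * hu
  · linear_combination p.2 * hu
  · linear_combination c⁻¹ * hu

/-- `X² - tX + 1` has no root. -/
def IsEll (t : F) : Prop := ∀ r : F, r ^ 2 - t * r + 1 ≠ 0

theorem IsEll.sq_ne_four {t : F} (ht : IsEll t) : t ^ 2 ≠ 4 := by
  intro h
  by_cases h2 : (2 : F) = 0
  · have ht0 : t = 0 := sq_eq_zero_iff.1 (by linear_combination h + 2 * h2)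
    exact ht 1 (by rw [ht0]; linear_combination h2)
  · refine ht (t / 2) ?_
    field_simp
    linear_combination -h

theorem IsEll.pairNrm_ne_zero {t : F} (ht : IsEll t) {p : F × F} (hp : p ≠ 0) :
    pairNrm t p ≠ 0 := by
  obtain ⟨x, y⟩ := p
  intro h
  simp only [pairNrm] at h
  rcases eq_or_ne y 0 with rfl | hy
  · simp at h; exact hp (by simp [h])
  · refine ht (-x / y) ?_
    field_simp
    linear_combination h

variable [Fintype F]

theorem exists_pairNrm_eq {t : F} (h4 : t ^ 2 ≠ 4) (c : F) : ∃ p, pairNrm t p = c := by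
  obtain ⟨w, y, h⟩ := TraceClasses.exists_binary t c h4
  exact ⟨(w, y), h⟩

/-- All fibres of the norm over `Fˣ` are in bijection. -/
theorem card_fibre_eq {t : F} (h4 : t ^ 2 ≠ 4) {c : F} (hc : c ≠ 0) :
    Nat.card {p // pairNrm t p = c} = Nat.card {p // pairNrm t p = 1} := by
  obtain ⟨r, hr⟩ := exists_pairNrm_eq h4 c
  refine Nat.card_congr
    { toFun := fun p => ⟨pairMul t p.1 ((r.1 + t * r.2) / c, -r.2 / c), by
        rw [pairNrm_mul, (pairMul_conj t (1, 0) hr hc).2.2, p.2, mul_inv_cancel₀ hc]⟩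
      invFun := fun p => ⟨pairMul t p.1 r, by rw [pairNrm_mul, p.2, hr, one_mul]⟩
      left_inv := fun p => Subtype.ext (pairMul_conj t p.1 hr hc).2.1
      right_inv := fun p => Subtype.ext (pairMul_conj t p.1 hr hc).1 }

theorem IsEll.card_fibre {t : F} (ht : IsEll t) :
    Nat.card {p // pairNrm t p = 1} = Fintype.card F + 1 := by
  classical
  have e : {p : F × F // p ≠ 0} ≃ Σ c : Fˣ, {p // pairNrm t p = (c : F)} :=
    { toFun := fun p => ⟨Units.mk0 _ (ht.pairNrm_ne_zero p.2), ⟨p.1, rfl⟩⟩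
      invFun := fun x => ⟨x.2.1, fun h => Units.ne_zero x.1 (by rw [← x.2.2, h]; simp [pairNrm])⟩
      left_inv := fun p => rfl
      right_inv := by
        rintro ⟨c, p, hp⟩
        exact Sigma.subtype_ext (Units.ext hp) rfl }
  have h := Nat.card_congr e
  rw [Nat.card_sigma, Finset.sum_congr rfl (fun c _ => card_fibre_eq ht.sq_ne_four (Units.ne_zero c)),
    Finset.sum_const, Finset.card_univ, ← Nat.card_eq_fintype_card, GL.card_units_field,
    Nat.card_eq_fintype_card, Fintype.card_subtype_compl, Fintype.card_subtype_eq,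
    Fintype.card_prod, smul_eq_mul] at h
  have hq := one_lt_q (F := F)
  refine Nat.eq_of_mul_eq_mul_left (show 0 < Fintype.card F - 1 by omega) (h.symm.trans ?_)
  have := Nat.sq_sub_sq (Fintype.card F) 1
  rw [one_pow, sq] at this
  rw [this]; ring

/-- Some trace is elliptic, over every finite field. -/
theorem exists_isEll (F : Type*) [Field F] [Fintype F] : ∃ t : F, IsEll t := by
  classical
  by_contra h
  simp only [IsEll, not_exists, not_forall, not_not] at h
  have hs : Function.Surjective (fun a : Fˣ => (a : F) + (a : F)⁻¹) := by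
    intro t
    obtain ⟨r, hr⟩ := h t
    have hr0 : r ≠ 0 := by rintro rfl; simp at hr
    refine ⟨Units.mk0 r hr0, ?_⟩
    simp only [Units.val_mk0]
    field_simp
    linear_combination hr
  have := Fintype.card_le_of_surjective _ hs
  rw [Fintype.card_units] at this
  have := one_lt_q (F := F)
  omega

end Pair

section Elliptic

/-- `x + y g`, of norm one. -/
def pairElt (g : SL(2, F)) (p : {p // pairNrm (tr g) p = 1}) : SL(2, F) :=
  ⟨!![p.1.1 + p.1.2 * g 0 0, p.1.2 * g 0 1; p.1.2 * g 1 0, p.1.1 + p.1.2 * g 1 1], by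
      have hp := p.2
      simp only [pairNrm, tr_def] at hp
      rw [Matrix.det_fin_two_of]
      linear_combination hp + p.1.2 ^ 2 * det_eq g⟩

@[simp] theorem pairElt00 (g : SL(2, F)) (p) : pairElt g p 0 0 = p.1.1 + p.1.2 * g 0 0 := rfl
@[simp] theorem pairElt01 (g : SL(2, F)) (p) : pairElt g p 0 1 = p.1.2 * g 0 1 := rfl
@[simp] theorem pairElt10 (g : SL(2, F)) (p) : pairElt g p 1 0 = p.1.2 * g 1 0 := rfl
@[simp] theorem pairElt11 (g : SL(2, F)) (p) : pairElt g p 1 1 = p.1.1 + p.1.2 * g 1 1 := rfl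

theorem pairElt_mem (g : SL(2, F)) (p) : pairElt g p ∈ cent g := mem_cent.2 (by
  show pairElt g p * g = g * pairElt g p
  apply ext2 <;> simp only [mul00, mul01, mul10, mul11] <;> simp <;> ring)

/-- For `t = tr g`, `cent g` is in bijection with the norm-one pairs. -/
theorem card_cent_eq_fibre {g : SL(2, F)} (hg : g ∉ Subgroup.center SL(2, F)) :
    Nat.card (cent g) = Nat.card {p // pairNrm (tr g) p = 1} := by
  refine (Nat.card_eq_of_bijective
    (fun p : {p // pairNrm (tr g) p = 1} => (⟨pairElt g p, pairElt_mem g p⟩ : cent g))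
    ⟨?_, ?_⟩).symm
  · rintro ⟨⟨x, y⟩, hp⟩ ⟨⟨x', y'⟩, hp'⟩ h
    have h00 := congrArg (fun m : cent g => (m : SL(2, F)) 0 0) h
    have h01 := congrArg (fun m : cent g => (m : SL(2, F)) 0 1) h
    have h10 := congrArg (fun m : cent g => (m : SL(2, F)) 1 0) h
    have h11 := congrArg (fun m : cent g => (m : SL(2, F)) 1 1) h
    simp at h00 h01 h10 h11
    have hy : y = y' := by
      by_contra hne
      rcases h01 with h | h1
      · exact hne h
      rcases h10 with h | h2
      · exact hne h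
      refine hg (mem_center_iff_entries.2 ⟨h1, h2, ?_⟩)
      have : (y - y') * (g 0 0 - g 1 1) = 0 := by linear_combination h00 - h11
      exact sub_eq_zero.1 ((mul_eq_zero.1 this).resolve_left (sub_ne_zero.2 hne))
    subst hy
    simp at h00
    simp [h00]
  · rintro ⟨h, hh⟩
    obtain ⟨x, y, a1, a2, a3, a4⟩ := exists_coords hg (mem_cent.1 hh)
    refine ⟨⟨(x, y), ?_⟩, Subtype.ext ?_⟩
    · have hd := det_eq h
      rw [a1, a2, a3, a4] at hd
      simp only [pairNrm, tr_def]
      linear_combination hd - y ^ 2 * det_eq g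
    · apply ext2 <;> simp [a1, a2, a3, a4]

theorem IsEll.not_mem_center {g : SL(2, F)} (ht : IsEll (tr g)) :
    g ∉ Subgroup.center SL(2, F) :=
  not_mem_center_of_tr ht.sq_ne_four

theorem IsEll.entry01_ne_zero {g : SL(2, F)} (ht : IsEll (tr g)) : g 0 1 ≠ 0 := by
  intro hb
  refine ht (g 0 0) ?_
  have hd := det_eq g
  rw [hb, zero_mul, sub_zero] at hd
  rw [tr_def]
  linear_combination -hd

theorem IsEll.card_cent [Fintype F] {g : SL(2, F)} (ht : IsEll (tr g)) :
    Nat.card (cent g) = Fintype.card F + 1 := by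
  rw [card_cent_eq_fibre ht.not_mem_center, ht.card_fibre]

/-- For elliptic `g`, the eigenvalue on a common eigenvector is an injective character of `cent g`,
compatible with the trace. -/
theorem IsEll.exists_char {g : SL(2, F)} (ht : IsEll (tr g)) :
    ∃ χ : cent g →* AlgebraicClosure F, Function.Injective χ ∧
      ∀ h : cent g, algebraMap F (AlgebraicClosure F) (tr (h : SL(2, F))) = χ h + χ h⁻¹ := by
  obtain ⟨r, hr⟩ : ∃ r : AlgebraicClosure F,
      r ^ 2 - algebraMap F (AlgebraicClosure F) (tr g) * r + 1 = 0 := by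
    obtain ⟨r, hr⟩ := IsAlgClosed.exists_root
      (Polynomial.X ^ 2 - Polynomial.C (algebraMap F (AlgebraicClosure F) (tr g)) * Polynomial.X
        + Polynomial.C 1) (by
        have : (Polynomial.X ^ 2 - Polynomial.C (algebraMap F (AlgebraicClosure F) (tr g)) *
          Polynomial.X + Polynomial.C 1).degree = 2 := by compute_degree!
        rw [this]; norm_num)
    exact ⟨r, by simpa using hr⟩
  set φ := algebraMap F (AlgebraicClosure F) with hφ
  have hb := ht.entry01_ne_zero
  have hb' : φ (g 0 1) ≠ 0 := (map_ne_zero φ).2 hb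
  set s := (r - φ (g 0 0)) / φ (g 0 1) with hs
  have hs' : φ (g 0 1) * s = r - φ (g 0 0) := by rw [hs]; field_simp
  have hd := congrArg φ (det_eq g)
  simp only [map_sub, map_mul, map_one] at hd
  rw [tr_def, map_add] at hr
  have hrF : ∀ c : F, φ c ≠ r := fun c hc => ht c (φ.injective (by
    rw [← hc] at hr
    simp only [tr_def, map_add, map_sub, map_pow, map_mul, map_one, map_zero]
    exact hr))
  have hev : φ (g 1 0) + φ (g 1 1) * s = r * s := by
    refine mul_left_cancel₀ hb' ?_
    linear_combination (φ (g 1 1) - r) * hs' - hr - hd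
  let v : cent g → AlgebraicClosure F := fun h => φ ((h : SL(2, F)) 0 0) + φ ((h : SL(2, F)) 0 1) * s
  have hv : ∀ h : cent g, φ ((h : SL(2, F)) 1 0) + φ ((h : SL(2, F)) 1 1) * s = v h * s := by
    intro h
    obtain ⟨x, y, a1, a2, a3, a4⟩ := exists_coords ht.not_mem_center (mem_cent.1 h.2)
    simp only [v, a1, a2, a3, a4, map_add, map_mul]
    linear_combination φ y * hev - φ y * s * hs'
  refine ⟨{ toFun := v, map_one' := by simp [v], map_mul' := fun h k => ?_ }, ?_, fun h => ?_⟩
  · have := hv k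
    simp only [v, Subgroup.coe_mul, mul00, mul01, map_add, map_mul] at *
    linear_combination φ ((h : SL(2, F)) 0 1) * this
  · intro h k hhk
    obtain ⟨x, y, a1, a2, a3, a4⟩ := exists_coords ht.not_mem_center (mem_cent.1 h.2)
    obtain ⟨x', y', b1, b2, b3, b4⟩ := exists_coords ht.not_mem_center (mem_cent.1 k.2)
    change v h = v k at hhk
    have he : φ x + φ y * r = φ x' + φ y' * r := by
      simp only [v, a1, a2, b1, b2, map_add, map_mul] at hhk
      linear_combination hhk + (φ y' - φ y) * hs'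
    have hy : y = y' := by
      by_contra hne
      refine hrF ((x' - x) / (y - y')) ?_
      have h0 : φ y - φ y' ≠ 0 := sub_ne_zero.2 fun h0 => hne (φ.injective h0)
      rw [map_div₀, map_sub, map_sub, div_eq_iff h0]
      linear_combination -he
    have hx : x = x' := φ.injective (by rw [hy] at he; linear_combination he)
    exact Subtype.ext (ext2 (by rw [a1, b1, hx, hy]) (by rw [a2, b2, hy]) (by rw [a3, b3, hy])
      (by rw [a4, b4, hx, hy]))
  · show φ (tr ((h : cent g) : SL(2, F))) = v h + v h⁻¹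
    simp only [v, Subgroup.coe_inv, inv00, inv01, tr_def, map_add, map_neg]
    ring

theorem IsEll.isCyclic_cent [Finite F] {g : SL(2, F)} (ht : IsEll (tr g)) : IsCyclic (cent g) := by
  obtain ⟨χ, hχ, -⟩ := ht.exists_char
  exact isCyclic_of_injective_ringHom χ hχ

/-- Elements of `cent g` for elliptic `g` are central or elliptic. -/
theorem IsEll.of_commute {g h : SL(2, F)} (ht : IsEll (tr g))
    (hh : h ∉ Subgroup.center SL(2, F)) (hc : Commute h g) : IsEll (tr h) := by
  obtain ⟨x, y, a1, a2, a3, a4⟩ := exists_coords ht.not_mem_center hc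
  have hy : y ≠ 0 := by
    rintro rfl
    exact hh (mem_center_iff_entries.2 ⟨by simpa using a2, by simpa using a3, by rw [a1, a4]; simp⟩)
  intro r hr
  have hd := det_eq h
  rw [a1, a2, a3, a4] at hd
  rw [tr_def, a1, a4] at hr
  refine ht ((r - x) / y) ?_
  rw [tr_def]
  field_simp
  linear_combination hr + hd - y ^ 2 * det_eq g

/-- The centralisers of any two elliptic elements are conjugate. -/
theorem IsEll.exists_conj [Fintype F] {g g' : SL(2, F)} (ht : IsEll (tr g)) (ht' : IsEll (tr g')) :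
    ∃ k, cent g' = (cent g).map (MulAut.conj k).toMonoidHom := by
  obtain ⟨χ, hχ, hχt⟩ := ht.exists_char
  obtain ⟨χ', hχ', hχt'⟩ := ht'.exists_char
  obtain ⟨z, hz⟩ := ht.isCyclic_cent.exists_generator
  obtain ⟨z', hz'⟩ := ht'.isCyclic_cent.exists_generator
  have hoz : orderOf (χ z) = Fintype.card F + 1 := by
    rw [orderOf_injective χ hχ, orderOf_eq_card_of_forall_mem_zpowers hz, ht.card_cent]
  have hoz' : IsPrimitiveRoot (χ' z') (Fintype.card F + 1) := by
    rw [← ht'.card_cent, ← orderOf_eq_card_of_forall_mem_zpowers hz', ← orderOf_injective χ' hχ']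
    exact IsPrimitiveRoot.orderOf _
  obtain ⟨i, -, hi⟩ := hoz'.eq_pow_of_pow_eq_one (ξ := χ z) (by rw [← hoz, pow_orderOf_eq_one])
  rw [← map_pow] at hi
  have htr : tr (z : SL(2, F)) = tr ((z' ^ i : cent g') : SL(2, F)) := by
    apply (algebraMap F (AlgebraicClosure F)).injective
    rw [hχt, hχt', hi]
    congr 1
    exact (eq_inv_of_mul_eq_one_right (a := χ z) (by rw [← map_mul, mul_inv_cancel, map_one])).trans
      (eq_inv_of_mul_eq_one_right (a := χ' (z' ^ i))
        (by rw [← map_mul, mul_inv_cancel, map_one]) |>.trans (by rw [hi])).symm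
  have hznc : (z : SL(2, F)) ∉ Subgroup.center SL(2, F) := by
    intro hc
    have : Fintype.card F + 1 ≤ 2 := by
      rw [← hoz, orderOf_injective χ hχ, ← Subgroup.orderOf_coe]
      rcases mem_center_iff_pm.1 hc with h | h <;> rw [h]
      · simp
      · exact Nat.le_of_dvd two_pos (orderOf_dvd_of_pow_eq_one (by simp))
    have := one_lt_q (F := F)
    omega
  have hell : IsEll (tr (z : SL(2, F))) := ht.of_commute hznc (mem_cent.1 z.2)
  obtain ⟨k, hk⟩ := isConj_iff.1 (isConj_of_tr htr hell.sq_ne_four)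
  refine ⟨k, ?_⟩
  rw [← cent_eq_cent ht.not_mem_center hznc (mem_cent.1 z.2), ← cent_conj, hk]
  exact (cent_eq_cent ht'.not_mem_center (not_mem_center_of_tr (htr ▸ hell.sq_ne_four))
    (mem_cent.1 (z' ^ i).2)).symm

/-- A standard elliptic element of trace `t`. -/
def ell (t : F) : SL(2, F) := ⟨!![0, -1; 1, t], by simp⟩

@[simp] theorem ell00 (t : F) : ell t 0 0 = 0 := rfl
@[simp] theorem ell01 (t : F) : ell t 0 1 = -1 := rfl
@[simp] theorem ell10 (t : F) : ell t 1 0 = 1 := rfl
@[simp] theorem ell11 (t : F) : ell t 1 1 = t := rfl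

@[simp] theorem tr_ell (t : F) : tr (ell t) = t := by simp [tr_def]

theorem exists_elliptic (F : Type*) [Field F] [Fintype F] : ∃ g : SL(2, F), IsEll (tr g) := by
  obtain ⟨t, ht⟩ := exists_isEll F
  exact ⟨ell t, by rwa [tr_ell]⟩

end Elliptic

section Trichotomy

/-- A root `r` of the characteristic polynomial gives a conjugate in the Borel subgroup. -/
theorem exists_conj_borel {g : SL(2, F)} (h : ¬ IsEll (tr g)) :
    ∃ k b : SL(2, F), b ∈ borel F ∧ g = k * b * k⁻¹ := by
  simp only [IsEll, not_forall, not_not] at h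
  obtain ⟨r, hr⟩ := h
  rw [tr_def] at hr
  by_cases hb : g 0 1 = 0
  · refine ⟨ww⁻¹, ww * g * ww⁻¹, ?_, by group⟩
    rw [mem_borel, mul10, mul10, mul11, inv00, inv10]
    simp [hb]
  · refine ⟨ll ((r - g 0 0) / g 0 1), _ * g * ll ((r - g 0 0) / g 0 1), ?_, by
      rw [show ∀ a b : SL(2, F), a * (a⁻¹ * b * a) * a⁻¹ = b from fun a b => by group]⟩
    rw [mem_borel, ll_inv, mul10, mul10, mul11]
    simp
    field_simp
    linear_combination -hr - det_eq g

/-- Every non-central element is split, parabolic or elliptic. -/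
theorem trichotomy {g : SL(2, F)} (hg : g ∉ Subgroup.center SL(2, F)) :
    (∃ (k : SL(2, F)) (a : Fˣ), (a : F) ^ 2 ≠ 1 ∧ g = k * dd a * k⁻¹) ∨
    (∃ k s, s ≠ 0 ∧ (g = k * uu s * k⁻¹ ∨ g = -(k * uu s * k⁻¹))) ∨ IsEll (tr g) := by
  by_cases ht : IsEll (tr g)
  · exact Or.inr (Or.inr ht)
  obtain ⟨k, b, hb, rfl⟩ := exists_conj_borel ht
  obtain ⟨a, s, rfl, -⟩ := exists_eq_dd_mul_uu hb
  by_cases ha : (a : F) ^ 2 = 1
  · right; left
    have hs : s ≠ 0 := by
      rintro rfl
      apply hg
      rw [uu_zero, mul_one]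
      exact (inferInstance : (Subgroup.center SL(2, F)).Normal).conj_mem _
        (dd_mem_center_iff.2 ha) k
    rcases mem_center_iff_pm.1 (dd_mem_center_iff.2 ha) with h | h
    · exact ⟨k, s, hs, Or.inl (by rw [h, one_mul])⟩
    · refine ⟨k, s, hs, Or.inr ?_⟩
      rw [h, neg_eq_neg_one_mul (k * uu s * k⁻¹), ← mul_assoc k, ← (commute_neg_one k).eq]
      simp [mul_assoc]
  · left
    have hne : 1 - ((a : F) ^ 2)⁻¹ ≠ 0 :=
      sub_ne_zero.2 fun h => ha (by rw [← inv_inv ((a : F) ^ 2), ← h, inv_one])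
    -- `uu u * dd a * (uu u)⁻¹ = dd a * uu s`
    refine ⟨k * uu (-s / (1 - ((a : F) ^ 2)⁻¹)), a, ha, ?_⟩
    have h1 : uu (-s / (1 - ((a : F) ^ 2)⁻¹)) * dd a * (uu (-s / (1 - ((a : F) ^ 2)⁻¹)))⁻¹ =
        dd a * uu s := by
      rw [mul_inv_eq_iff_eq_mul]
      apply ext2 <;> simp only [mul00, mul01, mul10, mul11] <;> simp
      field_simp
      ring
    rw [← h1]
    group

theorem card_pmUnip [Fintype F] :
    Nat.card (pmUnip F) = Nat.gcd 2 (Fintype.card F - 1) * Fintype.card F := by
  rw [← card_center, ← card_unip' (F := F), ← Nat.card_prod]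
  refine (Nat.card_eq_of_bijective (fun x : Subgroup.center SL(2, F) × unip F =>
    (⟨(x.1 : SL(2, F)) * x.2, (pmUnip F).mul_mem (center_le_cent _ x.1.2)
      (unip_le_pmUnip x.2.2)⟩ : pmUnip F)) ⟨?_, ?_⟩).symm
  · rintro ⟨⟨z, hz⟩, ⟨u, hu⟩⟩ ⟨⟨z', hz'⟩, ⟨u', hu'⟩⟩ h
    have h' : z * u = z' * u' := congrArg Subtype.val h
    have hzu : z'⁻¹ * z ∈ unip F := by
      rw [show z'⁻¹ * z = u' * u⁻¹ by rw [eq_mul_inv_iff_mul_eq, mul_assoc, h', inv_mul_cancel_left]]
      exact (unip F).mul_mem hu' ((unip F).inv_mem hu)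
    have hzc := (Subgroup.center SL(2, F)).mul_mem ((Subgroup.center _).inv_mem hz') hz
    obtain ⟨w, hw⟩ := mem_unip.1 hzu
    rw [← hw] at hzc
    have : w = 0 := by simpa [mem_center_iff_entries] using hzc
    rw [this, uu_zero, eq_comm, inv_mul_eq_one] at hw
    subst hw
    simp at h'
    subst h'
    rfl
  · rintro ⟨g, hg⟩
    rcases mem_pmUnip.1 hg with h | h
    · exact ⟨⟨1, ⟨g, h⟩⟩, Subtype.ext (one_mul g)⟩
    · exact ⟨⟨⟨-1, neg_one_mem_center⟩, ⟨-g, h⟩⟩, Subtype.ext (by simp)⟩

theorem card_cent_conj (k g : SL(2, F)) : Nat.card (cent (k * g * k⁻¹)) = Nat.card (cent g) := by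
  rw [cent_conj]
  exact (Nat.card_congr (Subgroup.equivMapOfInjective _ _ (MulAut.conj k).injective).toEquiv).symm

/-- Centraliser orders of non-central elements: `q - 1`, `(2, q-1) q` or `q + 1`. -/
theorem card_cent [Fintype F] {g : SL(2, F)} (hg : g ∉ Subgroup.center SL(2, F)) :
    Nat.card (cent g) = Fintype.card F - 1 ∨
    Nat.card (cent g) = Nat.gcd 2 (Fintype.card F - 1) * Fintype.card F ∨
    Nat.card (cent g) = Fintype.card F + 1 := by
  rcases trichotomy hg with ⟨k, a, ha, rfl⟩ | ⟨k, s, hs, rfl | rfl⟩ | ht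
  · left; rw [card_cent_conj, cent_dd ha, card_torus']
  · right; left; rw [card_cent_conj, cent_uu hs, card_pmUnip]
  · right; left; rw [cent_neg, card_cent_conj, cent_uu hs, card_pmUnip]
  · right; right; exact ht.card_cent

/-- Element orders divide `q - 1`, `q + 1` or `2p`. -/
theorem orderOf_dvd [Fintype F] (p : ℕ) [Fact p.Prime] [CharP F p] (g : SL(2, F)) :
    orderOf g ∣ Fintype.card F - 1 ∨ orderOf g ∣ Fintype.card F + 1 ∨ orderOf g ∣ 2 * p := by
  by_cases hg : g ∈ Subgroup.center SL(2, F)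
  · right; right
    refine orderOf_dvd_of_pow_eq_one ?_
    rw [pow_mul]
    rcases mem_center_iff_pm.1 hg with rfl | rfl <;> simp
  have key : ∀ h, Nat.card (cent g) = h → orderOf g ∣ h := fun h hh => by
    rw [← hh, ← Subgroup.orderOf_mk g (mem_cent.2 (Commute.refl g))]
    exact orderOf_dvd_natCard _
  rcases trichotomy hg with ⟨k, a, ha, rfl⟩ | ⟨k, s, hs, h⟩ | ht
  · exact Or.inl (key _ (by rw [card_cent_conj, cent_dd ha, card_torus']))
  · right; right
    refine orderOf_dvd_of_pow_eq_one ?_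
    have hu : (k * uu s * k⁻¹) ^ (2 * p) = 1 := by
      rw [conj_pow, mul_comm, pow_mul, uu_pow, CharP.cast_eq_zero F p]
      simp
    rcases h with rfl | rfl
    · exact hu
    · rw [(even_two_mul p).neg_pow, hu]
  · exact Or.inr (Or.inl (key _ ht.card_cent))

/-- An element of order prime to `p` has order dividing `q - 1` or `q + 1`. -/
theorem orderOf_dvd_of_coprime [Fintype F] (p : ℕ) [Fact p.Prime] [CharP F p] (g : SL(2, F))
    (hg : Nat.Coprime (orderOf g) p) :
    orderOf g ∣ Fintype.card F - 1 ∨ orderOf g ∣ Fintype.card F + 1 := by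
  rcases orderOf_dvd p g with h | h | h
  · exact Or.inl h
  · exact Or.inr h
  · have h2 := hg.dvd_of_dvd_mul_right h
    rcases eq_or_ne p 2 with rfl | hp
    · have : orderOf g = 1 := by
        rcases (Nat.dvd_prime Nat.prime_two).1 h2 with h | h
        · exact h
        · rw [h] at hg; norm_num at hg
      exact Or.inl (by rw [this]; exact one_dvd _)
    · left
      obtain ⟨k, hk⟩ : Odd (Fintype.card F) := by
        rw [odd_card_iff]
        exact Ring.two_ne_zero (by rwa [ringChar.eq F p])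
      exact h2.trans ⟨k, by omega⟩

end Trichotomy

end Cfsg.Agent.PSL2
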