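import Mathlib
import Cfsg.Agent.Lib.PSL2.LocalTools

/-!
# The simple group of order 4080
-/

set_option autoImplicit false
set_option linter.style.haveILetI false

namespace Cfsg.Agent.PSL2.Recog.Order4080

open MulAction
open scoped MatrixGroups

variable {G : Type*} [Group G] [Finite G] [IsSimpleGroup G] (hG : Nat.card G = 4080)
include hG

theorem not_comm : ¬ IsMulCommutative G := not_comm_of_card (by rw [hG]; norm_num)

/-- The order of a Sylow subgroup of prime order. -/
theorem card_sylow {p : ℕ} [Fact p.Prime] (hp : p = 17 ∨ p = 5 ∨ p = 3) (P : Sylow p G) :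
    Nat.card P = p := by
  rcases hp with rfl | rfl | rfl
  · simpa using SmallSimple.card_sylow_eq_pow P 1 240 (by rw [hG]; norm_num) (by norm_num)
  · simpa using SmallSimple.card_sylow_eq_pow P 1 816 (by rw [hG]; norm_num) (by norm_num)
  · simpa using SmallSimple.card_sylow_eq_pow P 1 1360 (by rw [hG]; norm_num) (by norm_num)

theorem count_facts {p : ℕ} [Fact p.Prime] (hp : p = 17 ∨ p = 5 ∨ p = 3) :
    Nat.card (Sylow p G) * p ∣ 4080 ∧ Nat.card (Sylow p G) % p = 1 ∧
      4080 ∣ (Nat.card (Sylow p G)).factorial := by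
  have h : p * (4080 / p) = 4080 ∧ ¬ p ∣ 4080 / p := by
    rcases hp with rfl | rfl | rfl <;> norm_num
  obtain ⟨hd, hm⟩ := card_sylow_mem (p := p) (G := G) 1 (m := 4080 / p)
    (by rw [pow_one, h.1, hG]) h.2
  refine ⟨?_, hm, hG ▸ card_dvd_factorial_card_sylow ?_⟩
  · rw [← h.1, mul_comm p]; exact Nat.mul_dvd_mul_right hd p
  · intro h1
    obtain ⟨P⟩ := (inferInstance : Nonempty (Sylow p G))
    haveI : Subsingleton (Sylow p G) := (Nat.card_eq_one_iff_unique.1 h1).1
    have hP : Nat.card (P : Subgroup G) = p := card_sylow hG hp P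
    rcases (P.normal_of_subsingleton).eq_bot_or_eq_top with hb | ht
    · rw [hb, Subgroup.card_bot] at hP
      rcases hp with rfl | rfl | rfl <;> omega
    · rw [ht, Subgroup.card_top, hG] at hP
      rcases hp with rfl | rfl | rfl <;> omega

/-- The orders of the normaliser and the centraliser of a Sylow subgroup of prime order. -/
theorem local_facts {p n : ℕ} [Fact p.Prime] (hp : p = 17 ∨ p = 5 ∨ p = 3) (P : Sylow p G)
    (hn : Nat.card (Sylow p G) = n) :
    p ∣ Nat.card (Subgroup.centralizer ((P : Subgroup G) : Set G)) ∧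
    Nat.card (Subgroup.centralizer ((P : Subgroup G) : Set G)) ∣ 4080 / n ∧
    Nat.card (Subgroup.centralizer ((P : Subgroup G) : Set G)) < 4080 / n ∧
    4080 / n ∣ (p - 1) * Nat.card (Subgroup.centralizer ((P : Subgroup G) : Set G)) := by
  have hd : n ∣ 4080 := by
    have := (count_facts hG hp).1
    rw [hn] at this
    exact (dvd_mul_right n p).trans this
  have hN := card_normalizer_of_count (c := 4080 / n) P hn (by rw [hG, Nat.mul_div_cancel' hd])
  rw [← hN]
  exact card_centralizer P (card_sylow hG hp P) (not_comm hG)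

theorem seventeen [Fact (Nat.Prime 17)] : Nat.card (Sylow 17 G) = 120 ∧ ∀ P : Sylow 17 G,
    Subgroup.centralizer ((P : Subgroup G) : Set G) = P := by
  obtain ⟨hd, hm, hf⟩ := count_facts hG (p := 17) (Or.inl rfl)
  have h120 : Nat.card (Sylow 17 G) = 120 := by
    generalize Nat.card (Sylow 17 G) = n at hd hm hf ⊢
    have hd' : n ∈ Nat.divisors 240 :=
      Nat.mem_divisors.2 ⟨Nat.dvd_of_mul_dvd_mul_right (by norm_num : 0 < 17)
        (show n * 17 ∣ 240 * 17 from hd), by norm_num⟩
    have h1 : n ≠ 1 := by rintro rfl; norm_num at hf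
    clear hd hf; revert hm h1; revert n; decide
  refine ⟨h120, fun P => centralizer_eq_self P (card_sylow hG (Or.inl rfl) P) (not_comm hG) ?_⟩
  exact card_normalizer_of_count (c := 2 * 17) P h120 (by rw [hG])

theorem sylow_three_count [Fact (Nat.Prime 3)] [Fact (Nat.Prime 17)] :
    Nat.card (Sylow 3 G) = 34 ∨ Nat.card (Sylow 3 G) = 85 ∨ Nat.card (Sylow 3 G) = 136 ∨
      Nat.card (Sylow 3 G) = 340 := by
  obtain ⟨hd, hm, hf⟩ := count_facts hG (p := 3) (Or.inr (Or.inr rfl))
  have hd' : Nat.card (Sylow 3 G) ∈ Nat.divisors 1360 :=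
    Nat.mem_divisors.2 ⟨Nat.dvd_of_mul_dvd_mul_right (by norm_num : 0 < 3)
      (show Nat.card (Sylow 3 G) * 3 ∣ 1360 * 3 from hd), by norm_num⟩
  have h10 : 17 ≤ Nat.card (Sylow 3 G) := by
    by_contra hlt
    have h17 : 17 ∣ (Nat.card (Sylow 3 G)).factorial := dvd_trans (by norm_num) hf
    exact hlt ((Nat.Prime.dvd_factorial (by norm_num)).1 h17)
  obtain ⟨T⟩ := (inferInstance : Nonempty (Sylow 3 G))
  have h40 : Nat.card (Sylow 3 G) ≠ 40 ∧ Nat.card (Sylow 3 G) ≠ 1360 := by
    constructor <;> intro hn <;> obtain ⟨h1, h2, h3, h4⟩ := local_facts hG (Or.inr (Or.inr rfl)) T hn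
    · -- an element of order 17 would centralise `T`
      have h17 : 17 ∣ Nat.card (Subgroup.centralizer ((T : Subgroup G) : Set G)) := by
        have : 17 ∣ (3 - 1) * Nat.card (Subgroup.centralizer ((T : Subgroup G) : Set G)) :=
          dvd_trans (by norm_num) h4
        exact ((Nat.Prime.dvd_mul (by norm_num)).1 this).resolve_left (by norm_num)
      obtain ⟨⟨z, hz⟩, hzo⟩ := exists_prime_orderOf_dvd_card' 17 h17
      rw [Subgroup.orderOf_mk] at hzo
      obtain ⟨P⟩ := (inferInstance : Nonempty (Sylow 17 G))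
      have hP := card_sylow hG (Or.inl rfl) P
      obtain ⟨Q, hQ⟩ := exists_sylow_mem P hP hzo
      have hQc := card_sylow hG (Or.inl rfl) Q
      have hTQ : (T : Subgroup G) ≤ Q := by
        rw [← (seventeen hG).2 Q, ← centralizer_singleton_eq Q hQc hQ
          (fun e => by rw [e, orderOf_one] at hzo; omega)]
        exact fun v hv => Subgroup.mem_centralizer_singleton_iff.2
          (Subgroup.mem_centralizer_iff.1 hz v hv)
      have := Subgroup.card_dvd_of_le hTQ
      rw [show Nat.card (T : Subgroup G) = 3 from card_sylow hG (Or.inr (Or.inr rfl)) T,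
        show Nat.card (Q : Subgroup G) = 17 from hQc] at this
      omega
    · have := Nat.le_of_dvd Nat.card_pos h1
      omega
  generalize Nat.card (Sylow 3 G) = n at hd' hm h10 h40 ⊢
  clear hd hf; revert hm h10 h40; revert n; decide +kernel

theorem sylow_five_count [Fact (Nat.Prime 5)] [Fact (Nat.Prime 17)] :
    Nat.card (Sylow 5 G) = 51 ∨ Nat.card (Sylow 5 G) = 136 := by
  obtain ⟨hd, hm, hf⟩ := count_facts hG (p := 5) (Or.inr (Or.inl rfl))
  have hd' : Nat.card (Sylow 5 G) ∈ Nat.divisors 816 :=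
    Nat.mem_divisors.2 ⟨Nat.dvd_of_mul_dvd_mul_right (by norm_num : 0 < 5)
      (show Nat.card (Sylow 5 G) * 5 ∣ 816 * 5 from hd), by norm_num⟩
  have h10 : 17 ≤ Nat.card (Sylow 5 G) := by
    by_contra hlt
    have h17 : 17 ∣ (Nat.card (Sylow 5 G)).factorial := dvd_trans (by norm_num) hf
    exact hlt ((Nat.Prime.dvd_factorial (by norm_num)).1 h17)
  obtain ⟨F⟩ := (inferInstance : Nonempty (Sylow 5 G))
  have h816 : Nat.card (Sylow 5 G) ≠ 816 := by
    intro hn
    obtain ⟨h1, h2, h3, h4⟩ := local_facts hG (Or.inr (Or.inl rfl)) F hn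
    have := Nat.le_of_dvd Nat.card_pos h1
    omega
  generalize Nat.card (Sylow 5 G) = n at hd' hm h10 h816 ⊢
  clear hd hf; revert hm h10 h816; revert n; decide +kernel

/-- A 5-element in the centraliser of a Sylow 3-subgroup gives a 3-element centralising a Sylow
5-subgroup. -/
theorem three_dvd_of_five [Fact (Nat.Prime 3)] [Fact (Nat.Prime 5)] (T : Sylow 3 G)
    (h : 5 ∣ Nat.card (Subgroup.centralizer ((T : Subgroup G) : Set G))) :
    ∃ F : Sylow 5 G, (T : Subgroup G) ≤ Subgroup.centralizer ((F : Subgroup G) : Set G) ∧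
      (F : Subgroup G) ≤ Subgroup.centralizer ((T : Subgroup G) : Set G) := by
  obtain ⟨⟨z, hz⟩, hzo⟩ := exists_prime_orderOf_dvd_card' 5 h
  rw [Subgroup.orderOf_mk] at hzo
  obtain ⟨F₀⟩ := (inferInstance : Nonempty (Sylow 5 G))
  obtain ⟨F, hF⟩ := exists_sylow_mem F₀ (card_sylow hG (Or.inr (Or.inl rfl)) F₀) hzo
  have hFc := card_sylow hG (Or.inr (Or.inl rfl)) F
  have hz1 : z ≠ 1 := fun e => by rw [e, orderOf_one] at hzo; omega
  refine ⟨F, fun v hv => ?_, ?_⟩
  · rw [← centralizer_singleton_eq F hFc hF hz1]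
    exact Subgroup.mem_centralizer_singleton_iff.2 (Subgroup.mem_centralizer_iff.1 hz v hv)
  · rw [← zpowers_eq F hFc hF hz1]
    exact Subgroup.zpowers_le.2 hz

theorem five [Fact (Nat.Prime 3)] [Fact (Nat.Prime 5)] [Fact (Nat.Prime 17)] :
    Nat.card (Sylow 5 G) = 136 ∧
    (∀ F : Sylow 5 G, Nat.card (Subgroup.centralizer ((F : Subgroup G) : Set G)) = 15) ∧
    ∀ T : Sylow 3 G, ∃ F : Sylow 5 G, Subgroup.centralizer ((T : Subgroup G) : Set G) =
      Subgroup.centralizer ((F : Subgroup G) : Set G) := by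
  classical
  haveI : Fact (Nat.Prime 2) := ⟨Nat.prime_two⟩
  have h3 : (3 : ℕ) = 17 ∨ (3 : ℕ) = 5 ∨ (3 : ℕ) = 3 := Or.inr (Or.inr rfl)
  have h5 : (5 : ℕ) = 17 ∨ (5 : ℕ) = 5 ∨ (5 : ℕ) = 3 := Or.inr (Or.inl rfl)
  have h136 : Nat.card (Sylow 5 G) = 136 := by
    refine (sylow_five_count hG).resolve_left fun h51 => ?_
    -- too many elements
    have hC5 : ∀ F : Sylow 5 G, ¬ 3 ∣ Nat.card (Subgroup.centralizer ((F : Subgroup G) : Set G)) ∧
        4 ∣ Nat.card (Subgroup.centralizer ((F : Subgroup G) : Set G)) := fun F => by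
      obtain ⟨-, a2, -, a4⟩ := local_facts hG h5 F h51
      refine ⟨fun h => ?_, ?_⟩
      · have := dvd_trans h a2
        norm_num at this
      · have : 16 ∣ 4 * Nat.card (Subgroup.centralizer ((F : Subgroup G) : Set G)) :=
          dvd_trans (by norm_num) a4
        exact (Nat.mul_dvd_mul_iff_left (by norm_num : 0 < 4)).1 this
    have hno : ∀ T : Sylow 3 G,
        ¬ 5 ∣ Nat.card (Subgroup.centralizer ((T : Subgroup G) : Set G)) := fun T h => by
      obtain ⟨F, hTF, -⟩ := three_dvd_of_five hG T h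
      refine (hC5 F).1 ?_
      have := Subgroup.card_dvd_of_le hTF
      rwa [show Nat.card (T : Subgroup G) = 3 from card_sylow hG h3 T] at this
    obtain ⟨k, hk⟩ : ∃ k, Nat.card (Sylow 3 G) * (2 * 2 ^ k) = 1360 ∧ k ≤ 4 ∧ ∀ T : Sylow 3 G,
        2 ^ k ∣ Nat.card (Subgroup.centralizer ((T : Subgroup G) : Set G)) := by
      obtain ⟨T₀⟩ := (inferInstance : Nonempty (Sylow 3 G))
      rcases sylow_three_count hG with hn | hn | hn | hn
      · exfalso
        obtain ⟨-, -, -, a4⟩ := local_facts hG h3 T₀ hn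
        exact hno T₀ (((Nat.Prime.dvd_mul (by norm_num)).1
          (dvd_trans (by norm_num : 5 ∣ 4080 / 34) a4)).resolve_left (by norm_num))
      · refine ⟨3, by rw [hn]; norm_num, by norm_num, fun T => ?_⟩
        obtain ⟨-, -, -, a4⟩ := local_facts hG h3 T hn
        exact (Nat.mul_dvd_mul_iff_left (by norm_num : 0 < 2)).1
          (dvd_trans (by norm_num : 2 * 2 ^ 3 ∣ 4080 / 85) a4)
      · exfalso
        obtain ⟨-, -, -, a4⟩ := local_facts hG h3 T₀ hn
        exact hno T₀ (((Nat.Prime.dvd_mul (by norm_num)).1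
          (dvd_trans (by norm_num : 5 ∣ 4080 / 136) a4)).resolve_left (by norm_num))
      · refine ⟨1, by rw [hn]; norm_num, by norm_num, fun T => ?_⟩
        obtain ⟨-, -, -, a4⟩ := local_facts hG h3 T hn
        exact (Nat.mul_dvd_mul_iff_left (by norm_num : 0 < 2)).1
          (dvd_trans (by norm_num : 2 * 2 ^ 1 ∣ 4080 / 340) a4)
    obtain ⟨hk1, hk4, hk2⟩ := hk
    obtain ⟨F₀⟩ := (inferInstance : Nonempty (Sylow 5 G))
    obtain ⟨T₀⟩ := (inferInstance : Nonempty (Sylow 3 G))
    obtain ⟨P₀⟩ := (inferInstance : Nonempty (Sylow 17 G))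
    have hsub : ∀ (C : Subgroup G) (j : ℕ), 2 ^ j ∣ Nat.card C → j ≤ 4 →
        ∃ H : Subgroup G, Nat.card H = 2 ^ j ∧ H ≤ C ∧ ∀ h ∈ H, h ^ 16 = 1 := by
      intro C j hj hj4
      obtain ⟨K, hK⟩ := Sylow.exists_subgroup_card_pow_prime (G := C) 2 hj
      refine ⟨K.map C.subtype, ?_, Subgroup.map_subtype_le K, ?_⟩
      · rw [Nat.card_congr (K.equivMapOfInjective _ C.subtype_injective).symm.toEquiv, hK]
      · rintro _ ⟨h, hh, rfl⟩
        have hd : orderOf h ∣ 16 := by
          refine dvd_trans ?_ (pow_dvd_pow 2 hj4)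
          rw [← hK]; exact Subgroup.orderOf_dvd_natCard _ hh
        rw [← map_pow, orderOf_dvd_iff_pow_eq_one.1 hd, map_one]
    have c5 := count_pow_orderOf F₀ (card_sylow hG h5 F₀) (e := 16) (k := 2 ^ 2) (by norm_num)
      fun Q => hsub _ 2 (hC5 Q).2 (by norm_num)
    have c3 := count_pow_orderOf T₀ (card_sylow hG h3 T₀) (e := 16) (k := 2 ^ k) (by norm_num)
      fun Q => hsub _ k (hk2 Q) hk4
    have c17 := count_pow_orderOf P₀ (card_sylow hG (Or.inl rfl) P₀) (e := 16) (k := 1)
      (by norm_num) fun Q => ⟨⊥, Subgroup.card_bot, bot_le, fun h hh => by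
        rw [Subgroup.mem_bot.1 hh, one_pow]⟩
    rw [(seventeen hG).1] at c17
    rw [h51] at c5
    letI := Fintype.ofFinite G
    have hsum : Nat.card {g : G // orderOf (g ^ 16) = 5} + Nat.card {g : G // orderOf (g ^ 16) = 3}
        + Nat.card {g : G // orderOf (g ^ 16) = 17} ≤ 4080 := by
      have key : (Finset.univ.filter fun g : G => orderOf (g ^ 16) = 5).card +
          (Finset.univ.filter fun g : G => orderOf (g ^ 16) = 3).card +
          (Finset.univ.filter fun g : G => orderOf (g ^ 16) = 17).card ≤ 4080 := by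
        have hd1 : Disjoint (Finset.univ.filter fun g : G => orderOf (g ^ 16) = 5)
            (Finset.univ.filter fun g : G => orderOf (g ^ 16) = 3) :=
          Finset.disjoint_filter.2 fun g _ h h' => by omega
        have hd2 : Disjoint ((Finset.univ.filter fun g : G => orderOf (g ^ 16) = 5) ∪
            (Finset.univ.filter fun g : G => orderOf (g ^ 16) = 3))
            (Finset.univ.filter fun g : G => orderOf (g ^ 16) = 17) :=
          Finset.disjoint_union_left.2 ⟨Finset.disjoint_filter.2 fun g _ h h' => by omega,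
            Finset.disjoint_filter.2 fun g _ h h' => by omega⟩
        rw [← Finset.card_union_of_disjoint hd1, ← Finset.card_union_of_disjoint hd2,
          ← hG, Nat.card_eq_fintype_card]
        exact Finset.card_le_univ _
      simpa [Nat.card_eq_fintype_card, Fintype.card_subtype] using key
    have e3 : Nat.card (Sylow 3 G) * ((3 - 1) * 2 ^ k) = 1360 := hk1
    omega
  have hC5 : ∀ F : Sylow 5 G,
      Nat.card (Subgroup.centralizer ((F : Subgroup G) : Set G)) = 15 := fun F => by
    obtain ⟨a1, a2, a3, a4⟩ := local_facts hG h5 F h136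
    generalize Nat.card (Subgroup.centralizer ((F : Subgroup G) : Set G)) = c at a1 a2 a3 a4 ⊢
    norm_num at a2 a3 a4
    have hc : c ∈ Nat.divisors 30 := Nat.mem_divisors.2 ⟨a2, by norm_num⟩
    clear a2; revert a1 a3 a4; revert c; decide
  -- every centraliser of a Sylow 5-subgroup is the centraliser of a Sylow 3-subgroup
  have hpair : ∀ (T : Sylow 3 G) (F : Sylow 5 G),
      (T : Subgroup G) ≤ Subgroup.centralizer ((F : Subgroup G) : Set G) →
      (F : Subgroup G) ≤ Subgroup.centralizer ((T : Subgroup G) : Set G) →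
      Subgroup.centralizer ((T : Subgroup G) : Set G) =
        Subgroup.centralizer ((F : Subgroup G) : Set G) := by
    intro T F hTF hFT
    set C := Subgroup.centralizer ((T : Subgroup G) : Set G)
    have hT3 : Nat.card (T : Subgroup G) = 3 := card_sylow hG h3 T
    have hF5 : Nat.card (F : Subgroup G) = 5 := card_sylow hG h5 F
    -- `C(F)` is abelian, hence centralises `T`
    have hCF : Subgroup.centralizer ((F : Subgroup G) : Set G) ≤ C := by
      set D := Subgroup.centralizer ((F : Subgroup G) : Set G)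
      have hTD : ((T : Subgroup G).subgroupOf D).Normal := by
        have e1 := hC5 F
        let TD : Sylow 3 D := T.subtype hTF
        obtain ⟨hd, hm⟩ := card_sylow_mem (p := 3) (G := D) (m := 5) 1 (by rw [e1]; norm_num)
          (by norm_num)
        have h1 : Nat.card (Sylow 3 D) = 1 := by
          rcases (Nat.dvd_prime (by norm_num)).1 hd with h | h
          · exact h
          · rw [h] at hm; omega
        haveI : Subsingleton (Sylow 3 D) := (Nat.card_eq_one_iff_unique.1 h1).1
        exact TD.normal_of_subsingleton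
      intro d hd
      obtain ⟨-, b2, -, b4⟩ := card_centralizer T (card_sylow hG h3 T) (not_comm hG)
      -- the conjugation action of an element of odd order on `T` is trivial
      have hdN : d ∈ Subgroup.normalizer ((T : Subgroup G) : Set G) :=
        (Subgroup.normal_subgroupOf_iff_le_normalizer hTF).1 hTD hd
      have hodd : Odd (orderOf d) := by
        have h := Subgroup.orderOf_dvd_natCard _ hd
        rw [hC5 F] at h
        exact Odd.of_dvd_nat (by decide) h
      let f := (T : Subgroup G).normalizerMonoidHom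
      have hf2 : f ⟨d, hdN⟩ ^ 2 = 1 := by
        haveI : IsCyclic (T : Subgroup G) := isCyclic_of_prime_card hT3
        have hc : Nat.card (MulAut (T : Subgroup G)) = 2 := by
          rw [IsCyclic.card_mulAut, hT3]; rfl
        rw [← hc]; exact pow_card_eq_one'
      have h1 : orderOf (f ⟨d, hdN⟩) = 1 := by
        have ha : orderOf (f ⟨d, hdN⟩) ∣ 2 := orderOf_dvd_of_pow_eq_one hf2
        have hb : orderOf (f ⟨d, hdN⟩) ∣ orderOf d := by
          rw [← Subgroup.orderOf_mk d hdN]; exact orderOf_map_dvd f _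
        rcases (Nat.dvd_prime Nat.prime_two).1 ha with h | h
        · exact h
        · rw [h] at hb
          exact absurd (even_iff_two_dvd.2 hb) (Nat.not_even_iff_odd.2 hodd)
      have h2 : (⟨d, hdN⟩ : Subgroup.normalizer ((T : Subgroup G) : Set G)) ∈ f.ker :=
        orderOf_eq_one_iff.1 h1
      rw [Subgroup.normalizerMonoidHom_ker] at h2
      exact h2
    refine (Subgroup.eq_of_le_of_card_ge hCF ?_).symm
    -- `F` is normal in `C(T)`
    obtain ⟨a1, a2, a3, a4⟩ :=
      local_facts hG h3 T (n := Nat.card (Sylow 3 G)) rfl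
    have h15 : 15 ∣ Nat.card C := hC5 F ▸ Subgroup.card_dvd_of_le hCF
    have h120 : Nat.card C ∣ 60 := by
      rcases sylow_three_count hG with hn | hn | hn | hn <;> rw [hn] at a2 a3 a4
      · generalize Nat.card C = c at a2 a3 a4 h15 ⊢
        norm_num at a2 a3 a4
        have hc : c ∈ Nat.divisors 120 := Nat.mem_divisors.2 ⟨a2, by norm_num⟩
        clear a2; revert a3 a4 h15; revert c; decide
      · have := dvd_trans h15 a2; norm_num at this
      · exact dvd_trans a2 (by norm_num)
      · have := dvd_trans h15 a2; norm_num at this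
    let FC : Sylow 5 C := F.subtype hFT
    obtain ⟨-, hm⟩ := card_sylow_mem (p := 5) (G := C) (m := Nat.card C / 5) 1
      (by rw [pow_one, Nat.mul_div_cancel' (dvd_trans (by norm_num) h15)]) (by
        intro h
        have h25 : 25 ∣ Nat.card C := by
          obtain ⟨r, hr⟩ := h
          exact ⟨r, by have := Nat.mul_div_cancel' (dvd_trans (by norm_num : 5 ∣ 15) h15); omega⟩
        have := dvd_trans h25 h120; norm_num at this)
    have hle : (Subgroup.centralizer ((F : Subgroup G) : Set G)).subgroupOf C ≤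
        Subgroup.normalizer ((FC : Subgroup C) : Set C) := by
      refine le_trans ?_ (Subgroup.centralizer_le_normalizer _)
      intro c hc
      exact Subgroup.mem_centralizer_iff.2 fun v hv =>
        Subtype.ext (Subgroup.mem_centralizer_iff.1 (Subgroup.mem_subgroupOf.1 hc) v hv)
    have hd4 : Nat.card (Sylow 5 C) ∣ 4 := by
      have h1 := Subgroup.index_dvd_of_le hle
      rw [FC.card_eq_index_normalizer]
      refine dvd_trans h1 ?_
      have e := ((Subgroup.centralizer ((F : Subgroup G) : Set G)).subgroupOf C).card_mul_index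
      rw [Nat.card_congr (Subgroup.subgroupOfEquivOfLe hCF).toEquiv, hC5 F] at e
      refine (Nat.mul_dvd_mul_iff_left (by norm_num : 0 < 15)).1 ?_
      rw [e]; exact h120
    have hone : Nat.card (Sylow 5 C) = 1 := by
      have hc : Nat.card (Sylow 5 C) ∈ Nat.divisors 4 := Nat.mem_divisors.2 ⟨hd4, by norm_num⟩
      generalize Nat.card (Sylow 5 C) = n at hc hm ⊢
      revert hm; revert n; decide
    haveI : Subsingleton (Sylow 5 C) := (Nat.card_eq_one_iff_unique.1 hone).1
    have hCN : C ≤ Subgroup.normalizer ((F : Subgroup G) : Set G) :=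
      (Subgroup.normal_subgroupOf_iff_le_normalizer hFT).1 FC.normal_of_subsingleton
    have hN := card_normalizer_of_count (c := 30) F h136 (by rw [hG])
    have h30 := hN ▸ Subgroup.card_dvd_of_le hCN
    rw [hC5 F]
    rcases sylow_three_count hG with hn | hn | hn | hn <;> rw [hn] at a2 a3 a4
    · -- a centraliser of order at least 60
      exfalso
      have h60 : 60 ∣ Nat.card C :=
        Nat.dvd_of_mul_dvd_mul_left (by norm_num : 0 < 2) (show 2 * 60 ∣ 2 * Nat.card C from a4)
      have := Nat.le_of_dvd (by norm_num) (dvd_trans h60 h30)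
      omega
    · have := dvd_trans h15 a2; norm_num at this
    · generalize Nat.card C = c at a2 a3 h15 ⊢
      norm_num at a2 a3
      have hc : c ∈ Nat.divisors 30 := Nat.mem_divisors.2 ⟨a2, by norm_num⟩
      clear a2; revert a3 h15; revert c; decide
    · have := dvd_trans h15 a2; norm_num at this
  refine ⟨h136, hC5, fun T => ?_⟩
  -- some Sylow 5-subgroup centralises `T`
  obtain ⟨F₀⟩ := (inferInstance : Nonempty (Sylow 5 G))
  haveI : Fact (Nat.Prime 3) := ⟨Nat.prime_three⟩
  obtain ⟨⟨y, hy⟩, hyo⟩ := exists_prime_orderOf_dvd_card' 3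
    (G := Subgroup.centralizer ((F₀ : Subgroup G) : Set G)) (by rw [hC5]; norm_num)
  rw [Subgroup.orderOf_mk] at hyo
  obtain ⟨T₁, hT₁⟩ := exists_sylow_mem T (card_sylow hG h3 T) hyo
  have hy1 : y ≠ 1 := fun e => by rw [e, orderOf_one] at hyo; omega
  have hT₁c := card_sylow hG h3 T₁
  have hTF : (T₁ : Subgroup G) ≤ Subgroup.centralizer ((F₀ : Subgroup G) : Set G) := by
    rw [← zpowers_eq T₁ hT₁c hT₁ hy1]; exact Subgroup.zpowers_le.2 hy
  have h5C : 5 ∣ Nat.card (Subgroup.centralizer ((T₁ : Subgroup G) : Set G)) := by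
    have hFT : (F₀ : Subgroup G) ≤ Subgroup.centralizer ((T₁ : Subgroup G) : Set G) :=
      fun v hv => Subgroup.mem_centralizer_iff.2 fun u hu =>
        (Subgroup.mem_centralizer_iff.1 (hTF hu) v hv).symm
    have := Subgroup.card_dvd_of_le hFT
    rwa [show Nat.card (F₀ : Subgroup G) = 5 from card_sylow hG h5 F₀] at this
  have h5T : 5 ∣ Nat.card (Subgroup.centralizer ((T : Subgroup G) : Set G)) := by
    obtain ⟨g, rfl⟩ := exists_smul_eq G T₁ T
    refine h5C.trans (dvd_of_eq ?_)
    refine Nat.card_congr ((MulAut.conj g).toEquiv.subtypeEquiv fun x => ?_)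
    simp only [MulEquiv.toEquiv_eq_coe, MulEquiv.coe_toEquiv, MulAut.conj_apply,
      Subgroup.mem_centralizer_iff, SetLike.mem_coe, Sylow.coe_subgroup_smul,
      Subgroup.mem_pointwise_smul_iff_inv_smul_mem]
    constructor
    · intro h v hv
      have hv' : g⁻¹ * v * g ∈ (T₁ : Subgroup G) := by simpa [MulAut.smul_def] using hv
      calc v * (g * x * g⁻¹) = g * ((g⁻¹ * v * g) * x) * g⁻¹ := by group
        _ = g * (x * (g⁻¹ * v * g)) * g⁻¹ := by rw [h _ hv']
        _ = g * x * g⁻¹ * v := by group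
    · intro h v hv
      have h' := h (g * v * g⁻¹) (by simpa [MulAut.smul_def, mul_assoc] using hv)
      calc v * x = g⁻¹ * ((g * v * g⁻¹) * (g * x * g⁻¹)) * g := by group
        _ = g⁻¹ * ((g * x * g⁻¹) * (g * v * g⁻¹)) * g := by rw [h']
        _ = x * v := by group
  obtain ⟨F, hTF', hFT'⟩ := three_dvd_of_five hG T h5T
  exact ⟨F, hpair T F hTF' hFT'⟩

theorem psl {F : Type*} [Field F] [Fintype F] (hF : Fintype.card F = 16) :
    Nonempty (G ≃* PSL(2, F)) := by
  classical
  haveI : Fact (Nat.Prime 17) := ⟨by norm_num⟩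
  haveI : Fact (Nat.Prime 5) := ⟨by norm_num⟩
  haveI : Fact (Nat.Prime 3) := ⟨Nat.prime_three⟩
  obtain ⟨h120, h17⟩ := seventeen hG
  obtain ⟨h136, hC5, hC3⟩ := five hG
  have h5 : (5 : ℕ) = 17 ∨ (5 : ℕ) = 5 ∨ (5 : ℕ) = 3 := Or.inr (Or.inl rfl)
  have h3 : (3 : ℕ) = 17 ∨ (3 : ℕ) = 5 ∨ (3 : ℕ) = 3 := Or.inr (Or.inr rfl)
  letI := Fintype.ofFinite (Sylow 17 G)
  letI := Fintype.ofFinite (Sylow 5 G)
  -- a Sylow 5-subgroup is determined by its centraliser
  have hFle : ∀ F' : Sylow 5 G, ∀ u ∈ Subgroup.centralizer ((F' : Subgroup G) : Set G),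
      ∀ F'' : Sylow 5 G, u ∈ (F'' : Subgroup G) → u ≠ 1 → F'' = F' := by
    intro F' u hu F'' hu'' hu1
    have hle : (F'' : Subgroup G) ≤ Subgroup.centralizer ((F' : Subgroup G) : Set G) := by
      rw [← zpowers_eq F'' (card_sylow hG h5 F'') hu'' hu1]; exact Subgroup.zpowers_le.2 hu
    refine Sylow.ext (Subgroup.eq_of_le_of_card_ge (fun v hv => SmallSimple.mem_of_smul_sylow_eq hv
      (SmallSimple.smul_sylow_eq_iff.2 (Subgroup.centralizer_le_normalizer _ (hle hv)))) ?_)
    exact (le_of_eq ((card_sylow hG h5 F').trans (card_sylow hG h5 F'').symm))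
  have hCC : ∀ F' : Sylow 5 G, ∀ x ∈ Subgroup.centralizer ((F' : Subgroup G) : Set G), x ≠ 1 →
      Subgroup.centralizer ({x} : Set G) = Subgroup.centralizer ((F' : Subgroup G) : Set G) := by
    intro F' x hx hx1
    set C := Subgroup.centralizer ((F' : Subgroup G) : Set G) with hC
    -- powers of prime order
    have hprime : ∀ y ∈ C, (orderOf y).Prime →
        Subgroup.centralizer ({y} : Set G) = C := by
      intro y hy hyp
      have hy1 : y ≠ 1 := fun e => by rw [e, orderOf_one] at hyp; exact Nat.not_prime_one hyp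
      have hd := Subgroup.orderOf_dvd_natCard _ hy
      rw [hC5 F', show (15 : ℕ) = 3 * 5 from rfl, hyp.dvd_mul] at hd
      rcases hd with hd | hd
      · obtain ⟨T, hT⟩ := (IsPGroup.of_card (p := 3) (G := Subgroup.zpowers y) (n := 1) (by
          rw [Nat.card_zpowers, (Nat.prime_dvd_prime_iff_eq hyp Nat.prime_three).1 hd,
            pow_one])).exists_le_sylow
        have hyT := hT (Subgroup.mem_zpowers y)
        obtain ⟨F'', hF''⟩ := hC3 T
        rw [centralizer_singleton_eq T (card_sylow hG h3 T) hyT hy1, hF'']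
        obtain ⟨u, hu, hu1⟩ := ((F' : Subgroup G).bot_or_exists_ne_one).resolve_left (fun hb => by
          have := card_sylow hG h5 F'
          change Nat.card (F' : Subgroup G) = 5 at this
          rw [hb, Subgroup.card_bot] at this; omega)
        have hu' : u ∈ Subgroup.centralizer ((F'' : Subgroup G) : Set G) := by
          rw [← hF'', ← centralizer_singleton_eq T (card_sylow hG h3 T) hyT hy1,
            Subgroup.mem_centralizer_singleton_iff]
          exact Subgroup.mem_centralizer_iff.1 hy u hu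
        rw [hC, hFle F'' u hu' F' hu hu1]
      · obtain ⟨F'', hF''⟩ := exists_sylow_mem F' (card_sylow hG h5 F')
          ((Nat.prime_dvd_prime_iff_eq hyp (by norm_num)).1 hd)
        rw [centralizer_singleton_eq F'' (card_sylow hG h5 F'') hF'' hy1, hC,
          hFle F' y hy F'' hF'' hy1]
    obtain ⟨q, hq, hqd⟩ := Nat.exists_prime_and_dvd
      (fun h => hx1 (orderOf_eq_one_iff.1 h) : orderOf x ≠ 1)
    haveI := Fact.mk hq
    obtain ⟨⟨y, hyz⟩, hy⟩ := exists_prime_orderOf_dvd_card' q (G := Subgroup.zpowers x)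
      (by rwa [Nat.card_zpowers])
    rw [Subgroup.orderOf_mk] at hy
    have hyC : y ∈ C := Subgroup.zpowers_le.2 hx hyz
    have hCy := hprime y hyC (hy ▸ hq)
    obtain ⟨k, rfl⟩ := Subgroup.mem_zpowers_iff.1 hyz
    refine le_antisymm (fun g hg => ?_) ?_
    · rw [← hCy, Subgroup.mem_centralizer_singleton_iff]
      exact (Commute.zpow_right (Subgroup.mem_centralizer_singleton_iff.1 hg) k).eq
    -- `C` is abelian
    intro g hg
    rw [Subgroup.mem_centralizer_singleton_iff]
    by_cases hg1 : g = 1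
    · simp [hg1]
    obtain ⟨r, hr, hrd⟩ := Nat.exists_prime_and_dvd
      (fun h => hg1 (orderOf_eq_one_iff.1 h) : orderOf g ≠ 1)
    -- `C` centralises its elements of prime order
    have hcen : ∀ z ∈ C, (orderOf z).Prime → ∀ w ∈ C, w * z = z * w := fun z hz hzp w hw =>
      Subgroup.mem_centralizer_singleton_iff.1 ((hprime z hz hzp).ge hw)
    have hZ : (15 : ℕ) ∣ Nat.card (Subgroup.center C) := by
      have key : ∀ r : ℕ, r.Prime → r ∣ 15 → r ∣ Nat.card (Subgroup.center C) := by
        intro r hr hr15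
        haveI := Fact.mk hr
        obtain ⟨⟨z, hz⟩, hzo⟩ := exists_prime_orderOf_dvd_card' r (G := C) (by rwa [hC5 F'])
        have hzm : (⟨z, hz⟩ : C) ∈ Subgroup.center C := Subgroup.mem_center_iff.2 fun w =>
          Subtype.ext (hcen z hz (by rw [← Subgroup.orderOf_mk z hz, hzo]; exact hr) w w.2)
        exact hzo ▸ Subgroup.orderOf_dvd_natCard _ hzm
      exact Nat.Coprime.mul_dvd_of_dvd_of_dvd (by norm_num : Nat.Coprime 3 5)
        (key 3 Nat.prime_three (by norm_num)) (key 5 (by norm_num) (by norm_num))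
    have htop : Subgroup.center C = ⊤ := Subgroup.eq_top_of_le_card _ (by
      rw [hC5 F']; exact Nat.le_of_dvd Nat.card_pos hZ)
    have hgc : (⟨g, hg⟩ : C) ∈ Subgroup.center C := htop ▸ Subgroup.mem_top _
    exact (congrArg Subtype.val (Subgroup.mem_center_iff.1 hgc ⟨x, hx⟩)).symm
  refine psl_of_cc_cover (a := 4) (m := 255) (by norm_num) (by rw [hG]; norm_num) (by norm_num)
    (Sum.elim (fun P : Sylow 17 G => (P : Subgroup G))
      fun F' : Sylow 5 G => Subgroup.centralizer ((F' : Subgroup G) : Set G))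
    ?_ ?_ ?_ ?_ ?_ (by rw [hF]; norm_num)
  · rintro (P | P) (Q | Q) h
    · exact congrArg Sum.inl (Sylow.ext h)
    · have h1 : Nat.card (P : Subgroup G) = 17 := card_sylow hG (Or.inl rfl) P
      rw [show (P : Subgroup G) = Subgroup.centralizer ((Q : Subgroup G) : Set G) from h, hC5] at h1
      omega
    · have h1 : Nat.card (Q : Subgroup G) = 17 := card_sylow hG (Or.inl rfl) Q
      rw [← show Subgroup.centralizer ((P : Subgroup G) : Set G) = Q from h, hC5] at h1
      omega
    · obtain ⟨u, hu, hu1⟩ := ((P : Subgroup G).bot_or_exists_ne_one).resolve_left (fun hb => by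
        have := card_sylow hG h5 P
        change Nat.card (P : Subgroup G) = 5 at this
        rw [hb, Subgroup.card_bot] at this; omega)
      have hu' : u ∈ Subgroup.centralizer ((Q : Subgroup G) : Set G) := by
        have h' : Subgroup.centralizer ((P : Subgroup G) : Set G) =
            Subgroup.centralizer ((Q : Subgroup G) : Set G) := h
        rw [← h']
        exact le_centralizer P (card_sylow hG h5 P) hu
      exact congrArg Sum.inr (hFle Q u hu' P hu hu1)
  · rintro (P | P)
    · refine ⟨8, ?_⟩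
      show Nat.card (P : Subgroup G) = _
      exact card_sylow hG (Or.inl rfl) P
    · refine ⟨7, ?_⟩
      show Nat.card (Subgroup.centralizer ((P : Subgroup G) : Set G)) = _
      exact hC5 P
  · rintro (P | P) x hx hx1
    · exact (centralizer_singleton_eq P (card_sylow hG (Or.inl rfl) P) hx hx1).trans (h17 P)
    · exact hCC P x hx hx1
  · intro x hx hx2
    have hd : orderOf x ∣ 4080 := hG ▸ orderOf_dvd_natCard x
    rw [show (4080 : ℕ) = 2 ^ 4 * 3 * 5 * 17 by norm_num, hx.dvd_mul, hx.dvd_mul, hx.dvd_mul] at hd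
    rcases hd with ((h | h) | h) | h
    · exact absurd ((Nat.prime_dvd_prime_iff_eq hx Nat.prime_two).1 (hx.dvd_of_dvd_pow h)) hx2
    · obtain ⟨T⟩ := (inferInstance : Nonempty (Sylow 3 G))
      obtain ⟨T', hT'⟩ := exists_sylow_mem T (card_sylow hG h3 T)
        ((Nat.prime_dvd_prime_iff_eq hx Nat.prime_three).1 h)
      obtain ⟨F', hF'⟩ := hC3 T'
      refine ⟨Sum.inr F', ?_⟩
      show x ∈ Subgroup.centralizer ((F' : Subgroup G) : Set G)
      exact hF' ▸ le_centralizer T' (card_sylow hG h3 T') hT'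
    · obtain ⟨F₀⟩ := (inferInstance : Nonempty (Sylow 5 G))
      obtain ⟨F', hF'⟩ := exists_sylow_mem F₀ (card_sylow hG h5 F₀)
        ((Nat.prime_dvd_prime_iff_eq hx (by norm_num)).1 h)
      exact ⟨Sum.inr F', le_centralizer F' (card_sylow hG h5 F') hF'⟩
    · obtain ⟨P₀⟩ := (inferInstance : Nonempty (Sylow 17 G))
      obtain ⟨P, hP⟩ := exists_sylow_mem P₀ (card_sylow hG (Or.inl rfl) P₀)
        ((Nat.prime_dvd_prime_iff_eq hx (by norm_num)).1 h)
      exact ⟨Sum.inl P, hP⟩
  · rw [Fintype.sum_sum_type]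
    simp only [Sum.elim_inl, Sum.elim_inr, hC5]
    rw [Finset.sum_congr rfl (fun P _ => by
        rw [show Nat.card (P : Subgroup G) = 17 from card_sylow hG (Or.inl rfl) P]),
      Finset.sum_const, Finset.sum_const, Finset.card_univ, Finset.card_univ,
      ← Nat.card_eq_fintype_card, ← Nat.card_eq_fintype_card, h120, h136, hG]
    norm_num

end Cfsg.Agent.PSL2.Recog.Order4080
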