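import Cfsg.Agent.Lib.PGroup.UniqueInvolutionAut
import Mathlib.LinearAlgebra.Matrix.SpecialLinearGroup

/-!
# Recognition of `SL(2, 3)` by relations

* `nonempty_mulEquiv_SL23`: a group of order 24 generated by elements with the relations
  `i⁴ = 1, j² = i², j i = i³ j, w³ = 1, w i = j w, w j = i j w` is `SL(2, 3)`.
* `exists_generators_of_aut_three`: an automorphism of order three of the quaternion group of order
  eight has `i` with `j = ψ i` and `ψ j = i j`.
-/

set_option autoImplicit false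

namespace Cfsg.Agent.SL23

/-- The relations. -/
structure Rel {X : Type*} [Group X] (i j w : X) : Prop where
  i4 : i ^ 4 = 1
  jj : j * j = i * i
  ji : j * i = i ^ 3 * j
  w3 : w ^ 3 = 1
  wi : w * i = j * w
  wj : w * j = i * j * w

/-- Index type of the normal form. -/
abbrev Idx : Type := Fin 4 × Fin 2 × Fin 3

/-- Normal form. -/
def nf {X : Type*} [Group X] (i j w : X) (t : Idx) : X :=
  i ^ t.1.val * j ^ t.2.1.val * w ^ t.2.2.val

/-- Left multiplication by `i`. -/
def stepI : Idx → Idx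
  | (a, b, c) => (a + 1, b, c)

/-- Left multiplication by `j`. -/
def stepJ : Idx → Idx
  | (a, b, c) => if b = 0 then (-a, 1, c) else (2 - a, 0, c)

/-- Left multiplication by `w`. -/
def stepW : Idx → Idx
  | (a, b, c) =>
    match a, b with
    | 0, 0 => (0, 0, c + 1)
    | 1, 0 => (0, 1, c + 1)
    | 2, 0 => (2, 0, c + 1)
    | 3, 0 => (2, 1, c + 1)
    | 0, 1 => (1, 1, c + 1)
    | 1, 1 => (1, 0, c + 1)
    | 2, 1 => (3, 1, c + 1)
    | 3, 1 => (3, 0, c + 1)

section

variable {X : Type*} [Group X] {i j w : X} (h : Rel i j w)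
include h

theorem i_mul (t : Idx) : i * nf i j w t = nf i j w (stepI t) := by
  obtain ⟨a, b, c⟩ := t
  simp only [nf, stepI, ← mul_assoc, ← pow_succ', Fin.val_add]
  rw [pow_eq_pow_mod (a.val + 1) h.i4]
  rfl

theorem j_mul (t : Idx) : j * nf i j w t = nf i j w (stepJ t) := by
  obtain ⟨a, b, c⟩ := t
  have hs : SemiconjBy j i (i ^ 3) := h.ji
  have hj : j * i ^ a.val = i ^ (3 * a.val) * j := by
    rw [(hs.pow_right a.val).eq, pow_mul]
  simp only [nf, ← mul_assoc, hj]
  rw [mul_assoc (i ^ (3 * a.val)) j, ← pow_succ']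
  fin_cases b <;> fin_cases a <;>
    simp [stepJ, h.jj, ← mul_assoc, pow_succ, pow_zero, show (-2 : Fin 4) = 2 from rfl,
      show (-3 : Fin 4) = 1 from rfl] <;>
    (have h4 := h.i4; simp only [pow_succ, pow_zero, one_mul] at h4; simp [h4])

theorem w_mul (t : Idx) : w * nf i j w t = nf i j w (stepW t) := by
  obtain ⟨a, b, c⟩ := t
  have hsi : SemiconjBy w i j := h.wi
  have hsj : SemiconjBy w j (i * j) := h.wj
  have key : w * (i ^ a.val * j ^ b.val) = j ^ a.val * (i * j) ^ b.val * w :=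
    ((hsi.pow_right a.val).mul_right (hsj.pow_right b.val)).eq
  have hc : w * w ^ c.val = w ^ ((c + 1 : Fin 3).val) := by
    rw [← pow_succ', pow_eq_pow_mod _ h.w3, Fin.val_add]
    rfl
  have hj3 : j ^ 3 = i ^ 2 * j := by rw [pow_succ, pow_two, h.jj, pow_two]
  have h11 : j * (i * j) = i := by
    rw [← mul_assoc, h.ji, mul_assoc, h.jj, ← pow_two, ← pow_add, pow_eq_pow_mod 5 h.i4, pow_one]
  have h21 : j ^ 2 * (i * j) = i ^ 3 * j := by rw [pow_two, h.jj, ← mul_assoc, pow_succ i 2, pow_two]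
  have h31 : j ^ 3 * (i * j) = i ^ 3 := by rw [hj3, mul_assoc, h11, ← pow_succ]
  have hall : j ^ a.val * (i * j) ^ b.val = i ^ (stepW (a, b, c)).1.val * j ^ (stepW (a, b, c)).2.1.val := by
    fin_cases a <;> fin_cases b <;> simp [stepW, h11, h21, h31]
    all_goals first
      | exact hj3
      | rw [pow_two, h.jj, pow_two]
  have hsnd : (stepW (a, b, c)).2.2 = c + 1 := by fin_cases a <;> fin_cases b <;> rfl
  calc w * nf i j w (a, b, c) = w * (i ^ a.val * j ^ b.val) * w ^ c.val := by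
        simp only [nf, mul_assoc]
    _ = j ^ a.val * (i * j) ^ b.val * (w * w ^ c.val) := by rw [key, mul_assoc]
    _ = nf i j w (stepW (a, b, c)) := by rw [hc, hall, nf, hsnd]

theorem nf_surjective [Finite X] (hgen : Subgroup.closure ({i, j, w} : Set X) = ⊤) :
    Function.Surjective (nf i j w) := by
  intro x
  have hx : x ∈ Subgroup.closure ({i, j, w} : Set X) := hgen ▸ Subgroup.mem_top x
  rw [← Subgroup.mem_toSubmonoid, Subgroup.closure_toSubmonoid_of_finite] at hx
  suffices ∀ t, ∃ t', nf i j w t' = x * nf i j w t by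
    obtain ⟨t', ht'⟩ := this (0, 0, 0)
    exact ⟨t', by rw [ht']; simp [nf]⟩
  induction hx using Submonoid.closure_induction with
  | mem y hy =>
    rcases hy with rfl | rfl | rfl
    · exact fun t => ⟨_, (i_mul h t).symm⟩
    · exact fun t => ⟨_, (j_mul h t).symm⟩
    · exact fun t => ⟨_, (w_mul h t).symm⟩
  | one => exact fun t => ⟨t, (one_mul _).symm⟩
  | mul y z _ _ hy hz =>
    intro t
    obtain ⟨t₁, h₁⟩ := hz t
    obtain ⟨t₂, h₂⟩ := hy t₁
    exact ⟨t₂, by rw [h₂, h₁, mul_assoc]⟩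

end

/-- Two groups of order 24 with generators satisfying the relations are isomorphic. -/
theorem nonempty_mulEquiv {X Y : Type*} [Group X] [Group Y] [Finite X] [Finite Y]
    {i j w : X} {i' j' w' : Y} (h : Rel i j w) (h' : Rel i' j' w')
    (hgen : Subgroup.closure ({i, j, w} : Set X) = ⊤)
    (hgen' : Subgroup.closure ({i', j', w'} : Set Y) = ⊤)
    (hX : Nat.card X = 24) (hY : Nat.card Y = 24) : Nonempty (X ≃* Y) := by
  have hb : Function.Bijective (nf i j w) :=
    (Function.Surjective.bijective_of_nat_card_le (nf_surjective h hgen) (by simp [hX]))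
  have hb' : Function.Bijective (nf i' j' w') :=
    (Function.Surjective.bijective_of_nat_card_le (nf_surjective h' hgen') (by simp [hY]))
  let e : X ≃ Y := (Equiv.ofBijective _ hb).symm.trans (Equiv.ofBijective _ hb')
  have he : ∀ t, e (nf i j w t) = nf i' j' w' t := fun t => by
    show Equiv.ofBijective _ hb' ((Equiv.ofBijective _ hb).symm (Equiv.ofBijective _ hb t)) = _
    rw [Equiv.symm_apply_apply]
    rfl
  have hone : e 1 = 1 := by simpa [nf] using he (0, 0, 0)
  have hstep : ∀ (s : X) (s' : Y) (σ : Idx → Idx), (∀ t, s * nf i j w t = nf i j w (σ t)) →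
      (∀ t, s' * nf i' j' w' t = nf i' j' w' (σ t)) → ∀ z, e (s * z) = e s * e z := by
    intro s s' σ hs hs'
    have key : ∀ z, e (s * z) = s' * e z := by
      intro z
      obtain ⟨t, rfl⟩ := hb.2 z
      rw [hs, he, he, hs']
    have hse : e s = s' := by simpa [hone] using key 1
    intro z
    rw [key, hse]
  refine ⟨{ e with map_mul' := fun y => ?_ }⟩
  have hy : y ∈ Subgroup.closure ({i, j, w} : Set X) := hgen ▸ Subgroup.mem_top y
  rw [← Subgroup.mem_toSubmonoid, Subgroup.closure_toSubmonoid_of_finite] at hy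
  show ∀ z, e (y * z) = e y * e z
  induction hy using Submonoid.closure_induction with
  | mem y hy =>
    rcases hy with rfl | rfl | rfl
    · exact hstep _ i' stepI (i_mul h) (i_mul h')
    · exact hstep _ j' stepJ (j_mul h) (j_mul h')
    · exact hstep _ w' stepW (w_mul h) (w_mul h')
  | one => intro z; simp [hone]
  | mul a b _ _ ha hb => intro z; rw [mul_assoc, ha, hb, ha b, mul_assoc]

/-- `i` in `SL(2,3)`. -/
def mI : Matrix.SpecialLinearGroup (Fin 2) (ZMod 3) := ⟨!![0, 2; 1, 0], by decide⟩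
/-- `j` in `SL(2,3)`. -/
def mJ : Matrix.SpecialLinearGroup (Fin 2) (ZMod 3) := ⟨!![1, 1; 1, 2], by decide⟩

theorem exists_w : ∃ w : Matrix.SpecialLinearGroup (Fin 2) (ZMod 3),
    mI ^ 4 = 1 ∧ mJ * mJ = mI * mI ∧ mJ * mI = mI ^ 3 * mJ ∧ w ^ 3 = 1 ∧ w * mI = mJ * w ∧
      w * mJ = mI * mJ * w ∧ ∀ x, ∃ t : Idx, nf mI mJ w t = x := by
  decide +kernel

/-- A group of order 24 with the relations is `SL(2,3)`. -/
theorem nonempty_mulEquiv_SL23 {X : Type*} [Group X] [Finite X] {i j w : X} (h : Rel i j w)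
    (hgen : Subgroup.closure ({i, j, w} : Set X) = ⊤) (hX : Nat.card X = 24) :
    Nonempty (X ≃* Matrix.SpecialLinearGroup (Fin 2) (ZMod 3)) := by
  obtain ⟨w', h1, h2, h3, h4, h5, h6, hs⟩ := exists_w
  refine nonempty_mulEquiv h ⟨h1, h2, h3, h4, h5, h6⟩ hgen ?_ hX ?_
  · refine top_unique fun x _ => ?_
    obtain ⟨t, rfl⟩ := hs x
    exact mul_mem (mul_mem (pow_mem (Subgroup.subset_closure (by simp)) _)
      (pow_mem (Subgroup.subset_closure (by simp)) _)) (pow_mem (Subgroup.subset_closure (by simp)) _)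
  · rw [Nat.card_eq_fintype_card]
    decide +kernel

open QuaternionGroup PGroup

theorem quatMap_three : ∀ u v : QuaternionGroup 2,
    (u * u ≠ 1 ∧ v * v ≠ 1 ∧ v ≠ u ∧ v ≠ u * u * u) →
    (∀ x, quatMap u v (quatMap u v (quatMap u v x)) = x) → (∃ x, quatMap u v x ≠ x) →
    ∃ i, i * i * i * i = 1 ∧ quatMap u v i * quatMap u v i = i * i ∧
      quatMap u v i * i = i * i * i * quatMap u v i ∧ quatMap u v (quatMap u v i) = i * quatMap u v i ∧
      ∀ x, ∃ (a : Fin 4) (b : Fin 2), x = i ^ a.val * quatMap u v i ^ b.val := by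
  decide +kernel

/-- An automorphism of order three of the quaternion group of order eight. -/
theorem exists_generators_of_aut_three (ψ : MulAut (QuaternionGroup 2)) (h3 : ψ ^ 3 = 1) (h1 : ψ ≠ 1) :
    ∃ i, i ^ 4 = 1 ∧ ψ i * ψ i = i * i ∧ ψ i * i = i ^ 3 * ψ i ∧ ψ (ψ i) = i * ψ i ∧
      Subgroup.closure ({i, ψ i} : Set (QuaternionGroup 2)) = ⊤ := by
  set u := ψ (a 1) with hu
  set v := ψ (xa 0) with hv
  have hmap : ∀ x, ψ x = quatMap u v x := by
    intro x
    cases x with
    | a i =>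
      show ψ (a i) = u ^ i.val
      rw [hu, ← map_pow, a_one_pow, ZMod.natCast_zmod_val]
    | xa i =>
      show ψ (xa i) = v * u ^ i.val
      rw [hu, hv, ← map_pow, ← map_mul, a_one_pow, ZMod.natCast_zmod_val, xa_mul_a, zero_add]
  have hc : u * u ≠ 1 ∧ v * v ≠ 1 ∧ v ≠ u ∧ v ≠ u * u * u := by
    refine ⟨?_, ?_, ?_, ?_⟩ <;>
      simp only [hu, hv, ← map_mul, ne_eq, EmbeddingLike.map_eq_one_iff, EmbeddingLike.apply_eq_iff_eq] <;>
      decide
  obtain ⟨i, hi, hj, hji, hjj, hs⟩ := quatMap_three u v hc (fun x => by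
      simp only [← hmap]
      exact DFunLike.congr_fun h3 x) (by
      by_contra hcon
      push Not at hcon
      exact h1 (MulEquiv.ext fun x => (hmap x).trans (hcon x)))
  simp only [← hmap] at hj hji hjj hs
  refine ⟨i, by rw [pow_succ, pow_succ, pow_two]; exact hi, hj, ?_, hjj, top_unique fun x _ => ?_⟩
  · rw [pow_succ, pow_two]; exact hji
  · obtain ⟨a, b, rfl⟩ := hs x
    exact mul_mem (pow_mem (Subgroup.subset_closure (by simp)) _)
      (pow_mem (Subgroup.subset_closure (by simp)) _)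

end Cfsg.Agent.SL23
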