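import Cfsg.Agent.Lib.PSL2.PSLPartition

/-!
Conjugacy class sizes of `PSL(2, q)`, and the `ABA` factorisation for even `q`.
-/

set_option autoImplicit false

open Matrix
open scoped MatrixGroups

namespace Cfsg.Agent.PSL2

variable {F : Type*} [Field F] [Fintype F]

theorem index_centralizer_mk_mul {g : SL(2, F)} (ht : tr g ≠ 0 ∨ (2 : F) = 0) :
    (Subgroup.centralizer ({mk g} : Set PSL(2, F))).index * Nat.card (cent g) =
      Fintype.card F * (Fintype.card F - 1) * (Fintype.card F + 1) := by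
  rw [psl_centralizer_eq ht, ← card_map_cent g, mul_left_comm, Subgroup.index_mul_card,
    gcd_mul_card_PSL, q_sq_sub_one]
  ring

theorem exists_torus_tr_ne_zero (ε : Bool) (h : 7 ≤ Fintype.card F ∨ (2 : F) = 0 ∧ 4 ≤ Fintype.card F) :
    ∃ g : SL(2, F), tr g ^ 2 ≠ 4 ∧ (tr g ≠ 0 ∨ (2 : F) = 0) ∧
      Nat.card (cent g) = if ε then Fintype.card F + 1 else Fintype.card F - 1 := by
  obtain ⟨g, h4, hg⟩ : ∃ g : SL(2, F), tr g ^ 2 ≠ 4 ∧
      Nat.card (cent g) = if ε then Fintype.card F + 1 else Fintype.card F - 1 := by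
    cases ε
    · obtain ⟨g, hg⟩ := exists_torus_card_sub_one (F := F) (by omega)
      exact ⟨g, hg⟩
    · obtain ⟨g, hg⟩ := exists_torus_card_add_one F
      exact ⟨g, hg⟩
  rcases h with h7 | ⟨h2, -⟩
  swap
  · exact ⟨g, h4, Or.inr h2, hg⟩
  obtain ⟨z, hz⟩ := (isCyclic_cent h4).exists_generator
  have hzo : orderOf (z : SL(2, F)) = Nat.card (cent g) := by
    rw [Subgroup.orderOf_coe, orderOf_eq_card_of_forall_mem_zpowers hz]
  have h6 : 6 ≤ Nat.card (cent g) := by rw [hg]; cases ε <;> simp <;> omega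
  have hznc : (z : SL(2, F)) ∉ Subgroup.center SL(2, F) := fun hc => by
    have : orderOf (z : SL(2, F)) ≤ 2 := by
      rcases mem_center_iff_pm.1 hc with e | e <;> rw [e]
      · simp
      · exact Nat.le_of_dvd two_pos (orderOf_dvd_of_pow_eq_one (by simp))
    omega
  have hcent : cent (z : SL(2, F)) = cent g :=
    cent_eq_cent (not_mem_center_of_tr h4) hznc (mem_cent.1 z.2)
  refine ⟨z, tr_sq_ne_four_of_commute h4 hznc (mem_cent.1 z.2), Or.inl fun h0 => ?_, by rw [hcent]; exact hg⟩
  have : orderOf (z : SL(2, F)) ≤ 4 := Nat.le_of_dvd (by norm_num) (orderOf_dvd_of_pow_eq_one (by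
    rw [show (4 : ℕ) = 2 * 2 from rfl, pow_mul, pow_two (z : SL(2, F)),
      sq_eq_neg_one_of_tr_eq_zero h0]
    simp))
  omega

/-- The class sizes of `PSL(2, q)`, `q` even. -/
theorem class_sizes_even (h2 : (2 : F) = 0) (h4 : 4 ≤ Fintype.card F) :
    Set.range (fun g : PSL(2, F) => (Subgroup.centralizer ({g} : Set PSL(2, F))).index) =
      {1, Fintype.card F * (Fintype.card F - 1), Fintype.card F ^ 2 - 1,
        Fintype.card F * (Fintype.card F + 1)} := by
  have hd : Nat.gcd 2 (Fintype.card F - 1) = 1 := by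
    obtain ⟨k, hk⟩ := even_card_iff.2 h2
    rw [Nat.gcd_rec, show (Fintype.card F - 1) % 2 = 1 by omega]; rfl
  have hq := one_lt_q (F := F)
  ext n
  simp only [Set.mem_range, Set.mem_insert_iff, Set.mem_singleton_iff]
  constructor
  · rintro ⟨x, rfl⟩
    obtain ⟨g, rfl⟩ := mk_surjective x
    by_cases hg : g ∈ Subgroup.center SL(2, F)
    · left
      rw [mk_eq_one.2 (mem_center_iff_pm.1 hg), Subgroup.index_eq_one, eq_top_iff]
      intro y _
      simp [Subgroup.mem_centralizer_singleton_iff]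
    right
    have h := index_centralizer_mk_mul (g := g) (Or.inr h2)
    by_cases h4g : tr g ^ 2 = 4
    · right; left
      obtain ⟨k, hk⟩ := parabolic_of_tr hg h4g
      rw [hk, Part.Partition.card_map_conj, card_pmUnip, hd, one_mul] at h
      rw [q_sq_sub_one]
      exact Nat.eq_of_mul_eq_mul_right (by omega) (h.trans (by ring))
    · rcases card_cent_of_tr h4g with e | e <;> rw [e] at h
      · right; right
        exact Nat.eq_of_mul_eq_mul_right (by omega) (h.trans (by ring))
      · left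
        exact Nat.eq_of_mul_eq_mul_right (by omega) h
  · rintro (rfl | rfl | rfl | rfl)
    · exact ⟨1, by rw [Subgroup.index_eq_one, eq_top_iff]; intro y _; simp [Subgroup.mem_centralizer_singleton_iff]⟩
    · obtain ⟨g, h4g, ht, hg⟩ := exists_torus_tr_ne_zero true (Or.inr ⟨h2, h4⟩)
      have h := index_centralizer_mk_mul ht
      rw [hg, if_pos rfl] at h
      exact ⟨mk g, Nat.eq_of_mul_eq_mul_right (by omega) h⟩
    · have h := index_centralizer_mk_mul (g := uu (1 : F)) (Or.inr h2)
      rw [cent_uu one_ne_zero, card_pmUnip, hd, one_mul] at h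
      refine ⟨mk (uu (1 : F)), ?_⟩
      rw [q_sq_sub_one]
      exact Nat.eq_of_mul_eq_mul_right (by omega) (h.trans (by ring))
    · obtain ⟨g, h4g, ht, hg⟩ := exists_torus_tr_ne_zero false (Or.inr ⟨h2, h4⟩)
      have h := index_centralizer_mk_mul ht
      rw [hg, if_neg (by simp)] at h
      exact ⟨mk g, Nat.eq_of_mul_eq_mul_right (by omega) (h.trans (by ring))⟩

/-- The class sizes of `PSL(2, q)`, `q` odd; `c` is the order of the involution centralisers. -/
theorem class_sizes_odd (h2 : (2 : F) ≠ 0) (h7 : 7 ≤ Fintype.card F) {c : ℕ}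
    (hc : ∀ x : PSL(2, F), orderOf x = 2 → Nat.card (Subgroup.centralizer ({x} : Set PSL(2, F))) = c)
    (hcpos : 0 < c) {N : ℕ} (hN : 2 * (N * c) = Fintype.card F * (Fintype.card F ^ 2 - 1)) :
    Set.range (fun g : PSL(2, F) => (Subgroup.centralizer ({g} : Set PSL(2, F))).index) =
      {1, (Fintype.card F ^ 2 - 1) / 2, N,
        Fintype.card F * (Fintype.card F - 1), Fintype.card F * (Fintype.card F + 1)} := by
  have hd : Nat.gcd 2 (Fintype.card F - 1) = 2 := by
    obtain ⟨k, hk⟩ := odd_card_iff.2 h2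
    exact Nat.gcd_eq_left ⟨k, by omega⟩
  have hq := one_lt_q (F := F)
  have hinv : ∀ x : PSL(2, F), orderOf x = 2 →
      (Subgroup.centralizer ({x} : Set PSL(2, F))).index = N := by
    intro x hx
    have h := (Subgroup.centralizer ({x} : Set PSL(2, F))).index_mul_card
    rw [hc x hx] at h
    refine Nat.eq_of_mul_eq_mul_right hcpos ?_
    have := two_mul_card_PSL h2
    omega
  have hsq := q_sq_sub_one (F := F)
  obtain ⟨e, he⟩ : 2 ∣ Fintype.card F ^ 2 - 1 := by
    rw [hsq]
    obtain ⟨k, hk⟩ := odd_card_iff.2 h2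
    exact Dvd.dvd.mul_right ⟨k + 1, by omega⟩ _
  have hmid : ∀ m, m * (2 * Fintype.card F) =
      Fintype.card F * (Fintype.card F - 1) * (Fintype.card F + 1) →
      m = (Fintype.card F ^ 2 - 1) / 2 := by
    intro m hm
    have h' : Fintype.card F * (2 * m) = Fintype.card F * (Fintype.card F ^ 2 - 1) := by
      rw [hsq]; linarith
    have := Nat.eq_of_mul_eq_mul_left (by omega) h'
    omega
  ext n
  simp only [Set.mem_range, Set.mem_insert_iff, Set.mem_singleton_iff]
  constructor
  · rintro ⟨x, rfl⟩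
    obtain ⟨g, rfl⟩ := mk_surjective x
    by_cases hg : g ∈ Subgroup.center SL(2, F)
    · left
      rw [mk_eq_one.2 (mem_center_iff_pm.1 hg), Subgroup.index_eq_one, eq_top_iff]
      intro y _
      simp [Subgroup.mem_centralizer_singleton_iff]
    right
    by_cases h0 : tr g = 0
    · exact Or.inr (Or.inl (hinv _ (orderOf_mk_eq_two h0 hg)))
    have h := index_centralizer_mk_mul (g := g) (Or.inl h0)
    by_cases h4g : tr g ^ 2 = 4
    · left
      obtain ⟨k, hk⟩ := parabolic_of_tr hg h4g
      rw [hk, Part.Partition.card_map_conj, card_pmUnip, hd] at h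
      exact hmid _ h
    · right; right
      rcases card_cent_of_tr h4g with e | e <;> rw [e] at h
      · right
        exact Nat.eq_of_mul_eq_mul_right (by omega) (h.trans (by ring))
      · left
        exact Nat.eq_of_mul_eq_mul_right (by omega) h
  · rintro (rfl | rfl | rfl | rfl | rfl)
    · exact ⟨1, by rw [Subgroup.index_eq_one, eq_top_iff]; intro y _; simp [Subgroup.mem_centralizer_singleton_iff]⟩
    · have h := index_centralizer_mk_mul (g := uu (1 : F)) (Or.inl (by rw [tr_uu]; exact h2))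
      rw [cent_uu one_ne_zero, card_pmUnip, hd] at h
      exact ⟨mk (uu (1 : F)), hmid _ h⟩
    · exact ⟨mk (ell 0), hinv _ (orderOf_mk_eq_two (by simp) (not_mem_center_of_tr
        (tr_sq_ne_four_of_tr_eq_zero h2 (by simp))))⟩
    · obtain ⟨g, h4g, ht, hg⟩ := exists_torus_tr_ne_zero (F := F) true (Or.inl h7)
      have h := index_centralizer_mk_mul ht
      rw [hg, if_pos rfl] at h
      exact ⟨mk g, Nat.eq_of_mul_eq_mul_right (by omega) h⟩
    · obtain ⟨g, h4g, ht, hg⟩ := exists_torus_tr_ne_zero (F := F) false (Or.inl h7)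
      have h := index_centralizer_mk_mul ht
      rw [hg, if_neg (by simp)] at h
      exact ⟨mk g, Nat.eq_of_mul_eq_mul_right (by omega) (h.trans (by ring))⟩

/-- For even `q`: `SL(2, q)` is the product `A U A` for an elliptic torus `A`. -/
theorem exists_aba (h2 : (2 : F) = 0) {t : F} (ht : IsEll t) (g : SL(2, F)) :
    ∃ a ∈ cent (ell t), ∃ s, ∃ c ∈ cent (ell t), g = a * uu s * c := by
  classical
  set A := cent (ell t) with hA
  have ht' : IsEll (tr (ell t)) := by rwa [tr_ell]
  have h4 := ht'.sq_ne_four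
  have hAcard : Nat.card A = Fintype.card F + 1 := ht'.card_cent
  have hbot : ∀ z : SL(2, F), z ∈ Subgroup.center SL(2, F) → z = 1 := fun z hz => by
    rcases mem_center_iff_pm.1 hz with h | h
    · exact h
    · rw [h, neg_one_eq_one_iff.2 h2]
  have comm : ∀ x ∈ A, ∀ y : SL(2, F), tr (x * y * x⁻¹ * ell t) = tr (y * ell t) := by
    intro x hx y
    have hxc := (mem_cent.1 hx).eq
    rw [show x * y * x⁻¹ * ell t = x * (y * ell t) * x⁻¹ by
      rw [mul_assoc (x * y) x⁻¹ (ell t), mul_assoc x (y * ell t) x⁻¹, mul_assoc y (ell t) x⁻¹,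
        ((mem_cent.1 hx).inv_left).eq]
      group, tr_conj]
  -- the invariant of a double coset
  let φ : SL(2, F) → F := fun x => tr (x * ell t * x⁻¹ * ell t)
  have hinvl : ∀ x y : SL(2, F), x ∈ A → φ (x * y) = φ y := by
    intro x y hx
    show tr (x * y * ell t * (x * y)⁻¹ * ell t) = _
    rw [show x * y * ell t * (x * y)⁻¹ = x * (y * ell t * y⁻¹) * x⁻¹ by group]
    exact comm x hx _
  have hinvr : ∀ x y : SL(2, F), y ∈ A → φ (x * y) = φ x := by
    intro x y hy
    show tr (x * y * ell t * (x * y)⁻¹ * ell t) = _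
    rw [show x * y * ell t * (x * y)⁻¹ = x * (y * ell t * y⁻¹) * x⁻¹ by group,
      mul_inv_eq_iff_eq_mul.2 (mem_cent.1 hy).eq]
  have hφ : ∀ s, φ (uu s) = t ^ 2 + s ^ 2 := by
    intro s
    simp only [φ, tr_def, uu_inv, mul00, mul01, mul10, mul11, uu00, uu01, uu10, uu11, ell00, ell01,
      ell10, ell11]
    linear_combination (-1 - s ^ 2) * h2
  have hφinj : ∀ s s', φ (uu s) = φ (uu s') → s = s' := by
    intro s s' h
    rw [hφ, hφ] at h
    have : (s - s') * (s - s') = 0 := by linear_combination h + (s' ^ 2 - s * s') * h2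
    exact sub_eq_zero.1 (mul_self_eq_zero.1 this)
  let D : F → Finset SL(2, F) := fun s =>
    Finset.univ.image fun x : A × A => (x.1 : SL(2, F)) * uu s * x.2
  have hD : ∀ s x, x ∈ D s → φ x = φ (uu s) := by
    intro s x hx
    obtain ⟨⟨a, c⟩, -, rfl⟩ := Finset.mem_image.1 hx
    rw [hinvr _ _ c.2, hinvl _ _ a.2]
  have hdisj : (Set.univ : Set F).PairwiseDisjoint D := by
    intro s _ s' _ hne
    refine Finset.disjoint_left.2 fun x hx hx' => hne (hφinj _ _ ?_)
    rw [← hD s x hx, hD s' x hx']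
  set N := Subgroup.normalizer (A : Set SL(2, F)) with hN
  have hbig : ∀ s, uu s ∉ N → (D s).card = (Fintype.card F + 1) ^ 2 := by
    intro s hs
    rw [Finset.card_image_of_injective, Finset.card_univ, Fintype.card_prod, ← Nat.card_eq_fintype_card,
      hAcard, sq]
    rintro ⟨a, c⟩ ⟨a', c'⟩ h
    have h' : (a : SL(2, F)) * uu s * c = a' * uu s * c' := h
    have hcc : (c : SL(2, F)) = c' := by
      by_contra hne
      refine hs ((mem_normalizer_cent h4).2 (eq_or_eq_inv_of_tr_eq h4 ?_ (tr_conj _ _)))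
      set z := (c : SL(2, F)) * (c' : SL(2, F))⁻¹ with hz
      have hzA : z ∈ A := A.mul_mem c.2 (A.inv_mem c'.2)
      have hz1 : z ∉ Subgroup.center SL(2, F) := fun hc => hne (mul_inv_eq_one.1 (hbot _ hc))
      have hmem : uu s * z * (uu s)⁻¹ ∈ A := by
        have : uu s * z * (uu s)⁻¹ = (a : SL(2, F))⁻¹ * a' := by
          rw [hz, eq_inv_mul_iff_mul_eq]
          calc (a : SL(2, F)) * (uu s * (c * (c' : SL(2, F))⁻¹) * (uu s)⁻¹)
              = (a * uu s * c) * (c' : SL(2, F))⁻¹ * (uu s)⁻¹ := by group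
            _ = (a' : SL(2, F)) := by rw [h']; group
        rw [this]; exact A.mul_mem (A.inv_mem a.2) a'.2
      have hz1' : uu s * z * (uu s)⁻¹ ∉ Subgroup.center SL(2, F) := fun hc => hz1 (by
        have := Subgroup.Normal.conj_mem inferInstance _ hc (uu s)⁻¹
        simpa [mul_assoc] using this)
      have e1 := cent_eq_cent (not_mem_center_of_tr h4) hz1 (mem_cent.1 hzA)
      have e2 := cent_eq_cent (not_mem_center_of_tr h4) hz1' (mem_cent.1 hmem)
      rw [cent_conj, e1] at e2
      refine mem_cent.1 ?_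
      rw [← e2]
      exact Subgroup.mem_map_of_mem _ (mem_cent.2 (Commute.refl _))
    refine Prod.ext (Subtype.ext ?_) (Subtype.ext hcc)
    rw [hcc] at h'
    exact mul_right_cancel (mul_right_cancel h')
  have hsmall : ∀ s, Fintype.card F + 1 ≤ (D s).card := by
    intro s
    rw [← hAcard, Nat.card_eq_fintype_card, ← Finset.card_univ]
    refine Finset.card_le_card_of_injOn (fun a : A => (a : SL(2, F)) * uu s)
      (fun a _ => Finset.mem_image.2 ⟨(a, 1), Finset.mem_univ _, by simp⟩) ?_
    intro a _ b _ h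
    exact Subtype.ext (mul_right_cancel h)
  have htwo : (Finset.univ.filter fun s => uu s ∈ N).card ≤ 2 := by
    refine le_trans ?_ (le_of_eq Fintype.card_bool)
    rw [← Finset.card_univ (α := Bool)]
    refine Finset.card_le_card_of_injOn (fun s => decide (uu s ∈ A)) (fun _ _ => Finset.mem_univ _) ?_
    intro s hs s' hs' h
    have hs1 : uu s ∈ N := (Finset.mem_filter.1 hs).2
    have hs2 : uu s' ∈ N := (Finset.mem_filter.1 hs').2
    simp only [decide_eq_decide] at h
    apply hφinj
    suffices hmem : uu s' * (uu s)⁻¹ ∈ A by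
      rw [← hinvl _ (uu s) hmem, inv_mul_cancel_right]
    by_cases ha : uu s ∈ A
    · exact A.mul_mem (h.1 ha) (A.inv_mem ha)
    · have i1 := inverting_of_mem_normalizer h4 hs1 ha _ (mem_cent.2 (Commute.refl _))
      have i2 := inverting_of_mem_normalizer h4 hs2 (fun hh => ha (h.2 hh)) _ (mem_cent.2 (Commute.refl _))
      refine mem_cent.2 (mul_inv_eq_iff_eq_mul.1 ?_)
      have i1' : (uu s)⁻¹ * ell t * uu s = (ell t)⁻¹ := by
        have e : ell t = uu s * (ell t)⁻¹ * (uu s)⁻¹ := by rw [← conj_inv, i1, inv_inv]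
        conv_lhs => rw [e]
        group
      rw [show uu s' * (uu s)⁻¹ * ell t * (uu s' * (uu s)⁻¹)⁻¹ =
        uu s' * ((uu s)⁻¹ * ell t * uu s) * (uu s')⁻¹ by group, i1', ← conj_inv, i2, inv_inv]
  have hcover : (Finset.univ : Finset F).biUnion D = Finset.univ := by
    refine Finset.eq_univ_of_card _ (le_antisymm (Finset.card_le_univ _) ?_)
    rw [Finset.card_biUnion (fun s _ s' _ h => hdisj (Set.mem_univ s) (Set.mem_univ s') h),
      ← Finset.sum_filter_add_sum_filter_not Finset.univ (fun s => uu s ∈ N),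
      ← Nat.card_eq_fintype_card, card_SL']
    have h1 := Finset.card_nsmul_le_sum (Finset.univ.filter fun s => uu s ∈ N)
      (fun s => (D s).card) _ (fun s _ => hsmall s)
    have h2' := Finset.sum_congr (f := fun s => (D s).card)
      (g := fun _ => (Fintype.card F + 1) ^ 2)
      (rfl : Finset.univ.filter (fun s => ¬ uu s ∈ N) = _) (fun s hs => hbig s (Finset.mem_filter.1 hs).2)
    rw [h2', Finset.sum_const, smul_eq_mul]
    rw [smul_eq_mul] at h1
    have hsum := Finset.card_filter_add_card_filter_not (s := (Finset.univ : Finset F))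
      (fun s => uu s ∈ N)
    rw [Finset.card_univ] at hsum
    set i := (Finset.univ.filter fun s => uu s ∈ N).card
    set j := (Finset.univ.filter fun s => ¬ uu s ∈ N).card
    have hq := one_lt_q (F := F)
    obtain ⟨k, hk⟩ : ∃ k, Fintype.card F = k + 2 := ⟨Fintype.card F - 2, by omega⟩
    rw [hk] at hsum h1 ⊢
    rw [show k + 2 - 1 = k + 1 by omega]
    rcases (show i = 0 ∨ i = 1 ∨ i = 2 by omega) with e | e | e <;> rw [e] at h1 hsum <;>
      [rw [show j = k + 2 by omega]; rw [show j = k + 1 by omega]; rw [show j = k by omega]] <;>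
      nlinarith
  obtain ⟨s, -, hs⟩ := Finset.mem_biUnion.1 (hcover.symm ▸ Finset.mem_univ g)
  obtain ⟨⟨a, c⟩, -, h⟩ := Finset.mem_image.1 hs
  exact ⟨a, a.2, s, c, c.2, h.symm⟩

end Cfsg.Agent.PSL2
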