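import Cfsg.Agent.Lib.PSL2.Classes
import Mathlib.GroupTheory.Subgroup.Centralizer
import Mathlib.GroupTheory.Index

/-!
# Central products of two copies of SL₂ over odd fields

* `sq_neg_one_tr`, `isConj_of_sq_neg_one`: square roots of `-1` in SL₂ are conjugate
* `commute_trans'`: commuting is transitive through a noncentral element
* `eq_center_of_commute_normal`: two normal subgroups that centralise each other: one is central
* `Data`: the subgroups `L₁ L₂` with `L₁ ∩ L₂ = ⟨j⟩`; `Data.le_or_le`: a copy of SL₂ normal in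
  `L₁ L₂` lies in a factor
-/

set_option autoImplicit false
set_option linter.unusedSectionVars false

open scoped MatrixGroups commutatorElement

namespace Cfsg.Agent.PSL2

variable {F : Type*} [Field F] [Fintype F]

theorem tr_eq_zero_of_mul_self_eq_neg_one {g : SL(2, F)} (h : g * g = -1) : tr g = 0 := by
  have e00 : (g * g) 0 0 = -1 := by rw [h]; simp
  have e01 : (g * g) 0 1 = 0 := by rw [h]; simp
  have e10 : (g * g) 1 0 = 0 := by rw [h]; simp
  rw [mul00] at e00; rw [mul01] at e01; rw [mul10] at e10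
  have hd := det_eq g
  unfold tr
  by_contra hs
  have hb := (mul_eq_zero.1 (show (g 0 0 + g 1 1) * g 0 1 = 0 by linear_combination e01)).resolve_left hs
  have hc := (mul_eq_zero.1 (show (g 0 0 + g 1 1) * g 1 0 = 0 by linear_combination e10)).resolve_left hs
  rw [hb, hc, mul_zero, add_zero] at e00
  rw [hb, zero_mul, sub_zero] at hd
  have ha : (g 0 0) * (g 0 0 + g 1 1) = 0 := by linear_combination e00 + hd
  rcases mul_eq_zero.1 ha with ha | ha
  · rw [ha, zero_mul] at hd; exact zero_ne_one hd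
  · exact hs ha

theorem not_central_of_mul_self_eq_neg_one (h2 : (2 : F) ≠ 0) {g : SL(2, F)} (h : g * g = -1) :
    g ∉ Subgroup.center SL(2, F) := by
  intro hc
  rcases mem_center_iff_pm.1 hc with rfl | rfl
  · rw [one_mul] at h; exact neg_one_ne_one h2 h.symm
  · rw [neg_mul_neg, one_mul] at h; exact neg_one_ne_one h2 h.symm

/-- Square roots of `-1` are conjugate. -/
theorem isConj_of_sq_neg_one (h2 : (2 : F) ≠ 0) {g h : SL(2, F)} (hg : g * g = -1) (hh : h * h = -1) :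
    IsConj g h :=
  tr_zero_isConj (tr_eq_zero_of_mul_self_eq_neg_one hg) (tr_eq_zero_of_mul_self_eq_neg_one hh)
    (not_central_of_mul_self_eq_neg_one h2 hg) (not_central_of_mul_self_eq_neg_one h2 hh)

theorem commute_entries {x y : SL(2, F)} (h : Commute x y) :
    x 0 1 * y 1 0 = y 0 1 * x 1 0 ∧ (x 0 0 - x 1 1) * y 0 1 = x 0 1 * (y 0 0 - y 1 1) ∧
      (x 0 0 - x 1 1) * y 1 0 = x 1 0 * (y 0 0 - y 1 1) := by
  have e := h.eq
  have e00 : (x * y) 0 0 = (y * x) 0 0 := by rw [e]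
  have e01 : (x * y) 0 1 = (y * x) 0 1 := by rw [e]
  have e10 : (x * y) 1 0 = (y * x) 1 0 := by rw [e]
  rw [mul00, mul00] at e00; rw [mul01, mul01] at e01; rw [mul10, mul10] at e10
  exact ⟨by linear_combination e00, by linear_combination e01, by linear_combination -e10⟩

/-- Commuting is transitive through a noncentral element. -/
theorem commute_trans' {x x' y : SL(2, F)} (hy : y ∉ Subgroup.center SL(2, F)) (h : Commute x y)
    (h' : Commute x' y) : Commute x x' := by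
  obtain ⟨a1, a2, a3⟩ := commute_entries h
  obtain ⟨b1, b2, b3⟩ := commute_entries h'
  have hne : y 0 1 ≠ 0 ∨ y 1 0 ≠ 0 ∨ y 0 0 - y 1 1 ≠ 0 := by
    by_contra hc
    push Not at hc
    exact hy (mem_center_iff_entries.2 ⟨hc.1, hc.2.1, sub_eq_zero.1 hc.2.2⟩)
  have k1 : x 0 1 * x' 1 0 = x' 0 1 * x 1 0 := by
    rcases hne with hn | hn | hn <;> refine mul_right_cancel₀ hn ?_
    · linear_combination x' 0 1 * a1 - x 0 1 * b1
    · linear_combination x' 1 0 * a1 - x 1 0 * b1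
    · linear_combination (x' 0 0 - x' 1 1) * a1 - x 0 1 * b3 + x 1 0 * b2
  have k2 : (x 0 0 - x 1 1) * x' 0 1 = x 0 1 * (x' 0 0 - x' 1 1) := by
    rcases hne with hn | hn | hn <;> refine mul_right_cancel₀ hn ?_
    · linear_combination x' 0 1 * a2 - x 0 1 * b2
    · linear_combination x' 0 1 * a3 - x 0 1 * b3 - (y 0 0 - y 1 1) * k1
    · linear_combination (x' 0 0 - x' 1 1) * a2 - (x 0 0 - x 1 1) * b2
  have k3 : (x 0 0 - x 1 1) * x' 1 0 = x 1 0 * (x' 0 0 - x' 1 1) := by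
    rcases hne with hn | hn | hn <;> refine mul_right_cancel₀ hn ?_
    · linear_combination x' 1 0 * a2 - x 1 0 * b2 + (y 0 0 - y 1 1) * k1
    · linear_combination x' 1 0 * a3 - x 1 0 * b3
    · linear_combination (x' 0 0 - x' 1 1) * a3 - (x 0 0 - x 1 1) * b3
  apply ext2 <;> simp only [mul00, mul01, mul10, mul11]
  · linear_combination k1
  · linear_combination k2
  · linear_combination -k3
  · linear_combination -k1

/-- An element commuting with all its conjugates is central. -/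
theorem central_of_commute_conj (h2 : (2 : F) ≠ 0) {x : SL(2, F)}
    (h : ∀ g : SL(2, F), Commute x (g * x * g⁻¹)) : x ∈ Subgroup.center SL(2, F) := by
  have hu := (h (uu 1)).eq
  have hl := (h (ll 1)).eq
  have hu10 := congrArg (fun m : SL(2, F) => m 1 0) hu
  have hu01 := congrArg (fun m : SL(2, F) => m 0 1) hu
  have hl01 := congrArg (fun m : SL(2, F) => m 0 1) hl
  simp only [uu_inv, ll_inv, mul00, mul01, mul10, mul11, uu00, uu01, uu10, uu11, ll00, ll01, ll10,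
    ll11] at hu10 hu01 hl01
  have hc : x 1 0 = 0 := by
    have : (2 : F) * (x 1 0 * x 1 0) = 0 := by linear_combination hu10
    exact mul_self_eq_zero.1 ((mul_eq_zero.1 this).resolve_left h2)
  have hb : x 0 1 = 0 := by
    have : (2 : F) * (x 0 1 * x 0 1) = 0 := by linear_combination hl01
    exact mul_self_eq_zero.1 ((mul_eq_zero.1 this).resolve_left h2)
  rw [hc, hb] at hu01
  refine mem_center_iff_entries.2 ⟨hb, hc, ?_⟩
  have : (x 1 1 - x 0 0) * (x 1 1 - x 0 0) = 0 := by linear_combination -hu01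
  exact (sub_eq_zero.1 (mul_self_eq_zero.1 this)).symm

theorem eq_center_of_commute_normal (h2 : (2 : F) ≠ 0) {N M : Subgroup SL(2, F)} [hN : N.Normal]
    (h : ∀ a ∈ N, ∀ b ∈ M, Commute a b) :
    N ≤ Subgroup.center SL(2, F) ∨ M ≤ Subgroup.center SL(2, F) := by
  by_contra hc
  rw [not_or, SetLike.not_le_iff_exists, SetLike.not_le_iff_exists] at hc
  obtain ⟨⟨x, hx, hxc⟩, ⟨y, hy, hyc⟩⟩ := hc
  exact hxc (central_of_commute_conj h2 fun g =>
    commute_trans' hyc (h x hx y hy) (h _ (hN.conj_mem x hx g) y hy))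

/-- An element commuting up to sign with everything is central. -/
theorem central_of_commutator_central (h2 : (2 : F) ≠ 0) {a : SL(2, F)}
    (h : ∀ g : SL(2, F), ⁅a, g⁆ ∈ Subgroup.center SL(2, F)) : a ∈ Subgroup.center SL(2, F) := by
  have key : ∀ u : SL(2, F), tr u = 2 → Commute a u := by
    intro u hu
    rcases mem_center_iff_pm.1 (h u) with hc | hc
    · exact commutatorElement_eq_one_iff_commute.1 hc
    · exfalso
      have e : a * u * a⁻¹ = -u := by
        rw [neg_eq_neg_one_mul, ← hc, commutatorElement_def]; group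
      have e' := tr_conj a u
      rw [e, tr_neg, hu] at e'
      have : (2 : F) * 2 = 0 := by linear_combination -e'
      rcases mul_eq_zero.1 this with h' | h' <;> exact h2 h'
  have htop : Subgroup.centralizer ({a} : Set SL(2, F)) = ⊤ := eq_top_of_uu_ll
    (fun t => Subgroup.mem_centralizer_singleton_iff.2 (key (uu t) (by simp [tr, uu]; norm_num)).eq.symm)
    (fun t => Subgroup.mem_centralizer_singleton_iff.2 (key (ll t) (by simp [tr, ll]; norm_num)).eq.symm)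
  exact Subgroup.mem_center_iff.2 fun g =>
    Subgroup.mem_centralizer_singleton_iff.1 (htop.symm.le (Subgroup.mem_top g))

namespace CentralProduct

variable {G : Type*} [Group G]

theorem two_ne_zero_of_odd_card (hF : Odd (Fintype.card F)) : (2 : F) ≠ 0 := odd_card_iff.1 hF

theorem map_j {L : Subgroup G} (e : ↥L ≃* SL(2, F)) (h2 : (2 : F) ≠ 0) {j : G} (hjL : j ∈ L)
    (hj : orderOf j = 2) : e ⟨j, hjL⟩ = -1 :=
  eq_neg_one_of_orderOf_eq_two h2 (by rw [MulEquiv.orderOf_eq, Subgroup.orderOf_mk, hj])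

theorem mem_center_iff {L : Subgroup G} (e : ↥L ≃* SL(2, F)) (h2 : (2 : F) ≠ 0) {j : G} (hjL : j ∈ L)
    (hj : orderOf j = 2) (a : ↥L) : e a ∈ Subgroup.center SL(2, F) ↔ (a : G) = 1 ∨ (a : G) = j := by
  rw [mem_center_iff_pm, ← map_j e h2 hjL hj, ← map_one e]
  simp only [EmbeddingLike.apply_eq_iff_eq, Subtype.ext_iff, Subgroup.coe_one]

/-- In a copy of SL₂ the involution `j` is unique. -/
theorem eq_one_or_of_mul_self {L : Subgroup G} (e : ↥L ≃* SL(2, F)) (h2 : (2 : F) ≠ 0) {j : G}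
    (hjL : j ∈ L) (hj : orderOf j = 2) {c : G} (hc : c ∈ L) (hcc : c * c = 1) : c = 1 ∨ c = j := by
  refine (mem_center_iff e h2 hjL hj ⟨c, hc⟩).1 (mem_center_iff_pm.2 ?_)
  refine eq_pm_of_mul_self_eq_one h2 ?_
  rw [← map_mul, show (⟨c, hc⟩ : L) * ⟨c, hc⟩ = 1 from Subtype.ext hcc, map_one]

theorem mem_sup_iff {L₁ L₂ : Subgroup G} (hc : ∀ x ∈ L₁, ∀ y ∈ L₂, x * y = y * x) {g : G} :
    g ∈ L₁ ⊔ L₂ ↔ ∃ a ∈ L₁, ∃ b ∈ L₂, g = a * b := by
  constructor
  · intro hg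
    have hcn : L₁ ≤ Subgroup.centralizer (L₂ : Set G) := fun x hx =>
      Subgroup.mem_centralizer_iff.2 fun y hy => (hc x hx y hy).symm
    have hn : L₁ ≤ Subgroup.normalizer (L₂ : Set G) := hcn.trans (Subgroup.centralizer_le_normalizer _)
    have hg' : g ∈ ((L₁ ⊔ L₂ : Subgroup G) : Set G) := hg
    rw [Subgroup.coe_mul_of_left_le_normalizer_right L₁ L₂ hn] at hg'
    obtain ⟨a, ha, b, hb, rfl⟩ := Set.mem_mul.1 hg'
    exact ⟨a, ha, b, hb, rfl⟩
  · rintro ⟨a, ha, b, hb, rfl⟩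
    exact mul_mem (Subgroup.mem_sup_left ha) (Subgroup.mem_sup_right hb)

theorem mem_inf_cases {L₁ L₂ : Subgroup G} {j : G} (hj : orderOf j = 2)
    (hm : L₁ ⊓ L₂ = Subgroup.zpowers j) {g : G} (h1 : g ∈ L₁) (h2 : g ∈ L₂) : g = 1 ∨ g = j := by
  obtain ⟨k, hk⟩ := Subgroup.mem_zpowers_iff.1 (hm.le (Subgroup.mem_inf.2 ⟨h1, h2⟩))
  rw [← zpow_mod_orderOf, hj] at hk
  rcases Int.emod_two_eq_zero_or_one k with h | h
  · rw [show k % ((2 : ℕ) : ℤ) = 0 from h, zpow_zero] at hk; exact Or.inl hk.symm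
  · rw [show k % ((2 : ℕ) : ℤ) = 1 from h, zpow_one] at hk; exact Or.inr hk.symm

/-- A copy `M` of SL₂ inside `L₁ L₂` normalised by `L₁` meets `L₁` only in `{1, j}` or else lies in `L₁`. -/
theorem le_of_inf_le {F₁ : Type*} [Field F₁] [Fintype F₁] (h21 : (2 : F₁) ≠ 0)
    {L₁ L₂ M : Subgroup G} (e₁ : ↥L₁ ≃* SL(2, F₁)) (hc : ∀ x ∈ L₁, ∀ y ∈ L₂, x * y = y * x)
    {j : G} (hj : orderOf j = 2) (hm : L₁ ⊓ L₂ = Subgroup.zpowers j) (hMY : M ≤ L₁ ⊔ L₂)
    (hMn : L₁ ≤ Subgroup.normalizer (M : Set G))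
    (hle : ∀ g ∈ M, g ∈ L₁ → g = 1 ∨ g = j) : M ≤ L₂ := by
  have hjL : j ∈ L₁ ∧ j ∈ L₂ := (hm.symm.le (Subgroup.mem_zpowers j) : j ∈ L₁ ⊓ L₂)
  intro m hmM
  obtain ⟨a, ha, b, hb, rfl⟩ := (mem_sup_iff hc).1 (hMY hmM)
  have hcen : e₁ ⟨a, ha⟩ ∈ Subgroup.center SL(2, F₁) := by
    refine central_of_commutator_central h21 fun g => ?_
    obtain ⟨⟨l, hl⟩, rfl⟩ := e₁.surjective g
    rw [← map_commutatorElement, mem_center_iff e₁ h21 hjL.1 hj]
    have h1 : a * b * l * (a * b)⁻¹ * l⁻¹ ∈ M := by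
      have h1' := M.mul_mem hmM ((Subgroup.mem_normalizer_iff.1 (hMn hl) _).1 (M.inv_mem hmM))
      simpa [mul_assoc] using h1'
    have h2 : a * b * l * (a * b)⁻¹ * l⁻¹ = ⁅a, l⁆ := by
      rw [commutatorElement_def]
      calc a * b * l * (a * b)⁻¹ * l⁻¹ = a * (b * l * b⁻¹) * a⁻¹ * l⁻¹ := by group
        _ = a * l * a⁻¹ * l⁻¹ := by rw [← hc l hl b hb]; group
    rw [h2] at h1
    have h3 : ⁅a, l⁆ ∈ L₁ := by
      rw [commutatorElement_def]; exact mul_mem (mul_mem (mul_mem ha hl) (inv_mem ha)) (inv_mem hl)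
    exact hle _ h1 h3
  rcases (mem_center_iff e₁ h21 hjL.1 hj ⟨a, ha⟩).1 hcen with h | h <;> simp only at h <;> rw [h]
  · rwa [one_mul]
  · exact mul_mem hjL.2 hb

/-- A copy of SL₂ that is normal in `L₁ L₂` lies in one of the factors. -/
theorem le_or_le {F₁ F₂ F₃ : Type*} [Field F₁] [Fintype F₁] [Field F₂] [Fintype F₂] [Field F₃] [Fintype F₃]
    (h21 : (2 : F₁) ≠ 0) (h22 : (2 : F₂) ≠ 0) (h23 : (2 : F₃) ≠ 0)
    {L₁ L₂ M : Subgroup G} (e₁ : ↥L₁ ≃* SL(2, F₁)) (e₂ : ↥L₂ ≃* SL(2, F₂)) (e : ↥M ≃* SL(2, F₃))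
    (hc : ∀ x ∈ L₁, ∀ y ∈ L₂, x * y = y * x)
    {j : G} (hj : orderOf j = 2) (hm : L₁ ⊓ L₂ = Subgroup.zpowers j) (hjM : j ∈ M) (hMY : M ≤ L₁ ⊔ L₂)
    (hMn : L₁ ⊔ L₂ ≤ Subgroup.normalizer (M : Set G)) : M ≤ L₁ ∨ M ≤ L₂ := by
  have hc' : ∀ x ∈ L₂, ∀ y ∈ L₁, x * y = y * x := fun x hx y hy => (hc y hy x hx).symm
  have hcn : L₂ ≤ Subgroup.centralizer (L₁ : Set G) := fun x hx =>
    Subgroup.mem_centralizer_iff.2 fun y hy => (hc' x hx y hy).symm
  have hL₁ : L₁ ⊔ L₂ ≤ Subgroup.normalizer (L₁ : Set G) := sup_le Subgroup.le_normalizer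
    (hcn.trans (Subgroup.centralizer_le_normalizer _))
  have hn : (((L₁ ⊓ M).subgroupOf M).map e.toMonoidHom).Normal := by
    refine Subgroup.Normal.map ?_ _ e.surjective
    rw [Subgroup.normal_subgroupOf_iff_le_normalizer inf_le_right]
    exact (le_inf (hMY.trans hL₁) Subgroup.le_normalizer).trans Subgroup.inf_normalizer_le_normalizer_inf
  rcases eq_center_of_commute_normal h23 (hN := hn) (N := ((L₁ ⊓ M).subgroupOf M).map e.toMonoidHom)
      (M := ((L₂ ⊓ M).subgroupOf M).map e.toMonoidHom)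
      (by
        rintro _ ⟨⟨a, haM⟩, ha, rfl⟩ _ ⟨⟨b, hbM⟩, hb, rfl⟩
        exact Commute.map (Subtype.ext (hc a ha.1 b hb.1) : Commute (⟨a, haM⟩ : M) ⟨b, hbM⟩) e.toMonoidHom)
    with h | h
  · refine Or.inr (le_of_inf_le h21 e₁ hc hj hm hMY (le_sup_left.trans hMn) fun g hgM hgL => ?_)
    exact (mem_center_iff e h23 hjM hj ⟨g, hgM⟩).1 (h ⟨⟨g, hgM⟩, ⟨hgL, hgM⟩, rfl⟩)
  · refine Or.inl (le_of_inf_le h22 e₂ hc' hj (by rw [inf_comm, hm]) (by rwa [sup_comm]) (le_sup_right.trans hMn)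
      fun g hgM hgL => ?_)
    exact (mem_center_iff e h23 hjM hj ⟨g, hgM⟩).1 (h ⟨⟨g, hgM⟩, ⟨hgL, hgM⟩, rfl⟩)

end CentralProduct

end Cfsg.Agent.PSL2
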