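import Cfsg.Agent.Lib.PSL2.Klein
import Cfsg.Agent.Lib.PSL2.PSLPartition

/-!
Centraliser and normaliser of a Sylow 2-subgroup of `SL(2, q)`, `q` odd.
-/

set_option autoImplicit false

open Matrix
open scoped MatrixGroups

namespace Cfsg.Agent.PSL2

theorem mem_zpowers_of_cyclic {G : Type*} [Group G] [Finite G] [IsCyclic G] {a c : G}
    (h : c ^ orderOf a = 1) : c ∈ Subgroup.zpowers a := by
  classical
  have := Fintype.ofFinite G
  have hsub : (Finset.univ.filter (· ∈ Subgroup.zpowers a)) =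
      Finset.univ.filter (fun x : G => x ^ orderOf a = 1) := by
    refine Finset.eq_of_subset_of_card_le (fun x hx => ?_) ?_
    · obtain ⟨i, rfl⟩ := Subgroup.mem_zpowers_iff.1 (Finset.mem_filter.1 hx).2
      refine Finset.mem_filter.2 ⟨Finset.mem_univ _, ?_⟩
      rw [← zpow_natCast, ← _root_.zpow_mul, mul_comm, _root_.zpow_mul, zpow_natCast,
        pow_orderOf_eq_one, _root_.one_zpow]
    · refine (IsCyclic.card_pow_eq_one_le (orderOf_pos a)).trans_eq ?_
      rw [← Nat.card_zpowers, Nat.card_eq_fintype_card]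
      exact Fintype.card_subtype _
  have : c ∈ Finset.univ.filter (fun x : G => x ^ orderOf a = 1) :=
    Finset.mem_filter.2 ⟨Finset.mem_univ _, h⟩
  rw [← hsub] at this
  exact (Finset.mem_filter.1 this).2

variable {F : Type*} [Field F] [Fintype F]

/-- `C(S) = Z`. -/
theorem centralizer_sylow_two (h2 : (2 : F) ≠ 0) (S : Sylow 2 SL(2, F)) :
    Subgroup.centralizer ((S : Subgroup SL(2, F)) : Set SL(2, F)) = Subgroup.center SL(2, F) := by
  refine le_antisymm (fun x hx => ?_) (Subgroup.center_le_centralizer _)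
  by_contra hxz
  obtain ⟨k, hk, -, ⟨e⟩⟩ := sylow_two_quaternion h2 S
  have hcomm : ∀ a b : (S : Subgroup SL(2, F)), a * b = b * a := by
    intro a b
    refine Subtype.ext (cent_comm hxz ?_ ?_).eq
    · exact (Subgroup.mem_centralizer_iff.1 hx a a.2)
    · exact (Subgroup.mem_centralizer_iff.1 hx b b.2)
  have h' : ∀ a b : QuaternionGroup (2 ^ k), a * b = b * a := fun a b => by
    simpa using congrArg e (hcomm (e.symm a) (e.symm b))
  have h1 := h' (QuaternionGroup.a 1) (QuaternionGroup.xa 0)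
  rw [QuaternionGroup.a_mul_xa, QuaternionGroup.xa_mul_a, QuaternionGroup.xa.injEq] at h1
  have hd : ((2 : ℕ) : ZMod (2 * 2 ^ k)) = 0 := by
    push_cast
    linear_combination -h1
  rw [ZMod.natCast_eq_zero_iff] at hd
  have := Nat.le_of_dvd two_pos hd
  have : 2 ^ 1 ≤ 2 ^ k := Nat.pow_le_pow_right two_pos hk
  omega

theorem card_normalizer_sylow_eq {p : ℕ} [Fact p.Prime] {G : Type*} [Group G] [Finite G]
    (S T : Sylow p G) :
    Nat.card (Subgroup.normalizer ((S : Subgroup G) : Set G)) =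
      Nat.card (Subgroup.normalizer ((T : Subgroup G) : Set G)) := by
  have h1 := (Subgroup.normalizer ((S : Subgroup G) : Set G)).index_mul_card
  have h2 := (Subgroup.normalizer ((T : Subgroup G) : Set G)).index_mul_card
  have e : (Subgroup.normalizer ((S : Subgroup G) : Set G)).index =
      (Subgroup.normalizer ((T : Subgroup G) : Set G)).index :=
    (S.card_eq_index_normalizer).symm.trans T.card_eq_index_normalizer
  rw [← e] at h2
  exact Nat.eq_of_mul_eq_mul_left (Nat.pos_of_ne_zero Subgroup.index_ne_zero_of_finite)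
    (h1.trans h2.symm)

/-- `q ≡ ±1 (mod 8)`: Sylow 2-subgroups are self-normalising. -/
theorem normalizer_sylow_two_eight (hq : Fintype.card F % 8 = 1 ∨ Fintype.card F % 8 = 7)
    (S : Sylow 2 SL(2, F)) :
    Subgroup.normalizer ((S : Subgroup SL(2, F)) : Set SL(2, F)) = (S : Subgroup SL(2, F)) := by
  have h2 : (2 : F) ≠ 0 := odd_card_iff.1 (Nat.odd_iff.2 (by omega))
  refine (Subgroup.eq_of_le_of_card_ge Subgroup.le_normalizer ?_).symm
  obtain ⟨m, g, a, w, hw, hw2, S₀, hm, hdvd, hndvd, hg, hac, -, ha, hwc, hwg, hww, hS, -⟩ :=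
    exists_sylow_two h2
  rw [card_normalizer_sylow_eq S S₀, Nat.card_congr (Sylow.equiv S S₀).toEquiv]
  refine Subgroup.card_le_of_le fun k hk => ?_
  have h4 := tr_sq_ne_four_of_tr_eq_zero h2 hg
  have hgnc := not_mem_center_of_tr h4
  have hm3 : 3 ≤ m := by
    have h8 : 2 ^ 3 ∣ Nat.card (cent g) := by
      obtain ⟨e1, e2⟩ := card_cent_of_tr_zero h2 hg
      rcases hq with h | h
      · rw [e1 (by omega)]; omega
      · rw [e2 (by omega)]; omega
    by_contra h
    exact hndvd ((pow_dvd_pow 2 (show m + 1 ≤ 3 by omega)).trans h8)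
  have haS : a ∈ (S₀ : Subgroup SL(2, F)) := hS ▸ Or.inl (Subgroup.mem_zpowers a)
  have hwS : w ∈ (S₀ : Subgroup SL(2, F)) := hS ▸ Or.inr hw2
  have hzc : Subgroup.zpowers a ≤ cent g := Subgroup.zpowers_le.2 hac
  have hout : ∀ x ∈ (S₀ : Subgroup SL(2, F)), x ∈ cent g → x ∈ Subgroup.zpowers a := by
    intro x hx hxc
    rw [hS] at hx
    exact hx.resolve_right fun h => hwc ((Subgroup.mul_mem_cancel_left _ hxc).1 (hzc h))
  have hin : ∀ x ∈ (S₀ : Subgroup SL(2, F)), 4 < orderOf x → x ∈ cent g := by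
    intro x hx h4'
    by_contra hxc
    rw [hS] at hx
    have hxw : x * w ∈ cent g := hzc (hx.resolve_left fun h => hxc (hzc h))
    have hinv : x * g * x⁻¹ = g⁻¹ := by
      rw [show x * g * x⁻¹ = (x * w) * (w⁻¹ * g * w⁻¹⁻¹) * (x * w)⁻¹ by group,
        show w⁻¹ * g * w⁻¹⁻¹ = g⁻¹ by
          have e : g = w * g⁻¹ * w⁻¹ := by rw [← conj_inv, hwg, inv_inv]
          conv_lhs => rw [e]
          group]
      exact mul_inv_eq_iff_eq_mul.2 ((mem_cent.1 hxw).inv_right).eq
    have : x ^ 4 = 1 := by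
      rw [show (4 : ℕ) = 2 * 2 from rfl, pow_mul, pow_two x, sq_eq_neg_one_of_inverting h4 hinv]
      simp
    have := Nat.le_of_dvd (by norm_num) (orderOf_dvd_of_pow_eq_one this)
    omega
  have hk' : ∀ x ∈ (S₀ : Subgroup SL(2, F)), k * x * k⁻¹ ∈ (S₀ : Subgroup SL(2, F)) := fun x hx =>
    (Subgroup.mem_normalizer_iff.1 hk x).1 hx
  have hanc : a ∉ Subgroup.center SL(2, F) := fun hc => by
    have : orderOf a ≤ 2 := by
      rcases mem_center_iff_pm.1 hc with e | e <;> rw [e]
      · simp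
      · exact Nat.le_of_dvd two_pos (orderOf_dvd_of_pow_eq_one (by simp))
    have : 2 ^ 3 ≤ 2 ^ m := Nat.pow_le_pow_right two_pos hm3
    omega
  have hcenta : cent a = cent g := cent_eq_cent hgnc hanc (mem_cent.1 hac)
  have hkn : k ∈ Subgroup.normalizer (cent g : Set SL(2, F)) := by
    have hord : orderOf (k * a * k⁻¹) = 2 ^ m := by
      rw [← ha]; exact orderOf_injective (MulAut.conj k).toMonoidHom (MulEquiv.injective _) a
    have hmem : k * a * k⁻¹ ∈ cent g := hin _ (hk' a haS) (by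
      rw [hord]
      have : 2 ^ 3 ≤ 2 ^ m := Nat.pow_le_pow_right two_pos hm3
      omega)
    rw [← hcenta] at hmem ⊢
    refine (mem_normalizer_cent ?_).2 (eq_or_eq_inv_of_tr_eq ?_ (mem_cent.1 hmem) (tr_conj k a)) <;>
      exact tr_sq_ne_four_of_commute h4 hanc (mem_cent.1 hac)
  -- reduce to an element of the torus
  have hcase : ∀ c ∈ cent g, c ∈ Subgroup.normalizer ((S₀ : Subgroup SL(2, F)) : Set SL(2, F)) →
      c ∈ (S₀ : Subgroup SL(2, F)) := by
    intro c hc hcn
    have hswap : c * w * c⁻¹ = c * c * w := by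
      rw [mul_assoc c c w, mul_assoc c w c⁻¹]
      congr 1
      rw [← conj_eq_inv hgnc (mem_cent.1 hc) hwg,
        show w * (w * c * w⁻¹) = (w * w) * c * w⁻¹ by group, hww, (commute_neg_one c).eq, mul_assoc,
        ← hww, mul_inv_cancel_right]
    have h1 := (Subgroup.mem_normalizer_iff.1 hcn w).1 hwS
    rw [hswap] at h1
    have hcc : c * c ∈ Subgroup.zpowers a := hout _
      (((S₀ : Subgroup SL(2, F)).mul_mem_cancel_right hwS).1 h1) (mul_mem hc hc)
    have hpow : c ^ 2 ^ (m + 1) = 1 := by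
      obtain ⟨i, hi⟩ := Subgroup.mem_zpowers_iff.1 hcc
      rw [pow_succ', pow_mul, pow_two, ← hi, ← zpow_natCast, ← _root_.zpow_mul, mul_comm,
        _root_.zpow_mul, zpow_natCast, ← ha, pow_orderOf_eq_one, _root_.one_zpow]
    have hn : c ^ Nat.card (cent g) = 1 := by
      have := pow_card_eq_one' (x := (⟨c, hc⟩ : cent g))
      exact congrArg Subtype.val this
    have hgcd : Nat.gcd (2 ^ (m + 1)) (Nat.card (cent g)) ∣ 2 ^ m := by
      obtain ⟨i, hi, he⟩ := (Nat.dvd_prime_pow Nat.prime_two).1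
        (Nat.gcd_dvd_left (2 ^ (m + 1)) (Nat.card (cent g)))
      rw [he]
      refine pow_dvd_pow 2 ?_
      by_contra hlt
      have : i = m + 1 := by omega
      exact hndvd (this ▸ he ▸ Nat.gcd_dvd_right _ _)
    obtain ⟨j, hj⟩ := hgcd
    have hcm : c ^ 2 ^ m = 1 := by rw [hj, pow_mul, pow_gcd_eq_one.2 ⟨hpow, hn⟩, one_pow]
    haveI := isCyclic_cent h4
    have hmem : (⟨c, hc⟩ : cent g) ∈ Subgroup.zpowers (⟨a, hac⟩ : cent g) :=
      mem_zpowers_of_cyclic (Subtype.ext (by simpa [ha] using hcm))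
    obtain ⟨i, hi⟩ := Subgroup.mem_zpowers_iff.1 hmem
    have e : a ^ i = c := congrArg Subtype.val hi
    exact e ▸ zpow_mem haS i
  by_cases hkc : k ∈ cent g
  · exact hcase k hkc hk
  · have hinv := ((mem_normalizer_cent h4).1 hkn).resolve_left fun e =>
      hkc (mem_cent.2 (mul_inv_eq_iff_eq_mul.1 e))
    obtain ⟨c, hc, rfl⟩ := (IsLift.inverting_iff (g := g) (w := w) ⟨h2, hg, hwg⟩).1 ⟨h2, hg, hinv⟩
    refine (S₀ : Subgroup SL(2, F)).mul_mem (hcase c hc ?_) hwS
    exact (Subgroup.mul_mem_cancel_right _ (Subgroup.le_normalizer hwS)).1 hk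

/-- `q ≡ ±3 (mod 8)`: the normaliser has order `24`. -/
theorem card_normalizer_sylow_two_three (hq : Fintype.card F % 8 = 3 ∨ Fintype.card F % 8 = 5)
    (S : Sylow 2 SL(2, F)) :
    Nat.card (Subgroup.normalizer ((S : Subgroup SL(2, F)) : Set SL(2, F))) = 3 * Nat.card S := by
  have h2 : (2 : F) ≠ 0 := odd_card_iff.1 (Nat.odd_iff.2 (by omega))
  have hd : Nat.gcd 2 (Fintype.card F - 1) = 2 := by
    obtain ⟨i, hi⟩ := odd_card_iff.2 h2
    exact Nat.gcd_eq_left ⟨i, by omega⟩
  set T := S.mapSurjective mk_surjective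
  have hTklein : ∀ T : Sylow 2 PSL(2, F), IsKleinFour (T : Subgroup PSL(2, F)) := by
    intro T
    obtain ⟨k, hk, hcard, ⟨e⟩⟩ := sylow_two_dihedral h2 T
    rw [card_sylow_two_psl hq T] at hcard
    have hk1 : k = 1 := by
      rcases k with _ | _ | k
      · simp at hcard
      · rfl
      · exfalso
        have : 2 ^ 3 ≤ 2 ^ (k + 3) := Nat.pow_le_pow_right two_pos (by omega)
        rw [show k + 1 + 1 + 1 = k + 3 by omega] at hcard
        omega
    subst hk1
    exact ⟨by rw [card_sylow_two_psl hq T], by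
      rw [Monoid.exponent_eq_of_mulEquiv e]; exact IsKleinFour.exponent_two (G := DihedralGroup 2)⟩
  have hcount : Nat.card (Sylow 2 PSL(2, F)) =
      Nat.card {V : Subgroup PSL(2, F) // IsKleinFour V} := by
    refine Nat.card_congr (Equiv.ofBijective (fun T => ⟨T, hTklein T⟩) ⟨fun A B h => ?_, ?_⟩)
    · exact Sylow.ext (congrArg Subtype.val h)
    · rintro ⟨V, hV⟩
      obtain ⟨Q, hQ⟩ := (IsPGroup.of_card (p := 2) (n := 2) (G := V) hV.card_four).exists_le_sylow
      refine ⟨Q, Subtype.ext (Subgroup.eq_of_le_of_card_ge hQ ?_).symm⟩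
      rw [card_sylow_two_psl hq Q, hV.card_four]
  have h12 : Nat.card (Subgroup.normalizer ((T : Subgroup PSL(2, F)) : Set PSL(2, F))) = 12 := by
    have h := (Subgroup.normalizer ((T : Subgroup PSL(2, F)) : Set PSL(2, F))).index_mul_card
    have e : (Subgroup.normalizer ((T : Subgroup PSL(2, F)) : Set PSL(2, F))).index =
        Nat.card (Sylow 2 PSL(2, F)) := T.card_eq_index_normalizer.symm
    rw [e, hcount, ← twelve_mul_card_klein h2] at h
    refine Nat.eq_of_mul_eq_mul_left (n := 0 + Nat.card {V : Subgroup PSL(2, F) // IsKleinFour V})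
      ?_ (by rw [zero_add, h, mul_comm])
    rw [zero_add, ← hcount]
    exact Nat.card_pos
  have hzS : Subgroup.center SL(2, F) ≤ (S : Subgroup SL(2, F)) := by
    have hP : IsPGroup 2 (Subgroup.center SL(2, F)) := IsPGroup.of_card (n := 1) (by
      rw [card_center, hd, pow_one])
    exact sup_le_iff.1 (le_of_eq (S.is_maximal' (hP.to_sup_of_normal_left S.isPGroup') le_sup_right))
      |>.1
  have hT : Nat.card ((S : Subgroup SL(2, F)).map mk) = 4 := card_sylow_two_psl hq T
  have hS := gcd_mul_card_map_mk hzS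
  rw [hd, hT] at hS
  have hN := gcd_mul_card_map_mk (hzS.trans (Subgroup.le_normalizer (H := (S : Subgroup SL(2, F)))))
  rw [hd, ← normalizer_map_mk hzS] at hN
  have h12' : Nat.card (Subgroup.normalizer (((S : Subgroup SL(2, F)).map mk : Subgroup PSL(2, F)) :
      Set PSL(2, F))) = 12 := h12
  rw [h12'] at hN
  show _ = 3 * Nat.card (S : Subgroup SL(2, F))
  rw [← hN, ← hS]

end Cfsg.Agent.PSL2
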