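import Cfsg.Agent.Lib.PSL2.PSLPartition

/-!
Class numbers of torus normalisers and of the Borel subgroup of `SL(2, q)`.

* `card_conjClasses_mul_card`: `k(G) |G| = ∑ |C(x)|`;
* `card_conjClasses_inverting`: index two inverting extensions with square the involution;
* `card_conjClasses_normalizer_cent`, `card_conjClasses_borel`.
-/

set_option autoImplicit false

open Matrix
open scoped MatrixGroups

namespace Cfsg.Agent.PSL2

section Abstract

variable {G : Type*} [Group G]

theorem card_conjClasses_mul_card [Fintype G] :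
    Nat.card (ConjClasses G) * Nat.card G =
      ∑ x : G, Nat.card (Subgroup.centralizer ({x} : Set G)) := by
  rw [← card_comm_eq_card_conjClasses_mul_card, ← Nat.card_sigma]
  exact Nat.card_congr
    { toFun := fun p => ⟨p.1.1, p.1.2, Subgroup.mem_centralizer_singleton_iff.2 p.2.symm⟩
      invFun := fun s => ⟨(s.1, (s.2 : G)), (Subgroup.mem_centralizer_singleton_iff.1 s.2.2).symm⟩
      left_inv := fun p => rfl
      right_inv := fun s => rfl }

theorem card_conjClasses_inverting [Finite G] (T : Subgroup G) (hidx : T.index = 2)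
    (hcomm : ∀ a ∈ T, ∀ b ∈ T, a * b = b * a) {z : G} (hzT : z ∈ T) (hz1 : z ≠ 1)
    (hzz : z * z = 1) (hsq1 : ∀ t ∈ T, t * t = 1 → t = 1 ∨ t = z)
    (hinv : ∀ g, g ∉ T → ∀ t ∈ T, g * t * g⁻¹ = t⁻¹) (hsq : ∀ g, g ∉ T → g * g = z) :
    2 * Nat.card (ConjClasses G) = Nat.card T + 6 := by
  classical
  have := Fintype.ofFinite G
  have hG : Nat.card G = 2 * Nat.card T := by rw [← T.index_mul_card, hidx]
  have hZ : ∀ x, x = 1 ∨ x = z → x ∈ T ∧ x * x = 1 := by
    rintro x (rfl | rfl)
    · exact ⟨one_mem _, one_mul 1⟩
    · exact ⟨hzT, hzz⟩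
  have hcent : ∀ x : G, Nat.card (Subgroup.centralizer ({x} : Set G)) +
      (if x ∈ T then 0 else Nat.card T) =
      (if x ∈ T then (if x = 1 ∨ x = z then Nat.card G else Nat.card T) else 4 + Nat.card T) := by
    intro x
    by_cases hx : x ∈ T
    · rw [if_pos hx, if_pos hx, add_zero]
      by_cases hxz : x = 1 ∨ x = z
      · rw [if_pos hxz]
        suffices h : Subgroup.centralizer ({x} : Set G) = ⊤ by rw [h, Subgroup.card_top]
        rw [eq_top_iff]
        intro y _
        rw [Subgroup.mem_centralizer_singleton_iff]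
        by_cases hy : y ∈ T
        · exact hcomm _ hy _ hx
        · have hxi : x⁻¹ = x := inv_eq_of_mul_eq_one_left (hZ x hxz).2
          exact mul_inv_eq_iff_eq_mul.1 ((hinv y hy x hx).trans hxi)
      · rw [if_neg hxz]
        suffices h : Subgroup.centralizer ({x} : Set G) = T by rw [h]
        refine le_antisymm (fun y hy => ?_)
          fun y hy => Subgroup.mem_centralizer_singleton_iff.2 (hcomm _ hy _ hx)
        by_contra hyT
        rw [Subgroup.mem_centralizer_singleton_iff] at hy
        have e := hinv y hyT x hx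
        rw [hy, mul_inv_cancel_right] at e
        exact hxz (hsq1 x hx (eq_inv_iff_mul_eq_one.1 e))
    · rw [if_neg hx, if_neg hx]
      congr 1
      set C := Subgroup.centralizer ({x} : Set G)
      have hxC : x ∈ C := Subgroup.mem_centralizer_singleton_iff.2 rfl
      have hidxC : (T.subgroupOf C).index = 2 := by
        rw [Subgroup.index_eq_two_iff]
        refine ⟨⟨x, hxC⟩, fun b => ?_⟩
        simp only [Subgroup.mem_subgroupOf, Subgroup.coe_mul]
        have hiff := Subgroup.mul_mem_iff_of_index_two hidx (a := (b : G)) (b := x)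
        by_cases hb : (b : G) ∈ T
        · exact Or.inr ⟨hb, fun h => hx ((hiff.1 h).1 hb)⟩
        · exact Or.inl ⟨hiff.2 (iff_of_false hb hx), hb⟩
      have hcard : Nat.card (T.subgroupOf C) = 2 := by
        rw [← Subgroup.card_map_of_injective C.subtype_injective, Subgroup.subgroupOf_map_subtype]
        rw [show ((T ⊓ C : Subgroup G) : Type _) = ↥(T ⊓ C) from rfl, Nat.card_eq_two_iff]
        have hzC : z ∈ C := by
          rw [Subgroup.mem_centralizer_singleton_iff]
          have := hinv x hx z hzT
          rw [inv_eq_of_mul_eq_one_left hzz] at this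
          exact (mul_inv_eq_iff_eq_mul.1 this).symm
        refine ⟨⟨1, one_mem _⟩, ⟨z, hzT, hzC⟩, fun h => hz1 (congrArg Subtype.val h).symm, ?_⟩
        ext ⟨t, ht, htC⟩
        simp only [Set.mem_insert_iff, Set.mem_singleton_iff, Set.mem_univ, iff_true,
          Subtype.mk.injEq]
        have e := hinv x hx t ht
        rw [← Subgroup.mem_centralizer_singleton_iff.1 htC, mul_inv_cancel_right] at e
        rcases hsq1 t ht (eq_inv_iff_mul_eq_one.1 e) with rfl | rfl
        · exact Or.inl rfl
        · exact Or.inr rfl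
      have h := (T.subgroupOf C).index_mul_card
      rw [hidxC, hcard] at h
      exact h.symm
  have h := card_conjClasses_mul_card (G := G)
  have hs := Finset.sum_congr rfl fun x (_ : x ∈ (Finset.univ : Finset G)) => hcent x
  rw [Finset.sum_add_distrib, ← h] at hs
  have hcT : (Finset.univ.filter fun x => x ∈ T).card = Nat.card T := by
    rw [Nat.card_eq_fintype_card]
    exact (Fintype.card_subtype _).symm
  have hnT : (Finset.univ.filter fun x => x ∉ T).card = Nat.card T := by
    have := Finset.card_filter_add_card_filter_not (s := (Finset.univ : Finset G)) (fun x => x ∈ T)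
    rw [hcT, Finset.card_univ, ← Nat.card_eq_fintype_card, hG] at this
    omega
  have hpair : ((Finset.univ.filter fun x => x ∈ T).filter fun x => x = 1 ∨ x = z) = {1, z} := by
    ext x
    simp only [Finset.mem_filter, Finset.mem_univ, true_and, Finset.mem_insert, Finset.mem_singleton]
    exact ⟨fun h => h.2, fun h => ⟨(hZ x h).1, h⟩⟩
  have hrest := Finset.card_filter_add_card_filter_not
    (s := Finset.univ.filter fun x => x ∈ T) (fun x => x = 1 ∨ x = z)
  rw [hpair, Finset.card_pair (Ne.symm hz1), hcT] at hrest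
  rw [Finset.sum_ite, Finset.sum_ite, Finset.sum_ite, hpair] at hs
  simp only [Finset.sum_const, smul_eq_mul, Finset.card_pair (Ne.symm hz1), hnT, mul_zero,
    zero_add] at hs
  set k := Nat.card (ConjClasses G)
  set n := Nat.card T
  set r := ((Finset.univ.filter fun x => x ∈ T).filter fun x => ¬ (x = 1 ∨ x = z)).card
  rw [hG] at hs
  have hn : 0 < n := Nat.card_pos
  refine Nat.eq_of_mul_eq_mul_right hn ?_
  rw [← hrest] at hs ⊢
  ring_nf at hs ⊢
  omega

end Abstract

variable {F : Type*} [Field F] [Fintype F]

theorem card_conjClasses_normalizer_cent (h2 : (2 : F) ≠ 0) {g : SL(2, F)} (h4 : tr g ^ 2 ≠ 4) :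
    2 * Nat.card (ConjClasses (Subgroup.normalizer (cent g : Set SL(2, F)))) =
      Nat.card (cent g) + 6 := by
  set N := Subgroup.normalizer (cent g : Set SL(2, F)) with hN
  have hcard : Nat.card ((cent g).subgroupOf N) = Nat.card (cent g) :=
    Nat.card_congr (Subgroup.subgroupOfEquivOfLe (cent_le_normalizer g)).toEquiv
  have hidx : ((cent g).subgroupOf N).index = 2 := by
    have h := ((cent g).subgroupOf N).index_mul_card
    rw [hcard, card_normalizer_cent h4] at h
    exact Nat.eq_of_mul_eq_mul_right Nat.card_pos h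
  rw [← hcard]
  have hneg : (-1 : SL(2, F)) ∈ cent g := center_le_cent g neg_one_mem_center
  refine card_conjClasses_inverting _ hidx ?_ (z := ⟨-1, cent_le_normalizer g hneg⟩) hneg
    (fun h => neg_one_ne_one h2 (congrArg Subtype.val h)) (Subtype.ext (by simp)) ?_ ?_ ?_
  · intro a ha b hb
    exact Subtype.ext (cent_comm (not_mem_center_of_tr h4) (mem_cent.1 ha) (mem_cent.1 hb)).eq
  · intro t _ ht
    rcases eq_pm_of_mul_self_eq_one h2 (congrArg Subtype.val ht) with h | h
    · exact Or.inl (Subtype.ext h)
    · exact Or.inr (Subtype.ext h)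
  · intro k hk t ht
    exact Subtype.ext (inverting_of_mem_normalizer h4 k.2 hk t ht)
  · intro k hk
    exact Subtype.ext (sq_eq_neg_one_of_inverting h4
      (inverting_of_mem_normalizer h4 k.2 hk g (mem_cent.2 (Commute.refl g))))

theorem card_conjClasses_borel (h2 : (2 : F) ≠ 0) :
    Nat.card (ConjClasses (borel F)) = Fintype.card F + 3 := by
  classical
  have := Fintype.ofFinite (borel F)
  have hq := one_lt_q (F := F)
  set q := Fintype.card F with hqdef
  have hn : Nat.card (borel F) = (q - 1) * q := card_borel'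
  have hCle : ∀ b : borel F, Nat.card (Subgroup.centralizer ({b} : Set (borel F))) =
      Nat.card ↥(cent (b : SL(2, F)) ⊓ borel F) := by
    intro b
    rw [← Subgroup.card_map_of_injective (borel F).subtype_injective]
    congr 2
    ext x
    simp only [Subgroup.mem_map, Subgroup.mem_inf, mem_cent, Subgroup.mem_centralizer_singleton_iff,
      Subgroup.coe_subtype]
    constructor
    · rintro ⟨y, hy, rfl⟩
      exact ⟨congrArg Subtype.val hy, y.2⟩
    · rintro ⟨hc, hx⟩
      exact ⟨⟨x, hx⟩, Subtype.ext hc, rfl⟩
  have hZP : ∀ x : SL(2, F), x ∈ Subgroup.center SL(2, F) → x ∈ pmUnip F := fun x hx =>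
    center_le_cent _ hx
  have hPB : ∀ x : SL(2, F), x ∈ pmUnip F → x ∈ borel F := by
    intro x hx
    rcases mem_pmUnip.1 hx with h | h
    · exact unip_le_borel h
    · have := unip_le_borel h
      rw [mem_borel] at this ⊢
      simpa using this
  have key : ∀ b : borel F, Nat.card (Subgroup.centralizer ({b} : Set (borel F))) +
      (if (b : SL(2, F)) ∈ Subgroup.center SL(2, F) then 2 * q else 0) =
      (q - 1) + (if (b : SL(2, F)) ∈ pmUnip F then q + 1 else 0) +
        (if (b : SL(2, F)) ∈ Subgroup.center SL(2, F) then (q - 1) * q else 0) := by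
    intro b
    rw [hCle]
    by_cases hc : (b : SL(2, F)) ∈ Subgroup.center SL(2, F)
    · rw [if_pos hc, if_pos (hZP _ hc), if_pos hc]
      have : cent (b : SL(2, F)) ⊓ borel F = borel F :=
        inf_eq_right.2 fun x _ => mem_cent.2 (Subgroup.mem_center_iff.1 hc x)
      rw [this, hn]
      omega
    · rw [if_neg hc, if_neg hc]
      by_cases hp : (b : SL(2, F)) ∈ pmUnip F
      · rw [if_pos hp]
        have : cent (b : SL(2, F)) = pmUnip F :=
          (cent_eq_cent (uu_not_mem_center one_ne_zero) hc (mem_cent.1 hp)).symm ▸ rfl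
        rw [this, inf_eq_left.2 hPB, card_pmUnip]
        have : Nat.gcd 2 (Fintype.card F - 1) = 2 := by
          obtain ⟨i, hi⟩ := odd_card_iff.2 h2
          exact Nat.gcd_eq_left ⟨i, by omega⟩
        rw [this]
        omega
      · rw [if_neg hp]
        have h4 : tr (b : SL(2, F)) ^ 2 ≠ 4 := by
          intro h
          apply hp
          obtain ⟨a, s, e, -⟩ := exists_eq_dd_mul_uu b.2
          rw [e] at h ⊢
          have htr : tr (dd a * uu s) = (a : F) + (a : F)⁻¹ := by simp [tr_def, mul00, mul11]
          rw [htr] at h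
          have ha : (a : F) ^ 2 = 1 := by
            have ha0 := a.ne_zero
            field_simp at h
            have : ((a : F) ^ 2 - 1) * ((a : F) ^ 2 - 1) = 0 := by linear_combination h
            exact sub_eq_zero.1 (mul_self_eq_zero.1 this)
          rw [mem_pmUnip]
          rcases sq_eq_one_iff.1 ha with h1 | h1
          · exact Or.inl (mem_unip_iff_entries.2 ⟨by simp [mul10], by simp [mul00, h1]⟩)
          · exact Or.inr (mem_unip_iff_entries.2 ⟨by simp [mul10, mul11, Matrix.mul_apply,
              Fin.sum_univ_two], by simp [mul00, h1, Matrix.mul_apply, Fin.sum_univ_two]⟩)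
        obtain ⟨hle, -⟩ := borel_cent b.2 h4
        rw [inf_eq_left.2 hle]
        rcases card_cent_of_tr h4 with e | e
        · rw [e]
        · exfalso
          have hdvd := Subgroup.card_dvd_of_le hle
          rw [e, hn] at hdvd
          have h' : q + 1 ∣ 2 := by
            have h1 : q + 1 ∣ (q + 1) * q := dvd_mul_right _ _
            have h2 : (q + 1) * q - (q - 1) * q = 2 * q := by
              rw [← Nat.sub_mul, show q + 1 - (q - 1) = 2 by omega]
            have h3 := Nat.dvd_sub h1 hdvd
            rw [h2] at h3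
            exact Nat.Coprime.dvd_of_dvd_mul_right (by simp) h3
          have := Nat.le_of_dvd two_pos h'
          omega
  have h := card_conjClasses_mul_card (G := borel F)
  have hs := Finset.sum_congr rfl fun x (_ : x ∈ (Finset.univ : Finset (borel F))) => key x
  rw [Finset.sum_add_distrib, Finset.sum_add_distrib, Finset.sum_add_distrib, ← h] at hs
  have hcZ : (Finset.univ.filter fun b : borel F => (b : SL(2, F)) ∈ Subgroup.center SL(2, F)).card
      = 2 := by
    rw [← Fintype.card_subtype, ← Nat.card_eq_fintype_card]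
    refine (Nat.card_congr (Subgroup.subgroupOfEquivOfLe
      (H := Subgroup.center SL(2, F)) (K := borel F) fun x hx => hPB x (hZP x hx)).toEquiv).trans ?_
    rw [card_center]
    obtain ⟨i, hi⟩ := odd_card_iff.2 h2
    exact Nat.gcd_eq_left ⟨i, by omega⟩
  have hcP : (Finset.univ.filter fun b : borel F => (b : SL(2, F)) ∈ pmUnip F).card = 2 * q := by
    rw [← Fintype.card_subtype, ← Nat.card_eq_fintype_card]
    refine (Nat.card_congr (Subgroup.subgroupOfEquivOfLe (H := pmUnip F) (K := borel F) hPB
      ).toEquiv).trans ?_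
    rw [card_pmUnip]
    obtain ⟨i, hi⟩ := odd_card_iff.2 h2
    rw [show Nat.gcd 2 (Fintype.card F - 1) = 2 from Nat.gcd_eq_left ⟨i, by omega⟩]
  rw [Finset.sum_ite, Finset.sum_ite, Finset.sum_ite] at hs
  simp only [Finset.sum_const, smul_eq_mul, hcZ, hcP, mul_zero, add_zero, Finset.card_univ] at hs
  rw [← Nat.card_eq_fintype_card, hn] at hs
  obtain ⟨j, hj⟩ : ∃ j, q = j + 2 := ⟨q - 2, by omega⟩
  rw [hj, show j + 2 - 1 = j + 1 by omega] at hs
  rw [hj]
  refine Nat.eq_of_mul_eq_mul_right (show 0 < (j + 1) * (j + 2) by positivity) ?_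
  ring_nf at hs ⊢
  omega

end Cfsg.Agent.PSL2
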