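import Cfsg.Agent.Lib.PSL2.MaximalExist
import Cfsg.Agent.Lib.PSL2.Torus

/-!
Maximal subgroups of `PSL(2, F)` that normalise a `p`-subgroup, have an abelian structure or a normal
cyclic subgroup: Borel subgroups and torus normalisers.
-/

set_option autoImplicit false

open Matrix
open scoped MatrixGroups commutatorElement

namespace Cfsg.Agent.PSL2.Maximal

variable {F : Type*} [Field F] [Fintype F]

/-- In a maximal subgroup situation: containment in a proper subgroup is equality. -/
theorem eq_of_le_of_ne_top {G : Type*} [Group G] {M K : Subgroup G} (hM : IsCoatom M) (h : M ≤ K)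
    (hK : K ≠ ⊤) : K = M :=
  h.lt_or_eq.elim (fun h' => absurd (hM.2 K h') hK) Eq.symm

theorem isCoatom_map {G : Type*} [Group G] {M : Subgroup G} (hM : IsCoatom M) (σ : MulAut G) :
    IsCoatom (M.map σ.toMonoidHom) := by
  have := (σ.mapSubgroup).isCoatom_iff M
  exact this.2 hM

theorem card_eq_of_map_le {G : Type*} [Group G] {M K : Subgroup G} (hM : IsCoatom M) (σ : MulAut G)
    (h : M.map σ.toMonoidHom ≤ K) (hK : K ≠ ⊤) : Nat.card K = Nat.card M ∧ Nonempty (M ≃* K) := by
  have e : K = M.map σ.toMonoidHom := eq_of_le_of_ne_top (isCoatom_map hM σ) h hK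
  subst e
  exact ⟨(Nat.card_congr (M.equivMapOfInjective σ.toMonoidHom σ.injective).toEquiv).symm,
    ⟨M.equivMapOfInjective σ.toMonoidHom σ.injective⟩⟩

theorem two_mul_succ_lt_card (hq : 4 ≤ Fintype.card F) :
    2 * (Fintype.card F + 1) < Nat.card PSL(2, F) := by
  have h1 := gcd_mul_card_PSL (F := F)
  have h2 : Nat.gcd 2 (Fintype.card F - 1) ≤ 2 := Nat.le_of_dvd two_pos (Nat.gcd_dvd_left _ _)
  have h3 : 15 ≤ Fintype.card F ^ 2 - 1 := by have := Nat.mul_le_mul hq hq; rw [pow_two]; omega
  have h4 : 4 * (Fintype.card F + 1) < Fintype.card F * (Fintype.card F ^ 2 - 1) := by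
    nlinarith
  have h5 : Fintype.card F * (Fintype.card F ^ 2 - 1) ≤ 2 * Nat.card PSL(2, F) := by
    rw [← h1]; exact Nat.mul_le_mul_right _ h2
  omega

theorem card_normalizer_torus_psl {g : SL(2, F)} (h4 : tr g ^ 2 ≠ 4) :
    Nat.card ((Subgroup.normalizer (cent g : Set SL(2, F))).map mk) =
      2 * Nat.card ((cent g).map mk) := by
  have h1 := card_map_cent g
  have h2 := gcd_mul_card_map_mk ((center_le_cent g).trans (cent_le_normalizer g))
  rw [card_normalizer_cent h4, ← h1, mul_left_comm] at h2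
  exact Nat.eq_of_mul_eq_mul_left (Nat.gcd_pos_of_pos_left _ two_pos) h2

theorem card_torus_psl {g : SL(2, F)} (h4 : tr g ^ 2 ≠ 4) :
    Nat.card ((cent g).map mk) = (Fintype.card F - 1) / Nat.gcd 2 (Fintype.card F - 1) ∨
      Nat.card ((cent g).map mk) = (Fintype.card F + 1) / Nat.gcd 2 (Fintype.card F - 1) := by
  rw [card_map_cent_eq]
  rcases card_cent_of_tr h4 with e | e <;> rw [e]
  · exact Or.inl rfl
  · exact Or.inr rfl

theorem normalizer_torus_ne_top (hq : 4 ≤ Fintype.card F) {g : SL(2, F)} (h4 : tr g ^ 2 ≠ 4) :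
    (Subgroup.normalizer (cent g : Set SL(2, F))).map mk ≠ ⊤ := by
  intro h
  have h1 := card_normalizer_torus_psl h4
  rw [h, Subgroup.card_top] at h1
  have h2 := two_mul_succ_lt_card hq
  have h3 : Nat.card ((cent g).map mk) ≤ Fintype.card F + 1 := by
    rcases card_torus_psl h4 with e | e <;> rw [e]
    · exact (Nat.div_le_self _ _).trans (by omega)
    · exact Nat.div_le_self _ _
  omega

theorem tr_sq_ne_four_of_orderOf (p : ℕ) [Fact p.Prime] [CharP F p] {g : SL(2, F)}
    (hg : mk g ≠ 1) (hp : ¬ p ∣ orderOf (mk g)) : tr g ^ 2 ≠ 4 := by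
  intro h4
  rcases psl_cases hg with ⟨g', e, h'⟩ | ⟨k, s, hs, e⟩
  · rcases mk_eq_mk.1 e with rfl | rfl
    · exact h' h4
    · exact h' (by rw [tr_neg, neg_pow_two]; exact h4)
  · exact hp (by rw [e, orderOf_mk_conj, orderOf_mk_uu p hs])

/-- An element normalising `⟨mk g⟩` normalises the torus of `g`. -/
theorem mem_normalizer_of_zpowers {g : SL(2, F)} (h4 : tr g ^ 2 ≠ 4) {y : PSL(2, F)}
    (hy : y * mk g * y⁻¹ ∈ Subgroup.zpowers (mk g)) :
    y ∈ (Subgroup.normalizer (cent g : Set SL(2, F))).map mk := by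
  obtain ⟨s, rfl⟩ := mk_surjective y
  refine Subgroup.mem_map_of_mem mk ((mem_normalizer_cent h4).2 ?_)
  refine eq_or_eq_inv_of_tr_eq h4 (mem_cent.1 ((mk_mem_map_iff (center_le_cent g)).1 ?_)) (tr_conj s g)
  rw [map_mul, map_mul, map_inv]
  exact Subgroup.zpowers_le.2 (Subgroup.mem_map_of_mem mk (mem_cent.2 (Commute.refl g))) hy

/-- A maximal subgroup with a normal cyclic `p'`-subgroup of order at least 3 is a torus normaliser. -/
theorem torus_case (p : ℕ) [Fact p.Prime] [CharP F p] (hq : 4 ≤ Fintype.card F)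
    {M : Subgroup PSL(2, F)} (hM : IsCoatom M) {x : PSL(2, F)} (hx : x ∈ M)
    (hn : ∀ y ∈ M, y * x * y⁻¹ ∈ Subgroup.zpowers x) (ho : 3 ≤ orderOf x) (hp : ¬ p ∣ orderOf x) :
    ∃ g : SL(2, F), tr g ^ 2 ≠ 4 ∧ M = (Subgroup.normalizer (cent g : Set SL(2, F))).map mk ∧
      orderOf x ∣ Nat.card ((cent g).map mk) ∧ Nat.card M = 2 * Nat.card ((cent g).map mk) ∧
      Nonempty (M ≃* DihedralGroup (Nat.card ((cent g).map mk))) := by
  obtain ⟨g, rfl⟩ := mk_surjective x
  have h4 := tr_sq_ne_four_of_orderOf p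
    (fun e => by rw [e, orderOf_one] at ho; omega) hp
  have hle : M ≤ (Subgroup.normalizer (cent g : Set SL(2, F))).map mk := fun y hy =>
    mem_normalizer_of_zpowers h4 (hn y hy)
  have e := eq_of_le_of_ne_top hM hle (normalizer_torus_ne_top hq h4)
  obtain ⟨d⟩ := dihedral_normalizer h4 (n := Nat.card ((cent g).map mk)) rfl
  refine ⟨g, h4, e.symm, ?_, ?_, ⟨(MulEquiv.subgroupCongr e.symm).trans d⟩⟩
  · have h := orderOf_dvd_natCard (⟨mk g, Subgroup.mem_map_of_mem mk (mem_cent.2 (Commute.refl g))⟩ :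
      (cent g).map mk)
    rwa [Subgroup.orderOf_mk] at h
  · rw [← e, card_normalizer_torus_psl h4]

theorem card_borel_psl :
    Nat.gcd 2 (Fintype.card F - 1) * Nat.card ((borel F).map mk) =
      Fintype.card F * (Fintype.card F - 1) := by
  rw [gcd_mul_card_map_mk (fun g hg => mem_borel.2 (mem_center_iff_entries.1 hg).2.1), card_borel',
    mul_comm]

theorem borel_psl_ne_top (hq : 2 ≤ Fintype.card F) : (borel F).map mk ≠ ⊤ := by
  intro h
  have h1 := card_borel_psl (F := F)
  rw [h, Subgroup.card_top, gcd_mul_card_PSL] at h1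
  have h2 : Fintype.card F - 1 < Fintype.card F ^ 2 - 1 := by
    have : Fintype.card F * 2 ≤ Fintype.card F * Fintype.card F := Nat.mul_le_mul_left _ hq
    rw [pow_two]; omega
  exact (Nat.mul_lt_mul_of_pos_left h2 (by omega)).ne h1.symm

/-- A maximal subgroup normalising a non-trivial `p`-subgroup is a point stabiliser. -/
theorem borel_case (p : ℕ) [Fact p.Prime] [CharP F p] {M : Subgroup PSL(2, F)} (hM : IsCoatom M)
    {Q : Subgroup PSL(2, F)} (hQ : IsPGroup p Q) (hne : Q ≠ ⊥)
    (hn : ∀ y ∈ M, ∀ z ∈ Q, y * z * y⁻¹ ∈ Q) :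
    Nat.gcd 2 (Fintype.card F - 1) * Nat.card M = Fintype.card F * (Fintype.card F - 1) := by
  obtain ⟨P, hP⟩ := hQ.exists_le_sylow
  obtain ⟨c, hc⟩ := MulAction.exists_smul_eq PSL(2, F) P (unipSylowPSL F p)
  have hPU : (P : Subgroup PSL(2, F)).map (MulAut.conj c).toMonoidHom = (unip F).map mk := by
    rw [← coe_unipSylowPSL p, ← hc]; rfl
  have hle : M.map (MulAut.conj c).toMonoidHom ≤ (borel F).map mk := by
    rintro _ ⟨y, hy, rfl⟩
    obtain ⟨z, hz, hz1⟩ := Q.bot_or_exists_ne_one.resolve_left hne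
    have hmem : ∀ w ∈ Q, MulAut.conj c w ∈ (unip F).map mk := fun w hw => by
      rw [← hPU]; exact Subgroup.mem_map_of_mem _ (hP hw)
    obtain ⟨u, hu, hu'⟩ := hmem z hz
    obtain ⟨v, hv, hv'⟩ := hmem _ (hn y hy z hz)
    obtain ⟨s, hs⟩ := mk_surjective (MulAut.conj c y)
    obtain ⟨t, rfl⟩ := mem_unip.1 hu
    obtain ⟨t', rfl⟩ := mem_unip.1 hv
    have ht : t ≠ 0 := by
      rintro rfl
      rw [uu_zero, map_one, eq_comm, map_eq_one_iff _ (MulAut.conj c).injective] at hu'
      exact hz1 hu'
    rw [map_mul, map_mul, map_inv, ← hs, ← hu', ← map_inv, ← map_mul, ← map_mul, mk_eq_mk] at hv'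
    refine ⟨s, ?_, hs⟩
    rcases hv' with h | h
    · exact uu_conj_mem_borel ht h.symm
    · have h10 := congrArg (fun a : SL(2, F) => a 1 0) h
      simp [Matrix.mul_apply, Fin.sum_univ_two, Matrix.adjugate_fin_two] at h10
      rw [SetLike.mem_coe, mem_borel]
      exact sq_eq_zero_iff.1
        ((mul_eq_zero.1 (show t * (s 1 0) ^ 2 = 0 by linear_combination -h10)).resolve_left ht)
  rw [← (card_eq_of_map_le hM (MulAut.conj c) hle (borel_psl_ne_top (one_lt_q (F := F)))).1,
    card_borel_psl]

theorem not_order_le_four (p : ℕ) [Fact p.Prime] [CharP F p] (h2 : (2 : F) ≠ 0)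
    (hq : 5 ≤ Fintype.card F) {M : Subgroup PSL(2, F)} (hM : IsCoatom M)
    (h : ∀ x ∈ M, orderOf x ∣ 2) : 5 ≤ Nat.card M → False := by
  intro h5
  obtain ⟨x, hx, hx1⟩ := M.bot_or_exists_ne_one.resolve_left fun e => by
    rw [e, Subgroup.card_bot] at h5; omega
  have hx2 : orderOf x = 2 :=
    ((Nat.dvd_prime Nat.prime_two).1 (h x hx)).resolve_left fun e => hx1 (orderOf_eq_one_iff.1 e)
  have hcomm : ∀ a ∈ M, a * x = x * a := by
    have hsq : ∀ a ∈ M, a⁻¹ = a := fun a ha => inv_eq_of_mul_eq_one_right (by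
      rw [← pow_two]; exact orderOf_dvd_iff_pow_eq_one.1 (h a ha))
    intro a ha
    have := hsq _ (M.mul_mem ha hx)
    rw [_root_.mul_inv_rev, hsq a ha, hsq x hx] at this
    exact this.symm
  have hle : M ≤ Subgroup.centralizer {x} := fun a ha =>
    Subgroup.mem_centralizer_singleton_iff.2 (hcomm a ha)
  obtain ⟨n, hn, ⟨e⟩⟩ := dihedral_centralizer_involution h2 hx2
  have hne : Subgroup.centralizer ({x} : Set PSL(2, F)) ≠ ⊤ := by
    intro ht
    have hc := center_psl_eq_bot (F := F) (by omega)
    have : x ∈ Subgroup.center PSL(2, F) := Subgroup.mem_center_iff.2 fun a =>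
      Subgroup.mem_centralizer_singleton_iff.1 (ht ▸ Subgroup.mem_top a)
    rw [hc, Subgroup.mem_bot] at this
    exact hx1 this
  have hC := eq_of_le_of_ne_top hM hle hne
  have hcard : Nat.card M = 2 * n := by
    rw [← hC, Nat.card_congr e.toEquiv, DihedralGroup.nat_card]
  have : NeZero n := ⟨by rintro rfl; omega⟩
  have hr : (e.symm (DihedralGroup.r 1) : PSL(2, F)) ∈ M := hC ▸ (e.symm (DihedralGroup.r 1)).2
  have := h _ hr
  rw [Subgroup.orderOf_coe, MulEquiv.orderOf_eq, DihedralGroup.orderOf_r_one] at this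
  have := Nat.le_of_dvd two_pos this
  omega

/-- A maximal subgroup has more than four elements. -/
theorem five_le_card (p : ℕ) [Fact p.Prime] [CharP F p] (hq : 4 ≤ Fintype.card F)
    {M : Subgroup PSL(2, F)} (hM : IsCoatom M) : 5 ≤ Nat.card M := by
  by_contra hlt
  rw [not_le] at hlt
  have hsimp := psl_isSimpleGroup hq
  have hG := two_mul_succ_lt_card hq
  obtain ⟨x, hx, hx1⟩ := M.bot_or_exists_ne_one.resolve_left fun e => by
    -- the trivial subgroup is not maximal
    subst e
    obtain ⟨y, hy⟩ : ∃ y : PSL(2, F), y ≠ 1 := by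
      by_contra hc
      push Not at hc
      have : Nat.card PSL(2, F) ≤ 1 := Finite.card_le_one_iff_subsingleton.2
        ⟨fun a b => by rw [hc a, hc b]⟩
      omega
    refine not_isCyclic_psl hq ⟨⟨y, fun z => ?_⟩⟩
    show z ∈ Subgroup.zpowers y
    rw [hM.2 (Subgroup.zpowers y) (bot_lt_iff_ne_bot.2 (by simpa using hy))]
    exact Subgroup.mem_top z
  have hdvd := Subgroup.orderOf_dvd_natCard M hx
  have ho1 : orderOf x ≠ 1 := fun e => hx1 (orderOf_eq_one_iff.1 e)
  by_cases hp2 : p = 2
  · subst hp2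
    by_cases h3 : Nat.card M = 3
    · have ho : orderOf x = 3 := ((Nat.dvd_prime Nat.prime_three).1 (h3 ▸ hdvd)).resolve_left ho1
      have hgen : ∀ y ∈ M, y ∈ Subgroup.zpowers x := fun y hy => by
        have : Subgroup.zpowers x = M := Subgroup.eq_of_le_of_card_ge (Subgroup.zpowers_le.2 hx)
          (by rw [Nat.card_zpowers, ho, h3])
        rwa [this]
      obtain ⟨g, h4, -, hd, hcard, -⟩ := torus_case 2 hq hM hx (fun y hy =>
        hgen _ (M.mul_mem (M.mul_mem hy hx) (M.inv_mem hy))) (by omega) (by omega)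
      omega
    · have hP : IsPGroup 2 M := by
        have h4 : Nat.card M ∣ 2 ^ 2 := by
          have h0 : 0 < Nat.card M := Nat.card_pos
          interval_cases (Nat.card M) <;> norm_num at *
        obtain ⟨i, -, hi⟩ := (Nat.dvd_prime_pow Nat.prime_two).1 h4
        exact IsPGroup.of_card hi
      have hb := borel_case 2 hM hP (fun e => by rw [e, Subgroup.mem_bot] at hx; exact hx1 hx)
        (fun y hy z hz => M.mul_mem (M.mul_mem hy hz) (M.inv_mem hy))
      have h12 : 12 ≤ Fintype.card F * (Fintype.card F - 1) :=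
        le_trans (by norm_num) (Nat.mul_le_mul hq (show 3 ≤ Fintype.card F - 1 by omega))
      have : Nat.gcd 2 (Fintype.card F - 1) = 1 := by
        obtain ⟨n, -, hn⟩ := FiniteField.card F 2
        refine Nat.Coprime.gcd_eq_one ((Nat.prime_two.coprime_iff_not_dvd).2 ?_)
        have : 2 ∣ Fintype.card F := hn ▸ dvd_pow_self 2 n.ne_zero
        omega
      rw [this, one_mul] at hb
      omega
  · have h2 : (2 : F) ≠ 0 := fun e => hp2 (by
      have := (CharP.cast_eq_zero_iff F p 2).1 (by exact_mod_cast e)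
      exact ((Nat.prime_dvd_prime_iff_eq Fact.out Nat.prime_two).1 this))
    have hpp : p.Prime := Fact.out
    by_cases hpM : p ∣ Nat.card M
    · -- `p = 3` and `M` has order 3
      have h3 : Nat.card M = 3 := by
        have := Nat.le_of_dvd Nat.card_pos hpM
        have := hpp.two_le
        have : p ≠ 4 := by rintro rfl; norm_num at hpp
        have : p = 3 := by omega
        subst this; omega
      have hP : IsPGroup p M := by
        have : p = 3 := ((Nat.prime_dvd_prime_iff_eq hpp Nat.prime_three).1 (h3 ▸ hpM))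
        exact IsPGroup.of_card (n := 1) (by rw [this, h3, pow_one])
      have hb := borel_case p hM hP (fun e => by rw [e, Subgroup.mem_bot] at hx; exact hx1 hx)
        (fun y hy z hz => M.mul_mem (M.mul_mem hy hz) (M.inv_mem hy))
      rw [h3] at hb
      have hg : Nat.gcd 2 (Fintype.card F - 1) ≤ 2 := Nat.le_of_dvd two_pos (Nat.gcd_dvd_left _ _)
      have : 12 ≤ Fintype.card F * (Fintype.card F - 1) :=
        le_trans (by norm_num) (Nat.mul_le_mul hq (show 3 ≤ Fintype.card F - 1 by omega))
      omega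
    · by_cases h3 : ∃ y ∈ M, 3 ≤ orderOf y
      · obtain ⟨y, hy, hy3⟩ := h3
        have hdy := Subgroup.orderOf_dvd_natCard M hy
        have hle := Nat.le_of_dvd Nat.card_pos hdy
        have hgen : Subgroup.zpowers y = M := Subgroup.eq_of_le_of_card_ge (Subgroup.zpowers_le.2 hy)
          (by rw [Nat.card_zpowers]; obtain ⟨c, hc⟩ := hdy; rcases c with _ | _ | c <;> nlinarith)
        obtain ⟨g, h4, -, hd, hcard, -⟩ := torus_case p hq hM hy (fun z hz => hgen.symm ▸
          M.mul_mem (M.mul_mem hz hy) (M.inv_mem hz)) hy3 (fun e => hpM (e.trans hdy))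
        have := Nat.le_of_dvd Nat.card_pos hd
        omega
      · push Not at h3
        -- exponent two: either a four-group, inside an `A₄`, or order two
        have hexp : ∀ y ∈ M, orderOf y ∣ 2 := fun y hy => by
          have := h3 y hy
          have := orderOf_pos y
          interval_cases (orderOf y) <;> norm_num
        have hx2 : orderOf x = 2 := ((Nat.dvd_prime Nat.prime_two).1 (hexp x hx)).resolve_left ho1
        have hq5 : 5 ≤ Fintype.card F := by
          rcases odd_card_iff.2 h2 with ⟨j, hj⟩; omega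
        have hle : M ≤ Subgroup.centralizer {x} := fun a ha => by
          have hsq : ∀ a ∈ M, a⁻¹ = a := fun a ha => inv_eq_of_mul_eq_one_right (by
            rw [← pow_two]; exact orderOf_dvd_iff_pow_eq_one.1 (hexp a ha))
          have := hsq _ (M.mul_mem ha hx)
          rw [_root_.mul_inv_rev, hsq a ha, hsq x hx] at this
          exact Subgroup.mem_centralizer_singleton_iff.2 this.symm
        obtain ⟨hc1, hc3⟩ := card_centralizer_involution h2 hx2
        have hne : Subgroup.centralizer ({x} : Set PSL(2, F)) ≠ ⊤ := by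
          intro ht
          have h4 : Fintype.card F % 4 = 1 ∨ Fintype.card F % 4 = 3 := by
            rcases odd_card_iff.2 h2 with ⟨j, hj⟩; omega
          rcases h4 with h4 | h4
          · have := hc1 h4; rw [ht, Subgroup.card_top] at this; omega
          · have := hc3 h4; rw [ht, Subgroup.card_top] at this; omega
        have hC := eq_of_le_of_ne_top hM hle hne
        rw [hC] at hc1 hc3
        rcases (show Fintype.card F % 4 = 1 ∨ Fintype.card F % 4 = 3 by
          rcases odd_card_iff.2 h2 with ⟨j, hj⟩; omega) with h4 | h4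
        · -- `q = 5` and `M` is a four-group
          have hM4 : Nat.card M = 4 := by have := hc1 h4; omega
          obtain ⟨g, hgx, hg0, -⟩ := exists_tr_eq_zero hx2
          obtain ⟨y, hy, hy1, hyx⟩ := exists_mem_ne (V := M) (IsKleinFour.mk hM4 (by
            refine Nat.dvd_antisymm ?_ ?_
            · exact Monoid.exponent_dvd_of_forall_pow_eq_one fun a => Subtype.ext (by
                rw [Subgroup.coe_pow, Subgroup.coe_one]
                exact orderOf_dvd_iff_pow_eq_one.1 (hexp _ a.2))
            · have := Monoid.order_dvd_exponent (⟨x, hx⟩ : M)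
              rwa [Subgroup.orderOf_mk, hx2] at this)) x
          have hy2 : orderOf y = 2 :=
            ((Nat.dvd_prime Nat.prime_two).1 (hexp y hy)).resolve_left fun e =>
              hy1 (orderOf_eq_one_iff.1 e)
          have hpair : IsInvPair (mk g) y := ⟨by rw [hgx, hx2], hy2, by
            have := Subgroup.mem_centralizer_singleton_iff.1 (hle hy)
            rw [hgx]; exact this.symm, by rw [hgx]; exact hyx.symm⟩
          obtain ⟨w, hw, hwy⟩ := exists_lift h2 hg0 hpair
          obtain ⟨A, hA, ⟨eA⟩⟩ := exists_alternatingFour hw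
          have hVM : klein _ _ hw.isInvPair = M := by
            refine Subgroup.eq_of_le_of_card_ge (fun a ha => ?_) (by rw [card_klein, hM4])
            rcases mem_klein.1 ha with rfl | rfl | rfl | rfl
            · exact M.one_mem
            · rw [hgx]; exact hx
            · rw [hwy]; exact hy
            · rw [hgx, hwy]; exact M.mul_mem hx hy
          have hA12 : Nat.card A = 12 := by
            rw [Nat.card_congr eA.toEquiv, nat_card_alternatingGroup, Nat.card_fin]; decide
          have := eq_of_le_of_ne_top hM (hVM ▸ hA) (fun e => by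
            rw [e, Subgroup.card_top] at hA12; omega)
          rw [← this, hA12] at hM4
          omega
        · have := hc3 h4; omega

/-- An abelian maximal subgroup does not exist unless it normalises a `p`-subgroup. -/
theorem borel_or_not_comm (p : ℕ) [Fact p.Prime] [CharP F p] (hq : 4 ≤ Fintype.card F)
    {M : Subgroup PSL(2, F)} (hM : IsCoatom M) (hc : ∀ a ∈ M, ∀ b ∈ M, a * b = b * a) :
    Nat.gcd 2 (Fintype.card F - 1) * Nat.card M = Fintype.card F * (Fintype.card F - 1) := by
  have h5 := five_le_card p hq hM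
  by_cases hp : ∃ x ∈ M, orderOf x = p
  · obtain ⟨x, hx, hxp⟩ := hp
    refine borel_case p hM (Q := Subgroup.zpowers x) (IsPGroup.of_card (n := 1) (by
        rw [Nat.card_zpowers, hxp, pow_one])) ?_ ?_
    · simp only [ne_eq, Subgroup.zpowers_eq_bot]
      intro e; rw [e, orderOf_one] at hxp; exact (Fact.out : p.Prime).one_lt.ne hxp
    · intro y hy z hz
      rw [hc y hy z (Subgroup.zpowers_le.2 hx hz), mul_inv_cancel_right]
      exact hz
  exfalso
  push Not at hp
  have hndvd : ∀ x ∈ M, ¬ p ∣ orderOf x := fun x hx h => by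
    obtain ⟨c, hc'⟩ := h
    refine hp (x ^ c) (M.pow_mem hx c) ?_
    rw [orderOf_pow' _ (by rintro rfl; simp [(orderOf_pos x).ne'] at hc'), hc',
      Nat.gcd_mul_left_left, Nat.mul_div_cancel]
    exact Nat.pos_of_ne_zero (by rintro rfl; simp [(orderOf_pos x).ne'] at hc')
  by_cases h3 : ∃ x ∈ M, 3 ≤ orderOf x
  · obtain ⟨x, hx, hx3⟩ := h3
    obtain ⟨g, h4, -, hd, -, ⟨e⟩⟩ := torus_case p hq hM hx (fun y hy => by
      rw [hc y hy x hx, mul_inv_cancel_right]; exact Subgroup.mem_zpowers x) hx3 (hndvd x hx)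
    have hn := Nat.le_of_dvd Nat.card_pos hd
    have h := congrArg e (show (e.symm (DihedralGroup.r 1)) * e.symm (DihedralGroup.sr 0) =
      e.symm (DihedralGroup.sr 0) * e.symm (DihedralGroup.r 1) from
        Subtype.ext (hc _ (e.symm _).2 _ (e.symm _).2))
    simp at h
    have h2 : ((2 : ℕ) : ZMod (Nat.card ((cent g).map mk))) = 0 := by
      push_cast; linear_combination -h
    rw [ZMod.natCast_eq_zero_iff] at h2
    have := Nat.le_of_dvd two_pos h2
    omega
  push Not at h3
  have hexp : ∀ x ∈ M, orderOf x ∣ 2 := fun x hx => by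
    have := h3 x hx
    have := orderOf_pos x
    interval_cases (orderOf x) <;> norm_num
  obtain ⟨x, hx, hx1⟩ := M.bot_or_exists_ne_one.resolve_left fun e => by
    rw [e, Subgroup.card_bot] at h5; omega
  have hx2 : orderOf x = 2 :=
    ((Nat.dvd_prime Nat.prime_two).1 (hexp x hx)).resolve_left fun e => hx1 (orderOf_eq_one_iff.1 e)
  have hp2 : p ≠ 2 := fun e => hp x hx (hx2.trans e.symm)
  have h2 : (2 : F) ≠ 0 := fun e => hp2 (by
    have := (CharP.cast_eq_zero_iff F p 2).1 (by exact_mod_cast e)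
    exact ((Nat.prime_dvd_prime_iff_eq Fact.out Nat.prime_two).1 this))
  exact not_order_le_four p h2 (by rcases odd_card_iff.2 h2 with ⟨j, hj⟩; omega) hM hexp h5

/-- A maximal subgroup isomorphic to a subgroup of a Sylow normaliser is a point stabiliser. -/
theorem borel_of_iso (p : ℕ) [Fact p.Prime] [CharP F p] (hq : 4 ≤ Fintype.card F)
    {M : Subgroup PSL(2, F)} (hM : IsCoatom M) (P : Sylow p PSL(2, F)) (K : Subgroup PSL(2, F))
    (hK : K ≤ Subgroup.normalizer ((P : Subgroup PSL(2, F)) : Set PSL(2, F))) (e : M ≃* K) :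
    Nat.gcd 2 (Fintype.card F - 1) * Nat.card M = Fintype.card F * (Fintype.card F - 1) := by
  let f : M →* PSL(2, F) := K.subtype.comp e.toMonoidHom
  have hf : Function.Injective f := K.subtype_injective.comp e.injective
  set Q := ((P : Subgroup PSL(2, F)).comap f).map M.subtype with hQ
  by_cases hne : Q = ⊥
  · refine borel_or_not_comm p hq hM fun a ha b hb => ?_
    have hcomm : ∀ c d : M, ⁅c, d⁆ ∈ (P : Subgroup PSL(2, F)).comap f := fun c d => by
      rw [Subgroup.mem_comap, map_commutatorElement]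
      show ⁅((e c : K) : PSL(2, F)), ((e d : K) : PSL(2, F))⁆ ∈ (P : Subgroup PSL(2, F))
      obtain ⟨g, hg⟩ := MulAction.exists_smul_eq PSL(2, F) P (unipSylowPSL F p)
      have hPU : (P : Subgroup PSL(2, F)).map (MulAut.conj g).toMonoidHom = (unip F).map mk := by
        rw [← coe_unipSylowPSL p, ← hg]; rfl
      have hB : ∀ n ∈ Subgroup.normalizer ((P : Subgroup PSL(2, F)) : Set PSL(2, F)),
          MulAut.conj g n ∈ (borel F).map mk := by
        intro n hn
        obtain ⟨s, hs⟩ := mk_surjective (MulAut.conj g n)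
        refine ⟨s, ?_, hs⟩
        have h1 : mk (uu 1) ∈ (unip F).map mk := Subgroup.mem_map_of_mem mk (uu_mem_unip 1)
        rw [← hPU] at h1
        obtain ⟨z, hz, hz'⟩ := h1
        have h2 := Subgroup.mem_map_of_mem (MulAut.conj g).toMonoidHom
          ((Subgroup.mem_normalizer_iff.1 hn z).1 hz)
        rw [hPU, map_mul, map_mul, map_inv, hz', MulEquiv.coe_toMonoidHom, ← hs] at h2
        obtain ⟨u, hu, hu'⟩ := h2
        obtain ⟨t, rfl⟩ := mem_unip.1 hu
        rw [← map_inv, ← map_mul, ← map_mul, mk_eq_mk] at hu'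
        rcases hu' with h | h
        · exact uu_conj_mem_borel one_ne_zero h.symm
        · have h10 := congrArg (fun a : SL(2, F) => a 1 0) h
          simp [Matrix.mul_apply, Fin.sum_univ_two, Matrix.adjugate_fin_two] at h10
          rw [SetLike.mem_coe, mem_borel]
          exact sq_eq_zero_iff.1 (by linear_combination -h10)
      obtain ⟨u, hu, hu'⟩ := hB _ (hK (e c).2)
      obtain ⟨v, hv, hv'⟩ := hB _ (hK (e d).2)
      have hmem : ⁅u, v⁆ ∈ unip F := by
        rw [mem_unip_iff_entries]
        have ha0 := mem_borel.1 hu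
        have hb0 := mem_borel.1 hv
        have hda := det_eq u
        have hdb := det_eq v
        rw [ha0, mul_zero, sub_zero] at hda
        rw [hb0, mul_zero, sub_zero] at hdb
        refine ⟨(borel F).mul_mem ((borel F).mul_mem ((borel F).mul_mem hu hv) ((borel F).inv_mem hu))
          ((borel F).inv_mem hv), ?_⟩
        rw [commutatorElement_def]
        simp only [mul00, mul01, mul10, mul11, inv00, inv01, inv10, inv11, ha0, hb0]
        linear_combination (v 0 0 * v 1 1) * hda + hdb
      have h3 := Subgroup.mem_map_of_mem mk hmem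
      rw [map_commutatorElement, hu', hv', ← hPU, ← map_commutatorElement] at h3
      obtain ⟨z, hz, hz'⟩ := h3
      rw [MulEquiv.coe_toMonoidHom] at hz'
      rw [← (MulAut.conj g).injective hz']
      exact hz
    have h := Subgroup.mem_map_of_mem M.subtype (hcomm ⟨a, ha⟩ ⟨b, hb⟩)
    rw [← hQ, hne, Subgroup.mem_bot, map_commutatorElement] at h
    exact commutatorElement_eq_one_iff_mul_comm.1 h
  · refine borel_case p hM (Q := Q) ((P.isPGroup'.comap_of_injective f hf).map M.subtype) hne ?_
    rintro y hy _ ⟨z, hz, rfl⟩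
    refine ⟨⟨y, hy⟩ * z * ⟨y, hy⟩⁻¹, ?_, rfl⟩
    rw [SetLike.mem_coe, Subgroup.mem_comap, map_mul, map_mul, map_inv]
    exact (Subgroup.mem_normalizer_iff.1 (hK (e ⟨y, hy⟩).2) _).1 hz

end Cfsg.Agent.PSL2.Maximal
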