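import Cfsg.Agent.Lib.PSL2.Classes

/-!
Klein four-subgroups of `PSL(2, F)`, odd characteristic.

* each is `{1, x, y, xy}` for `x = mk g`, `y = mk w` with `w` inverting `g`, `tr g = 0`;
* `12 #V = |PSL|`; one class for `q ≡ ±3 (mod 8)`, two for `q ≡ ±1 (mod 8)`;
* each is normalised by `mk (rot g w)`, of order three, giving a subgroup `≅ A₄`.
-/

set_option autoImplicit false

open Matrix
open scoped MatrixGroups

namespace Cfsg.Agent.PSL2

section Abstract

variable {G : Type*} [Group G]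

/-- Two distinct commuting involutions. -/
def IsInvPair (x y : G) : Prop := orderOf x = 2 ∧ orderOf y = 2 ∧ Commute x y ∧ x ≠ y

theorem IsInvPair.sq {x : G} (hx : orderOf x = 2) : x * x = 1 := by
  have := pow_orderOf_eq_one x
  rwa [hx, pow_two] at this

/-- `{1, x, y, xy}`. -/
def klein (x y : G) (h : IsInvPair x y) : Subgroup G where
  carrier := {1, x, y, x * y}
  one_mem' := Or.inl rfl
  mul_mem' {a b} ha hb := by
    have hx := IsInvPair.sq h.1
    have hy := IsInvPair.sq h.2.1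
    have hc := h.2.2.1.eq
    have hxxy : x * (x * y) = y := by rw [← mul_assoc, hx, one_mul]
    have hyxy : y * (x * y) = x := by rw [hc, ← mul_assoc, hy, one_mul]
    simp only [Set.mem_insert_iff, Set.mem_singleton_iff] at ha hb ⊢
    rcases ha with rfl | rfl | rfl | rfl <;> rcases hb with rfl | rfl | rfl | rfl <;>
      simp [mul_assoc, hx, hy, hc.symm, hxxy, hyxy]
  inv_mem' {a} ha := by
    have hx : x⁻¹ = x := inv_eq_of_mul_eq_one_right (IsInvPair.sq h.1)
    have hy : y⁻¹ = y := inv_eq_of_mul_eq_one_right (IsInvPair.sq h.2.1)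
    simp only [Set.mem_insert_iff, Set.mem_singleton_iff] at ha ⊢
    rcases ha with rfl | rfl | rfl | rfl <;> simp [hx, hy, h.2.2.1.eq]

theorem mem_klein {x y a : G} {h : IsInvPair x y} :
    a ∈ klein x y h ↔ a = 1 ∨ a = x ∨ a = y ∨ a = x * y := Iff.rfl

theorem IsInvPair.mul {x y : G} (h : IsInvPair x y) : IsInvPair x (x * y) := by
  have hx := IsInvPair.sq h.1
  have hy := IsInvPair.sq h.2.1
  refine ⟨h.1, orderOf_eq_prime ?_ ?_, (Commute.refl x).mul_right h.2.2.1, ?_⟩
  · rw [pow_two, mul_assoc, ← mul_assoc y, ← h.2.2.1.eq, mul_assoc, hy, mul_one, hx]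
  · intro e
    apply h.2.2.2
    rw [← inv_eq_of_mul_eq_one_right hy, eq_inv_iff_mul_eq_one]
    exact e
  · intro e
    have : y = 1 := by simpa using e.symm
    rw [this] at h
    simpa using h.2.1

theorem mul_sq_of_commute {a b : G} (h : Commute a b) : a * b * (a * b) = a * a * (b * b) := by
  rw [mul_assoc, ← mul_assoc b, ← h.eq, mul_assoc, ← mul_assoc]

theorem card_klein {x y : G} (h : IsInvPair x y) : Nat.card (klein x y h) = 4 := by
  classical
  have hx1 : (1 : G) ≠ x := by rintro e; have := h.1; simp [← e] at this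
  have hy1 : (1 : G) ≠ y := by rintro e; have := h.2.1; simp [← e] at this
  have hxy := h.mul
  have hxy1 : (1 : G) ≠ x * y := by rintro e; have := hxy.2.1; simp [← e] at this
  have hyxy : y ≠ x * y := fun e => hx1 (mul_right_cancel ((one_mul y).trans e))
  have e : ((({1, x, y, x * y} : Finset G)) : Set G) = (klein x y h : Set G) := by
    ext a; simp [mem_klein]
  rw [← SetLike.coe_sort_coe, ← e, Nat.card_coe_set_eq, Set.ncard_coe_finset,
    Finset.card_insert_of_notMem (by simp [hx1, hy1, hxy1]),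
    Finset.card_insert_of_notMem (by simp [h.2.2.2, hxy.2.2.2]),
    Finset.card_pair hyxy]

theorem isKleinFour_klein {x y : G} (h : IsInvPair x y) : IsKleinFour (klein x y h) := by
  refine ⟨card_klein h, ?_⟩
  have hdvd : Monoid.exponent (klein x y h) ∣ 2 := by
    refine Monoid.exponent_dvd_of_forall_pow_eq_one fun ⟨a, ha⟩ => Subtype.ext ?_
    show a ^ 2 = 1
    rw [pow_two]
    rcases mem_klein.1 ha with rfl | rfl | rfl | rfl
    · simp
    · exact IsInvPair.sq h.1
    · exact IsInvPair.sq h.2.1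
    · exact IsInvPair.sq h.mul.2.1
  refine ((Nat.dvd_prime Nat.prime_two).1 hdvd).resolve_left fun h1 => ?_
  have := Monoid.exp_eq_one_iff.1 h1
  have h4 := card_klein h
  rw [Nat.card_of_subsingleton (1 : klein x y h)] at h4
  omega

theorem orderOf_eq_two_of_mem_klein {V : Subgroup G} (hV : IsKleinFour V) {a : G} (ha : a ∈ V)
    (h1 : a ≠ 1) : orderOf a = 2 := by
  refine orderOf_eq_prime ?_ h1
  rw [← hV.exponent_two]
  exact congrArg Subtype.val (Monoid.pow_exponent_eq_one (⟨a, ha⟩ : V))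

theorem isInvPair_of_mem {V : Subgroup G} (hV : IsKleinFour V) {a b : G} (ha : a ∈ V) (hb : b ∈ V)
    (ha1 : a ≠ 1) (hb1 : b ≠ 1) (hab : a ≠ b) : IsInvPair a b := by
  refine ⟨orderOf_eq_two_of_mem_klein hV ha ha1, orderOf_eq_two_of_mem_klein hV hb hb1, ?_, hab⟩
  show a * b = b * a
  have h := congrArg Subtype.val (mul_comm_of_exponent_two hV.exponent_two (⟨a, ha⟩ : V) ⟨b, hb⟩)
  exact h

theorem eq_klein {V : Subgroup G} (hV : IsKleinFour V) {a b : G} (h : IsInvPair a b)
    (ha : a ∈ V) (hb : b ∈ V) : V = klein a b h := by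
  have : Finite V := Nat.finite_of_card_ne_zero (by rw [hV.card_four]; norm_num)
  refine (Subgroup.eq_of_le_of_card_ge ?_ (by rw [hV.card_four, card_klein])).symm
  intro c hc
  rcases mem_klein.1 hc with rfl | rfl | rfl | rfl
  exacts [one_mem _, ha, hb, mul_mem ha hb]

theorem exists_mem_ne {V : Subgroup G} (hV : IsKleinFour V) (a : G) :
    ∃ b ∈ V, b ≠ 1 ∧ b ≠ a := by
  by_contra h
  simp only [not_exists, not_and, not_not] at h
  classical
  have : Finite V := Nat.finite_of_card_ne_zero (by rw [hV.card_four]; norm_num)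
  have hsub : (V : Set G) ⊆ ({1, a} : Set G) := fun c hc => by
    by_cases h1 : c = 1
    · exact Or.inl h1
    · exact Or.inr (h c hc h1)
  have h2 := Set.ncard_le_ncard hsub
  rw [← Nat.card_coe_set_eq, SetLike.coe_sort_coe, hV.card_four] at h2
  have := Set.ncard_insert_le 1 ({a} : Set G)
  rw [Set.ncard_singleton] at this
  omega

theorem exists_isInvPair {V : Subgroup G} (hV : IsKleinFour V) :
    ∃ a b, ∃ h : IsInvPair a b, V = klein a b h := by
  obtain ⟨a, ha, ha1, -⟩ := exists_mem_ne hV 1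
  obtain ⟨b, hb, hb1, hba⟩ := exists_mem_ne hV a
  exact ⟨a, b, isInvPair_of_mem hV ha hb ha1 hb1 (Ne.symm hba), eq_klein hV _ ha hb⟩

theorem map_klein {H : Type*} [Group H] (f : G →* H) {x y : G} (h : IsInvPair x y)
    (h' : IsInvPair (f x) (f y)) : (klein x y h).map f = klein (f x) (f y) h' := by
  ext c
  rw [Subgroup.mem_map, mem_klein]
  constructor
  · rintro ⟨a, ha, rfl⟩
    rcases mem_klein.1 ha with rfl | rfl | rfl | rfl <;> simp
  · rintro (rfl | rfl | rfl | rfl)
    · exact ⟨1, one_mem _, map_one f⟩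
    · exact ⟨x, mem_klein.2 (by simp), rfl⟩
    · exact ⟨y, mem_klein.2 (by simp), rfl⟩
    · exact ⟨x * y, mem_klein.2 (by simp), map_mul f x y⟩

theorem klein_mul {x y : G} (h : IsInvPair x y) : klein x (x * y) h.mul = klein x y h := by
  ext c
  rw [mem_klein, mem_klein, ← mul_assoc, IsInvPair.sq h.1, one_mul]
  tauto

/-- Four times six ordered pairs in each four-group. -/
theorem card_isInvPair [Finite G] :
    Nat.card {p : G × G // IsInvPair p.1 p.2} =
      6 * Nat.card {V : Subgroup G // IsKleinFour V} := by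
  classical
  let f : {p : G × G // IsInvPair p.1 p.2} → {V : Subgroup G // IsKleinFour V} :=
    fun p => ⟨klein p.1.1 p.1.2 p.2, isKleinFour_klein p.2⟩
  have := Fintype.ofFinite {V : Subgroup G // IsKleinFour V}
  rw [← Nat.card_congr (Equiv.sigmaFiberEquiv f), Nat.card_sigma]
  have key : ∀ V : {V : Subgroup G // IsKleinFour V}, Nat.card {p // f p = V} = 6 := by
    rintro ⟨V, hV⟩
    have : Fintype V := Fintype.ofFinite _
    have h4 : Fintype.card V = 4 := by rw [← Nat.card_eq_fintype_card, hV.card_four]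
    have e : {p // f p = ⟨V, hV⟩} ≃
        {q : V × V // q.1 ≠ 1 ∧ q.2 ≠ 1 ∧ q.1 ≠ q.2} :=
      { toFun := fun p => ⟨(⟨p.1.1.1, by
            exact (congrArg Subtype.val p.2).le ((mem_klein (h := p.1.2)).2 (by simp))⟩,
          ⟨p.1.1.2, (congrArg Subtype.val p.2).le ((mem_klein (h := p.1.2)).2 (by simp))⟩), by
            obtain ⟨h1, h2, -, h3⟩ := p.1.2
            refine ⟨fun e => ?_, fun e => ?_, fun e => h3 (congrArg Subtype.val e)⟩
            · rw [show p.1.1.1 = 1 from congrArg Subtype.val e] at h1; simp at h1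
            · rw [show p.1.1.2 = 1 from congrArg Subtype.val e] at h2; simp at h2⟩
        invFun := fun q => ⟨⟨((q.1.1 : G), (q.1.2 : G)), isInvPair_of_mem hV q.1.1.2 q.1.2.2
            (fun e => q.2.1 (Subtype.ext e)) (fun e => q.2.2.1 (Subtype.ext e))
            (fun e => q.2.2.2 (Subtype.ext e))⟩, Subtype.ext (eq_klein hV (isInvPair_of_mem hV q.1.1.2 q.1.2.2
            (fun e => q.2.1 (Subtype.ext e)) (fun e => q.2.2.1 (Subtype.ext e))
            (fun e => q.2.2.2 (Subtype.ext e))) q.1.1.2 q.1.2.2).symm⟩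
        left_inv := fun p => rfl
        right_inv := fun q => rfl }
    rw [Nat.card_congr e, Nat.card_congr ((Fintype.equivFinOfCardEq h4).prodCongr
      (Fintype.equivFinOfCardEq h4) |>.subtypeEquiv (q := fun q : Fin 4 × Fin 4 =>
        q.1 ≠ Fintype.equivFinOfCardEq h4 1 ∧ q.2 ≠ Fintype.equivFinOfCardEq h4 1 ∧ q.1 ≠ q.2)
      fun q => by simp)]
    generalize Fintype.equivFinOfCardEq h4 1 = o
    rw [Nat.card_eq_fintype_card]
    revert o
    decide
  rw [Finset.sum_congr rfl fun V _ => key V, Finset.sum_const, Finset.card_univ, smul_eq_mul,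
    ← Nat.card_eq_fintype_card, mul_comm]

/-- The conjugacy class of `x` times the centraliser order is the group order. -/
theorem card_isConj_mul_centralizer [Finite G] (x : G) :
    Nat.card {y // IsConj x y} * Nat.card (Subgroup.centralizer ({x} : Set G)) = Nat.card G := by
  have e : (G ⧸ Subgroup.centralizer ({x} : Set G)) ≃ {y // IsConj x y} := by
    refine Equiv.ofBijective (Quotient.lift (fun g : G => (⟨g * x * g⁻¹, isConj_iff.2 ⟨g, rfl⟩⟩ :
      {y // IsConj x y})) ?_) ⟨?_, ?_⟩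
    · intro a b hab
      have h := QuotientGroup.leftRel_apply.1 hab
      rw [Subgroup.mem_centralizer_singleton_iff] at h
      refine Subtype.ext ?_
      calc a * x * a⁻¹ = a * (x * (a⁻¹ * b)) * b⁻¹ := by group
        _ = b * x * b⁻¹ := by rw [← h]; group
    · rintro ⟨a⟩ ⟨b⟩ hab
      have h := congrArg Subtype.val hab
      refine Quotient.sound (QuotientGroup.leftRel_apply.2 ?_)
      rw [Subgroup.mem_centralizer_singleton_iff]
      change a * x * a⁻¹ = b * x * b⁻¹ at h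
      calc a⁻¹ * b * x = a⁻¹ * (b * x * b⁻¹) * b := by group
        _ = x * (a⁻¹ * b) := by rw [← h]; group
    · rintro ⟨y, hy⟩
      obtain ⟨c, hc⟩ := isConj_iff.1 hy
      exact ⟨Quotient.mk'' c, Subtype.ext hc⟩
  rw [← Nat.card_congr e, ← Subgroup.card_eq_card_quotient_mul_card_subgroup]

/-- A group of order twelve with a four-group cycled by an element of order three is `A₄`. -/
theorem mulEquiv_alternatingFour [Finite G] {x y h : G} (hV : IsInvPair x y) (hh : orderOf h = 3)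
    (hx : h * x * h⁻¹ = y) (hG : Nat.card G = 12) : Nonempty (G ≃* alternatingGroup (Fin 4)) := by
  classical
  set T := Subgroup.zpowers h
  have hT : Nat.card T = 3 := by rw [Nat.card_zpowers, hh]
  have hidx : T.index = 4 := by
    have := T.index_mul_card; rw [hT, hG] at this; omega
  have hcore : T.normalCore = ⊥ := by
    by_contra hne
    have hle := T.normalCore_le
    have hd : Nat.card T.normalCore ∣ 3 := hT ▸ Subgroup.card_dvd_of_le hle
    have heq : T.normalCore = T := by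
      refine Subgroup.eq_of_le_of_card_ge hle ?_
      rcases (Nat.dvd_prime Nat.prime_three).1 hd with e | e
      · exact absurd (Subgroup.card_eq_one.1 e) hne
      · rw [hT, e]
    have hn : T.Normal := heq ▸ T.normalCore_normal
    -- `[x, h] = x y` lies in `T` and in the four-group
    have hmem : x * y ∈ T := by
      have := mul_mem (hn.conj_mem h (Subgroup.mem_zpowers h) x) (inv_mem (Subgroup.mem_zpowers h))
      rw [inv_eq_of_mul_eq_one_right (IsInvPair.sq hV.1)] at this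
      rwa [show x * h * x * h⁻¹ = x * (h * x * h⁻¹) by group, hx] at this
    have hdvd := orderOf_dvd_natCard (⟨x * y, hmem⟩ : T)
    rw [Subgroup.orderOf_mk, hV.mul.2.1, hT] at hdvd
    omega
  let φ := MulAction.toPermHom G (G ⧸ T)
  have hinj : Function.Injective φ := by
    rw [← MonoidHom.ker_eq_bot_iff, ← Subgroup.normalCore_eq_ker, hcore]
  have : Fintype (G ⧸ T) := Fintype.ofFinite _
  have e4 : (G ⧸ T) ≃ Fin 4 := Fintype.equivFinOfCardEq (by
    rw [← Nat.card_eq_fintype_card]; exact hidx)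
  let ψ : G →* Equiv.Perm (Fin 4) := e4.permCongrHom.toMonoidHom.comp φ
  have hψ : Function.Injective ψ := e4.permCongrHom.injective.comp hinj
  have hr : ψ.range = alternatingGroup (Fin 4) := by
    refine Equiv.Perm.eq_alternatingGroup_of_index_eq_two ?_
    have := ψ.range.index_mul_card
    rw [← Nat.card_congr (MonoidHom.ofInjective hψ).toEquiv, hG, Nat.card_perm, Nat.card_fin] at this
    simp only [Nat.factorial] at this
    omega
  exact ⟨(MonoidHom.ofInjective hψ).trans (MulEquiv.subgroupCongr hr)⟩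

/-- An element of order three cycling a four-group gives a subgroup `≅ A₄`. -/
theorem exists_alternatingFour_of_cycle [Finite G] {x y ρ : G} (h : IsInvPair x y) (hρ : orderOf ρ = 3)
    (e1 : ρ * x * ρ⁻¹ = y) (e2 : ρ * y * ρ⁻¹ = x * y) (e3 : ρ * (x * y) * ρ⁻¹ = x) :
    ∃ H : Subgroup G, klein x y h ≤ H ∧ Nonempty (H ≃* alternatingGroup (Fin 4)) := by
  set V := klein _ _ h with hV
  set T := Subgroup.zpowers ρ with hT
  have hρN : ρ ∈ Subgroup.normalizer (V : Set G) := by
    have hle : ∀ v ∈ V, ρ * v * ρ⁻¹ ∈ V := by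
      intro v hv
      rcases mem_klein.1 hv with rfl | rfl | rfl | rfl
      · simp
      · rw [e1]; exact mem_klein.2 (Or.inr (Or.inr (Or.inl rfl)))
      · rw [e2]; exact mem_klein.2 (Or.inr (Or.inr (Or.inr rfl)))
      · rw [e3]; exact mem_klein.2 (Or.inr (Or.inl rfl))
    rw [Subgroup.mem_normalizer_iff]
    refine fun v => ⟨hle v, fun hv => ?_⟩
    have := hle _ (hle _ hv)
    have h3 : ρ * ρ * ρ = 1 := by rw [← pow_two, ← pow_succ, show 2 + 1 = orderOf ρ from hρ.symm]; exact pow_orderOf_eq_one ρ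
    rwa [show ρ * (ρ * (ρ * v * ρ⁻¹) * ρ⁻¹) * ρ⁻¹ = (ρ * ρ * ρ) * v * (ρ * ρ * ρ)⁻¹ by group, h3,
      one_mul, inv_one, mul_one] at this
  have hTN : T ≤ Subgroup.normalizer (V : Set G) := Subgroup.zpowers_le.2 hρN
  have hdisj : Disjoint V T := Subgroup.disjoint_of_coprime_natCard
    (by rw [card_klein, hT, Nat.card_zpowers, hρ]; decide)
  have hcard : Nat.card ↥(V ⊔ T) = 12 := by
    rw [show 12 = Nat.card V * Nat.card T by rw [card_klein, hT, Nat.card_zpowers, hρ],
      ← Nat.card_prod]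
    refine (Nat.card_eq_of_bijective (fun x : V × T =>
      (⟨x.1 * x.2, Subgroup.mul_mem_sup x.1.2 x.2.2⟩ : ↥(V ⊔ T))) ⟨?_, ?_⟩).symm
    · intro a b hab
      exact Subgroup.mul_injective_of_disjoint hdisj (congrArg Subtype.val hab)
    · rintro ⟨x, hx⟩
      rw [← SetLike.mem_coe, Subgroup.coe_mul_of_right_le_normalizer_left V T hTN] at hx
      obtain ⟨v, hv, t, ht, rfl⟩ := hx
      exact ⟨(⟨v, hv⟩, ⟨t, ht⟩), rfl⟩
  have hg : x ∈ V ⊔ T := Subgroup.mem_sup_left (mem_klein.2 (Or.inr (Or.inl rfl)))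
  have hw : y ∈ V ⊔ T := Subgroup.mem_sup_left (mem_klein.2 (Or.inr (Or.inr (Or.inl rfl))))
  refine ⟨V ⊔ T, le_sup_left, mulEquiv_alternatingFour (x := (⟨x, hg⟩ : ↥(V ⊔ T)))
    (y := ⟨y, hw⟩) (h := ⟨ρ, Subgroup.mem_sup_right (Subgroup.mem_zpowers ρ)⟩) ?_ ?_ ?_ hcard⟩
  · obtain ⟨a, b, c, d⟩ := h
    exact ⟨by rw [Subgroup.orderOf_mk, a], by rw [Subgroup.orderOf_mk, b], Subtype.ext c,
      fun e => d (congrArg Subtype.val e)⟩
  · rw [Subgroup.orderOf_mk, hρ]
  · exact Subtype.ext e1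

end Abstract

variable {F : Type*} [Field F]

section Pairs

/-- Lifts of a pair of commuting involutions: `w` inverts `g`, both of trace zero. -/
structure IsLift (g w : SL(2, F)) : Prop where of ::
  two : (2 : F) ≠ 0
  trg : tr g = 0
  conj : w * g * w⁻¹ = g⁻¹

theorem IsLift.h4 {g w : SL(2, F)} (h : IsLift g w) : tr g ^ 2 ≠ 4 :=
  tr_sq_ne_four_of_tr_eq_zero h.two h.trg

theorem IsLift.gg {g w : SL(2, F)} (h : IsLift g w) : g * g = -1 :=
  sq_eq_neg_one_of_tr_eq_zero h.trg

theorem IsLift.trw [Fintype F] {g w : SL(2, F)} (h : IsLift g w) : tr w = 0 :=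
  tr_eq_zero_of_sq_eq_neg_one (sq_eq_neg_one_of_inverting h.h4 h.conj)

theorem IsLift.ww [Fintype F] {g w : SL(2, F)} (h : IsLift g w) : w * w = -1 :=
  sq_eq_neg_one_of_inverting h.h4 h.conj

theorem IsLift.anticomm {g w : SL(2, F)} (h : IsLift g w) : w * g = -(g * w) := by
  have e := mul_inv_eq_iff_eq_mul.1 h.conj
  rwa [inv_eq_neg_of_tr_eq_zero h.trg, neg_mul] at e

theorem IsLift.isInvPair [Fintype F] {g w : SL(2, F)} (h : IsLift g w) :
    IsInvPair (mk g) (mk w) := by
  refine ⟨orderOf_mk_eq_two h.trg (not_mem_center_of_tr h.h4),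
    orderOf_mk_eq_two h.trw (not_mem_center_of_tr (tr_sq_ne_four_of_tr_eq_zero h.two h.trw)),
    ?_, fun e => not_mem_cent_of_inverting h.h4 h.conj ?_⟩
  · show mk g * mk w = mk w * mk g
    rw [← map_mul, ← map_mul, h.anticomm, mk_neg]
  · exact (mk_mem_map_iff (center_le_cent g)).1
      (e ▸ Subgroup.mem_map_of_mem mk (mem_cent.2 (Commute.refl g)))

/-- Every pair of commuting involutions lifts. -/
theorem exists_lift [Fintype F] (h2 : (2 : F) ≠ 0) {g : SL(2, F)} (hg : tr g = 0) {y : PSL(2, F)}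
    (h : IsInvPair (mk g) y) : ∃ w, IsLift g w ∧ mk w = y := by
  obtain ⟨w, rfl, hw, -⟩ := exists_tr_eq_zero h.2.1
  refine ⟨w, ⟨h2, hg, ?_⟩, rfl⟩
  have h4 := tr_sq_ne_four_of_tr_eq_zero h2 hg
  rcases psl_commute_iff.1 h.2.2.1.symm with e | e
  · exfalso
    apply h.2.2.2
    rcases eq_or_eq_inv_of_tr_eq h4 (mul_inv_eq_iff_eq_mul.1 e) (hw.trans hg.symm) with rfl | rfl
    · rfl
    · rw [inv_eq_neg_of_tr_eq_zero hg, mk_neg]
  · rw [e, inv_eq_neg_of_tr_eq_zero hg]

theorem IsLift.inverting_iff {g w w' : SL(2, F)} (h : IsLift g w) :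
    IsLift g w' ↔ ∃ c ∈ cent g, w' = c * w := by
  constructor
  · intro h'
    refine ⟨w' * w⁻¹, mem_cent.2 ?_, by group⟩
    have hinv : w⁻¹ * g * w = g⁻¹ := by
      have e : g = w * g⁻¹ * w⁻¹ := by rw [← conj_inv, h.conj, inv_inv]
      conv_lhs => rw [e]
      group
    refine mul_inv_eq_iff_eq_mul.1 ?_
    rw [show w' * w⁻¹ * g * (w' * w⁻¹)⁻¹ = w' * (w⁻¹ * g * w) * w'⁻¹ by group, hinv,
      ← conj_inv, h'.conj, inv_inv]
  · rintro ⟨c, hc, rfl⟩
    refine ⟨h.two, h.trg, ?_⟩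
    rw [show c * w * g * (c * w)⁻¹ = c * (w * g * w⁻¹) * c⁻¹ by group, h.conj, ← conj_inv,
      mul_inv_eq_iff_eq_mul.2 (mem_cent.1 hc).eq]

end Pairs

section Rotation

/-- `(1 + g + w + g w) / 2` for a lift `g, w`. -/
theorem exists_rot [Fintype F] {g w : SL(2, F)} (h : IsLift g w) :
    ∃ r : SL(2, F), r * g * r⁻¹ = w ∧ r * w * r⁻¹ = g * w ∧ tr r = 1 := by
  have hgd := det_eq g
  have hwd := det_eq w
  have hg : g 1 1 = -g 0 0 := by have := h.trg; rw [tr_def] at this; linear_combination this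
  have hw : w 1 1 = -w 0 0 := by have := h.trw; rw [tr_def] at this; linear_combination this
  have a0 := congrArg (fun m : SL(2, F) => m 0 0) h.anticomm
  have a1 := congrArg (fun m : SL(2, F) => m 0 1) h.anticomm
  have a2 := congrArg (fun m : SL(2, F) => m 1 0) h.anticomm
  simp only [mul00, mul01, mul10, hg, hw, Matrix.SpecialLinearGroup.coe_neg, Matrix.neg_apply] at a0 a1 a2
  rw [hg] at hgd; rw [hw] at hwd
  have h2 := h.two
  have key : 2 * (g 0 0 * w 0 0) + g 0 1 * w 1 0 + g 1 0 * w 0 1 = 0 := by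
    linear_combination a0
  have hGW : (g 0 0 * -g 0 0 - g 0 1 * g 1 0) * (w 0 0 * -w 0 0 - w 0 1 * w 1 0) = 1 := by
    rw [hgd, hwd, one_mul]
  let r : SL(2, F) := ⟨!![(1 + g 0 0 + w 0 0 + (g 0 0 * w 0 0 + g 0 1 * w 1 0)) / 2,
      (g 0 1 + w 0 1 + (g 0 0 * w 0 1 - g 0 1 * w 0 0)) / 2;
      (g 1 0 + w 1 0 + (g 1 0 * w 0 0 - g 0 0 * w 1 0)) / 2,
      (1 - g 0 0 - w 0 0 + (g 1 0 * w 0 1 + g 0 0 * w 0 0)) / 2], by
    rw [Matrix.det_fin_two_of]
    field_simp
    linear_combination hgd + hwd + hGW⟩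
  have r0 : r 0 0 = (1 + g 0 0 + w 0 0 + (g 0 0 * w 0 0 + g 0 1 * w 1 0)) / 2 := rfl
  have r1 : r 0 1 = (g 0 1 + w 0 1 + (g 0 0 * w 0 1 - g 0 1 * w 0 0)) / 2 := rfl
  have r2 : r 1 0 = (g 1 0 + w 1 0 + (g 1 0 * w 0 0 - g 0 0 * w 1 0)) / 2 := rfl
  have r3 : r 1 1 = (1 - g 0 0 - w 0 0 + (g 1 0 * w 0 1 + g 0 0 * w 0 0)) / 2 := rfl
  refine ⟨r, mul_inv_eq_iff_eq_mul.2 ?_, mul_inv_eq_iff_eq_mul.2 ?_, ?_⟩
  · apply ext2 <;> simp only [mul00, mul01, mul10, mul11, r0, r1, r2, r3, hg, hw] <;> field_simp <;>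
      grind
  · apply ext2 <;> simp only [mul00, mul01, mul10, mul11, r0, r1, r2, r3, hg, hw] <;> field_simp <;>
      grind
  · rw [tr_def, r0, r3]
    field_simp
    linear_combination key

theorem cube_eq_neg_one_of_tr_eq_one {r : SL(2, F)} (h : tr r = 1) : r * r * r = -1 := by
  have hd := det_eq r
  rw [tr_def] at h
  apply ext2 <;> simp only [mul00, mul01, mul10, mul11] <;> simp <;> grind

/-- An element of order three cycles the four-group. -/
theorem exists_rot_psl [Fintype F] {g w : SL(2, F)} (h : IsLift g w) :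
    ∃ ρ : PSL(2, F), orderOf ρ = 3 ∧ ρ * mk g * ρ⁻¹ = mk w ∧
      ρ * mk w * ρ⁻¹ = mk g * mk w ∧ ρ * (mk g * mk w) * ρ⁻¹ = mk g := by
  obtain ⟨r, h1, h2, h3⟩ := exists_rot h
  have e1 : mk r * mk g * (mk r)⁻¹ = mk w := by
    rw [← map_inv, ← map_mul, ← map_mul, h1]
  have e2 : mk r * mk w * (mk r)⁻¹ = mk g * mk w := by
    rw [← map_inv, ← map_mul, ← map_mul, h2, map_mul]
  refine ⟨mk r, orderOf_eq_prime ?_ ?_, e1, e2, ?_⟩
  · rw [pow_succ, pow_two, ← map_mul, ← map_mul, cube_eq_neg_one_of_tr_eq_one h3, mk_neg_one]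
  · intro e
    rw [e] at e1
    exact h.isInvPair.2.2.2 (by simpa using e1)
  · rw [show mk r * (mk g * mk w) * (mk r)⁻¹ = (mk r * mk g * (mk r)⁻¹) * (mk r * mk w * (mk r)⁻¹) by
      group, e1, e2, ← mul_assoc, ← h.isInvPair.2.2.1.eq, mul_assoc,
      IsInvPair.sq h.isInvPair.2.1, mul_one]

end Rotation

section Count

variable [Fintype F]

omit [Fintype F] in
theorem exists_lift_exists (h2 : (2 : F) ≠ 0) [Fintype F] : ∃ g w : SL(2, F), IsLift g w := by
  obtain ⟨w, hw⟩ := exists_inverting (g := ell (0 : F))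
    (tr_sq_ne_four_of_tr_eq_zero h2 (by simp))
  exact ⟨ell 0, w, h2, by simp, hw⟩

/-- For a fixed involution, the others commuting with it are half of its centraliser. -/
theorem two_mul_card_pair (h2 : (2 : F) ≠ 0) {x : PSL(2, F)} (hx : orderOf x = 2) :
    2 * Nat.card {y // IsInvPair x y} = Nat.card (Subgroup.centralizer ({x} : Set PSL(2, F))) := by
  obtain ⟨g, rfl, hg, -⟩ := exists_tr_eq_zero hx
  have h4 := tr_sq_ne_four_of_tr_eq_zero h2 hg
  obtain ⟨w, hw⟩ := exists_inverting h4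
  have hL : IsLift g w := ⟨h2, hg, hw⟩
  have e : Nat.card ((cent g).map mk) = Nat.card {y // IsInvPair (mk g) y} := by
    refine Nat.card_eq_of_bijective (fun c => ⟨(c : PSL(2, F)) * mk w, ?_⟩) ⟨?_, ?_⟩
    · obtain ⟨c', hc', hcc⟩ := c.2
      rw [← hcc, ← map_mul]
      exact (hL.inverting_iff.2 ⟨c', hc', rfl⟩).isInvPair
    · intro a b hab
      exact Subtype.ext (mul_right_cancel (congrArg Subtype.val hab))
    · rintro ⟨y, hy⟩
      obtain ⟨w', hw', rfl⟩ := exists_lift h2 hg hy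
      obtain ⟨c, hc, rfl⟩ := hL.inverting_iff.1 hw'
      exact ⟨⟨mk c, Subgroup.mem_map_of_mem mk hc⟩, Subtype.ext (map_mul mk c w).symm⟩
  have h1 := gcd_mul_card_map_mk ((center_le_cent g).trans (cent_le_normalizer g))
  rw [card_normalizer_cent h4, ← card_map_cent g, e] at h1
  rw [psl_centralizer_involution h2 hg]
  refine Nat.eq_of_mul_eq_mul_left (Nat.gcd_pos_of_pos_left (Fintype.card F - 1) two_pos) ?_
  rw [h1]; ring

/-- `12 #{four-groups} = |PSL|`. -/
theorem twelve_mul_card_klein (h2 : (2 : F) ≠ 0) :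
    12 * Nat.card {V : Subgroup PSL(2, F) // IsKleinFour V} = Nat.card PSL(2, F) := by
  classical
  have := Fintype.ofFinite {x : PSL(2, F) // orderOf x = 2}
  obtain ⟨g, w, hL⟩ := exists_lift_exists (F := F) h2
  have hx := hL.isInvPair.1
  rw [show (12 : ℕ) = 2 * 6 from rfl, mul_assoc, ← card_isInvPair]
  have e : {p : PSL(2, F) × PSL(2, F) // IsInvPair p.1 p.2} ≃
      Σ x : {x : PSL(2, F) // orderOf x = 2}, {y // IsInvPair x.1 y} :=
    { toFun := fun p => ⟨⟨p.1.1, p.2.1⟩, ⟨p.1.2, p.2⟩⟩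
      invFun := fun s => ⟨(s.1.1, s.2.1), s.2.2⟩
      left_inv := fun p => rfl
      right_inv := fun s => rfl }
  rw [Nat.card_congr e, Nat.card_sigma, Finset.mul_sum,
    ← card_isConj_mul_centralizer (mk g)]
  have hconj : {y // IsConj (mk g) y} ≃ {x : PSL(2, F) // orderOf x = 2} :=
    Equiv.subtypeEquivRight fun y => ⟨fun h => by
      obtain ⟨c, rfl⟩ := isConj_iff.1 h
      have := orderOf_injective (MulAut.conj c).toMonoidHom (MulEquiv.injective _) (mk g)
      exact (this.trans hx : _), fun hy => psl_involutions_isConj hx hy⟩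
  rw [Nat.card_congr hconj, Nat.card_eq_fintype_card, ← Finset.card_univ, ← smul_eq_mul,
    ← Finset.sum_const]
  refine Finset.sum_congr rfl fun x _ => ?_
  rw [two_mul_card_pair h2 x.2]
  have h1 := card_isConj_mul_centralizer (x : PSL(2, F))
  have h3 := card_isConj_mul_centralizer (mk g)
  have hc : Nat.card {y // IsConj (x : PSL(2, F)) y} = Nat.card {y // IsConj (mk g) y} :=
    Nat.card_congr (Equiv.subtypeEquivRight fun y => by
      have hc := psl_involutions_isConj hx x.2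
      exact ⟨fun h => hc.trans h, fun h => hc.symm.trans h⟩)
  rw [hc, ← h3] at h1
  exact Nat.eq_of_mul_eq_mul_left
    (Nat.card_pos_iff.2 ⟨⟨⟨mk g, IsConj.refl _⟩⟩, inferInstance⟩) h1

/-- The two representatives: every four-group is conjugate to that of `(g, w)` or `(g, z w)`. -/
theorem klein_conj_cases {g w z : SL(2, F)} (hL : IsLift g w) (hz : z ∈ cent g)
    (hgen : ∀ c ∈ cent g, c ∈ Subgroup.zpowers z) {V : Subgroup PSL(2, F)} (hV : IsKleinFour V) :
    ∃ k : PSL(2, F), V = (klein _ _ hL.isInvPair).map (MulAut.conj k).toMonoidHom ∨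
      V = (klein _ _ (hL.inverting_iff.2 ⟨z, hz, rfl⟩).isInvPair).map (MulAut.conj k).toMonoidHom := by
  obtain ⟨a, ha, ha1, -⟩ := exists_mem_ne hV 1
  obtain ⟨b, hb, hb1, hba⟩ := exists_mem_ne hV a
  have hpair := isInvPair_of_mem hV ha hb ha1 hb1 hba.symm
  obtain ⟨k, hk⟩ := isConj_iff.1 (psl_involutions_isConj hL.isInvPair.1 hpair.1)
  have hpair' : IsInvPair (mk g) (k⁻¹ * b * k) := by
    have e : mk g = k⁻¹ * a * k := by rw [← hk]; group
    rw [e]
    refine ⟨?_, ?_, ?_, fun e => hba (by simpa using e.symm)⟩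
    · rw [← e]; exact hL.isInvPair.1
    · rw [show k⁻¹ * b * k = (MulAut.conj k⁻¹).toMonoidHom b by simp]
      rw [orderOf_injective _ (MulEquiv.injective _)]; exact hpair.2.1
    · have := hpair.2.2.1.map (MulAut.conj k⁻¹).toMonoidHom
      simpa using this
  obtain ⟨w', hw', hb'⟩ := exists_lift hL.two hL.trg hpair'
  obtain ⟨c, hc, rfl⟩ := hL.inverting_iff.1 hw'
  obtain ⟨i, hi⟩ := Subgroup.mem_zpowers_iff.1 (hgen c hc)
  have ea : (MulAut.conj k).toMonoidHom (mk g) = a := hk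
  have eb : (MulAut.conj k).toMonoidHom (mk (c * w)) = b := by
    rw [hb']
    show k * (k⁻¹ * b * k) * k⁻¹ = b
    group
  have hVk : V = (klein _ _ hw'.isInvPair).map (MulAut.conj k).toMonoidHom := by
    have h' : IsInvPair ((MulAut.conj k).toMonoidHom (mk g)) ((MulAut.conj k).toMonoidHom (mk (c * w))) := by
      rw [ea, eb]; exact hpair
    rw [map_klein _ _ h']
    refine eq_klein hV h' ?_ ?_
    · rw [ea]; exact ha
    · rw [eb]; exact hb
  have hgc : ∀ j : ℤ, Commute (z ^ j) g := fun j => mem_cent.1 (zpow_mem hz j)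
  have hwz : ∀ j : ℤ, w * z ^ j = z ^ (-j) * w := fun j => by
    rw [← mul_inv_eq_iff_eq_mul, conj_eq_inv (not_mem_center_of_tr hL.h4) (hgc j) hL.conj,
      _root_.zpow_neg]
  -- conjugation by `z ^ j` shifts `i` by `2 j`
  have hshift : ∀ (j l : ℤ) (hl : IsLift g (z ^ l * w)) (hl' : IsLift g (z ^ (l + 2 * j) * w)),
      (klein _ _ hl'.isInvPair) =
        (klein _ _ hl.isInvPair).map (MulAut.conj (mk (z ^ j))).toMonoidHom := by
    intro j l hl hl'
    have e1 : (MulAut.conj (mk (z ^ j))).toMonoidHom (mk g) = mk g := by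
      simp only [MulEquiv.coe_toMonoidHom, MulAut.conj_apply]
      rw [← map_mul, ← map_inv, ← map_mul, (hgc j).eq, mul_inv_cancel_right]
    have e2 : (MulAut.conj (mk (z ^ j))).toMonoidHom (mk (z ^ l * w)) =
        mk (z ^ (l + 2 * j) * w) := by
      simp only [MulEquiv.coe_toMonoidHom, MulAut.conj_apply]
      rw [← map_mul, ← map_inv, ← map_mul, ← _root_.zpow_neg, mul_assoc (z ^ j), mul_assoc (z ^ l),
        hwz, neg_neg, ← mul_assoc, ← mul_assoc, ← _root_.zpow_add, ← _root_.zpow_add,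
        show j + l + j = l + 2 * j by ring]
    have h' : IsInvPair ((MulAut.conj (mk (z ^ j))).toMonoidHom (mk g))
        ((MulAut.conj (mk (z ^ j))).toMonoidHom (mk (z ^ l * w))) := by
      rw [e1, e2]; exact hl'.isInvPair
    rw [map_klein _ _ h']
    simp only [e1, e2]
  have hlift : ∀ l : ℤ, IsLift g (z ^ l * w) := fun l => hL.inverting_iff.2 ⟨_, zpow_mem hz l, rfl⟩
  have hcomp : ∀ (K : Subgroup PSL(2, F)) (d : PSL(2, F)),
      (K.map (MulAut.conj d).toMonoidHom).map (MulAut.conj k).toMonoidHom =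
        K.map (MulAut.conj (k * d)).toMonoidHom := fun K d => by
    rw [Subgroup.map_map]
    congr 1
    exact MonoidHom.ext fun a => by simp [mul_assoc]
  rcases Int.even_or_odd i with ⟨j, hj⟩ | ⟨j, hj⟩
  · refine ⟨k * mk (z ^ j), Or.inl ?_⟩
    rw [hVk, ← hcomp]
    congr 1
    have := hshift j 0 (hlift 0) (hlift _)
    simp only [zpow_zero, one_mul, zero_add] at this
    convert this using 2 <;> rw [← hi, hj, two_mul]
  · refine ⟨k * mk (z ^ j), Or.inr ?_⟩
    rw [hVk, ← hcomp]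
    congr 1
    have := hshift j 1 (hlift 1) (hlift _)
    simp only [zpow_one] at this
    convert this using 2 <;> rw [← hi, hj, add_comm]

/-- Every involution pair lies in a subgroup isomorphic to `A₄`. -/
theorem exists_alternatingFour {g w : SL(2, F)} (h : IsLift g w) :
    ∃ H : Subgroup PSL(2, F), klein _ _ h.isInvPair ≤ H ∧
      Nonempty (H ≃* alternatingGroup (Fin 4)) := by
  obtain ⟨ρ, hρ, e1, e2, e3⟩ := exists_rot_psl h
  exact exists_alternatingFour_of_cycle h.isInvPair hρ e1 e2 e3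

/-- For `8 ∣ |cent g|` the two representatives are not conjugate. -/
theorem klein_not_conj {g w z : SL(2, F)} (hL : IsLift g w) (hz : z ∈ cent g)
    (hgen : ∀ c ∈ cent g, c ∈ Subgroup.zpowers z) (h8 : 8 ∣ Nat.card (cent g)) :
    ¬ ∃ k : PSL(2, F), klein _ _ (hL.inverting_iff.2 ⟨z, hz, rfl⟩).isInvPair =
      (klein _ _ hL.isInvPair).map (MulAut.conj k).toMonoidHom := by
  have hL' : IsLift g (z * w) := hL.inverting_iff.2 ⟨z, hz, rfl⟩
  rintro ⟨k, hk⟩
  obtain ⟨ρ, -, e1, e2, e3⟩ := exists_rot_psl hL'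
  -- composing with the rotation we may assume `k` fixes `mk g`
  have hstep : ∀ k' : PSL(2, F), klein _ _ hL'.isInvPair =
      (klein _ _ hL.isInvPair).map (MulAut.conj k').toMonoidHom →
      k' * mk g * k'⁻¹ = mk g → False := by
    intro k' hk' hfix
    obtain ⟨d, rfl⟩ := mk_surjective k'
    have hd : d ∈ Subgroup.normalizer (cent g : Set SL(2, F)) := by
      rw [mem_normalizer_cent hL.h4, inv_eq_neg_of_tr_eq_zero hL.trg]
      exact psl_commute_iff.1 (mul_inv_eq_iff_eq_mul.1 hfix)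
    -- `d * w * d⁻¹` is `c² * w` for some `c` in the torus
    obtain ⟨c, hc, hcw⟩ : ∃ c ∈ cent g, d * w * d⁻¹ = c * c * w := by
      have hswap : ∀ c ∈ cent g, c * w * c⁻¹ = c * c * w := by
        intro c hc
        rw [mul_assoc c c w, mul_assoc c w c⁻¹]
        congr 1
        rw [← conj_eq_inv (not_mem_center_of_tr hL.h4) (mem_cent.1 hc) hL.conj]
        rw [show w * (w * c * w⁻¹) = (w * w) * c * w⁻¹ by group, hL.ww,
          (commute_neg_one c).eq, mul_assoc, ← hL.ww, mul_inv_cancel_right]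
      by_cases hdc : d ∈ cent g
      · exact ⟨d, hdc, hswap d hdc⟩
      · have hdw : IsLift g d := ⟨hL.two, hL.trg,
          ((mem_normalizer_cent hL.h4).1 hd).resolve_left fun e =>
            hdc (mem_cent.2 (mul_inv_eq_iff_eq_mul.1 e))⟩
        obtain ⟨c, hc, rfl⟩ := hL.inverting_iff.1 hdw
        exact ⟨c, hc, by rw [← hswap c hc]; group⟩
    have hmem : mk (c * c * w) ∈ klein _ _ hL'.isInvPair := by
      rw [hk', ← hcw, map_mul, map_mul, map_inv]
      exact Subgroup.mem_map_of_mem (MulAut.conj (mk d)).toMonoidHom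
        (mem_klein.2 (Or.inr (Or.inr (Or.inl rfl))))
    -- `z` is then a square in the torus, as `-1` and `g` are
    set n := Nat.card (cent g) with hn
    have hzo : orderOf z = n := by
      have : Subgroup.zpowers z = cent g :=
        le_antisymm (Subgroup.zpowers_le.2 hz) fun c hc => hgen c hc
      rw [hn, ← this, Nat.card_zpowers]
    obtain ⟨m, hm⟩ := h8
    have hev : ∀ a ∈ cent g, a ^ 4 = 1 → ∃ b ∈ cent g, a = b * b := by
      intro a ha ha4
      obtain ⟨i, rfl⟩ := hgen a ha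
      have h4 : ((n : ℕ) : ℤ) ∣ i * 4 := by
        rw [← hzo]
        refine orderOf_dvd_iff_zpow_eq_one.2 ?_
        rw [_root_.zpow_mul]
        exact_mod_cast ha4
      have : (2 : ℤ) ∣ i := by
        obtain ⟨t, ht⟩ := h4
        rw [hm] at ht; push_cast at ht
        exact ⟨m * t, by linarith⟩
      obtain ⟨j, rfl⟩ := this
      exact ⟨z ^ j, zpow_mem hz j, by rw [← _root_.zpow_add, two_mul]⟩
    have hgmem : g ∈ cent g := mem_cent.2 (Commute.refl g)
    obtain ⟨b1, hb1, hb1'⟩ := hev (-1) (center_le_cent g neg_one_mem_center)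
      (by rw [show (4 : ℕ) = 2 * 2 from rfl, pow_mul]; simp)
    obtain ⟨b2, hb2, hb2'⟩ := hev g hgmem
      (by rw [show (4 : ℕ) = 2 * 2 from rfl, pow_mul, pow_two g, hL.gg]; simp)
    have hsq : ∃ b ∈ cent g, z = b * b := by
      have hmul : ∀ a b : SL(2, F), a ∈ cent g → b ∈ cent g → Commute a b := fun a b ha hb =>
        cent_comm (not_mem_center_of_tr hL.h4) (mem_cent.1 ha) (mem_cent.1 hb)
      rcases mem_klein.1 hmem with e | e | e | e
      · exact absurd e (mk_ne_one_iff.2 (not_mem_center_of_tr (tr_sq_ne_four_of_tr_eq_zero hL.two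
          (hL.inverting_iff.2 ⟨_, mul_mem hc hc, rfl⟩).trw)))
      · exact absurd e.symm (hL.inverting_iff.2 ⟨_, mul_mem hc hc, rfl⟩).isInvPair.2.2.2
      · rcases mk_eq_mk.1 e with e | e
        · exact ⟨c, hc, (mul_right_cancel e).symm⟩
        · rw [neg_eq_neg_one_mul, ← mul_assoc] at e
          refine ⟨b1 * c, mul_mem hb1 hc, ?_⟩
          rw [(mul_sq_of_commute (hmul b1 c hb1 hc)), ← hb1', mul_right_cancel e, ← mul_assoc]
          simp
      · rw [← map_mul] at e
        rcases mk_eq_mk.1 e with e | e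
        · rw [← mul_assoc] at e
          refine ⟨b2⁻¹ * c, mul_mem (inv_mem hb2) hc, ?_⟩
          rw [mul_sq_of_commute (hmul b2⁻¹ c (inv_mem hb2) hc), mul_right_cancel e, ← _root_.mul_inv_rev,
            ← hb2', inv_mul_cancel_left]
        · rw [neg_eq_neg_one_mul, ← mul_assoc, ← mul_assoc] at e
          refine ⟨(b1 * b2)⁻¹ * c, mul_mem (inv_mem (mul_mem hb1 hb2)) hc, ?_⟩
          rw [mul_sq_of_commute (hmul _ c (inv_mem (mul_mem hb1 hb2)) hc), mul_right_cancel e,
            ← _root_.mul_inv_rev, mul_sq_of_commute (hmul b1 b2 hb1 hb2), ← hb1', ← hb2',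
            inv_mul_cancel_left]
    obtain ⟨b, hb, hzb⟩ := hsq
    obtain ⟨i, rfl⟩ := hgen b hb
    have h2 : ((n : ℕ) : ℤ) ∣ 2 * i - 1 := by
      rw [← hzo]
      refine orderOf_dvd_iff_zpow_eq_one.2 ?_
      rw [_root_.zpow_sub, zpow_one, two_mul, _root_.zpow_add, ← hzb, mul_inv_cancel]
    obtain ⟨t, ht⟩ := h2
    rw [hm] at ht; push_cast at ht
    rw [mul_assoc] at ht
    omega
  have hgmem : (MulAut.conj k).toMonoidHom (mk g) ∈ klein _ _ hL'.isInvPair := by
    rw [hk]; exact Subgroup.mem_map_of_mem _ (mem_klein.2 (Or.inr (Or.inl rfl)))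
  have hρmap : ∀ d : PSL(2, F), d * (mk g) * d⁻¹ = mk (z * w) ∧ d * mk (z * w) * d⁻¹ = mk g * mk (z * w)
      ∧ d * (mk g * mk (z * w)) * d⁻¹ = mk g →
      (klein _ _ hL'.isInvPair).map (MulAut.conj d).toMonoidHom = klein _ _ hL'.isInvPair := by
    rintro d ⟨a1, a2, a3⟩
    refine Subgroup.eq_of_le_of_card_ge ?_ (le_of_eq ?_)
    · rintro _ ⟨v, hv, rfl⟩
      show d * v * d⁻¹ ∈ _
      rcases mem_klein.1 hv with rfl | rfl | rfl | rfl
      · simp
      · rw [a1]; exact mem_klein.2 (Or.inr (Or.inr (Or.inl rfl)))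
      · rw [a2]; exact mem_klein.2 (Or.inr (Or.inr (Or.inr rfl)))
      · rw [a3]; exact mem_klein.2 (Or.inr (Or.inl rfl))
    · exact Nat.card_congr (Subgroup.equivMapOfInjective _ _ (MulEquiv.injective _)).toEquiv
  have hρV := hρmap ρ ⟨e1, e2, e3⟩
  have hcomp : ∀ d : PSL(2, F), (klein _ _ hL'.isInvPair).map (MulAut.conj d).toMonoidHom =
      klein _ _ hL'.isInvPair → klein _ _ hL'.isInvPair =
      (klein _ _ hL.isInvPair).map (MulAut.conj (d * k)).toMonoidHom := by
    intro d hd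
    conv_lhs => rw [← hd, hk, Subgroup.map_map]
    congr 1
    exact MonoidHom.ext fun a => by simp [mul_assoc]
  rcases mem_klein.1 hgmem with e | e | e | e <;>
    simp only [MulEquiv.coe_toMonoidHom, MulAut.conj_apply] at e
  · exact mk_ne_one_iff.2 (not_mem_center_of_tr hL.h4) (by
      have := congrArg (fun x => k⁻¹ * x * k) e
      simpa [mul_assoc] using this)
  · exact hstep k hk e
  · refine hstep (ρ * ρ * k) ?_ ?_
    · refine hcomp (ρ * ρ) ?_
      conv_rhs => rw [← hρV, ← hρV, Subgroup.map_map]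
      congr 1
      exact MonoidHom.ext fun a => by simp [mul_assoc]
    · rw [show ρ * ρ * k * mk g * (ρ * ρ * k)⁻¹ = ρ * (ρ * (k * mk g * k⁻¹) * ρ⁻¹) * ρ⁻¹ by group,
        e, e2, e3]
  · refine hstep (ρ * k) (hcomp ρ hρV) ?_
    rw [show ρ * k * mk g * (ρ * k)⁻¹ = ρ * (k * mk g * k⁻¹) * ρ⁻¹ by group, e, e3]

end Count

end Cfsg.Agent.PSL2
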