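import Cfsg.Agent.Lib.PSL2.Subfield
import Cfsg.Agent.Lib.PSL2.Platonic
import Cfsg.Agent.Lib.AutPSL.Basic

/-!
Conjugating subgroups of `PSL(2, F)` by `GL(2, F)` into subfield subgroups.

* `mem_range_iff_pow`: the image of `ι : K →+* F` is the fixed set of `x ↦ x ^ #K`;
* `tr_pow_of_orderOf`: an element of order dividing `p` or `(k ± 1) / d` has trace in that field;
* `exists_map_le_range`: trace condition + two non-commuting transvections ⇒ conjugate into `PSL(2, K)`;
* `exists_conj_normal_form`: a pair with traces `0, 1, s` is `GL`-conjugate to any normal form pair.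
-/

set_option autoImplicit false

open Matrix
open scoped MatrixGroups

namespace Cfsg.Agent.PSL2.Conjugate

variable {F : Type*} [Field F]

theorem mem_range_iff_pow {K : Type*} [Field K] [Fintype K] (ι : K →+* F) (x : F) :
    (∃ a, ι a = x) ↔ x ^ Fintype.card K = x := by
  classical
  refine ⟨fun ⟨a, ha⟩ => by rw [← ha, ← map_pow, FiniteField.pow_card], fun hx => ?_⟩
  have hk : 1 < Fintype.card K := Fintype.one_lt_card
  set f : Polynomial F := Polynomial.X ^ Fintype.card K - Polynomial.X with hf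
  have hne : f ≠ 0 := FiniteField.X_pow_card_sub_X_ne_zero F hk
  have hsub : Finset.univ.image ι ⊆ f.roots.toFinset := by
    intro y hy
    obtain ⟨a, -, rfl⟩ := Finset.mem_image.1 hy
    rw [Multiset.mem_toFinset, Polynomial.mem_roots hne]
    simp [hf, ← map_pow, FiniteField.pow_card]
  have heq : Finset.univ.image ι = f.roots.toFinset := by
    refine Finset.eq_of_subset_of_card_le hsub ?_
    rw [Finset.card_image_of_injective _ ι.injective, Finset.card_univ]
    exact (f.roots.toFinset_card_le).trans ((Polynomial.card_roots' f).trans_eq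
      (FiniteField.X_pow_card_sub_X_natDegree_eq F hk))
  have hx' : x ∈ f.roots.toFinset := by
    rw [Multiset.mem_toFinset, Polynomial.mem_roots hne]
    simp [hf, hx]
  rw [← heq] at hx'
  obtain ⟨a, -, ha⟩ := Finset.mem_image.1 hx'
  exact ⟨a, ha⟩

theorem exists_coeff (g : SL(2, F)) {R : Type*} [Field R] (φ : F →+* R) (l : R)
    (hl : l * l = φ (tr g) * l - 1) (n : ℕ) : ∃ A B : F,
      ((g ^ n) 0 0 = A * g 0 0 + B ∧ (g ^ n) 0 1 = A * g 0 1 ∧ (g ^ n) 1 0 = A * g 1 0 ∧
        (g ^ n) 1 1 = A * g 1 1 + B) ∧ l ^ n = φ A * l + φ B := by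
  induction n with
  | zero => exact ⟨0, 1, by simp, by simp⟩
  | succ n ih =>
    obtain ⟨A, B, ⟨h00, h01, h10, h11⟩, hn⟩ := ih
    have hd := det_eq g
    refine ⟨A * tr g + B, -A, ⟨?_, ?_, ?_, ?_⟩, ?_⟩
    · rw [pow_succ, mul00, h00, h01, tr_def]; linear_combination -A * hd
    · rw [pow_succ, mul01, h00, h01, tr_def]; ring
    · rw [pow_succ, mul10, h10, h11, tr_def]; ring
    · rw [pow_succ, mul11, h10, h11, tr_def]; linear_combination -A * hd
    · rw [pow_succ, hn, map_add, map_mul, map_neg]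
      linear_combination (φ A) * hl

theorem eigen_pow {g : SL(2, F)} (hg : g ∉ Subgroup.center SL(2, F)) {R : Type*} [Field R]
    (φ : F →+* R) {l : R} (hl : l * l = φ (tr g) * l - 1) {n : ℕ} (hn : mk g ^ n = 1) :
    l ^ (2 * n) = 1 := by
  obtain ⟨A, B, ⟨h00, h01, h10, h11⟩, hln⟩ := exists_coeff g φ l hl n
  rw [← map_pow, mk_eq_one, ← mem_center_iff_pm, mem_center_iff_entries, h01, h10, h00, h11] at hn
  obtain ⟨e01, e10, e00⟩ := hn
  have hA : A = 0 := by
    by_contra hA
    exact hg (mem_center_iff_entries.2 ⟨(mul_eq_zero.1 e01).resolve_left hA,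
      (mul_eq_zero.1 e10).resolve_left hA, mul_left_cancel₀ hA (add_right_cancel e00)⟩)
  have hB : B * B = 1 := by
    have h := det_eq (g ^ n)
    rw [h00, h01, h10, h11, hA] at h
    linear_combination h
  rw [mul_comm, pow_mul, hln, hA, map_zero, zero_mul, zero_add, pow_two, ← map_mul, hB, map_one]

/-- An element of order dividing `p` or `(k ± 1)/d` has trace fixed by `x ↦ x ^ k`. -/
theorem tr_pow_of_orderOf (p : ℕ) [Fact p.Prime] [CharP F p] {k b : ℕ} (hb : 0 < b) (hk : k = p ^ b)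
    (g : SL(2, F)) (hord : orderOf (mk g) ∣ p ∨ orderOf (mk g) ∣ (k - 1) / Nat.gcd 2 (k - 1) ∨
      orderOf (mk g) ∣ (k + 1) / Nat.gcd 2 (k - 1)) : tr g ^ k = tr g := by
  have hpp : p.Prime := Fact.out
  have hk2 : 2 ≤ k := hk ▸ hpp.two_le.trans (Nat.le_self_pow hb.ne' p)
  let φ := algebraMap F (AlgebraicClosure F)
  have hfr : ∀ a c : AlgebraicClosure F, (a + c) ^ k = a ^ k + c ^ k := fun a c => by
    haveI : CharP (AlgebraicClosure F) p := charP_of_injective_algebraMap φ.injective p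
    rw [hk]; exact add_pow_char_pow a c p b
  by_cases hg : g ∈ Subgroup.center SL(2, F)
  · have hcast : ∀ a : F, (a + a) ^ k = a ^ k + a ^ k := fun a => by rw [hk]; exact add_pow_char_pow a a p b
    rcases mem_center_iff_pm.1 hg with rfl | rfl
    · rw [tr_one, ← one_add_one_eq_two, hcast, one_pow]
    · rw [tr_neg, tr_one, ← one_add_one_eq_two, neg_add, hcast]
      rcases Nat.even_or_odd k with he | ho
      · have h2 : (2 : F) = 0 := by
          have h2p : 2 ∣ p := Nat.prime_two.dvd_of_dvd_pow (hk ▸ he.two_dvd)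
          have := CharP.cast_eq_zero F p
          rw [← (Nat.prime_dvd_prime_iff_eq Nat.prime_two hpp).1 h2p] at this
          exact_mod_cast this
        rw [he.neg_one_pow]; linear_combination 2 * h2
      · rw [ho.neg_one_pow]
  obtain ⟨l, hl⟩ := IsAlgClosed.exists_root
    (Polynomial.X ^ 2 - Polynomial.C (φ (tr g)) * Polynomial.X + 1 : Polynomial (AlgebraicClosure F))
    (by
      have : (Polynomial.X ^ 2 - Polynomial.C (φ (tr g)) * Polynomial.X + 1 :
        Polynomial (AlgebraicClosure F)).degree = 2 := by compute_degree!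
      rw [this]; norm_num)
  simp [Polynomial.IsRoot] at hl
  have hl' : l * l = φ (tr g) * l - 1 := by linear_combination hl
  have hl0 : l ≠ 0 := by rintro rfl; simp at hl'
  have ht : φ (tr g) = l + l⁻¹ := by
    have : l * l⁻¹ = 1 := mul_inv_cancel₀ hl0
    field_simp
    linear_combination -hl'
  suffices hlk : l ^ k = l ∨ l ^ k = l⁻¹ by
    apply φ.injective
    rw [map_pow, ht, hfr]
    rcases hlk with e | e <;> rw [inv_pow, e]
    rw [inv_inv, add_comm]
  have e2n := eigen_pow hg φ hl' (pow_orderOf_eq_one (mk g))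
  -- `p`-th roots of unity are trivial
  have hp1 : ∀ x : AlgebraicClosure F, x ^ p = 1 → x = 1 := fun x hx => by
    haveI : CharP (AlgebraicClosure F) p := charP_of_injective_algebraMap φ.injective p
    have : (x - 1) ^ p = 0 := by rw [sub_pow_char, hx, one_pow, sub_self]
    exact sub_eq_zero.1 (pow_eq_zero_iff hpp.ne_zero |>.1 this)
  rcases hord with h | h
  · obtain ⟨c, hc⟩ := h
    have h1 : (l ^ 2) ^ p = 1 := by rw [← pow_mul, hc, ← mul_assoc, pow_mul, e2n, one_pow]
    have h2 : l ^ 2 = 1 := hp1 _ h1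
    have hinv : l⁻¹ = l := inv_eq_of_mul_eq_one_right (by rw [← pow_two, h2])
    left
    rcases Nat.even_or_odd k with ⟨c, hc⟩ | ⟨c, hc⟩
    · have h2' : l = 1 := by
        have h2p : 2 ∣ p := Nat.prime_two.dvd_of_dvd_pow (hk ▸ Dvd.intro c (by omega) : 2 ∣ p ^ b)
        exact hp1 l (by rw [← (Nat.prime_dvd_prime_iff_eq Nat.prime_two hpp).1 h2p, h2])
      rw [h2', one_pow]
    · rw [hc, pow_succ, pow_mul, h2, one_pow, one_mul]
  · have key : l ^ (k - 1) = 1 ∨ l ^ (k + 1) = 1 := by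
      rcases (Nat.dvd_prime Nat.prime_two).1 (Nat.gcd_dvd_left 2 (k - 1)) with hd | hd <;> rw [hd] at h
      · have hp2 : p = 2 := by
          by_contra hne
          have hko : Odd k := hk ▸ (hpp.odd_of_ne_two hne).pow
          have : 2 ∣ k - 1 := by rcases hko with ⟨c, hc⟩; omega
          rw [Nat.gcd_eq_left this] at hd; omega
        rw [Nat.div_one, Nat.div_one] at h
        have hl1 : l ^ orderOf (mk g) = 1 := hp1 _ (by rw [← pow_mul, hp2, mul_comm, e2n])
        rcases h with ⟨c, hc⟩ | ⟨c, hc⟩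
        · left; rw [hc, pow_mul, hl1, one_pow]
        · right; rw [hc, pow_mul, hl1, one_pow]
      · have h2 : 2 ∣ k - 1 := hd ▸ Nat.gcd_dvd_right 2 (k - 1)
        rcases h with ⟨c, hc⟩ | ⟨c, hc⟩
        · left; rw [show k - 1 = 2 * orderOf (mk g) * c by rw [mul_assoc]; omega, pow_mul, e2n, one_pow]
        · right; rw [show k + 1 = 2 * orderOf (mk g) * c by rw [mul_assoc]; omega, pow_mul, e2n, one_pow]
    rcases key with e | e
    · left
      rw [show k = k - 1 + 1 by omega, pow_succ, e, one_mul]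
    · right
      rw [pow_succ] at e
      exact eq_inv_of_mul_eq_one_left e

/-- Elements in an embedded `PSL(2, L)` have traces fixed by `x ↦ x ^ #L`. -/
theorem tr_pow_of_mem [Fintype F] (p : ℕ) [Fact p.Prime] [CharP F p] {L : Type*} [Field L] [Fintype L]
    [CharP L p] (f : PSL(2, L) →* PSL(2, F)) (hf : Function.Injective f) {g : SL(2, F)} {x : PSL(2, L)}
    (hx : f x = mk g) : tr g ^ Fintype.card L = tr g := by
  obtain ⟨b, -, hb⟩ := FiniteField.card L p
  refine tr_pow_of_orderOf p b.pos hb g ?_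
  rw [← hx, orderOf_injective f hf]
  exact psl_orderOf_dvd p x

/-- Conjugation by `GL` read off from an intertwining identity. -/
theorem conjSL_eq {P : GL (Fin 2) F} {g h : SL(2, F)}
    (e : (g : Matrix (Fin 2) (Fin 2) F) * (P : Matrix (Fin 2) (Fin 2) F) =
      (P : Matrix (Fin 2) (Fin 2) F) * (h : Matrix (Fin 2) (Fin 2) F)) :
    AutPSL.conjSL P⁻¹ g = h := by
  refine Subtype.ext ?_
  rw [AutPSL.conjSL_coe, inv_inv, mul_assoc, e, ← mul_assoc, Units.inv_mul, one_mul]

theorem tr_conjSL (P : GL (Fin 2) F) (g : SL(2, F)) : tr (AutPSL.conjSL P g) = tr g := by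
  rw [tr_eq_trace, tr_eq_trace, AutPSL.conjSL_coe]
  exact Matrix.trace_units_conj P _

theorem conjP_apply (P : GL (Fin 2) F) (g : SL(2, F)) :
    AutPSL.conjP P (mk g) = mk (AutPSL.conjSL P g) := rfl

/-- `M` with traces in `K` and two non-commuting transvections is conjugate into `PSL(2, K)`. -/
theorem exists_conjP_le_range {K : Type*} [Field K] [Fintype K] (ι : K →+* F)
    (M : Subgroup PSL(2, F)) (htr : ∀ g : SL(2, F), mk g ∈ M → tr g ^ Fintype.card K = tr g)
    {x y : SL(2, F)} (hx : mk x ∈ M) (hy : mk y ∈ M) (htx : tr x = 2) (hty : tr y = 2)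
    (hne : mk x * mk y ≠ mk y * mk x) :
    ∃ Q : GL (Fin 2) F, M.map (AutPSL.conjP Q).toMonoidHom ≤ (pslMap ι).range := by
  have hxc : x ∉ Subgroup.center SL(2, F) := fun h => hne (by
    rw [← map_mul, ← map_mul, Subgroup.mem_center_iff.1 h y])
  obtain ⟨v0, v1, hv⟩ := TraceClasses.exists_cyclic_vec (x : Matrix (Fin 2) (Fin 2) F)
    (fun h => hxc (TraceClasses.mem_center_of_isScalar' h))
  set w0 := x 0 0 * v0 + x 0 1 * v1 with hw0
  set w1 := x 1 0 * v0 + x 1 1 * v1 with hw1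
  let P : GL (Fin 2) F := Matrix.GeneralLinearGroup.mkOfDetNeZero !![w0 - v0, v0; w1 - v1, v1]
    (by rw [Matrix.det_fin_two_of]; intro h; exact hv (by linear_combination -h))
  have hPx : AutPSL.conjSL P⁻¹ x = uu 1 := by
    refine conjSL_eq ?_
    have hd := det_eq x
    rw [tr_def] at htx
    ext i j
    fin_cases i <;> fin_cases j <;> simp [P, Matrix.mul_apply, Fin.sum_univ_two, hw0, hw1]
    · linear_combination -(v0 * hd) + (x 0 0 * v0 + x 0 1 * v1) * htx
    · linear_combination -(v1 * hd) + (x 1 0 * v0 + x 1 1 * v1) * htx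
  set y' := AutPSL.conjSL P⁻¹ y with hy'
  have hty' : tr y' = 2 := by rw [hy', tr_conjSL, hty]
  have hc0 : y' 1 0 ≠ 0 := by
    intro hc
    apply hne
    refine (AutPSL.conjP P⁻¹).injective ?_
    rw [map_mul, map_mul, conjP_apply, conjP_apply, hPx, ← hy', ← map_mul, ← map_mul]
    congr 1
    have hd := det_eq y'
    rw [hc, mul_zero, sub_zero] at hd
    rw [tr_def] at hty'
    have h11 : y' 1 1 = y' 0 0 := by
      have : (y' 0 0 - 1) ^ 2 = 0 := by linear_combination (y' 0 0) * hty' - hd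
      have := sq_eq_zero_iff.1 this
      linear_combination hty' - 2 * this
    apply ext2 <;> simp only [mul00, mul01, mul10, mul11, uu00, uu01, uu10, uu11, hc, h11] <;> ring
  let s : F := (1 - y' 0 0) / y' 1 0
  let Q : GL (Fin 2) F := Matrix.SpecialLinearGroup.toGL (uu s) * P⁻¹
  have hQ : ∀ g, AutPSL.conjSL Q g = uu s * AutPSL.conjSL P⁻¹ g * (uu s)⁻¹ := fun g => by
    rw [map_mul, MulAut.mul_apply, AutPSL.conjSL_toGL]
  have hQx : AutPSL.conjSL Q x = uu 1 := by
    rw [hQ, hPx, uu_mul_uu, uu_inv, uu_mul_uu]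
    ring_nf
  have hQy : AutPSL.conjSL Q y = ll (y' 1 0) := by
    rw [hQ, ← hy']
    have hd := det_eq y'
    rw [tr_def] at hty'
    rw [mul_inv_eq_iff_eq_mul]
    apply ext2 <;> simp only [mul00, mul01, mul10, mul11, uu00, uu01, uu10, uu11, ll00, ll01, ll10, ll11, s] <;>
      field_simp
    · ring
    · linear_combination -hd + hty'
    · ring
    · linear_combination hty'
  refine ⟨Q, ?_⟩
  rintro _ ⟨z, hz, rfl⟩
  obtain ⟨g, rfl⟩ := mk_surjective z
  set h := AutPSL.conjSL Q g with hh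
  have hmem : ∀ u : SL(2, F), mk u ∈ M → ∃ a, ι a = tr (AutPSL.conjSL Q u) := fun u hu => by
    rw [tr_conjSL]; exact (mem_range_iff_pow ι _).2 (htr u hu)
  obtain ⟨t1, e1⟩ := hmem g hz
  obtain ⟨t2, e2⟩ := hmem (g * x) (by rw [map_mul]; exact M.mul_mem hz hx)
  obtain ⟨t3, e3⟩ := hmem (g * y) (by rw [map_mul]; exact M.mul_mem hz hy)
  obtain ⟨t4, e4⟩ := hmem (g * (x * y)) (by rw [map_mul, map_mul]; exact M.mul_mem hz (M.mul_mem hx hy))
  obtain ⟨t5, e5⟩ := hmem (x * y) (by rw [map_mul]; exact M.mul_mem hx hy)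
  simp only [map_mul, hQx, hQy, ← hh, tr_def, mul00, mul01, mul10, mul11, uu00, uu01, uu10, uu11,
    ll00, ll01, ll10, ll11] at e1 e2 e3 e4 e5
  obtain ⟨d, hd⟩ : ∃ d, ι d = y' 1 0 := ⟨t5 - 2, by rw [map_sub, map_ofNat, e5]; ring⟩
  have hd0 : ι d ≠ 0 := hd ▸ hc0
  have h10 : ι (t2 - t1) = h 1 0 := by rw [map_sub, e1, e2]; ring
  have h01 : ι ((t3 - t1) / d) = h 0 1 := by
    rw [map_div₀, map_sub, e1, e3, hd, div_eq_iff hc0]; ring
  have h00 : ι ((t4 - t1 - (t3 - t1) - (t2 - t1)) / d) = h 0 0 := by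
    rw [map_div₀, map_sub, map_sub, map_sub, map_sub, map_sub, e1, e2, e3, e4, hd, div_eq_iff hc0]; ring
  have h11 : ι (t1 - (t4 - t1 - (t3 - t1) - (t2 - t1)) / d) = h 1 1 := by
    rw [map_sub, h00, e1]; ring
  set a00 := (t4 - t1 - (t3 - t1) - (t2 - t1)) / d
  set a01 := (t3 - t1) / d
  let g0 : SL(2, K) := ⟨!![a00, a01; t2 - t1, t1 - a00], ι.injective (by
    rw [Matrix.det_fin_two_of, map_sub, map_mul, map_mul, h00, h01, h10, h11, map_one]
    exact det_eq h)⟩
  refine ⟨mk g0, ?_⟩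
  show _ = AutPSL.conjP Q (mk g)
  rw [pslMap_mk, conjP_apply, ← hh]
  congr 1
  apply ext2
  exacts [h00, h01, h10, h11]

theorem exists_map_le_range {K : Type*} [Field K] [Fintype K] (ι : K →+* F)
    (M : Subgroup PSL(2, F)) (htr : ∀ g : SL(2, F), mk g ∈ M → tr g ^ Fintype.card K = tr g)
    {x y : SL(2, F)} (hx : mk x ∈ M) (hy : mk y ∈ M) (htx : tr x = 2) (hty : tr y = 2)
    (hne : mk x * mk y ≠ mk y * mk x) :
    ∃ σ : MulAut PSL(2, F), M.map σ.toMonoidHom ≤ (pslMap ι).range :=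
  let ⟨Q, hQ⟩ := exists_conjP_le_range ι M htr hx hy htx hty hne
  ⟨AutPSL.conjP Q, hQ⟩

/-- A pair with traces `0, 1, s` is `GL`-conjugate to the normal form of a conic point. -/
theorem exists_conj_normal_form {X Y : SL(2, F)} {s a c : F} (hX : tr X = 0) (hY : tr Y = 1)
    (hs : tr (X * Y) = s) (h3 : s ^ 2 ≠ 3) (h : a ^ 2 - a + 1 + (c ^ 2 + s * c) = 0) :
    ∃ Q : GL (Fin 2) F,
      (AutPSL.conjSL Q X : Matrix (Fin 2) (Fin 2) F) = !![0, -1; 1, 0] ∧
      (AutPSL.conjSL Q Y : Matrix (Fin 2) (Fin 2) F) = !![a, c + s; c, 1 - a] := by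
  have hdX := det_eq X
  have hdY := det_eq Y
  rw [tr_def] at hX hY
  rw [tr_def, mul00, mul11] at hs
  -- a vector `v` with `Y v = a v + c X v`
  obtain ⟨v, hv0, hv⟩ := (Matrix.exists_mulVec_eq_zero_iff
    (M := (Y : Matrix (Fin 2) (Fin 2) F) - a • 1 - c • (X : Matrix (Fin 2) (Fin 2) F))).2 (by
      rw [Matrix.det_fin_two]
      simp
      linear_combination hdY + c ^ 2 * hdX - a * hY + c * hs + h + (a * c - c * (Y 0 0 + Y 1 1)) * hX)
  have r0 := congrFun hv 0
  have r1 := congrFun hv 1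
  simp [Matrix.mulVec, dotProduct, Fin.sum_univ_two] at r0 r1
  set w0 := X 0 0 * v 0 + X 0 1 * v 1 with hw0
  set w1 := X 1 0 * v 0 + X 1 1 * v 1 with hw1
  have hfin : ∀ l m : F, l * l = -1 → m * m - m + 1 = 0 → s = l * (2 * m - 1) → False :=
    fun l m e1 e2 e3 => h3 (by rw [e3]; linear_combination (2 * m - 1) ^ 2 * e1 - 4 * e2)
  have hdet : v 0 * w1 - w0 * v 1 ≠ 0 := by
    intro h0
    rw [hw0, hw1] at h0
    by_cases hv00 : v 0 = 0
    · have hv1 : v 1 ≠ 0 := fun e => hv0 (funext fun i => by fin_cases i <;> simp [hv00, e])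
      rw [hv00] at h0 r0
      have x01 : X 0 1 = 0 :=
        (mul_eq_zero.1 (show X 0 1 * (v 1 * v 1) = 0 by linear_combination -h0)).resolve_right
          (mul_ne_zero hv1 hv1)
      rw [x01] at r0
      have y01 : Y 0 1 = 0 :=
        (mul_eq_zero.1 (show Y 0 1 * v 1 = 0 by linear_combination r0)).resolve_right hv1
      rw [x01, y01] at hs
      rw [x01] at hdX
      rw [y01] at hdY
      refine hfin (X 1 1) (Y 1 1) ?_ ?_ ?_
      · linear_combination -hdX + (X 1 1) * hX
      · linear_combination (Y 1 1) * hY - hdY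
      · linear_combination -hs + (Y 0 0) * hX + (-X 1 1) * hY
    · obtain ⟨m, hm⟩ : ∃ m, m = v 1 / v 0 := ⟨_, rfl⟩
      obtain ⟨l, hl⟩ : ∃ l, l = X 0 0 + X 0 1 * m := ⟨_, rfl⟩
      have hm' : v 1 = m * v 0 := by rw [hm, div_mul_cancel₀ _ hv00]
      rw [hm'] at h0 r0 r1
      have x10 : X 1 0 + X 1 1 * m = l * m :=
        mul_left_cancel₀ (mul_ne_zero hv00 hv00) (by rw [hl]; linear_combination h0)
      have y0 : Y 0 0 + Y 0 1 * m = a + c * l :=
        mul_left_cancel₀ hv00 (by rw [hl]; linear_combination r0)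
      have y1 : Y 1 0 + Y 1 1 * m = (a + c * l) * m :=
        mul_left_cancel₀ hv00 (by linear_combination r1 + c * v 0 * x10)
      obtain ⟨μ, hμ⟩ : ∃ μ, μ = a + c * l := ⟨_, rfl⟩
      rw [← hμ] at y0 y1
      rw [show X 1 1 = -X 0 0 by linear_combination hX] at hdX hs x10
      rw [show Y 1 1 = 1 - Y 0 0 by linear_combination hY] at hdY hs y1
      rw [show X 0 0 = l - X 0 1 * m by linear_combination -hl] at hdX hs x10
      rw [show Y 0 0 = μ - Y 0 1 * m by linear_combination y0] at hdY hs y1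
      rw [show X 1 0 = m * (2 * l - X 0 1 * m) by linear_combination x10] at hdX hs
      rw [show Y 1 0 = m * (2 * μ - 1 - Y 0 1 * m) by linear_combination y1] at hdY hs
      exact hfin l μ (by linear_combination -hdX) (by linear_combination -hdY)
        (by linear_combination -hs)
  let P : GL (Fin 2) F := Matrix.GeneralLinearGroup.mkOfDetNeZero !![v 0, w0; v 1, w1]
    (by rw [Matrix.det_fin_two_of]; exact hdet)
  refine ⟨P⁻¹, ?_, ?_⟩
  · have e : AutPSL.conjSL P⁻¹ X = ⟨!![0, -1; 1, 0], by simp⟩ := by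
      refine conjSL_eq ?_
      ext i j
      fin_cases i <;> fin_cases j <;> simp [P, Matrix.mul_apply, Fin.sum_univ_two, hw0, hw1]
      · linear_combination (v 0 * X 0 0) * hX - v 0 * hdX + (v 1 * X 0 1) * hX
      · linear_combination (v 0 * X 1 0) * hX + (v 1 * X 1 1) * hX - v 1 * hdX
    rw [e]
  · have e : AutPSL.conjSL P⁻¹ Y = ⟨!![a, c + s; c, 1 - a],
        by rw [Matrix.det_fin_two_of]; linear_combination -h⟩ := by
      refine conjSL_eq ?_
      have e00 : 2 * X 0 0 * Y 0 0 + X 0 1 * Y 1 0 + X 1 0 * Y 0 1 - X 0 0 - s = 0 := by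
        linear_combination hs + (X 0 0) * hY - (Y 1 1) * hX
      have e11 : 2 * X 1 1 * Y 1 1 + X 0 1 * Y 1 0 + X 1 0 * Y 0 1 - X 1 1 - s = 0 := by
        linear_combination hs + (X 1 1) * hY - (Y 0 0) * hX
      have e01 : Y 0 0 * X 0 1 + Y 0 1 * X 1 1 + X 0 0 * Y 0 1 + X 0 1 * Y 1 1 - X 0 1 = 0 := by
        linear_combination (X 0 1) * hY + (Y 0 1) * hX
      have e10 : Y 1 0 * X 0 0 + Y 1 1 * X 1 0 + X 1 0 * Y 0 0 + X 1 1 * Y 1 0 - X 1 0 = 0 := by
        linear_combination (X 1 0) * hY + (Y 1 0) * hX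
      ext i j
      fin_cases i <;> fin_cases j <;> simp [P, Matrix.mul_apply, Fin.sum_univ_two, hw0, hw1]
      · linear_combination r0
      · linear_combination (v 0) * e00 + (v 1) * e01 - (X 0 0 * r0 + X 0 1 * r1)
          - c * (v 0 * (X 0 0 * hX - hdX) + v 1 * X 0 1 * hX)
      · linear_combination r1
      · linear_combination (v 0) * e10 + (v 1) * e11 - (X 1 0 * r0 + X 1 1 * r1)
          - c * (v 1 * (X 1 1 * hX - hdX) + v 0 * X 1 0 * hX)
    rw [e]

end Cfsg.Agent.PSL2.Conjugate
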