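import Mathlib
import Cfsg.Agent.Lib.OddOrder.CAGroup
import Cfsg.Agent.Lib.CharInt.Basic
import Cfsg.Agent.Lib.BlockCount.Involve
import Cfsg.Agent.Lib.Invol.Basic

/-!
# Simple groups of even order with abelian centralisers

In a non-abelian simple group of even order in which all centralisers of non-identity elements are
abelian, the centraliser `A` of an involution is an elementary abelian Sylow 2-subgroup: `A` is a
self-centralising subgroup with `[N(A):A] = e - 1`, `e = |Ω₁ A|`, and were `A` larger, the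
class-multiplication formula applied to a non-real element of `A` would make the common degree of
the exceptional characters too large.
-/

set_option autoImplicit false
set_option linter.style.haveILetI false

namespace Cfsg.Agent.PSL2.CT

open scoped ComplexConjugate
open Cfsg Cfsg.Agent.Char Cfsg.Agent.OddOrder

variable {G : Type*} [Group G] [Fintype G] [IsSimpleGroup G]

section Setup

variable (hCA : IsCA G) (hne : ¬ ∀ a b : G, a * b = b * a) {t : G} (ht : orderOf t = 2)
include hCA ht

omit [Fintype G] [IsSimpleGroup G] in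
theorem isSelfCent_t : IsSelfCent (Subgroup.centralizer ({t} : Set G)) :=
  hCA.isSelfCent fun h => by rw [h, orderOf_one] at ht; omega

omit [Fintype G] [IsSimpleGroup G] in
theorem conj_centralizer (g : G) {x : G} :
    x ∈ Subgroup.centralizer ({g * t * g⁻¹} : Set G) ↔
      g⁻¹ * x * g ∈ Subgroup.centralizer ({t} : Set G) := by
  simp only [Subgroup.mem_centralizer_singleton_iff]
  constructor
  · intro h
    calc g⁻¹ * x * g * t = g⁻¹ * (x * (g * t * g⁻¹)) * g := by group
      _ = g⁻¹ * ((g * t * g⁻¹) * x) * g := by rw [h]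
      _ = t * (g⁻¹ * x * g) := by group
  · intro h
    calc x * (g * t * g⁻¹) = g * (g⁻¹ * x * g * t) * g⁻¹ := by group
      _ = g * (t * (g⁻¹ * x * g)) * g⁻¹ := by rw [h]
      _ = g * t * g⁻¹ * x := by group

omit [Fintype G] [IsSimpleGroup G] in
theorem mem_cent_t : t ∈ Subgroup.centralizer ({t} : Set G) :=
  OddOrder.mem_cent_self t

include hne

/-- Some conjugate of `t` lies outside `C(t)`. -/
theorem exists_conj_not_mem :
    ∃ g : G, g * t * g⁻¹ ∉ Subgroup.centralizer ({t} : Set G) := by
  by_contra h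
  push Not at h
  set A := Subgroup.centralizer ({t} : Set G) with hA
  have hN : A.Normal := ⟨fun a ha g => by
    have hg1 : g * t * g⁻¹ ≠ 1 := fun e => by
      have h1 : t = 1 := by
        calc t = g⁻¹ * (g * t * g⁻¹) * g := by group
          _ = 1 := by rw [e]; group
      rw [h1, orderOf_one] at ht; omega
    rw [hA, ← isSelfCent_t hCA ht _ (h g) hg1, conj_centralizer hCA ht g]
    simpa [mul_assoc] using ha⟩
  rcases hN.eq_bot_or_eq_top with hb | htop
  · have := mem_cent_t hCA ht
    rw [← hA, hb, Subgroup.mem_bot] at this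
    rw [this, orderOf_one] at ht; omega
  · exact hne fun a b => (show IsSelfCent A from isSelfCent_t hCA ht).comm (htop ▸ Subgroup.mem_top a)
      (htop ▸ Subgroup.mem_top b)

/-- There is one class of involutions. -/
theorem isConj_involution {r : G} (hr : orderOf r = 2) : IsConj t r := by
  by_contra hnc
  set A := Subgroup.centralizer ({t} : Set G) with hA
  have hinv : ∀ r : G, orderOf r = 2 → ¬ IsConj t r → r ∈ A := by
    intro r hr hnc
    obtain ⟨z, hz, hzt, hzr⟩ := Invol.exists_common_commuting ht hr hnc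
    have hz1 : z ≠ 1 := fun h => by rw [h, orderOf_one] at hz; omega
    have hzA : z ∈ A := Subgroup.mem_centralizer_singleton_iff.2 hzt.eq
    rw [hA, ← isSelfCent_t hCA ht z hzA hz1, Subgroup.mem_centralizer_singleton_iff]
    exact hzr.eq.symm
  obtain ⟨g, hg⟩ := exists_conj_not_mem hCA hne ht
  have hrA := hinv r hr hnc
  have hg2 : orderOf (g * t * g⁻¹) = 2 := by
    rw [show g * t * g⁻¹ = MulAut.conj g t from rfl, MulEquiv.orderOf_eq, ht]
  have hgc : IsConj t (g * t * g⁻¹) := isConj_iff.2 ⟨g, rfl⟩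
  obtain ⟨z, hz, hzs, hzr⟩ := Invol.exists_common_commuting hg2 hr fun h => hnc (hgc.trans h)
  have hz1 : z ≠ 1 := fun h => by rw [h, orderOf_one] at hz; omega
  have hr1 : r ≠ 1 := fun h => by rw [h, orderOf_one] at hr; omega
  have hzA : z ∈ A := by
    rw [hA, ← isSelfCent_t hCA ht r hrA hr1, Subgroup.mem_centralizer_singleton_iff]
    exact hzr.eq
  refine hg ?_
  rw [← isSelfCent_t hCA ht z hzA hz1, Subgroup.mem_centralizer_singleton_iff]
  exact hzs.eq.symm

end Setup

/-- The elements of square one of an abelian subgroup. -/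
def omegaOne (A : Subgroup G) (hA : ∀ a ∈ A, ∀ b ∈ A, a * b = b * a) : Subgroup G where
  carrier := {a | a ∈ A ∧ a * a = 1}
  one_mem' := ⟨A.one_mem, one_mul 1⟩
  mul_mem' := fun {a b} ha hb => ⟨A.mul_mem ha.1 hb.1, by
    have hba : b * a = a * b := (hA a ha.1 b hb.1).symm
    calc a * b * (a * b) = a * (b * a) * b := by group
      _ = a * (a * b) * b := by rw [hba]
      _ = (a * a) * (b * b) := by group
      _ = 1 := by rw [ha.2, hb.2, one_mul]⟩
  inv_mem' := fun {a} ha => ⟨A.inv_mem ha.1, by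
    rw [← _root_.mul_inv_rev, ha.2, inv_one]⟩

omit [Fintype G] [IsSimpleGroup G] in
theorem mem_omegaOne {A : Subgroup G} {hA : ∀ a ∈ A, ∀ b ∈ A, a * b = b * a} {a : G} :
    a ∈ omegaOne A hA ↔ a ∈ A ∧ a * a = 1 := Iff.rfl

section Main

variable (hCA : IsCA G) (hne : ¬ ∀ a b : G, a * b = b * a) {t : G} (ht : orderOf t = 2)

/-- The subgroup of elements of square one of `C(t)`. -/
abbrev om : Subgroup G := omegaOne (Subgroup.centralizer ({t} : Set G)) fun _ ha _ hb => (isSelfCent_t hCA ht).comm ha hb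

include hCA hne ht

/-- `[N(A) : A]` is the number of involutions of `A`. -/
theorem index_eq :
    ((Subgroup.centralizer ({t} : Set G)).subgroupOf (Subgroup.normalizer ((Subgroup.centralizer ({t} : Set G)) : Set G))).index + 1 =
      Nat.card (om hCA ht) := by
  classical
  set A := (Subgroup.centralizer ({t} : Set G)) with hA
  set N := Subgroup.normalizer (A : Set G) with hN
  set E := om hCA ht
  have hSC : IsSelfCent A := isSelfCent_t hCA ht
  have hconjE : ∀ n : N, (n : G) * t * (n : G)⁻¹ ∈ E := fun n =>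
    mem_omegaOne.2 ⟨(Subgroup.mem_normalizer_iff.1 n.2 t).1 (mem_cent_t hCA ht), by
      calc (n : G) * t * (n : G)⁻¹ * ((n : G) * t * (n : G)⁻¹) = (n : G) * (t * t) * (n : G)⁻¹ := by
            group
        _ = 1 := by rw [Invol.mul_self_of_orderOf_two ht]; group⟩
  have hne1 : ∀ n : N, (⟨_, hconjE n⟩ : E) ≠ 1 := fun n e => by
    have e' : (n : G) * t * (n : G)⁻¹ = 1 := congrArg Subtype.val e
    have h1 : t = 1 := by
      calc t = (n : G)⁻¹ * ((n : G) * t * (n : G)⁻¹) * n := by group
        _ = 1 := by rw [e']; group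
    rw [h1, orderOf_one] at ht; omega
  let f : N ⧸ A.subgroupOf N → {x : E // x ≠ 1} := fun q => ⟨⟨_, hconjE q.out⟩, hne1 q.out⟩
  have hf : Function.Bijective f := by
    constructor
    · intro p q h
      have h1 : (p.out : G) * t * (p.out : G)⁻¹ = (q.out : G) * t * (q.out : G)⁻¹ :=
        congrArg (fun x : {x : E // x ≠ 1} => ((x : E) : G)) h
      rw [← QuotientGroup.out_eq' p, ← QuotientGroup.out_eq' q, QuotientGroup.eq,
        Subgroup.mem_subgroupOf]
      refine Subgroup.mem_centralizer_singleton_iff.2 ?_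
      simp only [Subgroup.coe_mul, InvMemClass.coe_inv]
      calc (p.out : G)⁻¹ * q.out * t
          = (p.out : G)⁻¹ * ((q.out : G) * t * (q.out : G)⁻¹) * q.out := by group
        _ = (p.out : G)⁻¹ * ((p.out : G) * t * (p.out : G)⁻¹) * q.out := by rw [h1]
        _ = t * ((p.out : G)⁻¹ * q.out) := by group
    · rintro ⟨⟨r, hr⟩, hr1⟩
      have hr' := mem_omegaOne.1 hr
      have hrne : r ≠ 1 := fun e => hr1 (Subtype.ext e)
      have hr2 : orderOf r = 2 := Invol.orderOf_two_of_mul_self hr'.2 hrne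
      obtain ⟨g, hg⟩ := isConj_iff.1 (isConj_involution hCA hne ht hr2)
      have hgN : g ∈ N := mem_normalizer_of_conj_mem hSC (mem_cent_t hCA ht)
        (fun e => by rw [e, orderOf_one] at ht; omega) (hg ▸ hr'.1)
      obtain ⟨a, ha⟩ := QuotientGroup.mk_out_eq_mul (A.subgroupOf N) (⟨g, hgN⟩ : N)
      refine ⟨QuotientGroup.mk ⟨g, hgN⟩, Subtype.ext (Subtype.ext ?_)⟩
      show ((QuotientGroup.mk ⟨g, hgN⟩ : N ⧸ A.subgroupOf N).out : G) * t *
        ((QuotientGroup.mk ⟨g, hgN⟩ : N ⧸ A.subgroupOf N).out : G)⁻¹ = r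
      rw [ha, Subgroup.coe_mul]
      have hat : ((a : N) : G) * t = t * ((a : N) : G) :=
        Subgroup.mem_centralizer_singleton_iff.1 a.2
      calc g * ((a : N) : G) * t * (g * ((a : N) : G))⁻¹
          = g * (((a : N) : G) * t) * ((a : N) : G)⁻¹ * g⁻¹ := by group
        _ = g * t * g⁻¹ := by rw [hat]; group
        _ = r := hg
  rw [Subgroup.index_eq_card, Nat.card_congr (Equiv.ofBijective f hf)]
  haveI := Fintype.ofFinite E
  rw [Nat.card_eq_fintype_card, Fintype.card_subtype, Finset.filter_ne',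
    Finset.card_erase_of_mem (Finset.mem_univ _), Finset.card_univ, Nat.card_eq_fintype_card]
  have := Fintype.card_pos (α := E)
  omega

omit hne in
theorem even_card_om : 2 ∣ Nat.card (om hCA ht) := by
  have h := Subgroup.orderOf_dvd_natCard (om hCA ht)
    (mem_omegaOne.2 ⟨mem_cent_t hCA ht, Invol.mul_self_of_orderOf_two ht⟩)
  rwa [ht] at h

theorem four_le_card_om : 4 ≤ Nat.card (om hCA ht) := by
  have h1 := index_normalizer_ne_one hne (isSelfCent_t hCA ht) (fun h => by
    have := mem_cent_t hCA ht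
    rw [h, Subgroup.mem_bot] at this
    rw [this, orderOf_one] at ht; omega)
  have h2 := index_eq hCA hne ht
  have h3 : 0 < ((Subgroup.centralizer ({t} : Set G)).subgroupOf (Subgroup.normalizer ((Subgroup.centralizer ({t} : Set G)) : Set G))).index :=
    Nat.pos_of_ne_zero Subgroup.index_ne_zero_of_finite
  obtain ⟨c, hc⟩ := even_card_om hCA ht
  omega

omit hne in
/-- `C(t)` has order coprime to its index. -/
theorem coprime_index : Nat.Coprime (Nat.card (Subgroup.centralizer ({t} : Set G))) (Subgroup.centralizer ({t} : Set G)).index := by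
  refine Nat.coprime_of_dvd fun p hp hpA hpi => ?_
  haveI := Fact.mk hp
  obtain ⟨P, hPA, -⟩ := exists_sylow_le (isSelfCent_t hCA ht) hpA
  exact P.not_dvd_index (hpi.trans (Subgroup.index_dvd_of_le hPA))

/-- `|G : N(A)| > |A|`. -/
theorem card_lt_index :
    Nat.card (Subgroup.centralizer ({t} : Set G)) < (Subgroup.normalizer ((Subgroup.centralizer ({t} : Set G)) : Set G)).index := by
  classical
  set A := (Subgroup.centralizer ({t} : Set G)) with hA
  set N := Subgroup.normalizer (A : Set G) with hN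
  have hSC : IsSelfCent A := isSelfCent_t hCA ht
  obtain ⟨g, hg⟩ := exists_conj_not_mem hCA hne ht
  set u := g * t * g⁻¹ with hu
  have hu2 : orderOf u = 2 := by
    rw [hu, show g * t * g⁻¹ = MulAut.conj g t from rfl, MulEquiv.orderOf_eq, ht]
  have huu : u * u = 1 := Invol.mul_self_of_orderOf_two hu2
  have hui : u⁻¹ = u := inv_eq_of_mul_eq_one_right huu
  have hw : Odd (A.subgroupOf N).index := by
    have h2 : (A.subgroupOf N).index + 1 = Nat.card (om hCA ht) := index_eq hCA hne ht
    obtain ⟨c, hc⟩ := even_card_om hCA ht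
    have := four_le_card_om hCA hne ht
    exact ⟨c - 1, by omega⟩
  have huN : u ∉ N := by
    intro huN
    haveI : (A.subgroupOf N).Normal := Subgroup.normal_subgroupOf_iff_le_normalizer
      Subgroup.le_normalizer |>.2 le_rfl
    refine hg ?_
    have h1 : orderOf (QuotientGroup.mk ⟨u, huN⟩ : N ⧸ A.subgroupOf N) ∣
        (A.subgroupOf N).index := by
      rw [Subgroup.index_eq_card]; exact orderOf_dvd_natCard _
    have h2 : orderOf (QuotientGroup.mk ⟨u, huN⟩ : N ⧸ A.subgroupOf N) ∣ 2 := by
      refine orderOf_dvd_of_pow_eq_one ?_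
      rw [pow_two, ← QuotientGroup.mk_mul, QuotientGroup.eq_one_iff, Subgroup.mem_subgroupOf]
      show u * u ∈ A
      rw [huu]; exact A.one_mem
    rcases (Nat.dvd_prime Nat.prime_two).1 h2 with h | h
    · rw [orderOf_eq_one_iff, QuotientGroup.eq_one_iff] at h
      exact h
    · rw [h] at h1
      exact absurd (even_iff_two_dvd.2 h1) (Nat.not_even_iff_odd.2 hw)
  -- the orbit of `uN` under `A`
  let f : Option A → G ⧸ N := fun o => o.elim (QuotientGroup.mk 1) fun a => QuotientGroup.mk ((a : G) * u)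
  have hf : Function.Injective f := by
    have hout : ∀ a : A, (QuotientGroup.mk 1 : G ⧸ N) ≠ QuotientGroup.mk ((a : G) * u) := by
      intro a h
      rw [QuotientGroup.eq, inv_one, one_mul] at h
      exact huN ((N.mul_mem_cancel_left (Subgroup.le_normalizer a.2)).1 h)
    rintro (_ | a) (_ | b) h
    · rfl
    · exact absurd h (hout b)
    · exact absurd h.symm (hout a)
    · have h' : (a : G)⁻¹ * b ∈ A := A.mul_mem (A.inv_mem a.2) b.2
      change (QuotientGroup.mk ((a : G) * u) : G ⧸ N) = QuotientGroup.mk ((b : G) * u) at h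
      rw [QuotientGroup.eq, show ((a : G) * u)⁻¹ * ((b : G) * u) = u * ((a : G)⁻¹ * b) * u by
        rw [_root_.mul_inv_rev, hui]; group] at h
      refine congrArg some (Subtype.ext (inv_mul_eq_one.1 ?_))
      generalize (a : G)⁻¹ * b = x at h' h
      by_contra hx
      have hxy : u * (u * x * u) * u = x := by
        calc u * (u * x * u) * u = (u * u) * x * (u * u) := by group
          _ = x := by rw [huu, one_mul, mul_one]
      set y := u * x * u with hy
      -- the commutator lies in `A` and in its conjugate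
      have h1 : x * (y * x⁻¹ * y⁻¹) ∈ A :=
        A.mul_mem h' ((Subgroup.mem_normalizer_iff.1 h _).1 (A.inv_mem h'))
      have h2 : u * (x * (y * x⁻¹ * y⁻¹)) * u ∈ A := by
        have e : u * (x * (y * x⁻¹ * y⁻¹)) * u = y * x * y⁻¹ * x⁻¹ := by
          conv_lhs => rw [← hxy]
          rw [hy]
          simp only [_root_.mul_inv_rev, hui, mul_assoc]
          simp only [← mul_assoc, huu, one_mul]
          simp only [mul_assoc, huu, mul_one]
        rw [e]
        exact A.mul_mem ((Subgroup.mem_normalizer_iff.1 h _).1 h') (A.inv_mem h')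
      have hcom : x * (y * x⁻¹ * y⁻¹) = 1 := by
        by_contra hc
        refine huN (mem_normalizer_of_conj_mem hSC h1 hc ?_)
        rw [hui]; exact h2
      have hyA : y ∈ A := by
        rw [← hSC x h' hx, Subgroup.mem_centralizer_singleton_iff]
        calc y * x = (x * (y * x⁻¹ * y⁻¹))⁻¹ * x * y := by group
          _ = x * y := by rw [hcom, inv_one, one_mul]
      refine huN (mem_normalizer_of_conj_mem hSC h' hx ?_)
      rw [hui]; exact hyA
  have hlt := Nat.card_le_card_of_injective f hf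
  rw [Finite.card_option, ← Subgroup.index_eq_card] at hlt
  exact hlt

/-- The class count at `t`. -/
theorem count_at_t :
    Nat.card {x : G // IsConj (t * (x * t * x⁻¹)) t} =
      (Nat.card (om hCA ht) - 2) * Nat.card (Subgroup.centralizer ({t} : Set G)) := by
  classical
  set A := (Subgroup.centralizer ({t} : Set G)) with hA
  set E := om hCA ht
  have hSC : IsSelfCent A := isSelfCent_t hCA ht
  have htt := Invol.mul_self_of_orderOf_two ht
  have hiff : ∀ x : G, IsConj (t * (x * t * x⁻¹)) t ↔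
      x * t * x⁻¹ ∈ E ∧ x * t * x⁻¹ ≠ t := by
    intro x
    have hrr : x * t * x⁻¹ * (x * t * x⁻¹) = 1 := by
      calc x * t * x⁻¹ * (x * t * x⁻¹) = x * (t * t) * x⁻¹ := by group
        _ = 1 := by rw [htt]; group
    generalize x * t * x⁻¹ = r at hrr ⊢
    constructor
    · intro h
      have h2 : orderOf (t * r) = 2 := by
        obtain ⟨c, hc⟩ := isConj_iff.1 h.symm
        rw [← hc, show c * t * c⁻¹ = MulAut.conj c t from rfl, MulEquiv.orderOf_eq, ht]
      have h3 := Invol.mul_self_of_orderOf_two h2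
      refine ⟨mem_omegaOne.2 ⟨?_, hrr⟩, fun e => ?_⟩
      · rw [Subgroup.mem_centralizer_singleton_iff]
        calc r * t = (t * t) * r * t * (r * r) := by rw [htt, hrr]; group
          _ = t * ((t * r) * (t * r)) * r := by group
          _ = t * r := by rw [h3, mul_one]
      · rw [e, htt, orderOf_one] at h2; omega
    · rintro ⟨hr, hrt⟩
      have hr' := mem_omegaOne.1 hr
      refine (isConj_involution hCA hne ht (Invol.orderOf_two_of_mul_self ?_ ?_)).symm
      · have hc : r * t = t * r := Subgroup.mem_centralizer_singleton_iff.1 hr'.1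
        calc t * r * (t * r) = t * (r * t) * r := by group
          _ = t * (t * r) * r := by rw [hc]
          _ = (t * t) * (r * r) := by group
          _ = 1 := by rw [htt, hrr, one_mul]
      · intro e
        exact hrt (by rw [← inv_eq_of_mul_eq_one_right e, inv_eq_of_mul_eq_one_right htt])
  have hout : ∀ r : {r : E // (r : G) ≠ 1 ∧ (r : G) ≠ t}, ∃ g : G, g * t * g⁻¹ = (r : G) := fun r =>
    isConj_iff.1 (isConj_involution hCA hne ht
      (Invol.orderOf_two_of_mul_self (mem_omegaOne.1 r.1.2).2 r.2.1))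
  choose g hg using hout
  have hne1 : ∀ x : G, x * t * x⁻¹ ≠ 1 := fun x e => by
    have h1 : t = 1 := by
      calc t = x⁻¹ * (x * t * x⁻¹) * x := by group
        _ = 1 := by rw [e]; group
    rw [h1, orderOf_one] at ht; omega
  let φ : {r : E // (r : G) ≠ 1 ∧ (r : G) ≠ t} × A → {x : G // IsConj (t * (x * t * x⁻¹)) t} :=
    fun p => ⟨g p.1 * p.2, by
      have he : g p.1 * (p.2 : G) * t * (g p.1 * (p.2 : G))⁻¹ = (p.1 : G) := by
        calc g p.1 * (p.2 : G) * t * (g p.1 * (p.2 : G))⁻¹
            = g p.1 * ((p.2 : G) * t) * (p.2 : G)⁻¹ * (g p.1)⁻¹ := by group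
          _ = g p.1 * t * (g p.1)⁻¹ := by
            rw [Subgroup.mem_centralizer_singleton_iff.1 p.2.2]; group
          _ = _ := hg p.1
      rw [hiff, he]
      exact ⟨p.1.1.2, p.1.2.2⟩⟩
  have hφ : Function.Bijective φ := by
    constructor
    · rintro ⟨r, a⟩ ⟨r', a'⟩ h
      have h' : g r * (a : G) = g r' * (a' : G) := congrArg Subtype.val h
      have hr : (r : G) = r' := by
        have key : ∀ (r : {r : E // (r : G) ≠ 1 ∧ (r : G) ≠ t}) (a : A),
            g r * (a : G) * t * (g r * (a : G))⁻¹ = (r : G) := fun r a => by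
          calc g r * (a : G) * t * (g r * (a : G))⁻¹
              = g r * ((a : G) * t) * (a : G)⁻¹ * (g r)⁻¹ := by group
            _ = g r * t * (g r)⁻¹ := by
              rw [Subgroup.mem_centralizer_singleton_iff.1 a.2]; group
            _ = _ := hg r
        rw [← key r a, h', key r' a']
      obtain rfl : r = r' := Subtype.ext (Subtype.ext hr)
      rw [Subtype.ext (mul_left_cancel h') (a1 := a) (a2 := a')]
    · rintro ⟨x, hx⟩
      have hx' := (hiff x).1 hx
      let r : {r : E // (r : G) ≠ 1 ∧ (r : G) ≠ t} := ⟨⟨_, hx'.1⟩, hne1 x, hx'.2⟩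
      have hgr : g r * t * (g r)⁻¹ = x * t * x⁻¹ := hg r
      refine ⟨(r, ⟨(g r)⁻¹ * x, ?_⟩), Subtype.ext (mul_inv_cancel_left _ _)⟩
      rw [hA, Subgroup.mem_centralizer_singleton_iff]
      calc (g r)⁻¹ * x * t = (g r)⁻¹ * (x * t * x⁻¹) * x := by group
        _ = (g r)⁻¹ * (g r * t * (g r)⁻¹) * x := by rw [hgr]
        _ = t * ((g r)⁻¹ * x) := by group
  rw [← Nat.card_congr (Equiv.ofBijective φ hφ), Nat.card_prod]
  congr 1
  haveI := Fintype.ofFinite E
  have htE : t ∈ E := mem_omegaOne.2 ⟨mem_cent_t hCA ht, htt⟩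
  have ht1 : (⟨t, htE⟩ : E) ≠ 1 := fun h => by
    rw [show t = 1 from congrArg Subtype.val h, orderOf_one] at ht; omega
  rw [Nat.card_eq_fintype_card, Fintype.card_subtype,
    show (Finset.univ.filter fun r : E => (r : G) ≠ 1 ∧ (r : G) ≠ t) =
      (Finset.univ.erase (1 : E)).erase ⟨t, htE⟩ by
      ext r
      simp only [Finset.mem_filter, Finset.mem_univ, true_and, Finset.mem_erase, and_true, ne_eq,
        Subtype.ext_iff]
      exact ⟨fun h => ⟨h.2, h.1⟩, fun h => ⟨h.2, h.1⟩⟩,
    Finset.card_erase_of_mem (Finset.mem_erase.2 ⟨ht1, Finset.mem_univ _⟩),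
    Finset.card_erase_of_mem (Finset.mem_univ _), Finset.card_univ, ← Nat.card_eq_fintype_card]
  omega

omit hne in
/-- An element of `A` outside `Ω₁ A` is not real, so it is no product of two involutions. -/
theorem count_at_nonreal (hw : Odd ((Subgroup.centralizer ({t} : Set G)).subgroupOf (Subgroup.normalizer ((Subgroup.centralizer ({t} : Set G)) : Set G))).index)
    {y : G} (hy : y ∈ (Subgroup.centralizer ({t} : Set G))) (hy2 : y * y ≠ 1) :
    Nat.card {x : G // IsConj (t * (x * t * x⁻¹)) y} = 0 := by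
  classical
  haveI : IsEmpty {x : G // IsConj (t * (x * t * x⁻¹)) y} := by
    refine ⟨fun ⟨x, hx⟩ => ?_⟩
    set A := (Subgroup.centralizer ({t} : Set G)) with hA
    set N := Subgroup.normalizer (A : Set G) with hN
    have hSC : IsSelfCent A := isSelfCent_t hCA ht
    have htt := Invol.mul_self_of_orderOf_two ht
    have hti : t⁻¹ = t := inv_eq_of_mul_eq_one_right htt
    -- `y` is conjugate to its inverse
    obtain ⟨c, hc⟩ := isConj_iff.1 hx
    set v := c * t * c⁻¹ with hv
    have hvy : v * y * v⁻¹ = y⁻¹ := by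
      rw [← hc, hv]
      simp only [_root_.mul_inv_rev, inv_inv, hti, mul_assoc, inv_mul_cancel_left]
      simp only [← mul_assoc, htt, one_mul]
    have hy1 : y ≠ 1 := fun h => hy2 (by rw [h, one_mul])
    have hvN : v ∈ N := mem_normalizer_of_conj_mem hSC hy hy1 (hvy ▸ A.inv_mem hy)
    haveI : (A.subgroupOf N).Normal := Subgroup.normal_subgroupOf_iff_le_normalizer
      Subgroup.le_normalizer |>.2 le_rfl
    have hvv : v * v = 1 := by
      rw [hv]
      calc c * t * c⁻¹ * (c * t * c⁻¹) = c * (t * t) * c⁻¹ := by group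
        _ = 1 := by rw [htt]; group
    have h1 : orderOf (QuotientGroup.mk ⟨v, hvN⟩ : N ⧸ A.subgroupOf N) ∣
        (A.subgroupOf N).index := by
      rw [Subgroup.index_eq_card]; exact orderOf_dvd_natCard _
    have h2 : orderOf (QuotientGroup.mk ⟨v, hvN⟩ : N ⧸ A.subgroupOf N) ∣ 2 := by
      refine orderOf_dvd_of_pow_eq_one ?_
      rw [pow_two, ← QuotientGroup.mk_mul, QuotientGroup.eq_one_iff, Subgroup.mem_subgroupOf]
      show v * v ∈ A
      rw [hvv]; exact A.one_mem
    rcases (Nat.dvd_prime Nat.prime_two).1 h2 with h | h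
    · rw [orderOf_eq_one_iff, QuotientGroup.eq_one_iff] at h
      have hvA : v ∈ A := h
      rw [hSC.comm hvA hy, mul_inv_cancel_right] at hvy
      exact hy2 (eq_inv_iff_mul_eq_one.1 hvy)
    · rw [h] at h1
      exact absurd (even_iff_two_dvd.2 h1) (Nat.not_even_iff_odd.2 hw)
  exact Nat.card_of_isEmpty

/-- The centraliser of an involution is elementary abelian. -/
theorem sq_eq_one {a : G} (ha : a ∈ (Subgroup.centralizer ({t} : Set G))) : a * a = 1 := by
  classical
  by_contra ha2
  set A := (Subgroup.centralizer ({t} : Set G)) with hA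
  set E := om hCA ht with hEdef
  set N := Subgroup.normalizer (A : Set G) with hN
  set w := (A.subgroupOf N).index with hw
  set k := Nat.card A with hk
  set n := N.index with hn
  have hSC : IsSelfCent A := isSelfCent_t hCA ht
  have he : w + 1 = Nat.card E := index_eq hCA hne ht
  have he4 := four_le_card_om hCA hne ht
  rw [← hEdef] at he4
  obtain ⟨c, hc⟩ := even_card_om hCA ht
  rw [← hEdef] at hc
  have hwodd : Odd w := ⟨c - 1, by omega⟩
  -- the order of `A`
  obtain ⟨s, hs⟩ : w ∣ k - 1 := Cfsg.Agent.S0196.result A hSC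
  have hEA : E ≤ A := fun x hx => (mem_omegaOne.1 hx).1
  have hElt : E ≠ A := fun h => ha2 (mem_omegaOne.1 (h ▸ ha : a ∈ E)).2
  obtain ⟨m, hm⟩ : Nat.card E ∣ k := Subgroup.card_dvd_of_le hEA
  have hm2 : 2 ≤ m := by
    rcases m with _ | _ | m
    · rw [mul_zero] at hm
      exact absurd hm (Nat.card_pos (α := A)).ne'
    · exact absurd (Subgroup.eq_of_le_of_card_ge hEA (by omega)) hElt
    · omega
  have hmw : w + 1 ≤ m := by
    rw [← he] at hm
    have h1 : (w + 1) * m - 1 = w * s := by rw [← hm, hs]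
    have hdvd : w ∣ m - 1 := by
      have h2 : w * m + (m - 1) = w * s := by
        rw [← h1, Nat.succ_mul]; omega
      exact (Nat.dvd_add_right (dvd_mul_right w m)).1 (h2 ▸ dvd_mul_right w s)
    have := Nat.le_of_dvd (by omega) hdvd
    omega
  have hk2 : (w + 1) * (w + 1) ≤ k := by
    rw [hm, ← he]; exact Nat.mul_le_mul_left _ hmw
  have hs2 : 2 ≤ s := by
    by_contra h
    have : w * s ≤ w * 1 := Nat.mul_le_mul_left _ (by omega)
    have : 4 * (w + 1) ≤ (w + 1) * (w + 1) := Nat.mul_le_mul_right _ (by omega)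
    omega
  obtain ⟨D⟩ := exists_exceptionalData hSC (e := w) (s := s) rfl (by rw [← hk, hs, mul_comm]) hs2
  -- the order of `G`
  have hGk : Nat.card G = k * (w * n) := by
    rw [← N.card_mul_index, OddOrder.card_normalizer hSC, ← hk, ← hw, ← hn, mul_assoc]
  have hidx : A.index = w * n := by
    refine Nat.eq_of_mul_eq_mul_left (Nat.card_pos (α := A)) ?_
    rw [A.card_mul_index, hGk]
  have hcop : Nat.Coprime k (w * n) := hidx ▸ coprime_index hCA ht
  -- the common degree
  set i₀ : Fin s := ⟨0, by omega⟩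
  set d := Char.degree (D.θ i₀) with hd
  have hdeg : ∀ i, (D.θ i).1 1 = (d : ℂ) := fun i => by
    rw [D.off_one i i₀, Char.apply_one_eq_degree]
  have hy1 : a ≠ 1 := fun h => ha2 (by rw [h, one_mul])
  have htA : t ∈ A := mem_cent_t hCA ht
  have ht1 : t ≠ 1 := fun e => by rw [e, orderOf_one] at ht; omega
  have hcent : Subgroup.centralizer ({t} : Set G) = A := rfl
  have hsum : ∑ χ : Cfsg.IrrCharacter G, χ.1 t * χ.1 t * (conj (χ.1 t) - conj (χ.1 a)) / χ.1 1 =
      (k : ℂ) * (((Nat.card E - 2) * k : ℕ) : ℂ) / (Nat.card G : ℂ) := by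
    simp only [mul_sub, sub_div, Finset.sum_sub_distrib]
    rw [BlockCount.sum_irr_mul_mul_conj_div, BlockCount.sum_irr_mul_mul_conj_div,
      count_at_t hCA hne ht, count_at_nonreal hCA ht hwodd ha ha2, ← hk, ← hEdef]
    simp
  have hvanish : ∀ χ : Cfsg.IrrCharacter G, χ ∉ Set.range D.θ →
      conj (χ.1 t) - conj (χ.1 a) = 0 := fun χ hχ => by
    obtain ⟨z, hz⟩ := D.const χ hχ
    rw [show χ.1 t = _ from hz ⟨t, htA⟩ (fun e => ht1 (congrArg Subtype.val e)),
      show χ.1 a = _ from hz ⟨a, ha⟩ (fun e => hy1 (congrArg Subtype.val e)), sub_self]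
  set S := ∑ i : Fin s, (D.θ i).1 t * (D.θ i).1 t * (conj ((D.θ i).1 t) - conj ((D.θ i).1 a))
    with hS
  have hint : IsIntegral ℤ S := by
    refine IsIntegral.sum _ fun i _ => ?_
    have h : ∀ g : G, IsIntegral ℤ ((D.θ i).1 g) :=
      CharInt.isIntegral_char (Char.irr_isCharacter (D.θ i))
    have hc : ∀ g : G, IsIntegral ℤ (conj ((D.θ i).1 g)) := fun g => by
      rw [Char.IsCharacter.conj_apply (Char.irr_isCharacter (D.θ i))]; exact h _
    exact ((h t).mul (h t)).mul ((hc t).sub (hc a))
  have hSd : S / (d : ℂ) = (k : ℂ) * (((Nat.card E - 2) * k : ℕ) : ℂ) / (Nat.card G : ℂ) := by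
    rw [← hsum, hS, Finset.sum_div]
    refine Fintype.sum_of_injective D.θ D.inj _ _ (fun χ hχ => ?_) (fun i => by rw [hdeg])
    rw [hvanish χ hχ, mul_zero, zero_div]
  have hd0 : (d : ℂ) ≠ 0 := Nat.cast_ne_zero.2 (Char.degree_pos _).ne'
  have hG0 : (Nat.card G : ℂ) ≠ 0 := Char.card_ne_zero
  rw [div_eq_div_iff hd0 hG0] at hSd
  have hdvdG : Nat.card G ∣ (Nat.card E - 2) * k * k * d := by
    set M := (Nat.card E - 2) * k * k * d with hM
    have hSr : S = algebraMap ℚ ℂ ((M : ℚ) / (Nat.card G : ℚ)) := by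
      rw [map_div₀, map_natCast, map_natCast, eq_div_iff hG0, hSd, hM]
      push_cast
      ring
    rw [hSr, isIntegral_algebraMap_iff (algebraMap ℚ ℂ).injective,
      IsIntegrallyClosed.isIntegral_iff] at hint
    obtain ⟨z, hz⟩ := hint
    rw [eq_div_iff (Nat.cast_ne_zero.2 (Nat.card_pos (α := G)).ne')] at hz
    refine Int.natCast_dvd_natCast.1 ⟨z, ?_⟩
    have hz' : ((z * (Nat.card G : ℤ) : ℤ) : ℚ) = ((M : ℤ) : ℚ) := by push_cast; simpa using hz
    rw [mul_comm]
    exact (Int.cast_injective hz').symm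
  have hwd : w * n ∣ (w - 1) * d := by
    rw [hGk] at hdvdG
    have h1 : w * n ∣ k * ((w - 1) * d) := by
      refine Nat.dvd_of_mul_dvd_mul_left (Nat.card_pos (α := A)) (dvd_trans hdvdG (dvd_of_eq ?_))
      rw [show Nat.card E - 2 = w - 1 by omega]; ring
    exact hcop.symm.dvd_of_dvd_mul_left h1
  have hle : w * n ≤ (w - 1) * d :=
    Nat.le_of_dvd (Nat.mul_pos (by omega) (Char.degree_pos _)) hwd
  have hsq : s * (d * d) ≤ k * (w * n) := by
    rw [← hGk, ← Char.sum_degree_sq (G := G)]
    have h1 : ∀ i, Char.degree (D.θ i) = d := fun i => by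
      have h2 := hdeg i
      rw [Char.apply_one_eq_degree] at h2
      exact_mod_cast h2
    calc s * (d * d) = ∑ i : Fin s, Char.degree (D.θ i) ^ 2 := by
          simp [h1, pow_two]
      _ = ∑ χ ∈ Finset.univ.image D.θ, Char.degree χ ^ 2 := by
          rw [Finset.sum_image fun i _ j _ h => D.inj h]
      _ ≤ ∑ χ : Cfsg.IrrCharacter G, Char.degree χ ^ 2 :=
          Finset.sum_le_sum_of_subset (Finset.subset_univ _)
  have hnk : k < n := card_lt_index hCA hne ht
  obtain ⟨v, hv⟩ : ∃ v, w = v + 1 := ⟨w - 1, by omega⟩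
  rw [show w - 1 = v by omega] at hle
  have h2 : s * (w * n) * (w * n) ≤ k * (v * v) * (w * n) := by
    calc s * (w * n) * (w * n) ≤ s * (v * d) * (v * d) := by gcongr
      _ = s * (d * d) * (v * v) := by ring
      _ ≤ k * (w * n) * (v * v) := Nat.mul_le_mul_right _ hsq
      _ = k * (v * v) * (w * n) := by ring
  have h3 : s * (w * n) ≤ k * (v * v) :=
    Nat.le_of_mul_le_mul_right h2 (Nat.mul_pos (by omega) (by omega))
  have h4 : s * (w * n) = (k - 1) * n := by rw [hs]; ring
  obtain ⟨j, hj⟩ : ∃ j, k = j + 1 := ⟨k - 1, by have := Nat.card_pos (α := A); omega⟩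
  rw [h4, hj, Nat.add_sub_cancel] at h3
  have h5 : j * (j + 2) ≤ j * n := Nat.mul_le_mul_left _ (by omega)
  have h6 : v * v + 4 * v + 3 ≤ j := by
    rw [hv, hj, show (v + 1 + 1) * (v + 1 + 1) = v * v + 4 * v + 4 by ring] at hk2
    omega
  have h7 : (v * v + 4 * v + 3) * (4 * v + 5) ≤ j * (4 * v + 5) := Nat.mul_le_mul_right _ h6
  have h8 : j * (v * v + 4 * v + 3) ≤ j * j := Nat.mul_le_mul_left _ h6
  nlinarith

end Main

/-- In a non-abelian simple group of even order with abelian centralisers a Sylow 2-subgroup is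
neither cyclic nor normal, and involution centralisers are elementary abelian. -/
theorem sylow_facts (hCA : IsCA G) (hne : ¬ ∀ a b : G, a * b = b * a) (h2 : 2 ∣ Nat.card G)
    (T : Sylow 2 G) :
    ¬ IsCyclic (T : Subgroup G) ∧ ¬ (T : Subgroup G).Normal ∧ 4 ≤ Nat.card (T : Subgroup G) ∧
    ∀ t : G, orderOf t = 2 → IsMulCommutative (Subgroup.centralizer ({t} : Set G)) ∧
      ∀ c ∈ Subgroup.centralizer ({t} : Set G), c ^ 2 = 1 := by
  haveI : Fact (Nat.Prime 2) := ⟨Nat.prime_two⟩
  haveI : Nontrivial (T : Subgroup G) := by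
    rw [← Finite.one_lt_card_iff_nontrivial]
    exact lt_of_lt_of_le one_lt_two (Nat.le_of_dvd Nat.card_pos (T.dvd_card_of_dvd_card h2))
  have hcentre := T.isPGroup'.center_nontrivial
  obtain ⟨z, hz⟩ := exists_ne (1 : Subgroup.center (T : Subgroup G))
  obtain ⟨z₂, hz₂⟩ := exists_prime_orderOf_dvd_card' (G := Subgroup.center (T : Subgroup G)) 2 (by
    obtain ⟨j, hj⟩ := (T.isPGroup'.to_subgroup (Subgroup.center (T : Subgroup G))).exists_card_eq
    rw [hj]
    refine dvd_pow_self 2 ?_
    rintro rfl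
    rw [pow_zero] at hj
    haveI := (Nat.card_eq_one_iff_unique.1 hj).1
    exact hz (Subsingleton.elim z 1))
  set t : G := ((z₂ : (T : Subgroup G)) : G) with ht'
  have ht : orderOf t = 2 := by rw [ht', Subgroup.orderOf_coe, Subgroup.orderOf_coe, hz₂]
  have hcomm : ∀ r : G, orderOf r = 2 → IsMulCommutative (Subgroup.centralizer ({r} : Set G)) :=
    fun r hr => ⟨⟨fun x y => Subtype.ext ((isSelfCent_t hCA hr).comm x.2 y.2)⟩⟩
  have hle : (T : Subgroup G) ≤ Subgroup.centralizer ({t} : Set G) := fun v hv =>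
    Subgroup.mem_centralizer_singleton_iff.2
      (congrArg Subtype.val (Subgroup.mem_center_iff.1 z₂.2 ⟨v, hv⟩))
  have heq : (T : Subgroup G) = Subgroup.centralizer ({t} : Set G) := by
    refine (T.3 ?_ hle).symm
    intro x
    refine ⟨1, ?_⟩
    rw [pow_one, pow_two]
    exact Subtype.ext (sq_eq_one hCA hne ht x.2)
  have h4 : 4 ≤ Nat.card (T : Subgroup G) := by
    rw [heq]
    exact (four_le_card_om hCA hne ht).trans (Nat.le_of_dvd Nat.card_pos
      (Subgroup.card_dvd_of_le fun x hx => (mem_omegaOne.1 hx).1))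
  refine ⟨fun hc => ?_, fun hn => ?_, h4, fun r hr => ⟨hcomm r hr, fun c hc => ?_⟩⟩
  · haveI := hc
    obtain ⟨g, hg⟩ := IsCyclic.exists_ofOrder_eq_natCard (α := (T : Subgroup G))
    have h1 : g * g = 1 := by
      refine Subtype.ext ?_
      exact sq_eq_one hCA hne ht (heq ▸ g.2)
    have := orderOf_dvd_of_pow_eq_one ((pow_two g).trans h1)
    rw [hg] at this
    have := Nat.le_of_dvd two_pos this
    omega
  · obtain ⟨g, hg⟩ := exists_conj_not_mem hCA hne ht
    refine hg ?_
    rw [← heq]
    exact hn.conj_mem _ (z₂ : (T : Subgroup G)).2 g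
  · rw [pow_two]; exact sq_eq_one hCA hne hr hc

end Cfsg.Agent.PSL2.CT
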