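import Cfsg.Agent.Lib.PSL2.BinaryRig

/-!
The binary actions of `PSL(2, F)` on cosets.

* `binaryCoset_unip`, `binaryCoset_three`: the two binary families;
* `classify`: a binary action with non-trivial stabiliser is one of them.
-/

set_option autoImplicit false

open Matrix
open scoped MatrixGroups

namespace Cfsg.Agent.PSL2.Binary

open Cfsg.Agent.SZ

variable {F : Type*} [Field F]

theorem mem_U {x : PSL(2, F)} : x ∈ (unip F).map mk ↔ ∃ t, mk (uu t) = x := by
  constructor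
  · rintro ⟨g, hg, rfl⟩
    obtain ⟨t, rfl⟩ := mem_unip.1 hg
    exact ⟨t, rfl⟩
  · rintro ⟨t, rfl⟩
    exact Subgroup.mem_map_of_mem _ (uu_mem_unip t)

theorem mk_inj (h2 : (2 : F) = 0) {g h : SL(2, F)} (e : mk g = mk h) : g = h := by
  rcases mk_eq_mk.1 e with e | e
  · exact e
  · rwa [neg_eq_neg_one_mul, neg_one_eq_one_iff.2 h2, one_mul] at e

/-- Involutions in even characteristic are unipotent. -/
theorem involution_cases [Fintype F] (h2 : (2 : F) = 0) {x : PSL(2, F)} (hx : orderOf x = 2) :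
    ∃ k s, s ≠ 0 ∧ x = mk (k * uu s * k⁻¹) := by
  have hx1 : x ≠ 1 := fun e => by simp [e] at hx
  refine (psl_cases hx1).resolve_left ?_
  rintro ⟨g, rfl, h4⟩
  obtain ⟨g', hg', ht, -⟩ := exists_tr_eq_zero hx
  rw [← mk_inj h2 hg', ht] at h4
  exact h4 (by linear_combination (-2 : F) * h2)

variable [Fintype F]

theorem orderOf_mk_uu_two (h2 : (2 : F) = 0) {s : F} (hs : s ≠ 0) : orderOf (mk (uu s)) = 2 :=
  orderOf_mk_eq_two (by rw [tr_uu, h2]) (uu_not_mem_center hs)

omit [Fintype F] in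
/-- In even characteristic, `mk (uu s)` has the upper unitriangular centraliser. -/
theorem mem_U_of_commute (h2 : (2 : F) = 0) {s : F} (hs : s ≠ 0) {g : SL(2, F)}
    (h : Commute (mk g) (mk (uu s))) : mk g ∈ (unip F).map mk := by
  have e : g * uu s * g⁻¹ = uu s := mk_inj h2 (by rw [map_mul, map_mul, map_inv, h.eq]; group)
  have hB := uu_conj_mem_borel hs e
  rw [borel_conj_uu hB] at e
  have hsq : g 0 0 ^ 2 * s = 1 * s := by rw [one_mul]; exact uu_injective e
  have h00 : g 0 0 = 1 := by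
    have : (g 0 0 - 1) ^ 2 = 0 := by
      linear_combination mul_right_cancel₀ hs hsq - g 0 0 * h2 + h2
    exact sub_eq_zero.1 (pow_eq_zero_iff two_ne_zero |>.1 this)
  exact Subgroup.mem_map_of_mem _ (mem_unip_iff_entries.2 ⟨mem_borel.1 hB, h00⟩)

/-- The Sylow 2-subgroups give binary actions. -/
theorem binaryCoset_unip (h2 : (2 : F) = 0) :
    BinaryCoset ((unip F).map mk : Subgroup PSL(2, F)) := by
  have hsq : ∀ {x : PSL(2, F)}, x ∈ (unip F).map mk → x * x = 1 := fun {x} hx => by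
    obtain ⟨t, rfl⟩ := mem_U.1 hx
    rw [← map_mul, uu_mul_uu, show t + t = 0 by linear_combination t * h2, uu_zero, map_one]
  have hconj : ∀ {x g : PSL(2, F)}, g⁻¹ * x * g ∈ (unip F).map mk → x * x = 1 := fun {x g} h => by
    have := hsq h
    calc x * x = g * (g⁻¹ * x * g * (g⁻¹ * x * g)) * g⁻¹ := by group
      _ = 1 := by rw [this]; group
  refine binaryCoset_of_TI (fun g z hz hzU hgz y => ?_) fun a b g k ha hb hc => ?_
  · obtain ⟨l, rfl⟩ := mk_surjective g
    obtain ⟨s, rfl⟩ := mem_U.1 hzU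
    obtain ⟨t, ht⟩ := mem_U.1 hgz
    have hs : s ≠ 0 := fun h => hz (by rw [h, uu_zero, map_one])
    rw [← map_inv, ← map_mul, ← map_mul] at ht
    have hl : l⁻¹ * uu s * l⁻¹⁻¹ = uu t := by rw [inv_inv]; exact (mk_inj h2 ht).symm
    have hB := uu_conj_mem_borel hs hl
    constructor
    · rintro ⟨u, hu, rfl⟩
      refine ⟨l⁻¹ * u * l, ?_, by simp⟩
      have := unip_conj_mem hB hu
      rwa [inv_inv] at this
    · rintro ⟨u, hu, e⟩
      refine ⟨l * u * l⁻¹, ?_, by rw [map_mul, map_mul, map_inv, e]; group⟩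
      exact unip_conj_mem (inv_inv l ▸ inv_mem hB) hu
  · rcases eq_or_ne a 1 with ha1 | ha1
    · exact Or.inr (Or.inl ha1)
    left
    obtain ⟨s, rfl⟩ := mem_U.1 ha
    obtain ⟨u, rfl⟩ := mk_surjective b
    refine mem_U_of_commute (s := s) h2 (fun h => ha1 (by rw [h, uu_zero, map_one])) ?_
    have h1 := hsq ha
    have h1' := hconj hb
    have h3 := hconj hc
    show mk u * mk (uu s) = mk (uu s) * mk u
    rw [← inv_eq_of_mul_eq_one_right h3, _root_.mul_inv_rev, inv_eq_of_mul_eq_one_right h1,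
      inv_eq_of_mul_eq_one_right h1']

omit [Fintype F] in
theorem tr_eq_one_of_orderOf (h2 : (2 : F) = 0) {g : SL(2, F)} (hg : orderOf (mk g) = 3) :
    tr g = 1 := by
  have h3 : g * g * g = 1 := by
    refine mk_inj h2 ?_
    have := pow_orderOf_eq_one (mk g)
    rw [hg, pow_succ, pow_two] at this
    rw [map_mul, map_mul, this, map_one]
  have hd := det_eq g
  have e00 : (g * g * g) 0 0 = 1 := by rw [h3]; simp
  have e01 : (g * g * g) 0 1 = 0 := by rw [h3]; simp
  have e10 : (g * g * g) 1 0 = 0 := by rw [h3]; simp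
  have e11 : (g * g * g) 1 1 = 1 := by rw [h3]; simp
  simp only [mul00, mul01, mul10, mul11] at e00 e01 e10 e11
  rw [tr_def]
  by_contra hne
  have hne2 : (g 0 0 + g 1 1) ^ 2 - 1 ≠ 0 := fun h => hne (by
    have : (g 0 0 + g 1 1 - 1) ^ 2 = 0 := by linear_combination h - (g 0 0 + g 1 1 - 1) * h2
    exact sub_eq_zero.1 (pow_eq_zero_iff two_ne_zero |>.1 this))
  have h01 : g 0 1 = 0 := (mul_eq_zero.1 (show ((g 0 0 + g 1 1) ^ 2 - 1) * g 0 1 = 0 by
    linear_combination e01 + g 0 1 * hd)).resolve_left hne2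
  have h10 : g 1 0 = 0 := (mul_eq_zero.1 (show ((g 0 0 + g 1 1) ^ 2 - 1) * g 1 0 = 0 by
    linear_combination e10 + g 1 0 * hd)).resolve_left hne2
  have hdiag : ((g 0 0 + g 1 1) ^ 2 - 1) * (g 0 0 - g 1 1) = 0 := by
    linear_combination e00 - e11 + (g 0 0 - g 1 1) * hd
  have : mk g = 1 := (QuotientGroup.eq_one_iff g).2 (mem_center_iff_entries.2
    ⟨h01, h10, sub_eq_zero.1 ((mul_eq_zero.1 hdiag).resolve_left hne2)⟩)
  simp [this] at hg

/-- Two elements of order three with product of order three coincide, `X² + X + 1` irreducible. -/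
theorem eq_of_three (h2 : (2 : F) = 0) (hω : ¬ ∃ ω : F, ω ^ 2 + ω + 1 = 0) {a b : PSL(2, F)}
    (ha : orderOf a = 3) (hb : orderOf b = 3) (hab : orderOf (a * b) = 3) : b = a := by
  have hneg : ∀ x : F, -x = x := fun x => by linear_combination -x * h2
  obtain ⟨g, rfl⟩ := mk_surjective a
  obtain ⟨h, rfl⟩ := mk_surjective b
  rw [← map_mul] at hab
  obtain ⟨g₀, hg₀⟩ : ∃ g₀ : SL(2, F), g₀ = mat2 0 1 1 1 (by linear_combination -h2) := ⟨_, rfl⟩
  have ht := tr_eq_one_of_orderOf h2 ha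
  have ht₀ : tr g₀ = 1 := by rw [hg₀, tr_def]; simp
  obtain ⟨k, hk⟩ := isConj_iff.1 (isConj_of_tr (g := g₀) (ht₀.trans ht.symm)
    (by rw [ht₀]; intro e; exact one_ne_zero (by linear_combination e + 2 * h2 : (1 : F) = 0)))
  obtain ⟨v, hv⟩ : ∃ v, v = k⁻¹ * h * k := ⟨_, rfl⟩
  have hvt : tr v = 1 := by
    rw [hv]
    simpa using (tr_conj k⁻¹ h).trans (tr_eq_one_of_orderOf h2 hb)
  have hpt : tr (g₀ * v) = 1 := by
    rw [hv, show g₀ * (k⁻¹ * h * k) = k⁻¹ * (k * g₀ * k⁻¹ * h) * k⁻¹⁻¹ by group, tr_conj, hk,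
      tr_eq_one_of_orderOf h2 hab]
  have hd := det_eq v
  rw [tr_def] at hvt
  rw [tr_def, mul00, mul11] at hpt
  simp [hg₀] at hpt
  have key : v 0 0 ^ 2 + v 0 0 * (v 0 1 + 1) + (v 0 1 + 1) ^ 2 = 0 := by
    linear_combination hd - v 0 0 * hvt + v 0 1 * hpt - v 0 1 * hvt +
      (v 0 0 ^ 2 + v 0 1 + 1 + v 0 0 * v 0 1) * h2
  have ha0 : v 0 0 = 0 ∧ v 0 1 + 1 = 0 := by
    by_cases he : v 0 1 + 1 = 0
    · exact ⟨pow_eq_zero_iff two_ne_zero |>.1 (by rw [he] at key; linear_combination key), he⟩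
    · exact absurd ⟨v 0 0 / (v 0 1 + 1), by field_simp; linear_combination key⟩ hω
  have hb1 : v 0 1 = 1 := by linear_combination ha0.2 - h2
  have hv0 : v = g₀ := by
    apply ext2 <;> simp [hg₀, ha0.1, hb1]
    · linear_combination hpt - hvt + ha0.1 - hb1 - h2
    · linear_combination hvt - ha0.1
  have : h = g := by
    rw [← hk, ← hv0, hv]; group
  rw [this]

theorem orderOf_eq_of_conj {G : Type*} [Group G] (g x : G) : orderOf (g⁻¹ * x * g) = orderOf x := by
  have := orderOf_injective (MulAut.conj g⁻¹).toMonoidHom (MulEquiv.injective (MulAut.conj g⁻¹)) x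
  rwa [MulEquiv.coe_toMonoidHom, MulAut.conj_apply, inv_inv] at this

/-- Subgroups of order three give binary actions, `X² + X + 1` irreducible. -/
theorem binaryCoset_three (h2 : (2 : F) = 0) (hω : ¬ ∃ ω : F, ω ^ 2 + ω + 1 = 0)
    {H : Subgroup PSL(2, F)} (h3 : Nat.card H = 3) : BinaryCoset H := by
  have : Fact (Nat.Prime 3) := ⟨Nat.prime_three⟩
  have hord : ∀ z ∈ H, z ≠ 1 → orderOf z = 3 := fun z hz hz1 => by
    refine ((Nat.dvd_prime Nat.prime_three).1 ?_).resolve_left (fun h => hz1 (orderOf_eq_one_iff.1 h))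
    have := orderOf_dvd_natCard (⟨z, hz⟩ : H)
    rwa [Subgroup.orderOf_mk, h3] at this
  have hgen : ∀ z ∈ H, z ≠ 1 → Subgroup.zpowers z = H := fun z hz hz1 =>
    Subgroup.eq_of_le_of_card_ge (Subgroup.zpowers_le.2 hz)
      (by rw [Nat.card_zpowers, hord z hz hz1, h3])
  refine binaryCoset_of_TI (fun g z hz hzH hgz y => ?_) fun a b g k ha hb hc => ?_
  · have hne : g⁻¹ * z * g ≠ 1 := fun e => hz (by
      calc z = g * (g⁻¹ * z * g) * g⁻¹ := by group
        _ = 1 := by rw [e]; group)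
    constructor
    · intro hy
      rw [← hgen z hzH hz] at hy
      obtain ⟨i, rfl⟩ := hy
      have : g⁻¹ * z ^ i * g = (g⁻¹ * z * g) ^ i := by
        have h' := @conj_zpow _ _ i g⁻¹ z
        simpa using h'.symm
      simp only [this]
      exact zpow_mem hgz i
    · intro hy
      rw [← hgen _ hgz hne] at hy
      obtain ⟨i, hi⟩ := hy
      have h' := @conj_zpow _ _ i g⁻¹ z
      simp only [inv_inv] at h'
      simp only [h'] at hi
      rw [← mul_left_cancel (mul_right_cancel hi)]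
      exact zpow_mem hzH i
  · rcases eq_or_ne a 1 with ha1 | ha1
    · exact Or.inr (Or.inl ha1)
    rcases eq_or_ne b 1 with hb1 | hb1
    · exact Or.inr (Or.inr hb1)
    left
    rcases eq_or_ne (a * b) 1 with hab | hab
    · rw [← inv_eq_of_mul_eq_one_right hab]; exact inv_mem ha
    have hne : ∀ {x l : PSL(2, F)}, x ≠ 1 → l⁻¹ * x * l ≠ 1 := fun {x l} hx e => hx (by
      calc x = l * (l⁻¹ * x * l) * l⁻¹ := by group
        _ = 1 := by rw [e]; group)
    rw [eq_of_three (a := a) (b := b) h2 hω (hord a ha ha1)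
      (by rw [← orderOf_eq_of_conj g]; exact hord _ hb (hne hb1))
      (by rw [← orderOf_eq_of_conj k]; exact hord _ hc (hne hab))]
    exact ha

/-- A rigid triangular subgroup contains the unitriangular group. -/
theorem uu_mem_of_le_borel (h4 : 4 ≤ Fintype.card F) (h2 : (2 : F) = 0) {M : Subgroup PSL(2, F)}
    (hM : Rig M) (hB : ∀ g : SL(2, F), mk g ∈ M → g ∈ borel F) (t : F) : mk (uu t) ∈ M := by
  rcases eq_or_ne t 0 with rfl | ht
  · rw [uu_zero, map_one]; exact one_mem M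
  by_cases hinv : ∀ x ∈ M, orderOf x ≠ 2
  · obtain ⟨-, hω, h3⟩ := hM.card_eq_three h4 hinv
    obtain ⟨z, hz⟩ := exists_prime_orderOf_dvd_card' (G := M) 3 (hp := ⟨Nat.prime_three⟩)
      (by rw [h3])
    rw [← Subgroup.orderOf_coe] at hz
    obtain ⟨g, hg⟩ := mk_surjective (z : PSL(2, F))
    rw [← hg] at hz
    have ht' := tr_eq_one_of_orderOf h2 hz
    have hd := det_eq g
    rw [tr_def] at ht'
    rw [mem_borel.1 (hB g (hg ▸ z.2))] at hd
    exact absurd ⟨g 0 0, by linear_combination g 0 0 * ht' - hd + (g 0 0) * h2⟩ hω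
  · push Not at hinv
    obtain ⟨x, hx, hx2⟩ := hinv
    obtain ⟨g, rfl, hg, hgc⟩ := exists_tr_eq_zero hx2
    have hgB := hB g hx
    have hd := det_eq g
    rw [tr_def] at hg
    rw [mem_borel.1 hgB] at hd
    have h00 : g 0 0 = 1 := by
      have : (g 0 0 - 1) ^ 2 = 0 := by
        linear_combination g 0 0 * hg - hd - g 0 0 * h2
      exact sub_eq_zero.1 (pow_eq_zero_iff two_ne_zero |>.1 this)
    obtain ⟨s, rfl⟩ := mem_unip.1 (mem_unip_iff_entries.2 ⟨mem_borel.1 hgB, h00⟩)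
    refine hM.involution_mem hx hx2 (orderOf_mk_uu_two h2 ht) (Commute.map ?_ mk)
    show uu s * uu t = uu t * uu s
    rw [uu_mul_uu, uu_mul_uu, add_comm]

theorem coreOn_ne_top {G : Type*} [Group G] {H : Subgroup G} (hH : H ≠ ⊤) {S : Finset G}
    (hS : S.Nonempty) : coreOn H S ≠ ⊤ := fun e => by
  obtain ⟨s, hs⟩ := hS
  refine hH (eq_top_iff.2 fun x _ => ?_)
  have := (e.symm ▸ Subgroup.mem_top (s * x * s⁻¹) : s * x * s⁻¹ ∈ coreOn H S) s hs
  convert this using 1; group

/-- A stabiliser containing a unipotent involution is the unitriangular group. -/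
theorem eq_U (h4 : 4 ≤ Fintype.card F) (h2 : (2 : F) = 0) {H : Subgroup PSL(2, F)}
    (hb : BinaryCoset H) (hH : H ≠ ⊤) {s : F} (hs : s ≠ 0) (hsH : mk (uu s) ∈ H) :
    H = (unip F).map mk := by
  classical
  have := psl_isSimpleGroup h4
  let S₀ : Finset PSL(2, F) := Finset.univ.image fun t : F => mk (uu t)
  have hJ : mk (uu s) ∈ coreOn H S₀ := fun x hx => by
    obtain ⟨t, -, rfl⟩ := Finset.mem_image.1 hx
    rw [← map_inv, ← map_mul, ← map_mul, uu_inv, uu_mul_uu, uu_mul_uu,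
      show -t + s + t = s by ring]
    exact hsH
  have hJ0 : coreOn H S₀ ≠ ⊥ := fun e => mk_uu_ne_one hs (Subgroup.mem_bot.1 (e ▸ hJ))
  have hJ1 : coreOn H S₀ ≠ ⊤ := coreOn_ne_top hH (Finset.univ_nonempty.image _)
  have hshift : ∀ (t : F) y, y ∈ coreOn H S₀ → mk (uu t) * y * (mk (uu t))⁻¹ ∈ coreOn H S₀ := by
    intro t y hy x hx
    obtain ⟨r, -, rfl⟩ := Finset.mem_image.1 hx
    have := hy (mk (uu (r - t))) (Finset.mem_image_of_mem _ (Finset.mem_univ _))
    rw [show r - t = -t + r by ring, ← uu_mul_uu, map_mul, ← uu_inv, map_inv] at this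
    convert this using 1; group
  have hN : ∀ t, mk (uu t) ∈ Subgroup.normalizer (coreOn H S₀ : Set PSL(2, F)) := fun t => by
    refine Subgroup.mem_normalizer_iff.2 fun y => ⟨hshift t y, fun hy => ?_⟩
    have := hshift (-t) _ hy
    rw [← uu_inv, map_inv] at this
    convert this using 1; group
  have hN1 : Subgroup.normalizer (coreOn H S₀ : Set PSL(2, F)) ≠ ⊤ := fun e => by
    have hn : (coreOn H S₀).Normal := Subgroup.normalizer_eq_top_iff.1 e
    rcases hn.eq_bot_or_eq_top with h | h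
    exacts [hJ0 h, hJ1 h]
  obtain ⟨M, hM, hMJ⟩ := exists_rig hb S₀ hJ0 hJ1
  have hUM := uu_mem_of_le_borel h4 h2 hM fun g hg =>
    mem_borel_of_uu_mem hN1 hN (Subgroup.le_normalizer (hMJ hg))
  have hUH : ∀ t, mk (uu t) ∈ H := fun t => by
    have := hMJ (hUM t) 1 (Finset.mem_image.2 ⟨0, Finset.mem_univ _, by rw [uu_zero, map_one]⟩)
    simpa using this
  refine le_antisymm (fun x hx => ?_) fun x hx => ?_
  swap
  · obtain ⟨t, rfl⟩ := mem_U.1 hx; exact hUH t
  obtain ⟨g, rfl⟩ := mk_surjective x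
  have hgB := mem_borel_of_uu_mem hH hUH hx
  by_contra hgU
  -- a torus element in `H` and in a second conjugate of `H`
  obtain ⟨a, r, rfl, -⟩ := exists_eq_dd_mul_uu hgB
  have haH : ∀ i : ℤ, mk (dd a) ^ i ∈ H := fun i => zpow_mem (by
    have := mul_mem hx (inv_mem (hUH r))
    rwa [map_mul, mul_inv_cancel_right] at this) i
  have ha : mk (dd a) ≠ 1 := fun e => hgU (by rw [map_mul, e, one_mul]; exact mem_U.2 ⟨r, rfl⟩)
  have hmem : mk (dd a) ∈ coreOn H {1, mk ww} := by
    intro x hx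
    simp only [Finset.mem_insert, Finset.mem_singleton] at hx
    rcases hx with rfl | rfl
    · simpa using haH 1
    · have e : (mk ww)⁻¹ * mk (dd a) * mk ww = (mk (dd a))⁻¹ := by
        have h := congrArg mk (ww_conj_dd a)
        rw [← dd_inv] at h
        simp only [map_mul, map_inv] at h
        have h' : mk ww * (mk (dd a))⁻¹ * (mk ww)⁻¹ = mk (dd a) := by
          rw [← conj_inv, h, inv_inv]
        calc _ = (mk ww)⁻¹ * (mk ww * (mk (dd a))⁻¹ * (mk ww)⁻¹) * mk ww := by rw [h']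
          _ = _ := by group
      rw [e]
      simpa using haH (-1)
  have h1 : coreOn H {1, mk ww} ≤ H := fun y hy => by
    simpa using hy 1 (by simp)
  obtain ⟨M', hM', hM'le⟩ := exists_rig hb {1, mk ww}
    (fun e => ha (Subgroup.mem_bot.1 (e ▸ hmem))) (coreOn_ne_top hH (by simp))
  have := uu_mem_of_le_borel h4 h2 hM'
    (fun g hg => mem_borel_of_uu_mem hH hUH (h1 (hM'le hg))) 1
  have hl := hM'le this (mk ww) (by simp)
  rw [← map_inv, ← map_mul, ← map_mul] at hl
  have hlB := mem_borel_of_uu_mem hH hUH hl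
  rw [mem_borel, mul10, mul11, inv10, inv11] at hlB
  simp only [mul00, mul01, mul10, mul11, inv00, inv01, inv10, inv11] at hlB
  simp at hlB

/-- The stabiliser of a binary action of odd order is a trivial intersection set. -/
theorem ti_of_odd (h2 : (2 : F) = 0) {H : Subgroup PSL(2, F)} (hinv : ∀ x ∈ H, orderOf x ≠ 2) :
    ∀ g z : PSL(2, F), z ≠ 1 → z ∈ H → g⁻¹ * z * g ∈ H → ∀ y, y ∈ H ↔ g⁻¹ * y * g ∈ H := by
  classical
  have huni : ∀ (k : SL(2, F)) (s : F), s ≠ 0 → mk (k * uu s * k⁻¹) ∉ H := fun k s hs h =>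
    hinv _ h (by rw [orderOf_mk_conj]; exact orderOf_mk_uu_two h2 hs)
  have hab := commute_of_semisimple hinv huni
  intro g z hz hzH hgz
  obtain ⟨u, rfl, hu4⟩ : ∃ u, mk u = z ∧ tr u ^ 2 ≠ 4 := by
    rcases psl_cases hz with h | ⟨k, s, hs, rfl⟩
    · exact h
    · exact absurd hzH (huni k s hs)
  obtain ⟨T, hT⟩ : ∃ T, T = (cent u).map mk := ⟨_, rfl⟩
  have hTc : T = Subgroup.centralizer ({mk u} : Set PSL(2, F)) := by
    rw [hT, psl_centralizer_eq (Or.inr h2)]
  have : IsCyclic T := hT ▸ isCyclic_map_cent hu4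
  have hHT : H ≤ T := fun y hy => by
    rw [hTc]; exact Subgroup.mem_centralizer_singleton_iff.2 (hab y hy _ hzH)
  -- `g⁻¹ T g = T`
  obtain ⟨z', hz'⟩ : ∃ z', z' = g⁻¹ * mk u * g := ⟨_, rfl⟩
  have hconjT : ∀ y ∈ T, g⁻¹ * y * g ∈ T := by
    intro y hy
    have hcy : Commute (g⁻¹ * y * g) z' := by
      rw [hTc, Subgroup.mem_centralizer_singleton_iff] at hy
      rw [hz']
      show _ * _ = _ * _
      calc g⁻¹ * y * g * (g⁻¹ * mk u * g) = g⁻¹ * (y * mk u) * g := by group
        _ = g⁻¹ * (mk u * y) * g := by rw [hy]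
        _ = g⁻¹ * mk u * g * (g⁻¹ * y * g) := by group
    have hz'1 : z' ≠ 1 := fun e => hz (by
      calc mk u = g * z' * g⁻¹ := by rw [hz']; group
        _ = 1 := by rw [e]; group)
    rw [← hz'] at hgz
    obtain ⟨v, hv, hv4⟩ : ∃ v, mk v = z' ∧ tr v ^ 2 ≠ 4 := by
      rcases psl_cases hz'1 with h | ⟨k, s, hs, e⟩
      · exact h
      · exact absurd (e ▸ hgz) (huni k s hs)
    have hcv : Subgroup.centralizer ({z'} : Set PSL(2, F)) = (cent v).map mk := by
      rw [← hv, psl_centralizer_eq (Or.inr h2)]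
    have : IsCyclic (Subgroup.centralizer ({z'} : Set PSL(2, F))) := hcv ▸ isCyclic_map_cent hv4
    have hu' : mk u ∈ Subgroup.centralizer ({z'} : Set PSL(2, F)) :=
      Subgroup.mem_centralizer_singleton_iff.2 (hab _ hzH _ hgz)
    rw [hTc]
    exact Subgroup.mem_centralizer_singleton_iff.2 (congrArg Subtype.val
      ((IsCyclic.isMulCommutative (α := Subgroup.centralizer ({z'} : Set PSL(2, F)))).is_comm.comm
        ⟨_, Subgroup.mem_centralizer_singleton_iff.2 hcy.eq⟩ ⟨_, hu'⟩))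
  -- a cyclic group has one subgroup of each order
  have hfor : ∀ y ∈ H, g⁻¹ * y * g ∈ H := by
    intro y hy
    let A : Finset T := Finset.univ.filter fun t => (t : PSL(2, F)) ∈ H
    let B : Finset T := Finset.univ.filter fun t => t ^ Nat.card H = 1
    have hAB : A ⊆ B := fun t ht => by
      simp only [A, B, Finset.mem_filter, Finset.mem_univ, true_and] at ht ⊢
      refine Subtype.ext ?_
      have := congrArg Subtype.val (pow_card_eq_one' (x := (⟨(t : PSL(2, F)), ht⟩ : H)))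
      rw [Subgroup.coe_pow, Subgroup.coe_one] at this ⊢
      exact this
    have hA : A.card = Nat.card H := by
      rw [← Fintype.card_subtype, ← Nat.card_eq_fintype_card]
      exact Nat.card_congr ((Equiv.subtypeSubtypeEquivSubtype fun h => hHT h))
    have hBA : B = A := (Finset.eq_of_subset_of_card_le hAB
      (hA ▸ IsCyclic.card_pow_eq_one_le Nat.card_pos)).symm
    have hmem : (⟨g⁻¹ * y * g, hconjT y (hHT hy)⟩ : T) ∈ B := by
      simp only [B, Finset.mem_filter, Finset.mem_univ, true_and]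
      refine Subtype.ext ?_
      have e := congrArg Subtype.val (pow_card_eq_one' (x := (⟨y, hy⟩ : H)))
      simp only [Subgroup.coe_pow, Subgroup.coe_one] at e
      have h' := @conj_pow _ _ (Nat.card H) g⁻¹ y
      rw [inv_inv] at h'
      rw [Subgroup.coe_pow, Subgroup.coe_one]
      rw [h', e]; group
    rw [hBA] at hmem
    simpa [A] using hmem
  refine fun y => ⟨hfor y, fun hy => ?_⟩
  let f : H → H := fun w => ⟨g⁻¹ * w.1 * g, hfor _ w.2⟩
  have hinj : Function.Injective f := fun v w e => by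
    have e' : g⁻¹ * v.1 * g = g⁻¹ * w.1 * g := congrArg Subtype.val e
    exact Subtype.ext (mul_left_cancel (mul_right_cancel e'))
  obtain ⟨w, hw⟩ := (Finite.injective_iff_surjective.1 hinj) ⟨_, hy⟩
  have hw' : g⁻¹ * w.1 * g = g⁻¹ * y * g := congrArg Subtype.val hw
  rw [← mul_left_cancel (mul_right_cancel hw')]
  exact w.2

/-- The binary actions with non-trivial stabiliser. -/
theorem classify (h4 : 4 ≤ Fintype.card F) (h5 : Fintype.card F ≠ 5) {H : Subgroup PSL(2, F)}
    (hb : BinaryCoset H) (hbot : H ≠ ⊥) (hH : H ≠ ⊤) :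
    (2 : F) = 0 ∧ ((∃ c : PSL(2, F), H.map (MulAut.conj c).toMonoidHom = (unip F).map mk) ∨
      ((¬ ∃ ω : F, ω ^ 2 + ω + 1 = 0) ∧ Nat.card H = 3)) := by
  classical
  have h2 : (2 : F) = 0 := by
    by_contra h2
    obtain ⟨M, hM, -⟩ := exists_rig hb {1} (by rwa [coreOn_one]) (by rwa [coreOn_one])
    by_cases hinv : ∀ x ∈ M, orderOf x ≠ 2
    · exact h2 (hM.card_eq_three h4 hinv).1
    · push Not at hinv
      obtain ⟨x, hx, hx2⟩ := hinv
      exact hM.no_involution h4 h5 h2 hx hx2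
  refine ⟨h2, ?_⟩
  by_cases hinv : ∀ x ∈ H, orderOf x ≠ 2
  · right
    have hr := rig_of_binary hb (S := {1}) (by rwa [coreOn_one]) (by rwa [coreOn_one])
      (by rw [coreOn_one]; exact ti_of_odd h2 hinv)
    rw [coreOn_one] at hr
    exact ⟨(hr.card_eq_three h4 hinv).2.1, (hr.card_eq_three h4 hinv).2.2⟩
  · left
    push Not at hinv
    obtain ⟨x, hx, hx2⟩ := hinv
    obtain ⟨k, s, hs, rfl⟩ := involution_cases h2 hx2
    refine ⟨(mk k)⁻¹, eq_U h4 h2 (hb.map_equiv _) (fun e => hH ?_) hs ?_⟩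
    · refine Subgroup.map_injective (MulEquiv.injective (MulAut.conj (mk k)⁻¹)) (e.trans ?_)
      exact (Subgroup.map_top_of_surjective _ (MulEquiv.surjective (MulAut.conj _))).symm
    · rw [Subgroup.mem_map_equiv, MulAut.conj_symm_apply, inv_inv]
      simpa using hx

end Cfsg.Agent.PSL2.Binary

namespace Cfsg.Agent.PSL2.Binary

open Cfsg.Agent.SZ

variable {F : Type*} [Field F] [Fintype F]

theorem two_eq_zero_of_card {a : ℕ} (h4 : 4 ≤ Fintype.card F) (ha : Fintype.card F = 2 ^ a) :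
    (2 : F) = 0 := by
  rcases a with _ | a
  · simp at ha; omega
  · exact even_card_iff.1 ⟨2 ^ a, by rw [ha, pow_succ]; ring⟩

theorem exists_card_two_pow (h2 : (2 : F) = 0) : ∃ a, Fintype.card F = 2 ^ a := by
  obtain ⟨p, hc⟩ := CharP.exists F
  obtain ⟨n, hp, hn⟩ := FiniteField.card F p
  have : p = 2 := (Nat.prime_dvd_prime_iff_eq hp Nat.prime_two).1
    ((CharP.cast_eq_zero_iff F p 2).1 (by exact_mod_cast h2))
  exact ⟨n, this ▸ hn⟩

theorem not_omega_iff (h2 : (2 : F) = 0) {a : ℕ} (ha : Fintype.card F = 2 ^ a) :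
    (¬ ∃ ω : F, ω ^ 2 + ω + 1 = 0) ↔ Odd a := by
  have hmod : ∀ b : ℕ, 2 ^ (2 * b) % 3 = 1 := fun b => by
    rw [pow_mul, Nat.pow_mod]; simp
  constructor
  · intro hω
    by_contra ha'
    obtain ⟨b, hb⟩ := Nat.not_odd_iff_even.1 ha'
    have h3 : 3 ∣ Nat.card Fˣ := by
      rw [GL.card_units_field, ha, hb, ← two_mul]
      have := hmod b
      omega
    obtain ⟨u, hu⟩ := exists_prime_orderOf_dvd_card' (G := Fˣ) 3 (hp := ⟨Nat.prime_three⟩) h3
    refine hω ⟨u, ?_⟩
    have h3' : (u : F) ^ 3 = 1 := by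
      have := pow_orderOf_eq_one u
      rw [hu] at this
      simpa using congrArg Units.val this
    have hne : (u : F) - 1 ≠ 0 := fun h => by
      rw [sub_eq_zero, Units.val_eq_one] at h
      simp [h] at hu
    exact (mul_eq_zero.1 (show ((u : F) - 1) * ((u : F) ^ 2 + u + 1) = 0 by
      linear_combination h3')).resolve_left hne
  · rintro ⟨b, rfl⟩ ⟨ω, hω⟩
    have hω0 : ω ≠ 0 := by rintro rfl; simp at hω
    have : Fact (Nat.Prime 3) := ⟨Nat.prime_three⟩
    have hu : orderOf (Units.mk0 ω hω0) = 3 := by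
      refine orderOf_eq_prime (Units.ext ?_) fun h => ?_
      · simp only [Units.val_pow_eq_pow_val, Units.val_mk0, Units.val_one]
        linear_combination (ω - 1) * hω
      · have : ω = 1 := congrArg Units.val h
        subst this
        exact one_ne_zero (by linear_combination hω - h2 : (1 : F) = 0)
    have h3 := hu ▸ orderOf_dvd_natCard (Units.mk0 ω hω0)
    rw [GL.card_units_field, ha, pow_succ] at h3
    have := hmod b
    have := Nat.one_le_two_pow (n := 2 * b)
    omega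

/-- The binary actions of `PSL(2, F)` on cosets. -/
theorem psl_two_binary (h4 : 4 ≤ Fintype.card F) (h5 : Fintype.card F ≠ 5)
    (H : Subgroup PSL(2, F)) (hH : H ≠ ⊤) :
    BinaryCoset H ↔ (H = ⊥ ∨ ((∃ a : ℕ, Fintype.card F = 2 ^ a) ∧
      ∃ P : Sylow 2 PSL(2, F), H = P) ∨
      ((∃ a : ℕ, Odd a ∧ Fintype.card F = 2 ^ a) ∧ Nat.card H = 3)) := by
  constructor
  · intro hb
    rcases eq_or_ne H ⊥ with hbot | hbot
    · exact Or.inl hbot
    right
    obtain ⟨h2, h⟩ := classify h4 h5 hb hbot hH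
    obtain ⟨a, ha⟩ := exists_card_two_pow h2
    rcases h with ⟨c, hc⟩ | ⟨hω, h3⟩
    · have : Fact (Nat.Prime 2) := ⟨Nat.prime_two⟩
      have : CharP F 2 := CharP.charP_iff_prime_eq_zero Nat.prime_two |>.2 (by exact_mod_cast h2)
      refine Or.inl ⟨⟨a, ha⟩, c⁻¹ • unipSylowPSL F 2, ?_⟩
      rw [← coe_unipSylowPSL 2] at hc
      show H = ((unipSylowPSL F 2 : Subgroup PSL(2, F))).map (MulAut.conj c⁻¹).toMonoidHom
      rw [← hc, Subgroup.map_map]
      ext x
      simp [mul_assoc]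
    · exact Or.inr ⟨⟨a, (not_omega_iff h2 ha).1 hω, ha⟩, h3⟩
  · rintro (rfl | ⟨⟨a, ha⟩, P, rfl⟩ | ⟨⟨a, hodd, ha⟩, h3⟩)
    · exact binary_bot
    · have h2 := two_eq_zero_of_card h4 ha
      have : Fact (Nat.Prime 2) := ⟨Nat.prime_two⟩
      have : CharP F 2 := CharP.charP_iff_prime_eq_zero Nat.prime_two |>.2 (by exact_mod_cast h2)
      obtain ⟨g, hg⟩ := MulAction.exists_smul_eq PSL(2, F) (unipSylowPSL F 2) P
      have hb := (binaryCoset_unip h2).map_equiv (MulAut.conj g)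
      rw [← coe_unipSylowPSL 2] at hb
      rw [← hg]
      exact hb
    · have h2 := two_eq_zero_of_card h4 ha
      exact binaryCoset_three h2 ((not_omega_iff h2 ha).2 hodd) h3

end Cfsg.Agent.PSL2.Binary
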