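import Cfsg.Agent.Lib.PSL2.BinaryWitness
import Cfsg.Agent.Lib.PSL2.DicksonOrders
import Cfsg.Agent.Lib.Sz.BinaryClassify

/-!
Rigid subgroups of `PSL(2, F)`: trivial intersection sets `M` such that `a b = c` with `a ∈ M` and
`b`, `c` conjugate into `M` forces `b ∈ M`. Minimal intersections of point stabilisers of a binary
action on cosets are of this kind.

* `Rig.no_involution`, `Rig.unipotent_not_mem`: for `q` odd such `M` has no involution and no
  unipotent element;
* `Rig.card_eq_three`: without involutions it has order three, `q` is even and `X² + X + 1` is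
  irreducible.
-/

set_option autoImplicit false

open Matrix
open scoped MatrixGroups

namespace Cfsg.Agent.PSL2.Binary

open Cfsg.Agent.SZ

variable {G : Type*} [Group G]

/-- A proper trivial intersection subgroup without witnesses. -/
structure Rig (M : Subgroup G) : Prop where
  intro ::
  ne_bot : M ≠ ⊥
  ne_top : M ≠ ⊤
  ti : ∀ g z : G, z ≠ 1 → z ∈ M → g⁻¹ * z * g ∈ M → ∀ y, y ∈ M ↔ g⁻¹ * y * g ∈ M
  closed : ∀ a b g k : G, a ∈ M → a ≠ 1 → g⁻¹ * b * g ∈ M → k⁻¹ * (a * b) * k ∈ M → b ∈ M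

/-- Below every non-trivial intersection of conjugates lies a minimal one. -/
theorem exists_minimal_le [Finite G] {H : Subgroup G} (S₀ : Finset G)
    (h₀ : coreOn H S₀ ≠ ⊥) :
    ∃ S : Finset G, coreOn H S ≠ ⊥ ∧ coreOn H S ≤ coreOn H S₀ ∧
      ∀ g z : G, z ≠ 1 → z ∈ coreOn H S → g⁻¹ * z * g ∈ coreOn H S →
        ∀ y, y ∈ coreOn H S ↔ g⁻¹ * y * g ∈ coreOn H S := by
  classical
  let p : ℕ → Prop := fun n => ∃ S : Finset G, coreOn H S ≠ ⊥ ∧ coreOn H S ≤ coreOn H S₀ ∧
    Nat.card (coreOn H S) = n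
  have hex : ∃ n, p n := ⟨_, S₀, h₀, le_rfl, rfl⟩
  obtain ⟨S, hne, hle₀, hcard⟩ := Nat.find_spec hex
  refine ⟨S, hne, hle₀, fun g z hz hzS hzg => ?_⟩
  have hU : ∀ y, y ∈ coreOn H (S ∪ S.image (g * ·)) ↔
      y ∈ coreOn H S ∧ g⁻¹ * y * g ∈ coreOn H S := fun y => by
    rw [mem_coreOn_union, mem_coreOn_image]
  have hle : coreOn H (S ∪ S.image (g * ·)) ≤ coreOn H S := fun y hy => ((hU y).1 hy).1
  have hneU : coreOn H (S ∪ S.image (g * ·)) ≠ ⊥ := fun e =>
    hz (Subgroup.mem_bot.1 (e ▸ (hU z).2 ⟨hzS, hzg⟩))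
  have hmin : Nat.card (coreOn H S) ≤ Nat.card (coreOn H (S ∪ S.image (g * ·))) := by
    rw [hcard]
    exact Nat.find_min' hex ⟨_, hneU, hle.trans hle₀, rfl⟩
  have heq := Subgroup.eq_of_le_of_card_ge hle hmin
  have hfor : ∀ y, y ∈ coreOn H S → g⁻¹ * y * g ∈ coreOn H S := fun y hy =>
    ((hU y).1 (heq ▸ hy)).2
  refine fun y => ⟨hfor y, fun hy => ?_⟩
  let f : coreOn H S → coreOn H S := fun w => ⟨g⁻¹ * w.1 * g, hfor _ w.2⟩
  have hinj : Function.Injective f := fun v w e => by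
    have e' : g⁻¹ * v.1 * g = g⁻¹ * w.1 * g := congrArg Subtype.val e
    exact Subtype.ext (mul_left_cancel (mul_right_cancel e'))
  obtain ⟨w, hw⟩ := (Finite.injective_iff_surjective.1 hinj) ⟨_, hy⟩
  have hw' : g⁻¹ * w.1 * g = g⁻¹ * y * g := congrArg Subtype.val hw
  rw [← mul_left_cancel (mul_right_cancel hw')]
  exact w.2

theorem coreOn_one {H : Subgroup G} : coreOn H {1} = H := by ext x; simp [mem_coreOn_singleton]

/-- A trivial intersection set of a binary action is rigid. -/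
theorem rig_of_binary {H : Subgroup G} (hb : BinaryCoset H) {S : Finset G}
    (hne : coreOn H S ≠ ⊥) (htop : coreOn H S ≠ ⊤)
    (hTI : ∀ g z : G, z ≠ 1 → z ∈ coreOn H S → g⁻¹ * z * g ∈ coreOn H S →
      ∀ y, y ∈ coreOn H S ↔ g⁻¹ * y * g ∈ coreOn H S) : Rig (coreOn H S) := by
  classical
  refine ⟨hne, htop, hTI, fun a b g k ha ha1 hgb hk => ?_⟩
  by_contra hbS
  exact not_binary_of_TI hTI ha ha1 hgb hk hbS hb

/-- Every non-trivial intersection in a binary action contains a rigid subgroup. -/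
theorem exists_rig [Finite G] {H : Subgroup G} (hb : BinaryCoset H) (S₀ : Finset G)
    (h₀ : coreOn H S₀ ≠ ⊥) (h₁ : coreOn H S₀ ≠ ⊤) : ∃ M, Rig M ∧ M ≤ coreOn H S₀ := by
  obtain ⟨S, hne, hle, hTI⟩ := exists_minimal_le S₀ h₀
  exact ⟨_, rig_of_binary hb hne (ne_top_of_le_ne_top h₁ hle) hTI, hle⟩

namespace Rig

variable {M : Subgroup G}

/-- Conjugates are rigid. -/
theorem map_conj (hM : Rig M) (c : G) : Rig (M.map (MulAut.conj c).toMonoidHom) := by
  have hmem : ∀ x, x ∈ M.map (MulAut.conj c).toMonoidHom ↔ c⁻¹ * x * c ∈ M := fun x => by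
    rw [Subgroup.mem_map_equiv, MulAut.conj_symm_apply]
  have hinj : Function.Injective (MulAut.conj c).toMonoidHom := MulEquiv.injective (MulAut.conj c)
  refine ⟨fun h => hM.ne_bot ((Subgroup.map_eq_bot_iff_of_injective _ hinj).1 h), fun h => ?_, ?_,
    ?_⟩
  · refine hM.ne_top (Subgroup.map_injective hinj (h.trans ?_))
    exact (Subgroup.map_top_of_surjective _ (MulEquiv.surjective (MulAut.conj c))).symm
  · intro g z hz hzM hgz y
    rw [hmem] at hzM hgz ⊢
    rw [hmem]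
    have := hM.ti (c⁻¹ * g * c) (c⁻¹ * z * c) (fun e => hz (by
      calc z = c * (c⁻¹ * z * c) * c⁻¹ := by group
        _ = 1 := by rw [e]; group)) hzM (by convert hgz using 1; group) (c⁻¹ * y * c)
    convert this using 2
    group
  · intro a b g k ha ha1 hg hk
    rw [hmem] at ha hg hk ⊢
    refine hM.closed (c⁻¹ * a * c) (c⁻¹ * b * c) (c⁻¹ * g * c) (c⁻¹ * k * c) ha (fun e => ha1 (by
      calc a = c * (c⁻¹ * a * c) * c⁻¹ := by group
        _ = 1 := by rw [e]; group)) ?_ ?_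
    · convert hg using 1; group
    · convert hk using 1; group

/-- Elements centralising a non-trivial element normalise. -/
theorem mem_normalizer (hM : Rig M) {x g : G} (hx : x ∈ M) (hx1 : x ≠ 1) (h : Commute g x) :
    g ∈ Subgroup.normalizer (M : Set G) := by
  refine Subgroup.mem_normalizer_iff.2 fun y => ?_
  have := hM.ti g⁻¹ x hx1 hx (by rw [inv_inv, h.eq, mul_inv_cancel_right]; exact hx) y
  rwa [inv_inv] at this

/-- Conjugates `b`, `a b` of elements of `M`, read through `IsConj`. -/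
theorem mem_of_isConj (hM : Rig M) {a b a₁ a₂ : G} (ha : a ∈ M) (ha1 : a ≠ 1) (h₁ : a₁ ∈ M)
    (h₂ : a₂ ∈ M) (hb : IsConj a₁ b) (hc : IsConj a₂ (a * b)) : b ∈ M := by
  obtain ⟨g, hg⟩ := isConj_iff.1 hb
  obtain ⟨k, hk⟩ := isConj_iff.1 hc
  refine hM.closed a b g k ha ha1 ?_ ?_
  · rw [← hg]; convert h₁ using 1; group
  · rw [← hk]; convert h₂ using 1; group

/-- The square of a trivial intersection subgroup with proper normaliser is at most `|G|`. -/
theorem card_sq_le [Finite G] (hM : Rig M) (hN : Subgroup.normalizer (M : Set G) ≠ ⊤) :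
    Nat.card M * Nat.card M ≤ Nat.card G := by
  obtain ⟨g, hg⟩ : ∃ g, g ∉ Subgroup.normalizer (M : Set G) := by
    by_contra h
    push Not at h
    exact hN (eq_top_iff.2 fun x _ => h x)
  have hgM : ∀ z, z ∈ M → g⁻¹ * z * g ∈ M → z = 1 := by
    intro z hz hzg
    by_contra hz1
    refine hg (Subgroup.inv_mem_iff _ |>.1 (Subgroup.mem_normalizer_iff.2 fun y => ?_))
    rw [inv_inv]
    exact hM.ti g z hz1 hz hzg y
  rw [← Nat.card_prod]
  refine Nat.card_le_card_of_injective (fun p : M × M => (p.1 : G) * g * p.2) ?_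
  rintro ⟨a, b⟩ ⟨a', b'⟩ h
  simp only at h
  have e : g⁻¹ * ((a' : G)⁻¹ * a) * g = b' * (b : G)⁻¹ := by
    calc g⁻¹ * ((a' : G)⁻¹ * a) * g = g⁻¹ * (a' : G)⁻¹ * ((a : G) * g * b) * (b : G)⁻¹ := by group
      _ = b' * (b : G)⁻¹ := by rw [h]; group
  have e1 := hgM _ (mul_mem (inv_mem a'.2) a.2) (e ▸ mul_mem b'.2 (inv_mem b.2))
  rw [e1] at e
  have e2 : (a : G) = a' := (inv_mul_eq_one.1 e1).symm
  have e3 : (b : G) = b' := by
    have : (b' : G) * (b : G)⁻¹ = 1 := by rw [← e]; group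
    exact (mul_inv_eq_one.1 this).symm
  exact Prod.ext (Subtype.ext e2) (Subtype.ext e3)

theorem normalizer_ne_top [IsSimpleGroup G] (hM : Rig M) :
    Subgroup.normalizer (M : Set G) ≠ ⊤ := fun h => by
  have hn : M.Normal := Subgroup.normalizer_eq_top_iff.1 h
  rcases hn.eq_bot_or_eq_top with e | e
  exacts [hM.ne_bot e, hM.ne_top e]

end Rig

variable {F : Type*} [Field F]

/-- A subgroup with all `mk (uu t)` and all `mk (ll t)` is everything. -/
theorem eq_top_of_mk_uu_ll {K : Subgroup PSL(2, F)} (h₁ : ∀ t, mk (uu t) ∈ K)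
    (h₂ : ∀ t, mk (ll t) ∈ K) : K = ⊤ := by
  refine eq_top_iff.2 fun x _ => ?_
  obtain ⟨g, rfl⟩ := mk_surjective x
  have : K.comap mk = ⊤ := eq_top_of_uu_ll h₁ h₂
  exact Subgroup.mem_comap.1 (this ▸ Subgroup.mem_top g)

/-- A proper subgroup containing the upper unitriangular group is triangular. -/
theorem mem_borel_of_uu_mem {K : Subgroup PSL(2, F)} (hK : K ≠ ⊤) (hu : ∀ t, mk (uu t) ∈ K)
    {g : SL(2, F)} (hg : mk g ∈ K) : g ∈ borel F := by
  by_contra hc
  rw [mem_borel] at hc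
  set a := g 0 0 / g 1 0
  set c := g 1 1 / g 1 0
  obtain ⟨w, hw⟩ : ∃ w, w = ww * dd (Units.mk0 (-g 1 0) (neg_ne_zero.2 hc)) := ⟨_, rfl⟩
  have hwK : mk w ∈ K := by
    have e : w = (uu a)⁻¹ * g * (uu c)⁻¹ := by
      have hb : g = uu a * w * uu c := by
        rw [hw, ← mul_assoc]
        exact bruhat g hc
      rw [eq_mul_inv_iff_mul_eq, eq_inv_mul_iff_mul_eq, hb, mul_assoc]
    rw [e, map_mul, map_mul, map_inv, map_inv]
    exact mul_mem (mul_mem (inv_mem (hu _)) hg) (inv_mem (hu _))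
  refine hK (eq_top_of_mk_uu_ll hu fun t => ?_)
  obtain ⟨s, hs⟩ : ∃ s, w * uu s * w⁻¹ = ll t := by
    refine ⟨-t / (-g 1 0) ^ 2, ?_⟩
    rw [hw, show ∀ x y z : SL(2, F), x * y * z * (x * y)⁻¹ = x * (y * z * y⁻¹) * x⁻¹ from
      fun x y z => by group, dd_conj_uu, ww_conj_uu, Units.val_mk0]
    congr 1
    field_simp
  rw [← hs, map_mul, map_mul, map_inv]
  exact mul_mem (mul_mem hwK (hu s)) (inv_mem hwK)

variable [Fintype F] {M : Subgroup PSL(2, F)}

/-- No rigid subgroup meets the unipotent elements in odd characteristic. -/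
theorem Rig.uu_not_mem (h4 : 4 ≤ Fintype.card F) (h2 : (2 : F) ≠ 0) (hM : Rig M) {s : F}
    (hs : s ≠ 0) : mk (uu s) ∉ M := by
  intro h
  have := psl_isSimpleGroup h4
  obtain ⟨hc1, hc2⟩ := ll_witness h2 hs
  have hl : mk (ll (-4 / s)) ∈ M :=
    hM.mem_of_isConj h (mk_uu_ne_one hs) h (inv_mem h) hc1 hc2
  have h4' : (4 : F) ≠ 0 := by
    rw [show (4 : F) = 2 * 2 by norm_num]; exact mul_ne_zero h2 h2
  refine hM.normalizer_ne_top (eq_top_of_mk_uu_ll (fun t => ?_) fun t => ?_)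
  · exact hM.mem_normalizer h (mk_uu_ne_one hs) (Commute.map (by
      show uu t * uu s = uu s * uu t
      rw [uu_mul_uu, uu_mul_uu, add_comm]) mk)
  · refine hM.mem_normalizer hl (fun e => ?_) (Commute.map (by
      show ll t * ll _ = ll _ * ll t
      rw [ll_mul_ll, ll_mul_ll, add_comm]) mk)
    rcases mk_eq_one.1 e with e | e
    · exact div_ne_zero (neg_ne_zero.2 h4') hs (ll_injective (e.trans ll_zero.symm))
    · have := congrArg (fun m : SL(2, F) => m 1 0) e
      simp at this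
      exact hs (this.resolve_left h4')

/-- No rigid subgroup has non-central unipotents in odd characteristic. -/
theorem Rig.unipotent_not_mem (h4 : 4 ≤ Fintype.card F) (h2 : (2 : F) ≠ 0) (hM : Rig M)
    (k : SL(2, F)) {s : F} (hs : s ≠ 0) : mk (k * uu s * k⁻¹) ∉ M := fun h => by
  refine (hM.map_conj (mk k)⁻¹).uu_not_mem h4 h2 hs ?_
  rw [Subgroup.mem_map_equiv, MulAut.conj_symm_apply]
  simpa using h

/-- A rigid subgroup contains the involutions commuting with one of its own. -/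
theorem Rig.involution_mem (hM : Rig M) {x y : PSL(2, F)} (hx : x ∈ M) (hx2 : orderOf x = 2)
    (hy2 : orderOf y = 2) (hc : Commute x y) : y ∈ M := by
  by_cases hxy : x = y
  · exact hxy ▸ hx
  have hx' : x * x = 1 := by
    have := pow_orderOf_eq_one x
    rwa [hx2, pow_two] at this
  have hy' : y * y = 1 := by
    have := pow_orderOf_eq_one y
    rwa [hy2, pow_two] at this
  have hxy2 : orderOf (x * y) = 2 := by
    refine orderOf_eq_prime ?_ fun e => hxy ?_
    · rw [pow_two, hc.symm.mul_mul_mul_comm, hx', hy', one_mul]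
    · calc x = x * (y * y) := by rw [hy', mul_one]
        _ = y := by rw [← mul_assoc, e, one_mul]
  exact hM.mem_of_isConj hx (fun e => by simp [e] at hx2) hx hx (psl_involutions_isConj hx2 hy2)
    (psl_involutions_isConj hx2 hxy2)

/-- No rigid subgroup has even order for odd `q`. -/
theorem Rig.no_involution (h4 : 4 ≤ Fintype.card F) (h5 : Fintype.card F ≠ 5) (h2 : (2 : F) ≠ 0)
    (hM : Rig M) {x : PSL(2, F)} (hx : x ∈ M) (hx2 : orderOf x = 2) : False := by
  have := psl_isSimpleGroup h4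
  obtain ⟨p, hc⟩ := CharP.exists F
  have := Fact.mk (CharP.char_is_prime F p)
  obtain ⟨n, hn, ⟨e⟩⟩ := dihedral_centralizer_involution h2 hx2
  obtain ⟨k, hk⟩ := odd_card_iff.2 h2
  have hn3 : 3 ≤ n := by omega
  have hone : (1 : ZMod n) ≠ 0 := by
    have : Fact (1 < n) := ⟨by omega⟩
    exact one_ne_zero
  have htwo : (2 : ZMod n) ≠ 0 := by
    rw [show (2 : ZMod n) = ((2 : ℕ) : ZMod n) by norm_cast, Ne, ZMod.natCast_eq_zero_iff]
    intro h
    have := Nat.le_of_dvd two_pos h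
    omega
  -- centralisers of the involutions of `M` lie in `M`
  have hcent : ∀ z, z ∈ M → orderOf z = 2 →
      Subgroup.centralizer ({z} : Set PSL(2, F)) ≤ M := by
    intro z hz hz2 w hw
    obtain ⟨m, -, ⟨f⟩⟩ := dihedral_centralizer_involution h2 hz2
    have hrefl : ∀ i, ((f.symm (DihedralGroup.sr i)) : PSL(2, F)) ∈ M := fun i => by
      refine hM.involution_mem hz hz2 ?_ ?_
      · rw [Subgroup.orderOf_coe, MulEquiv.orderOf_eq, DihedralGroup.orderOf_sr]
      · exact (Subgroup.mem_centralizer_singleton_iff.1 (f.symm (DihedralGroup.sr i)).2).symm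
    rw [← Subgroup.coe_mk _ w hw, ← f.symm_apply_apply ⟨w, hw⟩]
    rcases f ⟨w, hw⟩ with i | i
    · rw [show DihedralGroup.r i = DihedralGroup.sr 0 * DihedralGroup.sr i by simp, map_mul,
        Subgroup.coe_mul]
      exact mul_mem (hrefl _) (hrefl _)
    · exact hrefl i
  obtain ⟨y, hy⟩ : ∃ y, y = ((e.symm (DihedralGroup.sr 0)) : PSL(2, F)) := ⟨_, rfl⟩
  have hy2 : orderOf y = 2 := by
    rw [hy, Subgroup.orderOf_coe, MulEquiv.orderOf_eq, DihedralGroup.orderOf_sr]
  have hyM : y ∈ M := hM.involution_mem hx hx2 hy2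
    (Subgroup.mem_centralizer_singleton_iff.1 (hy ▸ (e.symm (DihedralGroup.sr 0)).2)).symm
  have hCx := hcent x hx hx2
  have hCy := hcent y hyM hy2
  have hnot : ¬ Subgroup.centralizer ({x} : Set PSL(2, F)) ≤ Subgroup.centralizer {y} := by
    intro hle
    have hcomm := Subgroup.mem_centralizer_singleton_iff.1
      (hle (e.symm (DihedralGroup.r 1)).2)
    rw [hy, ← Subgroup.coe_mul, ← Subgroup.coe_mul, ← map_mul, ← map_mul] at hcomm
    have := e.symm.injective (Subtype.ext hcomm)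
    rw [DihedralGroup.sr_mul_r, DihedralGroup.r_mul_sr] at this
    have := DihedralGroup.sr.inj this
    exact htwo (by linear_combination -this)
  by_cases hsmall : Fintype.card F ∈ ({2, 3, 5, 7, 9, 11} : Finset ℕ)
  · have hsq := hM.card_sq_le hM.normalizer_ne_top
    have hdC := Subgroup.card_dvd_of_le hCx
    have hlt : Nat.card (Subgroup.centralizer ({x} : Set PSL(2, F))) < Nat.card M := by
      by_contra hc'
      have := Subgroup.eq_of_le_of_card_ge hCx (not_lt.1 hc')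
      obtain ⟨a1, a2⟩ := card_centralizer_involution h2 hx2
      obtain ⟨b1, b2⟩ := card_centralizer_involution h2 hy2
      refine hnot (le_of_eq (Subgroup.eq_of_le_of_card_ge (this ▸ hCy) (le_of_eq ?_)).symm)
      rcases (show Fintype.card F % 4 = 1 ∨ Fintype.card F % 4 = 3 by omega) with hm | hm
      · rw [a1 hm, b1 hm]
      · rw [a2 hm, b2 hm]
    have hdG := M.card_subgroup_dvd_card
    rw [card_PSL] at hdG hsq
    obtain ⟨a1, a2⟩ := card_centralizer_involution h2 hx2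
    simp only [Finset.mem_insert, Finset.mem_singleton] at hsmall
    rcases hsmall with h | h | h | h | h | h <;> try omega
    · rw [h] at hdG hsq a2; rw [a2 (by norm_num)] at hdC hlt
      norm_num at hdG hsq hdC hlt
      obtain ⟨j, hj⟩ := hdC
      rw [hj] at hlt hsq hdG
      have : j ≤ 2 := by nlinarith
      interval_cases j <;> omega
    · rw [h] at hdG hsq a1; rw [a1 (by norm_num)] at hdC hlt
      norm_num at hdG hsq hdC hlt
      obtain ⟨j, hj⟩ := hdC
      rw [hj] at hlt hsq hdG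
      have : j ≤ 2 := by nlinarith
      interval_cases j <;> omega
    · rw [h] at hdG hsq a2; rw [a2 (by norm_num)] at hdC hlt
      norm_num at hdG hsq hdC hlt
      obtain ⟨j, hj⟩ := hdC
      rw [hj] at hlt hsq hdG
      have : j ≤ 2 := by nlinarith
      interval_cases j <;> omega
  · obtain ⟨g, rfl, hg, -⟩ := exists_tr_eq_zero hx2
    have ht := tr_sq_ne_four_of_tr_eq_zero h2 hg
    have hd : Nat.gcd 2 (Fintype.card F - 1) = 2 := Nat.gcd_eq_left ⟨k, by omega⟩
    obtain ⟨c1, c2⟩ := card_cent_of_tr_zero h2 hg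
    simp only [Finset.mem_insert, Finset.mem_singleton, not_or] at hsmall
    have hco := isCoatom_normalizer_torus p ht rfl (by
      rw [card_map_cent_eq]
      simp only [Finset.mem_insert, Finset.mem_singleton, not_or]
      rcases (show Fintype.card F % 4 = 1 ∨ Fintype.card F % 4 = 3 by omega) with hm | hm
      · exact Or.inr ⟨by rw [c1 hm], hsmall⟩
      · exact Or.inl ⟨by rw [c2 hm], by tauto⟩)
    rw [← psl_centralizer_involution h2 hg] at hco
    rcases hco.le_iff.1 hCx with hMt | hMC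
    · exact hM.ne_top hMt
    obtain ⟨a1, a2⟩ := card_centralizer_involution h2 hx2
    obtain ⟨b1, b2⟩ := card_centralizer_involution h2 hy2
    refine hnot (le_of_eq (Subgroup.eq_of_le_of_card_ge (hMC ▸ hCy) (le_of_eq ?_)).symm)
    rcases (show Fintype.card F % 4 = 1 ∨ Fintype.card F % 4 = 3 by omega) with hm | hm
    · rw [a1 hm, b1 hm]
    · rw [a2 hm, b2 hm]

/-- Without involutions and unipotent elements a subgroup is abelian. -/
theorem commute_of_semisimple {K : Subgroup PSL(2, F)}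
    (hinv : ∀ x ∈ K, orderOf x ≠ 2)
    (huni : ∀ (k : SL(2, F)) (s : F), s ≠ 0 → mk (k * uu s * k⁻¹) ∉ K) :
    ∀ a ∈ K, ∀ b ∈ K, Commute a b := by
  classical
  obtain ⟨p, hc⟩ := CharP.exists F
  have := Fact.mk (CharP.char_is_prime F p)
  have hodd : ¬ 2 ∣ Nat.card K := fun h => by
    obtain ⟨x, hx⟩ := exists_prime_orderOf_dvd_card' 2 h
    exact hinv x x.2 (by rw [Subgroup.orderOf_coe, hx])
  intro a ha b hb
  rcases dickson p K with ⟨j, -, ⟨hcyc, -⟩ | ⟨⟨e⟩⟩⟩ | ⟨P, hP⟩ | ⟨⟨e⟩⟩ | ⟨⟨e⟩⟩ | ⟨⟨e⟩⟩ |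
    ⟨L, _, _, m, -, hL⟩
  · exact congrArg Subtype.val ((IsCyclic.isMulCommutative (α := K)).is_comm.comm ⟨a, ha⟩ ⟨b, hb⟩)
  · exact absurd (by rw [Nat.card_congr e.toEquiv, DihedralGroup.nat_card]; exact dvd_mul_right _ _) hodd
  · obtain ⟨g, hg⟩ := MulAction.exists_smul_eq PSL(2, F) P (unipSylowPSL F p)
    have hP' : (P : Subgroup PSL(2, F)).map (MulAut.conj g).toMonoidHom = (unip F).map mk := by
      rw [← coe_unipSylowPSL p, ← hg]; rfl
    have hN : (Subgroup.normalizer ((P : Subgroup PSL(2, F)) : Set PSL(2, F))).map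
        (MulAut.conj g).toMonoidHom = (borel F).map mk := by
      rw [← normalizer_unip_map, ← hP']
      exact Subgroup.map_equiv_normalizer_eq _ (MulAut.conj g)
    have hmem : ∀ z ∈ K, ∃ h ∈ borel F, mk h = g * z * g⁻¹ := fun z hz =>
      Subgroup.mem_map.1 (hN ▸ Subgroup.mem_map_of_mem _ (hP hz))
    obtain ⟨u, hu, hua⟩ := hmem a ha
    obtain ⟨v, hv, hvb⟩ := hmem b hb
    obtain ⟨l, rfl⟩ := mk_surjective g
    have hmemU : u * v * u⁻¹ * v⁻¹ ∈ unip F := by
      refine mem_unip_iff_entries.2 ⟨mul_mem (mul_mem (mul_mem hu hv) (inv_mem hu)) (inv_mem hv), ?_⟩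
      have du := det_eq u
      have dv := det_eq v
      rw [mem_borel.1 hu, mul_zero, sub_zero] at du
      rw [mem_borel.1 hv, mul_zero, sub_zero] at dv
      simp only [mul00, mul10, inv00, inv10, mem_borel.1 hu, mem_borel.1 hv]
      linear_combination (v 0 0 * v 1 1) * du + dv
    obtain ⟨t, ht⟩ := mem_unip.1 hmemU
    have hab : a * b * a⁻¹ * b⁻¹ = mk (l⁻¹ * uu t * (l⁻¹)⁻¹) := by
      rw [ht]
      simp only [map_mul, map_inv, hua, hvb]
      group
    by_cases ht0 : t = 0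
    · rw [ht0, uu_zero] at hab
      simp only [mul_one, inv_inv, inv_mul_cancel, map_one] at hab
      exact commutatorElement_eq_one_iff_mul_comm.1 (by simpa [commutatorElement_def] using hab)
    · exact absurd (hab ▸ mul_mem (mul_mem (mul_mem ha hb) (inv_mem ha)) (inv_mem hb))
        (huni _ _ ht0)
  · exact absurd (by rw [Nat.card_congr e.toEquiv, nat_card_alternatingGroup, Nat.card_fin]; decide) hodd
  · exact absurd (by rw [Nat.card_congr e.toEquiv, Nat.card_perm, Nat.card_fin]; decide) hodd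
  · exact absurd (by rw [Nat.card_congr e.toEquiv, nat_card_alternatingGroup, Nat.card_fin]; decide) hodd
  · refine absurd ?_ hodd
    obtain ⟨x, hx⟩ : ∃ x : PSL(2, L), orderOf x = 2 := by
      obtain ⟨t, -⟩ := exists_isEll L
      by_cases h2 : (2 : L) = 0
      · exact ⟨mk (uu 1), orderOf_mk_eq_two (by rw [tr_uu, h2]) (uu_not_mem_center one_ne_zero)⟩
      · refine ⟨mk ww, orderOf_mk_eq_two (by simp [tr_def]) fun h => ?_⟩
        have := (mem_center_iff_entries.1 h).1
        simp at this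
    rcases hL with ⟨⟨e⟩⟩ | ⟨⟨e⟩⟩
    · rw [Nat.card_congr e.toEquiv]
      have h := orderOf_dvd_natCard x
      rwa [hx] at h
    · rw [Nat.card_congr e.toEquiv]
      have h := orderOf_dvd_natCard (Matrix.ProjectiveSpecialLinearGroup.toPGL x)
      rwa [orderOf_injective _ Matrix.ProjectiveSpecialLinearGroup.toPGL_injective x, hx] at h

/-- The semisimple elements of a commutative rigid subgroup have order three, and
`X² + X + 1` is irreducible of even characteristic. -/
theorem Rig.semisimple (h4 : 4 ≤ Fintype.card F) (hM : Rig M)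
    (hab : ∀ a ∈ M, ∀ b ∈ M, Commute a b) (hinv : ∀ x ∈ M, orderOf x ≠ 2) {g : SL(2, F)}
    (hg : mk g ∈ M) (hg4 : tr g ^ 2 ≠ 4) :
    (2 : F) = 0 ∧ (¬ ∃ ω : F, ω ^ 2 + ω + 1 = 0) ∧ tr g = 1 := by
  have hg0 : tr g ≠ 0 := fun h => hinv _ hg (orderOf_mk_eq_two h (not_mem_center_of_tr hg4))
  have key : ∀ g : SL(2, F), mk g ∈ M → tr g ^ 2 ≠ 4 → tr g ≠ 0 →
      ¬ (tr g ≠ -1 ∨ (2 : F) = 0 ∧ ∃ ω : F, ω ^ 2 + ω + 1 = 0) := by
    intro g hg hg4 hg0 hc
    obtain ⟨h, ht, htp, hne⟩ := exists_trace_witness hg4 hc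
    have hh : mk h ∈ M := hM.mem_of_isConj hg (mk_ne_one_iff.2 (not_mem_center_of_tr hg4)) hg hg
      (mk_isConj_of_tr ht.symm hg4) (by rw [← map_mul]; exact mk_isConj_of_tr htp.symm hg4)
    rcases psl_commute_iff.1 (hab _ hh _ hg) with e | e
    · exact hne (mul_inv_eq_iff_eq_mul.1 e).symm
    · have := congrArg tr e
      rw [tr_conj, tr_neg] at this
      have h20 : (2 : F) * tr g = 0 := by linear_combination this
      have h2 := (mul_eq_zero.1 h20).resolve_right hg0
      rw [neg_eq_neg_one_mul, neg_one_eq_one_iff.2 h2, one_mul] at e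
      exact hne (mul_inv_eq_iff_eq_mul.1 e).symm
  have h1 := key g hg hg4 hg0
  push Not at h1
  obtain ⟨hτ, hω⟩ := h1
  by_cases h2 : (2 : F) = 0
  · exact ⟨h2, not_exists.2 (hω h2), by rw [hτ]; linear_combination -h2⟩
  · exfalso
    have := key (-g) (by rwa [mk_neg]) (by rw [tr_neg, neg_sq]; exact hg4) (by rwa [tr_neg, neg_ne_zero])
    push Not at this
    rw [tr_neg, hτ] at this
    exact h2 (by linear_combination this.1)

/-- A rigid subgroup without involutions has order three, in even characteristic. -/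
theorem Rig.card_eq_three (h4 : 4 ≤ Fintype.card F) (hM : Rig M)
    (hinv : ∀ x ∈ M, orderOf x ≠ 2) :
    (2 : F) = 0 ∧ (¬ ∃ ω : F, ω ^ 2 + ω + 1 = 0) ∧ Nat.card M = 3 := by
  have huni : ∀ (k : SL(2, F)) (s : F), s ≠ 0 → mk (k * uu s * k⁻¹) ∉ M := by
    intro k s hs h
    by_cases h2 : (2 : F) = 0
    · refine hinv _ h ?_
      rw [orderOf_mk_conj]
      exact orderOf_mk_eq_two (by rw [tr_uu, h2]) (uu_not_mem_center hs)
    · exact hM.unipotent_not_mem h4 h2 k hs h
  have hab := commute_of_semisimple hinv huni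
  have hss : ∀ x ∈ M, x ≠ 1 → ∃ g, mk g = x ∧ tr g ^ 2 ≠ 4 := fun x hx hx1 => by
    rcases psl_cases hx1 with h | ⟨k, s, hs, rfl⟩
    · exact h
    · exact absurd hx (huni k s hs)
  obtain ⟨x, hx, hx1⟩ := (Subgroup.ne_bot_iff_exists_ne_one.1 hM.ne_bot).choose_spec |> fun h =>
    (⟨_, (Subgroup.ne_bot_iff_exists_ne_one.1 hM.ne_bot).choose.2, fun e => h (Subtype.ext e)⟩ :
      ∃ x, x ∈ M ∧ x ≠ (1 : PSL(2, F)))
  obtain ⟨g, rfl, hg4⟩ := hss x hx hx1
  obtain ⟨h2, hω, hg1⟩ := hM.semisimple h4 hab hinv hx hg4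
  refine ⟨h2, hω, ?_⟩
  -- everything lies in the cyclic centraliser, and has exponent three
  have hle : M ≤ (cent g).map mk := fun y hy => by
    rw [← psl_centralizer_eq (Or.inr h2)]
    exact Subgroup.mem_centralizer_singleton_iff.2 (hab y hy _ hx)
  have := isCyclic_map_cent hg4
  have : IsCyclic M := isCyclic_of_injective (Subgroup.inclusion hle)
    (Subgroup.inclusion_injective hle)
  have hexp : ∀ y : M, y ^ 3 = 1 := by
    intro ⟨y, hy⟩
    rcases eq_or_ne y 1 with rfl | hy1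
    · exact Subtype.ext (by simp)
    obtain ⟨u, rfl, hu4⟩ := hss y hy hy1
    obtain ⟨-, -, hu1⟩ := hM.semisimple h4 hab hinv hy hu4
    refine Subtype.ext ?_
    rw [Subgroup.coe_pow, Subgroup.coe_mk, ← map_pow, Subgroup.coe_one]
    refine mk_eq_one.2 (Or.inr ?_)
    have hd := det_eq u
    rw [tr_def] at hu1
    apply ext2 <;> simp only [pow_succ, pow_zero, one_mul, mul00, mul01, mul10, mul11] <;> simp
    · linear_combination (u 0 0 + 1) * (u 0 0 * hu1 - hd) + u 0 1 * u 1 0 * hu1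
    · linear_combination u 0 1 * ((u 0 0 + u 1 1 + 1) * hu1 - hd)
    · linear_combination u 1 0 * ((u 0 0 + u 1 1 + 1) * hu1 - hd)
    · linear_combination (u 1 1 + 1) * (u 1 1 * hu1 - hd) + u 0 1 * u 1 0 * hu1
  obtain ⟨c, hc⟩ := IsCyclic.exists_generator (α := M)
  rw [← orderOf_eq_card_of_forall_mem_zpowers hc]
  refine orderOf_eq_prime (hexp c) fun hc1 => hx1 ?_
  obtain ⟨i, hi⟩ := hc ⟨mk g, hx⟩
  have hi' := congrArg Subtype.val hi
  simpa [hc1] using hi'.symm

end Cfsg.Agent.PSL2.Binary
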