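import Cfsg.Agent.Lib.PSL2.Classes

/-!
Pairs of conjugate elements of `PSL(2, F)` with conjugate product, the witnesses against binary
actions.

* `ll_witness`: `uu s` and `ll (-4 / s)`;
* `exists_trace_witness`: non-commuting `g`, `h` with `tr g = tr h = tr (g h)`.
-/

set_option autoImplicit false

open Matrix
open scoped MatrixGroups

namespace Cfsg.Agent.PSL2

variable {F : Type*} [Field F]

/-- The matrix `(a b; c d)`. -/
def mat2 (a b c d : F) (h : a * d - b * c = 1) : SL(2, F) :=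
  ⟨!![a, b; c, d], by rw [Matrix.det_fin_two_of]; exact h⟩

@[simp] theorem mat2_00 (a b c d : F) (h) : mat2 a b c d h 0 0 = a := rfl
@[simp] theorem mat2_01 (a b c d : F) (h) : mat2 a b c d h 0 1 = b := rfl
@[simp] theorem mat2_10 (a b c d : F) (h) : mat2 a b c d h 1 0 = c := rfl
@[simp] theorem mat2_11 (a b c d : F) (h) : mat2 a b c d h 1 1 = d := rfl

/-- For `s ≠ 0` in odd characteristic, `mk (ll (-4/s))` and `mk (uu s * ll (-4/s))` are conjugate
to `mk (uu s)` and its inverse. -/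
theorem ll_witness (h2 : (2 : F) ≠ 0) {s : F} (hs : s ≠ 0) :
    IsConj (mk (uu s)) (mk (ll (-4 / s))) ∧
      IsConj (mk (uu s))⁻¹ (mk (uu s) * mk (ll (-4 / s))) := by
  constructor
  · have hu : (2 / s : F) ≠ 0 := div_ne_zero h2 hs
    refine mk.map_isConj (isConj_iff.2 ⟨ww * dd (Units.mk0 _ hu), ?_⟩)
    rw [show ww * dd (Units.mk0 _ hu) * uu s * (ww * dd (Units.mk0 _ hu))⁻¹ =
      ww * (dd (Units.mk0 _ hu) * uu s * (dd (Units.mk0 _ hu))⁻¹) * ww⁻¹ by group, dd_conj_uu,
      ww_conj_uu, Units.val_mk0]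
    congr 1
    field_simp
    ring
  · rw [← map_inv, uu_inv, ← map_mul]
    obtain ⟨k, hk⟩ : ∃ k, k = mat2 s 0 2 s⁻¹ (by simp [hs]) := ⟨_, rfl⟩
    have e : k * dd (Units.mk0 _ (inv_ne_zero hs)) * uu (-s) *
        (k * dd (Units.mk0 _ (inv_ne_zero hs)))⁻¹ = -(uu s * ll (-4 / s)) := by
      rw [show k * dd (Units.mk0 _ (inv_ne_zero hs)) * uu (-s) *
          (k * dd (Units.mk0 _ (inv_ne_zero hs)))⁻¹ =
        k * (dd (Units.mk0 _ (inv_ne_zero hs)) * uu (-s) *
          (dd (Units.mk0 _ (inv_ne_zero hs)))⁻¹) * k⁻¹ by group, dd_conj_uu, mul_inv_eq_iff_eq_mul]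
      apply ext2 <;> simp only [hk, Matrix.SpecialLinearGroup.coe_neg, Matrix.neg_apply, mul00,
        mul01, mul10, mul11] <;> simp <;> field_simp <;> first | ring1 | exact Or.inl trivial
    rw [← mk_neg (uu s * ll (-4 / s))]
    exact mk.map_isConj (isConj_iff.2 ⟨_, e⟩)

variable [Fintype F]

/-- Elements of the same regular semisimple trace are conjugate. -/
theorem mk_isConj_of_tr {g h : SL(2, F)} (ht : tr g = tr h) (h4 : tr g ^ 2 ≠ 4) :
    IsConj (mk g) (mk h) :=
  mk.map_isConj (isConj_of_tr ht h4)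

/-- The witness in companion form. -/
theorem exists_trace_witness_comp {τ : F} (h4 : τ ^ 2 ≠ 4)
    (hτ : τ ≠ -1 ∨ (2 : F) = 0 ∧ ∃ ω : F, ω ^ 2 + ω + 1 = 0) :
    ∃ g h : SL(2, F), tr g = τ ∧ tr h = τ ∧ tr (g * h) = τ ∧ g * h ≠ h * g := by
  obtain ⟨g, hg⟩ : ∃ g, g = mat2 0 (-1) 1 τ (by ring) := ⟨_, rfl⟩
  by_cases h2 : (2 : F) = 0
  · have hneg : ∀ x : F, -x = x := fun x => by linear_combination -x * h2
    by_cases h1 : τ = 1
    · subst h1
      obtain ⟨-, ω, hω⟩ := hτ.resolve_left fun h => h (by rw [hneg])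
      obtain ⟨h, hh⟩ : ∃ h, h = mat2 ω 0 ω (1 + ω) (by linear_combination hω - h2) := ⟨_, rfl⟩
      refine ⟨g, h, by simp [tr_def, hg], ?_, ?_, fun e => ?_⟩
      · simp [tr_def, hh]; linear_combination ω * h2
      · rw [tr_def, mul00, mul11]; simp [hg, hh]
      · have e' := congrArg (fun m : SL(2, F) => m 0 0) e
        simp only [mul00] at e'
        simp [hg, hh] at e'
        rw [e'] at hω
        simp at hω
    · obtain ⟨r, hr⟩ := FiniteField.isSquare_of_char_two
        (CharP.ringChar_of_prime_eq_zero Nat.prime_two (by simpa using h2)) τ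
      obtain ⟨h, hh⟩ : ∃ h, h = mat2 (1 + τ) r r 1 (by linear_combination hr) := ⟨_, rfl⟩
      refine ⟨g, h, by simp [tr_def, hg], ?_, ?_, fun e => ?_⟩
      · simp [tr_def, hh]; linear_combination h2
      · rw [tr_def, mul00, mul11]; simp [hg, hh]
      · have e' := congrArg (fun m : SL(2, F) => m 0 1) e
        simp only [mul01] at e'
        simp [hg, hh] at e'
        apply h1
        have hτ0 : τ ≠ 0 := fun h0 => h4 (by rw [h0]; linear_combination (-2 : F) * h2)
        have : τ * (1 - r) = 0 := by linear_combination e'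
        rcases mul_eq_zero.1 this with h | h
        · exact absurd h hτ0
        · rw [hr]; linear_combination (-1 - r) * h
  · have hne : τ ≠ -1 := hτ.elim id fun h => absurd h.1 h2
    have hodd : Fintype.card F % 2 = 1 := Nat.odd_iff.1 (odd_card_iff.2 h2)
    have h4' : (4 : F) ≠ 0 := by
      rw [show (4 : F) = 2 * 2 by norm_num]; exact mul_ne_zero h2 h2
    have hk : (1 - τ ^ 2 / 4 : F) ≠ 0 := fun h => h4 (by field_simp at h; linear_combination -h)
    obtain ⟨u, c, hu⟩ := FiniteField.exists_root_sum_quadratic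
      (f := (Polynomial.X ^ 2 : Polynomial F))
      (g := Polynomial.C (1 - τ ^ 2 / 4) * Polynomial.X ^ 2 +
        Polynomial.C (τ - τ ^ 2 / 2) * Polynomial.X + Polynomial.C (1 - τ ^ 2 / 4))
      (by simp) (Polynomial.degree_quadratic hk) hodd
    simp at hu
    obtain ⟨a, ha⟩ : ∃ a, a = u - τ * (c - 1) / 2 := ⟨_, rfl⟩
    obtain ⟨h, hh⟩ : ∃ h, h = mat2 a (c + τ + a * τ - τ ^ 2) c (τ - a) (by
      have h8 : (4 * 2 : F) ≠ 0 := mul_ne_zero h4' h2
      rw [ha]
      field_simp at hu ⊢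
      refine mul_left_cancel₀ h2 ?_
      linear_combination -hu) := ⟨_, rfl⟩
    refine ⟨g, h, by simp [tr_def, hg], by simp [tr_def, hh], ?_, fun e => ?_⟩
    · rw [tr_def, mul00, mul11]; simp [hg, hh]; ring
    · have e00 := congrArg (fun m : SL(2, F) => m 0 0) e
      have e01 := congrArg (fun m : SL(2, F) => m 0 1) e
      simp only [mul00, mul01] at e00 e01
      simp [hg, hh] at e00 e01
      have hp2 : τ + 2 ≠ 0 := fun h => h4 (by linear_combination (τ - 2) * h)
      have hm2 : τ - 2 ≠ 0 := fun h => h4 (by linear_combination (τ + 2) * h)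
      have hp1 : τ + 1 ≠ 0 := fun h => hne (by linear_combination h)
      have hd : a * (τ - a) - (c + τ + a * τ - τ ^ 2) * c = 1 := by
        have := det_eq h
        simpa [hh] using this
      -- `h` would be a polynomial in `g`
      have ec : (τ + 2) * c = -τ := by
        apply mul_left_cancel₀ hm2
        linear_combination (2 - τ ^ 2) * e00 + τ * e01
      have ea : (τ + 2) * a = τ * (τ + 1) := by
        apply mul_left_cancel₀ hm2
        linear_combination τ * e00 - 2 * e01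
      refine mul_ne_zero (mul_ne_zero hp2 hm2) hp1 ?_
      linear_combination (τ + 2) ^ 2 * hd -
        ((τ + 2) * τ - (τ + 2) * a - τ * (τ + 1) - (τ + 2) * c * τ) * ea -
        (-(τ + 2) * c + τ - (τ + 2) * τ + (τ + 2) * τ ^ 2 - τ ^ 2 * (τ + 1)) * ec

/-- The witness for a given element. -/
theorem exists_trace_witness {g : SL(2, F)} (h4 : tr g ^ 2 ≠ 4)
    (hτ : tr g ≠ -1 ∨ (2 : F) = 0 ∧ ∃ ω : F, ω ^ 2 + ω + 1 = 0) :
    ∃ h : SL(2, F), tr h = tr g ∧ tr (g * h) = tr g ∧ g * h ≠ h * g := by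
  obtain ⟨g', h', e1, e2, e3, e4⟩ := exists_trace_witness_comp h4 hτ
  obtain ⟨k, hk⟩ := isConj_iff.1 (isConj_of_tr e1 (e1.symm ▸ h4))
  refine ⟨k * h' * k⁻¹, by rw [tr_conj, e2], ?_, fun e => e4 ?_⟩
  · rw [← hk, show k * g' * k⁻¹ * (k * h' * k⁻¹) = k * (g' * h') * k⁻¹ by group, tr_conj, tr_conj,
      e3, e1]
  · rw [← hk] at e
    apply mul_left_cancel (a := k)
    apply mul_right_cancel (b := k⁻¹)
    calc k * (g' * h') * k⁻¹ = k * g' * k⁻¹ * (k * h' * k⁻¹) := by group
      _ = k * h' * k⁻¹ * (k * g' * k⁻¹) := e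
      _ = k * (h' * g') * k⁻¹ := by group

end Cfsg.Agent.PSL2
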