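import Cfsg.Agent.Lib.PSL2.PSLPartition

/-!
Two involutions of `PSL(2, q)` are joined to a third one by products of odd order.

For odd `q` involutions are unit vectors of a quadratic space of dimension three; the third vector
is explicit for `q ≡ 1 (mod 4)` and found by counting for `q ≡ 3 (mod 4)`.
-/

set_option autoImplicit false

open Matrix
open scoped MatrixGroups

namespace Cfsg.Agent.PSL2.InvGraph

variable {F : Type*} [Field F]

/-- The form `(1, -1, -1)`. -/
def ip (x y : F × F × F) : F := x.1 * y.1 - x.2.1 * y.2.1 - x.2.2 * y.2.2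

theorem ip_comm (x y : F × F × F) : ip x y = ip y x := by simp only [ip]; ring

/-- Unit vectors. -/
abbrev Sphere (F : Type*) [Field F] := {P : F × F × F // ip P P = 1}

/-- The element of trace zero of a unit vector. -/
def toSL (P : Sphere F) : SL(2, F) :=
  ⟨!![P.1.2.1, P.1.2.2 + P.1.1; P.1.2.2 - P.1.1, -P.1.2.1], by
    rw [Matrix.det_fin_two_of]
    have h : P.1.1 * P.1.1 - P.1.2.1 * P.1.2.1 - P.1.2.2 * P.1.2.2 = 1 := P.2
    linear_combination h⟩

@[simp] theorem toSL00 (P : Sphere F) : toSL P 0 0 = P.1.2.1 := rfl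
@[simp] theorem toSL01 (P : Sphere F) : toSL P 0 1 = P.1.2.2 + P.1.1 := rfl
@[simp] theorem toSL10 (P : Sphere F) : toSL P 1 0 = P.1.2.2 - P.1.1 := rfl
@[simp] theorem toSL11 (P : Sphere F) : toSL P 1 1 = -P.1.2.1 := rfl

theorem tr_toSL (P : Sphere F) : tr (toSL P) = 0 := by simp [tr_def]

theorem tr_mul_toSL (P R : Sphere F) : tr (toSL P * toSL R) = -2 * ip P.1 R.1 := by
  rw [tr_def, mul00, mul11]
  simp only [toSL00, toSL01, toSL10, toSL11, ip]
  ring

theorem toSL_surjective (h2 : (2 : F) ≠ 0) {g : SL(2, F)} (hg : tr g = 0) :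
    ∃ P, toSL P = g := by
  have hd := det_eq g
  rw [tr_def] at hg
  refine ⟨⟨((g 0 1 - g 1 0) / 2, g 0 0, (g 0 1 + g 1 0) / 2), ?_⟩, ?_⟩
  · simp only [ip]; field_simp
    linear_combination 4 * hd - 4 * g 0 0 * hg
  · apply ext2 <;> simp
    all_goals (try field_simp)
    all_goals (first | ring1 | linear_combination -2 * hg | linear_combination hg | linear_combination -hg)

theorem toSL_injective (h2 : (2 : F) ≠ 0) {P R : Sphere F} (h : toSL P = toSL R) : P = R := by
  have e00 := congrArg (fun m : SL(2, F) => m 0 0) h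
  have e01 := congrArg (fun m : SL(2, F) => m 0 1) h
  have e10 := congrArg (fun m : SL(2, F) => m 1 0) h
  simp only [toSL00, toSL01, toSL10] at e00 e01 e10
  refine Subtype.ext (Prod.ext ?_ (Prod.ext e00 ?_))
  · exact mul_left_cancel₀ h2 (by linear_combination e01 - e10)
  · exact mul_left_cancel₀ h2 (by linear_combination e01 + e10)

/-- Orthogonality to two vectors. -/
def cross (x y : F × F × F) : F × F × F :=
  (x.2.1 * y.2.2 - x.2.2 * y.2.1, -(x.2.2 * y.1 - x.1 * y.2.2), -(x.1 * y.2.1 - x.2.1 * y.1))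

theorem ip_cross_left (x y : F × F × F) : ip x (cross x y) = 0 := by simp only [ip, cross]; ring

theorem ip_cross_right (x y : F × F × F) : ip y (cross x y) = 0 := by simp only [ip, cross]; ring

theorem ip_cross_self (x y : F × F × F) :
    ip (cross x y) (cross x y) = ip x x * ip y y - ip x y ^ 2 := by
  simp only [ip, cross]; ring

/-- `α x + β y + γ (x × y)`. -/
def comb (x y : F × F × F) (α β γ : F) : F × F × F :=
  α • x + β • y + γ • cross x y

theorem ip_comb (x y z : F × F × F) (α β γ : F) :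
    ip z (comb x y α β γ) = α * ip z x + β * ip z y + γ * ip z (cross x y) := by
  simp only [comb, ip, Prod.fst_add, Prod.snd_add, Prod.smul_fst, Prod.smul_snd, smul_eq_mul]; ring

theorem ip_comb_self {x y : F × F × F} (hx : ip x x = 1) (hy : ip y y = 1) (α β γ : F) :
    ip (comb x y α β γ) (comb x y α β γ) =
      α ^ 2 + 2 * ip x y * α * β + β ^ 2 + γ ^ 2 * (1 - ip x y ^ 2) := by
  rw [ip_comb, ip_comm _ x, ip_comm _ y, ip_comm _ (cross x y), ip_comb, ip_comb, ip_comb, hx, hy,
    ip_cross_left, ip_cross_right, ip_comm (cross x y) x, ip_comm (cross x y) y, ip_cross_left,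
    ip_cross_right, ip_cross_self, hx, hy, ip_comm y x]
  ring

theorem comb_injective {x y : F × F × F} (hx : ip x x = 1) (hy : ip y y = 1)
    (hm : ip x y ^ 2 ≠ 1) {α β γ α' β' γ' : F}
    (h : comb x y α β γ = comb x y α' β' γ') : α = α' ∧ β = β' ∧ γ = γ' := by
  have hd : (1 : F) - ip x y ^ 2 ≠ 0 := sub_ne_zero.2 (Ne.symm hm)
  have h1 := congrArg (ip x) h
  have h2 := congrArg (ip y) h
  have h3 := congrArg (ip (cross x y)) h
  rw [ip_comb, ip_comb, hx, ip_cross_left] at h1
  rw [ip_comb, ip_comb, hy, ip_cross_right, ip_comm y x] at h2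
  rw [ip_comb, ip_comb, ip_comm (cross x y) x, ip_comm (cross x y) y, ip_cross_left, ip_cross_right,
    ip_cross_self, hx, hy, one_mul] at h3
  exact ⟨mul_left_cancel₀ hd (by linear_combination h1 - ip x y * h2),
    mul_left_cancel₀ hd (by linear_combination h2 - ip x y * h1),
    mul_left_cancel₀ hd (by linear_combination h3)⟩

/-- The relation giving products of odd order. -/
def Good (x P : F × F × F) : Prop := ∃ μ, μ ≠ 0 ∧ ip x P ^ 2 - 1 = μ ^ 2

section Count

variable [Fintype F]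

theorem isEll_zero (hi : ¬ IsSquare (-1 : F)) : IsEll (0 : F) := fun r h =>
  hi ⟨r, by linear_combination -h⟩

/-- A circle `A² + v² = c`. -/
theorem card_circle (hi : ¬ IsSquare (-1 : F)) {c : F} (hc : c ≠ 0) :
    Nat.card {p : F × F // p.1 ^ 2 + p.2 ^ 2 = c} = Fintype.card F + 1 := by
  have h := card_fibre_eq (isEll_zero hi).sq_ne_four hc
  rw [(isEll_zero hi).card_fibre] at h
  rw [← h]
  exact Nat.card_congr (Equiv.subtypeEquivRight fun p => by simp [pairNrm])

theorem card_u_good (h2 : (2 : F) ≠ 0) (hi : ¬ IsSquare (-1 : F)) :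
    2 * Nat.card {u : F // ∃ μ, μ ≠ 0 ∧ u ^ 2 - 1 = μ ^ 2} + 3 = Fintype.card F := by
  classical
  have e : Fˣ ≃ {p : F × F // p.1 ^ 2 - p.2 ^ 2 = 1} :=
    { toFun := fun a => ⟨(((a : F) + (a : F)⁻¹) / 2, ((a : F) - (a : F)⁻¹) / 2), by
        have := a.ne_zero; field_simp; ring⟩
      invFun := fun p => ⟨p.1.1 + p.1.2, p.1.1 - p.1.2, by linear_combination p.2,
        by linear_combination p.2⟩
      left_inv := fun a => Units.ext (by simp; field_simp; ring)
      right_inv := fun p => by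
        have hp : (p.1.1 + p.1.2)⁻¹ = p.1.1 - p.1.2 :=
          inv_eq_of_mul_eq_one_right (by linear_combination p.2)
        refine Subtype.ext (Prod.ext ?_ ?_) <;> simp [hp] <;> field_simp <;> ring }
  have hA : Nat.card {p : F × F // p.1 ^ 2 - p.2 ^ 2 = 1} = Fintype.card F - 1 := by
    rw [← Nat.card_congr e, GL.card_units_field]
  set G := Finset.univ.filter fun u : F => ∃ μ, μ ≠ 0 ∧ u ^ 2 - 1 = μ ^ 2
  set S := Finset.univ.filter fun p : F × F => p.1 ^ 2 - p.2 ^ 2 = 1
  have hS : S.card = Fintype.card F - 1 := by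
    rw [← hA, Nat.card_eq_fintype_card, Fintype.card_subtype]
  have h0 : S.filter (fun p => p.2 = 0) = {((1 : F), (0 : F)), (-1, 0)} := by
    ext ⟨u, μ⟩
    simp only [S, Finset.mem_filter, Finset.mem_univ, true_and, Finset.mem_insert,
      Finset.mem_singleton, Prod.mk.injEq]
    constructor
    · rintro ⟨h, rfl⟩
      rcases sq_eq_one_iff.1 (show u ^ 2 = 1 by linear_combination h) with h | h <;> simp [h]
    · rintro (⟨rfl, rfl⟩ | ⟨rfl, rfl⟩) <;> simp
  have hne : ((1 : F), (0 : F)) ≠ (-1, 0) := fun h =>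
    h2 (by linear_combination congrArg Prod.fst h)
  have hfib : (S.filter fun p => ¬ p.2 = 0).card = G.card * 2 := by
    rw [Finset.card_eq_sum_card_fiberwise (f := Prod.fst) (t := G)]
    · refine Finset.sum_const_nat fun u hu => ?_
      obtain ⟨μ, hμ, hu⟩ := (Finset.mem_filter.1 hu).2
      rw [show {p ∈ S.filter (fun p => ¬ p.2 = 0) | p.1 = u} = {(u, μ), (u, -μ)} from ?_]
      · exact Finset.card_pair fun h => hμ (by
          have := congrArg Prod.snd h
          exact (mul_eq_zero.1 (show (2 : F) * μ = 0 by linear_combination this)).resolve_left h2)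
      ext ⟨a, ν⟩
      simp only [S, Finset.mem_filter, Finset.mem_univ, true_and, Finset.mem_insert,
        Finset.mem_singleton, Prod.mk.injEq]
      constructor
      · rintro ⟨⟨h, -⟩, rfl⟩
        exact (sq_eq_sq_iff_eq_or_eq_neg.1 (show ν ^ 2 = μ ^ 2 by linear_combination hu - h)).imp
          (fun h => ⟨rfl, h⟩) fun h => ⟨rfl, h⟩
      · rintro (⟨rfl, rfl⟩ | ⟨rfl, rfl⟩)
        · exact ⟨⟨by linear_combination hu, hμ⟩, rfl⟩
        · exact ⟨⟨by linear_combination hu, neg_ne_zero.2 hμ⟩, rfl⟩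
    · rintro ⟨u, μ⟩ h
      simp only [S, Finset.mem_coe, Finset.mem_filter, Finset.mem_univ, true_and] at h
      simp only [G, Finset.mem_coe, Finset.mem_filter, Finset.mem_univ, true_and]
      exact ⟨μ, h.2, by linear_combination h.1⟩
  have hsum := Finset.card_filter_add_card_filter_not (s := S) (fun p => p.2 = 0)
  rw [h0, Finset.card_pair hne, hfib, hS] at hsum
  rw [Nat.subtype_card G (fun u => by simp [G])]
  have := one_lt_q (F := F)
  omega

theorem card_good_base (h2 : (2 : F) ≠ 0) (hi : ¬ IsSquare (-1 : F)) :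
    2 * Nat.card {P : Sphere F // Good (1, 0, 0) P.1} + 3 * (Fintype.card F + 1) =
      Fintype.card F * (Fintype.card F + 1) := by
  classical
  have e : {P : Sphere F // Good (1, 0, 0) P.1} ≃
      Σ u : {u : F // ∃ μ, μ ≠ 0 ∧ u ^ 2 - 1 = μ ^ 2},
        {p : F × F // p.1 ^ 2 + p.2 ^ 2 = u.1 ^ 2 - 1} :=
    { toFun := fun P => ⟨⟨P.1.1.1, by simpa [Good, ip] using P.2⟩, ⟨P.1.1.2, by
        have := P.1.2; simp only [ip] at this; linear_combination -this⟩⟩
      invFun := fun s => ⟨⟨(s.1.1, s.2.1), by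
        have := s.2.2; simp only [ip]; linear_combination -this⟩, by
        simpa [Good, ip] using s.1.2⟩
      left_inv := fun P => rfl
      right_inv := fun s => rfl }
  rw [Nat.card_congr e, Nat.card_sigma, Finset.sum_congr rfl (fun u _ => card_circle hi (c := u.1 ^ 2 - 1)
    (by obtain ⟨μ, hμ, h⟩ := u.2; rw [h]; exact pow_ne_zero 2 hμ)), Finset.sum_const,
    Finset.card_univ, ← Nat.card_eq_fintype_card, smul_eq_mul]
  have h := card_u_good (F := F) h2 hi
  rw [← mul_assoc, ← add_mul, h]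

theorem card_sphere (h2 : (2 : F) ≠ 0) (hi : ¬ IsSquare (-1 : F)) :
    Nat.card (Sphere F) + Fintype.card F = Fintype.card F * Fintype.card F := by
  classical
  have e : Sphere F ≃ Σ u : F, {p : F × F // p.1 ^ 2 + p.2 ^ 2 = u ^ 2 - 1} :=
    { toFun := fun P => ⟨P.1.1, ⟨P.1.2, by
        have := P.2; simp only [ip] at this; linear_combination -this⟩⟩
      invFun := fun s => ⟨(s.1, s.2.1), by
        have := s.2.2; simp only [ip]; linear_combination -this⟩
      left_inv := fun P => rfl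
      right_inv := fun s => rfl }
  rw [Nat.card_congr e, Nat.card_sigma]
  have hone : ∀ u : F, u ^ 2 - 1 = 0 → Nat.card {p : F × F // p.1 ^ 2 + p.2 ^ 2 = u ^ 2 - 1} = 1 := by
    intro u hu
    refine Nat.card_eq_one_iff_unique.2 ⟨⟨?_⟩, ⟨⟨(0, 0), by simp [hu]⟩⟩⟩
    have key : ∀ p : F × F, p.1 ^ 2 + p.2 ^ 2 = u ^ 2 - 1 → p = 0 := fun p hp => by
      by_contra h0
      exact (isEll_zero hi).pairNrm_ne_zero h0 (by rw [pairNrm]; linear_combination hp + hu)
    rintro ⟨a, ha⟩ ⟨b, hb⟩
    exact Subtype.ext ((key a ha).trans (key b hb).symm)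
  have hval : ∀ u : F, Nat.card {p : F × F // p.1 ^ 2 + p.2 ^ 2 = u ^ 2 - 1} +
      (if u ^ 2 - 1 = 0 then Fintype.card F else 0) = Fintype.card F + 1 := by
    intro u
    split_ifs with hu
    · rw [hone u hu]; omega
    · rw [card_circle hi hu]
  have hs := Finset.sum_congr rfl fun u (_ : u ∈ (Finset.univ : Finset F)) => hval u
  rw [Finset.sum_add_distrib, Finset.sum_const, Finset.card_univ, Finset.sum_ite,
    Finset.sum_const_zero, add_zero, Finset.sum_const, smul_eq_mul, smul_eq_mul] at hs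
  rw [show (Finset.univ.filter fun u : F => u ^ 2 - 1 = 0) = {1, -1} by
    ext u; simp [sub_eq_zero, sq_eq_one_iff], Finset.card_pair (fun h => h2 (by linear_combination h))] at hs
  linarith

theorem card_good (h2 : (2 : F) ≠ 0) (x : Sphere F) :
    Nat.card {P : Sphere F // Good x.1 P.1} = Nat.card {P : Sphere F // Good (1, 0, 0) P.1} := by
  obtain ⟨k, hk⟩ := isConj_iff.1 (isConj_of_tr (g := toSL ⟨((1, 0, 0) : F × F × F), by simp [ip]⟩)
    (h := toSL x) ((tr_toSL _).trans (tr_toSL x).symm)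
    (tr_sq_ne_four_of_tr_eq_zero h2 (tr_toSL _)))
  have hmap : ∀ k : SL(2, F), ∀ P : Sphere F, ∃ R, toSL R = k * toSL P * k⁻¹ := fun k P =>
    toSL_surjective h2 (by rw [tr_conj, tr_toSL])
  choose f hf using hmap
  have hip : ∀ k P R, ip (f k P).1 (f k R).1 = ip P.1 R.1 := fun k P R => by
    refine mul_left_cancel₀ (neg_ne_zero.2 h2) ?_
    rw [← tr_mul_toSL, ← tr_mul_toSL, hf, hf,
      show k * toSL P * k⁻¹ * (k * toSL R * k⁻¹) = k * (toSL P * toSL R) * k⁻¹ by group, tr_conj]
  have hinv : ∀ k P, f k⁻¹ (f k P) = P := fun k P => toSL_injective h2 (by rw [hf, hf]; group)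
  let e : Sphere F ≃ Sphere F :=
    ⟨f k, f k⁻¹, hinv k, fun P => by simpa using hinv k⁻¹ P⟩
  symm
  refine Nat.card_congr (e.subtypeEquiv fun P => ?_)
  have hx : f k ⟨((1, 0, 0) : F × F × F), by simp [ip]⟩ = x := toSL_injective h2 (by rw [hf, hk])
  rw [Good, Good]
  conv_rhs => rw [← hx]
  simp [e, hip]

/-- A bisector `α (x + y) + γ (x × y)` with `α γ ≠ 0`. -/
theorem exists_bisector (h2 : (2 : F) ≠ 0) (h7 : 7 ≤ Fintype.card F) {m d : F} (hd : d ≠ 0)
    (hm : 1 - m ^ 2 = d ^ 2) :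
    ∃ α γ : F, α ≠ 0 ∧ γ ≠ 0 ∧ 2 * α ^ 2 * (1 + m) + γ ^ 2 * (1 - m ^ 2) = 1 := by
  classical
  have h1m : 2 * (1 + m) ≠ 0 := by
    refine mul_ne_zero h2 fun h => hd (pow_eq_zero_iff two_ne_zero |>.1 ?_)
    linear_combination (1 - m) * h - hm
  set a := 2 * (1 + m) with ha
  -- avoid the bad parameters
  obtain ⟨r, hr0, hrp, hrm⟩ : ∃ r : F, r ≠ 0 ∧ 1 + a * r ^ 2 ≠ 0 ∧ 1 - a * r ^ 2 ≠ 0 := by
    by_contra h
    push Not at h
    let B : Finset F := {0} ∪ (Finset.univ.filter fun r => r ^ 2 = -a⁻¹) ∪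
      (Finset.univ.filter fun r => r ^ 2 = a⁻¹)
    have hsq : ∀ c : F, (Finset.univ.filter fun r : F => r ^ 2 = c).card ≤ 2 := by
      intro c
      by_cases hc : ∃ r, r ^ 2 = c
      · obtain ⟨r, rfl⟩ := hc
        refine (Finset.card_le_card (t := {r, -r}) ?_).trans Finset.card_le_two
        intro s hs
        simpa [sq_eq_sq_iff_eq_or_eq_neg] using hs
      · rw [Finset.filter_false_of_mem fun r _ hr => hc ⟨r, hr⟩]; simp
    have hB : B = Finset.univ := Finset.eq_univ_of_forall fun r => by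
      simp only [B, Finset.mem_union, Finset.mem_singleton, Finset.mem_filter, Finset.mem_univ,
        true_and]
      rcases eq_or_ne r 0 with hr | hr
      · exact Or.inl (Or.inl hr)
      by_cases hp : 1 + a * r ^ 2 = 0
      · exact Or.inl (Or.inr (by field_simp; linear_combination hp))
      · exact Or.inr (by field_simp; linear_combination -(h r hr hp))
    have : B.card ≤ 5 := (Finset.card_union_le _ _).trans (by
      have := Finset.card_union_le ({0} : Finset F) (Finset.univ.filter fun r => r ^ 2 = -a⁻¹)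
      have := hsq (-a⁻¹); have := hsq a⁻¹
      simp only [Finset.card_singleton] at *
      omega)
    rw [hB, Finset.card_univ] at this
    omega
  refine ⟨2 * r / (1 + a * r ^ 2), (1 - a * r ^ 2) / (1 + a * r ^ 2) / d,
    div_ne_zero (mul_ne_zero h2 hr0) hrp, div_ne_zero (div_ne_zero hrm hrp) hd, ?_⟩
  rw [hm, show 2 * (2 * r / (1 + a * r ^ 2)) ^ 2 * (1 + m) = a * (2 * r / (1 + a * r ^ 2)) ^ 2 by
    rw [ha]; ring]
  field_simp
  ring

/-- Points of the plane of `x, y` and the normal. -/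
theorem card_plane {m : F} (he : IsEll (2 * m)) :
    Nat.card {p : F × F // p.1 ^ 2 + 2 * m * p.1 * p.2 + p.2 ^ 2 = 1} = Fintype.card F + 1 := by
  rw [← he.card_fibre]
  exact Nat.card_congr (Equiv.subtypeEquivRight fun p => by simp [pairNrm])

theorem exists_common_three (h2 : (2 : F) ≠ 0) (hi : ¬ IsSquare (-1 : F)) (h7 : 7 ≤ Fintype.card F)
    (x y : Sphere F) (hns : ¬ IsSquare (ip x.1 y.1 ^ 2 - 1)) :
    ∃ P : Sphere F, Good x.1 P.1 ∧ Good y.1 P.1 := by
  classical
  set m := ip x.1 y.1 with hm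
  have hm1 : m ^ 2 ≠ 1 := fun h => hns ⟨0, by linear_combination h⟩
  obtain ⟨d, hd⟩ : IsSquare (1 - m ^ 2) := by
    have hF : ringChar F ≠ 2 := fun hc => h2 (by
      rw [← Nat.cast_ofNat, ← hc]; exact ringChar.Nat.cast_ringChar)
    by_contra h
    have e : ((m ^ 2 - 1) / (1 - m ^ 2)) = -1 := by
      have : (1 : F) - m ^ 2 ≠ 0 := sub_ne_zero.2 (Ne.symm hm1)
      field_simp; ring
    have q1 := (quadraticChar_neg_one_iff_not_isSquare (a := m ^ 2 - 1)).2 hns
    have q2 := (quadraticChar_neg_one_iff_not_isSquare (a := 1 - m ^ 2)).2 h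
    have q3 := (quadraticChar_neg_one_iff_not_isSquare (a := (-1 : F))).2 hi
    rw [show m ^ 2 - 1 = -1 * (1 - m ^ 2) by ring, map_mul, q2, q3] at q1
    norm_num at q1
  rw [← pow_two] at hd
  have hd0 : d ≠ 0 := fun h => hm1 (by rw [h] at hd; linear_combination -hd)
  have hell : IsEll (2 * m) := fun r hr => hns ⟨r - m, by linear_combination -hr⟩
  obtain ⟨α, γ, hα, hγ, hαγ⟩ := exists_bisector h2 h7 hd0 hd
  let Pb : Sphere F := ⟨comb x.1 y.1 α α γ, by
    rw [ip_comb_self x.2 y.2, ← hm]; linear_combination hαγ⟩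
  have hxb : ip x.1 Pb.1 = ip y.1 Pb.1 := by
    simp only [Pb]
    rw [ip_comb, ip_comb, x.2, y.2, ip_cross_left, ip_cross_right, ip_comm y.1 x.1]; ring
  by_cases hb : Good x.1 Pb.1
  · exact ⟨Pb, hb, by unfold Good at hb ⊢; rwa [← hxb]⟩
  by_contra hnone
  push Not at hnone
  -- vectors good for neither
  let Pl := {p : F × F // p.1 ^ 2 + 2 * m * p.1 * p.2 + p.2 ^ 2 = 1}
  let f : Pl ⊕ (Bool ⊕ Unit) → Sphere F := fun s => match s with
    | Sum.inl p => ⟨comb x.1 y.1 p.1.1 p.1.2 0, by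
        rw [ip_comb_self x.2 y.2, ← hm]; linear_combination p.2⟩
    | Sum.inr (Sum.inl b) => ⟨comb x.1 y.1 0 0 (if b then d⁻¹ else -d⁻¹), by
        rw [ip_comb_self x.2 y.2, ← hm, hd]
        cases b <;> simp <;> field_simp⟩
    | Sum.inr (Sum.inr _) => Pb
  have hfinj : Function.Injective f := by
    have key : ∀ {α β γ α' β' γ' : F}, comb x.1 y.1 α β γ = comb x.1 y.1 α' β' γ' →
        α = α' ∧ β = β' ∧ γ = γ' := fun h => comb_injective x.2 y.2 hm1 h
    have hd' : d⁻¹ ≠ 0 := inv_ne_zero hd0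
    have hpm : d⁻¹ ≠ -d⁻¹ := fun h =>
      hd' ((mul_eq_zero.1 (show (2 : F) * d⁻¹ = 0 by linear_combination h)).resolve_left h2)
    rintro (p | b | u) (p' | b' | u') h
    all_goals have h' := congrArg Subtype.val h
    · obtain ⟨e1, e2, -⟩ := key h'
      exact congrArg Sum.inl (Subtype.ext (Prod.ext e1 e2))
    · obtain ⟨-, -, e⟩ := key h'
      cases b' <;> simp at e <;> first | exact absurd e hd0 | exact absurd e.symm hd0
    · obtain ⟨-, -, e⟩ := key h'
      exact absurd e.symm hγ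
    · obtain ⟨-, -, e⟩ := key h'
      cases b <;> simp at e <;> first | exact absurd e hd0 | exact absurd e.symm hd0
    · obtain ⟨-, -, e⟩ := key h'
      cases b <;> cases b'
      · rfl
      · exact absurd e.symm hpm
      · exact absurd e hpm
      · rfl
    · obtain ⟨e, -, -⟩ := key h'
      exact absurd e.symm hα
    · obtain ⟨-, -, e⟩ := key h'
      exact absurd e hγ
    · obtain ⟨e, -, -⟩ := key h'
      exact absurd e hα
    · rfl
  have hfbad : ∀ s, ¬ Good x.1 (f s).1 ∧ ¬ Good y.1 (f s).1 := by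
    have hbad : ∀ β : F, ¬ ∃ μ, μ ≠ 0 ∧ β ^ 2 * (m ^ 2 - 1) = μ ^ 2 := by
      rintro β ⟨μ, hμ, e⟩
      have hβ : β ≠ 0 := by rintro rfl; exact hμ (pow_eq_zero_iff two_ne_zero |>.1 (by linear_combination -e))
      exact hns ⟨μ / β, by field_simp; linear_combination e⟩
    have hzero : ¬ ∃ μ, μ ≠ 0 ∧ (0 : F) ^ 2 - 1 = μ ^ 2 := by
      rintro ⟨μ, -, e⟩
      exact hi ⟨μ, by linear_combination e⟩
    rintro (p | b | u)
    · have e1 : ip x.1 (f (Sum.inl p)).1 ^ 2 - 1 = p.1.2 ^ 2 * (m ^ 2 - 1) := by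
        simp only [f]
        rw [ip_comb, x.2, ip_cross_left, ← hm]
        linear_combination p.2
      have e2 : ip y.1 (f (Sum.inl p)).1 ^ 2 - 1 = p.1.1 ^ 2 * (m ^ 2 - 1) := by
        simp only [f]
        rw [ip_comb, y.2, ip_cross_right, ip_comm y.1 x.1, ← hm]
        linear_combination p.2
      unfold Good
      rw [e1, e2]
      exact ⟨hbad _, hbad _⟩
    · have e1 : ip x.1 (f (Sum.inr (Sum.inl b))).1 = 0 := by
        simp [f, ip_comb, ip_cross_left]
      have e2 : ip y.1 (f (Sum.inr (Sum.inl b))).1 = 0 := by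
        simp [f, ip_comb, ip_cross_right]
      unfold Good
      rw [e1, e2]
      exact ⟨hzero, hzero⟩
    · refine ⟨hb, ?_⟩
      show ¬ Good y.1 Pb.1
      unfold Good at hb ⊢
      rwa [← hxb]
  have : Fintype (Sphere F) := Fintype.ofFinite _
  let g : {P : Sphere F // Good x.1 P.1} ⊕ ({P : Sphere F // Good y.1 P.1} ⊕
      (Pl ⊕ (Bool ⊕ Unit))) → Sphere F := Sum.elim Subtype.val (Sum.elim Subtype.val f)
  have hginj : Function.Injective g := by
    rintro (P | P | s) (R | R | t) h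
    · exact congrArg Sum.inl (Subtype.ext h)
    · exact absurd R.2 (hnone _ ((show P.1 = R.1 from h) ▸ P.2))
    · exact absurd ((show P.1 = f t from h) ▸ P.2) (hfbad t).1
    · exact absurd P.2 (hnone _ ((show P.1 = R.1 from h).symm ▸ R.2))
    · exact congrArg (Sum.inr ∘ Sum.inl) (Subtype.ext h)
    · exact absurd ((show P.1 = f t from h) ▸ P.2) (hfbad t).2
    · exact absurd ((show R.1 = f s from h.symm) ▸ R.2) (hfbad s).1
    · exact absurd ((show R.1 = f s from h.symm) ▸ R.2) (hfbad s).2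
    · exact congrArg (Sum.inr ∘ Sum.inr) (hfinj h)
  have hle := Nat.card_le_card_of_injective g hginj
  rw [Nat.card_sum, Nat.card_sum, Nat.card_sum, Nat.card_sum, card_good h2 x, card_good h2 y,
    card_plane hell, Nat.card_unique (α := Unit)] at hle
  rw [Nat.card_eq_fintype_card (α := Bool), Fintype.card_bool] at hle
  have hb1 := card_good_base (F := F) h2 hi
  have hb2 := card_sphere (F := F) h2 hi
  nlinarith

/-- The explicit neighbour for `q ≡ 1 (mod 4)`. -/
theorem exists_common_one {i : F} (hi : i * i = -1)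
    (x y : Sphere F) (hm : ip x.1 y.1 ^ 2 ≠ 1) :
    ∃ P : Sphere F, ip x.1 P.1 = 1 ∧ ip y.1 P.1 = 1 := by
  set m := ip x.1 y.1 with hmdef
  have h1 : 1 + m ≠ 0 := fun h => hm (by linear_combination (m - 1) * h)
  refine ⟨⟨comb x.1 y.1 (1 / (1 + m)) (1 / (1 + m)) (i / (1 + m)), ?_⟩, ?_, ?_⟩
  · rw [ip_comb_self x.2 y.2, ← hmdef]
    field_simp
    linear_combination (1 - m ^ 2) * hi
  · rw [ip_comb, x.2, ip_cross_left, ← hmdef]; field_simp; ring
  · rw [ip_comb, y.2, ip_cross_right, ip_comm y.1 x.1, ← hmdef]; field_simp; ring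

end Count

section PSL

variable [Fintype F]

theorem odd_orderOf_split (h2 : (2 : F) ≠ 0) (hi : ¬ IsSquare (-1 : F)) {g : SL(2, F)} {μ : F}
    (hμ : μ ≠ 0) (h : tr g ^ 2 - 4 = (2 * μ) ^ 2) : Odd (orderOf (mk g)) := by
  have h4 : tr g ^ 2 ≠ 4 := fun e => by
    rw [e, sub_self] at h
    exact mul_ne_zero h2 hμ (pow_eq_zero_iff two_ne_zero |>.1 h.symm)
  have hne : ¬ IsEll (tr g) := fun he => he ((tr g + 2 * μ) / 2) (by
    field_simp; linear_combination -h)
  have hcard : Nat.card (cent g) = Fintype.card F - 1 := by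
    rcases trichotomy (not_mem_center_of_tr h4) with ⟨k, a, ha, rfl⟩ | ⟨k, s, hs, rfl | rfl⟩ | ht
    · rw [card_cent_conj, cent_dd ha, card_torus']
    · exact absurd (by rw [tr_conj, tr_uu]; norm_num) h4
    · exact absurd (by rw [tr_neg, tr_conj, tr_uu]; norm_num) h4
    · exact absurd ht hne
  obtain ⟨k, hk⟩ := odd_card_iff.2 h2
  have hd : Nat.gcd 2 (Fintype.card F - 1) = 2 := Nat.gcd_eq_left ⟨k, by omega⟩
  have hmod : Fintype.card F % 4 = 3 := by
    by_contra hmod
    exact hi (FiniteField.isSquare_neg_one_iff.2 hmod)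
  have hdvd := orderOf_dvd_natCard
    (⟨mk g, Subgroup.mem_map_of_mem mk (mem_cent.2 (Commute.refl g))⟩ : (cent g).map mk)
  rw [Subgroup.orderOf_mk, card_map_cent_eq, hd, hcard] at hdvd
  exact Odd.of_dvd_nat (Nat.odd_iff.2 (by omega)) hdvd

theorem odd_orderOf_parabolic (h2 : (2 : F) ≠ 0) {g : SL(2, F)} (h : tr g ^ 2 = 4) :
    Odd (orderOf (mk g)) := by
  by_cases hg : g ∈ Subgroup.center SL(2, F)
  · rw [mk_eq_one.2 (mem_center_iff_pm.1 hg), orderOf_one]; exact odd_one
  obtain ⟨k, hk⟩ := parabolic_of_tr hg h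
  obtain ⟨j, hj⟩ := odd_card_iff.2 h2
  have hd : Nat.gcd 2 (Fintype.card F - 1) = 2 := Nat.gcd_eq_left ⟨j, by omega⟩
  have hdvd := orderOf_dvd_natCard
    (⟨mk g, Subgroup.mem_map_of_mem mk (mem_cent.2 (Commute.refl g))⟩ : (cent g).map mk)
  rw [Subgroup.orderOf_mk, card_map_cent_eq, hd, hk, Part.Partition.card_map_conj, card_pmUnip, hd,
    Nat.mul_div_cancel_left _ two_pos] at hdvd
  exact Odd.of_dvd_nat (odd_card_iff.2 h2) hdvd

/-- Involutions are at distance at most two. -/
theorem exists_odd_common (h4 : 4 ≤ Fintype.card F) {x y : PSL(2, F)} (hx : orderOf x = 2)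
    (hy : orderOf y = 2) (hxy : x ≠ y) :
    Odd (orderOf (x * y)) ∨ ∃ z, orderOf z = 2 ∧ z ≠ x ∧ z ≠ y ∧
      Odd (orderOf (x * z)) ∧ Odd (orderOf (z * y)) := by
  by_cases h2 : (2 : F) = 0
  · -- non-commuting involutions have products of odd order
    have hadj : ∀ a b : PSL(2, F), orderOf a = 2 → orderOf b = 2 → a * b ≠ b * a →
        Odd (orderOf (a * b)) := by
      intro a b ha hb hab
      obtain ⟨g, rfl, hg, -⟩ := exists_tr_eq_zero ha
      obtain ⟨h, rfl, hh, -⟩ := exists_tr_eq_zero hb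
      rw [← map_mul]
      by_cases ht : tr (g * h) = 0
      · exfalso
        apply hab
        have e1 := sq_eq_neg_one_of_tr_eq_zero hg
        have e2 := sq_eq_neg_one_of_tr_eq_zero hh
        have e3 := sq_eq_neg_one_of_tr_eq_zero ht
        rw [neg_one_eq_one_iff.2 h2] at e1 e2 e3
        rw [← map_mul, ← map_mul]
        congr 1
        have : (g * h)⁻¹ = g * h := inv_eq_of_mul_eq_one_left e3
        rw [_root_.mul_inv_rev, inv_eq_of_mul_eq_one_left e1, inv_eq_of_mul_eq_one_left e2] at this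
        exact this.symm
      · have h4' : tr (g * h) ^ 2 ≠ 4 := by
          rw [show (4 : F) = 2 * 2 by norm_num, h2, mul_zero]; exact pow_ne_zero 2 ht
        obtain ⟨k, hk⟩ := even_card_iff.2 h2
        have hd : Nat.gcd 2 (Fintype.card F - 1) = 1 := by
          rw [Nat.gcd_rec, show (Fintype.card F - 1) % 2 = 1 by omega]; rfl
        have hdvd := orderOf_dvd_natCard (⟨mk (g * h), Subgroup.mem_map_of_mem mk
          (mem_cent.2 (Commute.refl (g * h)))⟩ : (cent (g * h)).map mk)
        rw [Subgroup.orderOf_mk, card_map_cent_eq, hd, Nat.div_one] at hdvd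
        refine Odd.of_dvd_nat ?_ hdvd
        rcases card_cent_of_tr h4' with e | e <;> rw [e, Nat.odd_iff] <;> omega
    by_cases hc : x * y = y * x
    swap
    · exact Or.inl (hadj x y hx hy hc)
    right
    have hcomm : ∀ a b c : PSL(2, F), a ≠ 1 → a * b = b * a → a * c = c * a → b * c = c * b := by
      intro a b c ha hb hc'
      obtain ⟨g, rfl⟩ := mk_surjective a
      obtain ⟨u, rfl⟩ := mk_surjective b
      obtain ⟨v, rfl⟩ := mk_surjective c
      have key : ∀ u, mk g * mk u = mk u * mk g → Commute u g := fun u e => by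
        have hmem : mk u ∈ Subgroup.centralizer ({mk g} : Set PSL(2, F)) :=
          Subgroup.mem_centralizer_singleton_iff.2 e.symm
        rw [psl_centralizer_eq (Or.inr h2), mk_mem_map_iff (center_le_cent g)] at hmem
        exact mem_cent.1 hmem
      rw [← map_mul, ← map_mul, (cent_comm (mk_ne_one_iff.1 ha) (key u hb) (key v hc')).eq]
    have hu : orderOf (mk (uu (1 : F))) = 2 :=
      orderOf_mk_eq_two (by rw [tr_uu, h2]) (uu_not_mem_center one_ne_zero)
    have hl : orderOf (mk (ww * uu (1 : F) * ww⁻¹)) = 2 :=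
      orderOf_mk_eq_two (by rw [tr_conj, tr_uu, h2]) (fun h => uu_not_mem_center (F := F)
        one_ne_zero (by
          have := Subgroup.Normal.conj_mem inferInstance _ h ww⁻¹
          simpa [mul_assoc] using this))
    have hne1 : ∀ {a : PSL(2, F)}, orderOf a = 2 → a ≠ 1 := fun h e => by simp [e] at h
    obtain ⟨z, hz, hxz⟩ : ∃ z, orderOf z = 2 ∧ x * z ≠ z * x := by
      by_contra h
      push Not at h
      have e := hcomm x _ _ (hne1 hx) (h _ hu) (h _ hl)
      rw [← map_mul, ← map_mul, ww_conj_uu] at e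
      rcases mk_eq_mk.1 e with e | e <;> have := congrArg (fun m : SL(2, F) => m 0 0) e <;>
        simp [mul00, Matrix.mul_apply, Fin.sum_univ_two] at this

    have hyz : y * z ≠ z * y := fun e => hxz (hcomm y x z (hne1 hy) hc.symm e)
    exact ⟨z, hz, fun e => hxz (by rw [e]), fun e => hyz (by rw [e]), hadj x z hx hz hxz,
      hadj z y hz hy (Ne.symm hyz)⟩
  -- odd characteristic
  obtain ⟨g, rfl, hg, -⟩ := exists_tr_eq_zero hx
  obtain ⟨h, rfl, hh, -⟩ := exists_tr_eq_zero hy
  obtain ⟨X, rfl⟩ := toSL_surjective h2 hg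
  obtain ⟨Y, rfl⟩ := toSL_surjective h2 hh
  have htr : ∀ P R : Sphere F, tr (toSL P * toSL R) ^ 2 - 4 = 4 * (ip P.1 R.1 ^ 2 - 1) := fun P R => by
    rw [tr_mul_toSL]; ring
  have hord : ∀ P : Sphere F, orderOf (mk (toSL P)) = 2 := fun P =>
    orderOf_mk_eq_two (tr_toSL P) (not_mem_center_of_tr
      (tr_sq_ne_four_of_tr_eq_zero h2 (tr_toSL P)))
  have hneg : ∀ P R : Sphere F, mk (toSL P) = mk (toSL R) → ∀ Q : Sphere F,
      ip Q.1 P.1 ^ 2 = ip Q.1 R.1 ^ 2 := by
    intro P R e Q
    refine mul_left_cancel₀ (mul_ne_zero h2 h2) ?_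
    rw [show (2 * 2 : F) * ip Q.1 P.1 ^ 2 = (-2 * ip Q.1 P.1) ^ 2 by ring,
      show (2 * 2 : F) * ip Q.1 R.1 ^ 2 = (-2 * ip Q.1 R.1) ^ 2 by ring, ← tr_mul_toSL, ← tr_mul_toSL]
    rcases mk_eq_mk.1 e with e | e <;> rw [e]
    rw [mul_neg, tr_neg]; ring
  by_cases hpar : ip X.1 Y.1 ^ 2 = 1
  · left
    rw [← map_mul]
    exact odd_orderOf_parabolic h2 (by linear_combination htr X Y + 4 * hpar)
  by_cases hi : IsSquare (-1 : F)
  · obtain ⟨i, hi⟩ := hi
    obtain ⟨P, h1, h1'⟩ := exists_common_one hi.symm X Y hpar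
    refine Or.inr ⟨mk (toSL P), hord P, fun e => hpar ?_, fun e => hpar ?_, ?_, ?_⟩
    · have := hneg P X e Y; rw [h1', ip_comm Y.1 X.1] at this; linear_combination -this
    · have := hneg P Y e X; rw [h1] at this; linear_combination -this
    · rw [← map_mul]
      exact odd_orderOf_parabolic h2 (by rw [tr_mul_toSL, h1]; ring)
    · rw [← map_mul]
      exact odd_orderOf_parabolic h2 (by rw [tr_mul_toSL, ip_comm, h1']; ring)
  have hsplit : ∀ P R : Sphere F, Good P.1 R.1 → Odd (orderOf (mk (toSL P) * mk (toSL R))) := by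
    rintro P R ⟨μ, hμ, e⟩
    rw [← map_mul]
    exact odd_orderOf_split h2 hi hμ (by rw [htr, e]; ring)
  have h7 : 7 ≤ Fintype.card F := by
    have hmod : Fintype.card F % 4 = 3 := by
      by_contra hmod
      exact hi (FiniteField.isSquare_neg_one_iff.2 hmod)
    omega
  by_cases hsq : IsSquare (ip X.1 Y.1 ^ 2 - 1)
  · obtain ⟨μ, hμ⟩ := hsq
    exact Or.inl (hsplit X Y ⟨μ, fun h => hpar (by rw [h] at hμ; linear_combination hμ),
      by linear_combination hμ⟩)
  obtain ⟨P, hP1, hP2⟩ := exists_common_three h2 hi h7 X Y hsq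
  have hP2' : Good P.1 Y.1 := by unfold Good at hP2 ⊢; rwa [ip_comm]
  refine Or.inr ⟨mk (toSL P), hord P, fun e => ?_, fun e => ?_, hsplit X P hP1, hsplit P Y hP2'⟩
  · obtain ⟨μ, hμ, hμe⟩ := hP1
    have := hneg P X e X
    rw [X.2] at this
    exact hμ (pow_eq_zero_iff two_ne_zero |>.1 (by linear_combination this - hμe))
  · obtain ⟨μ, hμ, hμe⟩ := hP2
    have := hneg P Y e Y
    rw [Y.2] at this
    exact hμ (pow_eq_zero_iff two_ne_zero |>.1 (by linear_combination this - hμe))

/-- A commuting pair of distinct involutions. -/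
theorem exists_commuting_pair (h4 : 4 ≤ Fintype.card F) :
    ∃ x y : PSL(2, F), orderOf x = 2 ∧ orderOf y = 2 ∧ x ≠ y ∧ orderOf (x * y) = 2 := by
  by_cases h2 : (2 : F) = 0
  · classical
    obtain ⟨s, hs⟩ : ∃ s : F, s ∉ ({0, 1} : Finset F) := by
      by_contra h
      push Not at h
      have : Fintype.card F ≤ 2 := (Finset.card_le_card (s := Finset.univ) fun a _ => h a).trans
        Finset.card_le_two
      omega
    simp only [Finset.mem_insert, Finset.mem_singleton, not_or] at hs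
    have hu : ∀ t : F, t ≠ 0 → orderOf (mk (uu t)) = 2 := fun t ht =>
      orderOf_mk_eq_two (by rw [tr_uu, h2]) (uu_not_mem_center ht)
    refine ⟨mk (uu 1), mk (uu s), hu 1 one_ne_zero, hu s hs.1, fun e => hs.2 ?_, ?_⟩
    · exact (uu_injective (mk_injOn_unip (uu_mem_unip _) (uu_mem_unip _) e)).symm
    · rw [← map_mul, uu_mul_uu]
      exact hu _ fun h => hs.2 (by linear_combination h - h2)
  · obtain ⟨g, hg⟩ : ∃ g : SL(2, F), tr g = 0 := ⟨ell 0, by simp⟩
    have hg4 := tr_sq_ne_four_of_tr_eq_zero h2 hg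
    obtain ⟨w, hw⟩ := exists_inverting hg4
    have htrw : tr w = 0 := tr_eq_zero_of_sq_eq_neg_one (sq_eq_neg_one_of_inverting hg4 hw)
    have hwc := not_mem_cent_of_inverting hg4 hw
    have hgwe : w * g = -(g * w) := by
      have e := mul_inv_eq_iff_eq_mul.1 hw
      rwa [inv_eq_neg_of_tr_eq_zero hg, neg_mul] at e
    have hsq : g * w * (g * w) = -1 := by
      rw [show g * w * (g * w) = g * (w * g) * w by group, hgwe, mul_neg, neg_mul,
        show g * (g * w) * w = (g * g) * (w * w) by group, sq_eq_neg_one_of_tr_eq_zero hg,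
        sq_eq_neg_one_of_tr_eq_zero htrw]
      simp
    refine ⟨mk g, mk w, orderOf_mk_eq_two hg (not_mem_center_of_tr hg4), orderOf_mk_eq_two htrw
      (not_mem_center_of_tr (tr_sq_ne_four_of_tr_eq_zero h2 htrw)), fun e => hwc ?_, ?_⟩
    · exact (mk_mem_map_iff (center_le_cent g)).1
        (e ▸ Subgroup.mem_map_of_mem mk (mem_cent.2 (Commute.refl g)))
    · rw [← map_mul]
      refine orderOf_mk_eq_two (tr_eq_zero_of_sq_eq_neg_one hsq) fun hc => hwc ?_
      refine mem_cent.2 ?_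
      have : Commute (g * w) g := (Subgroup.mem_center_iff.1 hc g).symm
      have h' : g * w * g = g * (g * w) := this.eq
      rw [mul_assoc] at h'
      exact mul_left_cancel h'

end PSL

end Cfsg.Agent.PSL2.InvGraph
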