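import Cfsg.Agent.Lib.PSL2.Klein
import Cfsg.Agent.Lib.PSL2.Sylow
import Cfsg.Agent.Lib.GL.Basic

/-!
Maximality criteria from Dickson's list: groups above a subgroup with nonabelian derived group, or
with a four-group of commutators, can only be `A₄`, `S₄`, `A₅` or subfield groups.
-/

set_option autoImplicit false

open Matrix
open scoped MatrixGroups commutatorElement

namespace Cfsg.Agent.PSL2.Maximal

variable {F : Type*} [Field F] [Fintype F]

/-- Dickson's list, as in the classification of the subgroups of `PSL(2, F)`. -/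
def IsDicksonType (p : ℕ) (H : Subgroup PSL(2, F)) : Prop :=
  (∃ k : ℕ, (k ∣ (Fintype.card F + 1) / Nat.gcd 2 (Fintype.card F - 1) ∨ k ∣ (Fintype.card F - 1) / Nat.gcd 2 (Fintype.card F - 1)) ∧ ((IsCyclic H ∧ Nat.card H = k) ∨ Nonempty (H ≃* DihedralGroup k))) ∨ (∃ (P : Sylow p PSL(2, F)) (K : Subgroup PSL(2, F)), K ≤ Subgroup.normalizer ((P : Subgroup PSL(2, F)) : Set PSL(2, F)) ∧ Nonempty (H ≃* K)) ∨ Nonempty (H ≃* alternatingGroup (Fin 4)) ∨ Nonempty (H ≃* Equiv.Perm (Fin 4)) ∨ Nonempty (H ≃* alternatingGroup (Fin 5)) ∨ (∃ (K : Type) (_ : Field K) (_ : Fintype K) (m : ℕ), Fintype.card K ^ m = Fintype.card F ∧ (Nonempty (H ≃* Matrix.ProjectiveSpecialLinearGroup (Fin 2) K) ∨ Nonempty (H ≃* Matrix.ProjGenLinGroup (Fin 2) K)))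

/-- Two commutators either commute-and-are-not-two-involutions. -/
def Tame (p : ℕ) (G : Type*) [Group G] : Prop :=
  ∀ a b c d : G, Commute ⁅a, b⁆ ⁅c, d⁆ ∧
    (p ≠ 2 → orderOf ⁅a, b⁆ = 2 → orderOf ⁅c, d⁆ = 2 → ⁅a, b⁆ = ⁅c, d⁆)

theorem tame_of_injective {p : ℕ} {G K : Type*} [Group G] [Group K] (f : G →* K)
    (hf : Function.Injective f) (h : Tame p K) : Tame p G := by
  intro a b c d
  obtain ⟨hc, he⟩ := h (f a) (f b) (f c) (f d)
  rw [← map_commutatorElement, ← map_commutatorElement] at hc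
  refine ⟨(hf (by simpa only [map_mul] using hc.eq) : _ = _), fun hp h1 h2 => hf ?_⟩
  rw [map_commutatorElement, map_commutatorElement]
  exact he hp (by rw [← map_commutatorElement, orderOf_injective f hf, h1])
    (by rw [← map_commutatorElement, orderOf_injective f hf, h2])

theorem tame_dihedral (p k : ℕ) [NeZero k] : Tame p (DihedralGroup k) := by
  have hc : ∀ a b : DihedralGroup k, ∃ i, ⁅a, b⁆ = DihedralGroup.r i := by
    rintro (i | i) (j | j) <;> simp [commutatorElement_def]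
    all_goals exact ⟨0, rfl⟩
  intro a b c d
  obtain ⟨i, hi⟩ := hc a b
  obtain ⟨j, hj⟩ := hc c d
  rw [hi, hj]
  refine ⟨by simp [Commute, SemiconjBy, add_comm], fun _ h1 h2 => ?_⟩
  have key : ∀ i : ZMod k, orderOf (DihedralGroup.r i) = 2 → 2 * i.val = k := by
    intro i h
    have h2 := pow_orderOf_eq_one (DihedralGroup.r i)
    rw [h, pow_two, DihedralGroup.r_mul_r, DihedralGroup.one_def, DihedralGroup.r.injEq] at h2
    have hi0 : i ≠ 0 := by rintro rfl; simp [← DihedralGroup.one_def] at h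
    exact ((ZMod.neg_eq_self_iff i).1 (neg_eq_of_add_eq_zero_left h2)).resolve_left hi0
  rw [show i = j from ZMod.val_injective k (by have := key i h1; have := key j h2; omega)]

theorem tame_cyclic (p : ℕ) (G : Type*) [Group G] (h : IsCyclic G) : Tame p G := by
  intro a b c d
  haveI := h
  have he : ∀ a b : G, ⁅a, b⁆ = 1 := fun a b =>
    commutatorElement_eq_one_iff_mul_comm.2 (IsMulCommutative.is_comm.comm a b)
  rw [he, he]
  exact ⟨Commute.refl _, fun _ _ _ => rfl⟩

theorem tame_borel (p : ℕ) [Fact p.Prime] [CharP F p] (P : Sylow p PSL(2, F)) :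
    Tame p (Subgroup.normalizer ((P : Subgroup PSL(2, F)) : Set PSL(2, F))) := by
  obtain ⟨g, hg⟩ := MulAction.exists_smul_eq PSL(2, F) P (unipSylowPSL F p)
  let e := MulEquiv.subgroupMap (MulAut.conj g)
    (Subgroup.normalizer ((P : Subgroup PSL(2, F)) : Set PSL(2, F)))
  have hN : (Subgroup.normalizer ((P : Subgroup PSL(2, F)) : Set PSL(2, F))).map (MulAut.conj g) ≤
      (borel F).map mk := by
    refine (Subgroup.le_normalizer_map _).trans ?_
    have hP : (P : Subgroup PSL(2, F)).map (MulAut.conj g).toMonoidHom = (unip F).map mk := by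
      rw [← coe_unipSylowPSL p, ← hg]; rfl
    intro x hx
    rw [← MonoidHom.coe_coe] at hx
    replace hx : x ∈ Subgroup.normalizer (((unip F).map mk : Subgroup PSL(2, F)) : Set PSL(2, F)) := by
      rw [← hP]; exact hx
    obtain ⟨s, rfl⟩ := mk_surjective x
    obtain ⟨u, hu, hu'⟩ := (Subgroup.mem_normalizer_iff.1 hx (mk (uu 1))).1
      (Subgroup.mem_map_of_mem mk (uu_mem_unip 1))
    refine Subgroup.mem_map_of_mem mk ?_
    obtain ⟨t, rfl⟩ := mem_unip.1 hu
    rw [← map_inv, ← map_mul, ← map_mul, mk_eq_mk] at hu'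
    rcases hu' with h | h
    · exact uu_conj_mem_borel one_ne_zero h.symm
    · have h10 := congrArg (fun x : SL(2, F) => x 1 0) h
      simp [Matrix.mul_apply, Fin.sum_univ_two, Matrix.adjugate_fin_two] at h10
      rw [mem_borel]
      exact sq_eq_zero_iff.1 (by linear_combination -h10)
  have hb : Tame p ((borel F).map mk) := by
    have hab : ∀ a b : (borel F).map mk, ∃ t, ((⁅a, b⁆ : (borel F).map mk) : PSL(2, F)) = mk (uu t) := by
      rintro ⟨_, a, ha, rfl⟩ ⟨_, b, hb, rfl⟩
      have hmem : ⁅a, b⁆ ∈ unip F := by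
        rw [mem_unip_iff_entries]
        have ha0 := mem_borel.1 ha
        have hb0 := mem_borel.1 hb
        have hda := det_eq a
        have hdb := det_eq b
        rw [ha0, mul_zero, sub_zero] at hda
        rw [hb0, mul_zero, sub_zero] at hdb
        refine ⟨(borel F).mul_mem ((borel F).mul_mem ((borel F).mul_mem ha hb) ((borel F).inv_mem ha))
          ((borel F).inv_mem hb), ?_⟩
        rw [commutatorElement_def]
        simp only [mul00, mul01, mul10, mul11, inv00, inv01, inv10, inv11, ha0, hb0]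
        linear_combination (b 0 0 * b 1 1) * hda + hdb
      obtain ⟨t, ht⟩ := mem_unip.1 hmem
      exact ⟨t, by rw [ht, map_commutatorElement]; rfl⟩
    intro a b c d
    obtain ⟨s, hs⟩ := hab a b
    obtain ⟨t, ht⟩ := hab c d
    refine ⟨Subtype.ext ?_, fun hp h1 => ?_⟩
    · show (⁅a, b⁆ : (borel F).map mk).1 * (⁅c, d⁆ : (borel F).map mk).1 = _ * _
      rw [hs, ht, ← map_mul, ← map_mul, uu_mul_uu, uu_mul_uu, add_comm]
    · rw [← Subgroup.orderOf_coe, hs] at h1
      by_cases h0 : s = 0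
      · simp [h0] at h1
      · rw [orderOf_mk_uu p h0] at h1
        exact absurd h1 hp
  exact tame_of_injective ((Subgroup.inclusion hN).comp e.toMonoidHom)
    ((Subgroup.inclusion_injective hN).comp e.injective) hb

/-- Above a non-tame subgroup only the exceptional and subfield shapes remain. -/
theorem cases_of_not_tame (p : ℕ) [Fact p.Prime] [CharP F p] {H K : Subgroup PSL(2, F)}
    (hD : IsDicksonType p K) (hle : H ≤ K) (hH : ¬ Tame p H) :
    Nonempty (K ≃* alternatingGroup (Fin 4)) ∨ Nonempty (K ≃* Equiv.Perm (Fin 4)) ∨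
      Nonempty (K ≃* alternatingGroup (Fin 5)) ∨
      (∃ (L : Type) (_ : Field L) (_ : Fintype L) (m : ℕ), Fintype.card L ^ m = Fintype.card F ∧
        (Nonempty (K ≃* Matrix.ProjectiveSpecialLinearGroup (Fin 2) L) ∨
          Nonempty (K ≃* Matrix.ProjGenLinGroup (Fin 2) L))) := by
  rcases hD with ⟨k, hk, hcd⟩ | ⟨P, N, hN, ⟨e⟩⟩ | h | h | h | h
  · refine absurd (tame_of_injective (Subgroup.inclusion hle) (Subgroup.inclusion_injective hle) ?_) hH
    rcases hcd with ⟨hc, -⟩ | ⟨⟨e⟩⟩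
    · exact tame_cyclic p K hc
    · have : NeZero k := ⟨fun h0 => by
        subst h0
        have : Finite (DihedralGroup 0) := Finite.of_equiv _ e.toEquiv
        exact not_finite (DihedralGroup 0)⟩
      exact tame_of_injective e.toMonoidHom e.injective (tame_dihedral p k)
  · exact absurd (tame_of_injective
      ((Subgroup.inclusion hN).comp (e.toMonoidHom.comp (Subgroup.inclusion hle)))
      ((Subgroup.inclusion_injective hN).comp (e.injective.comp (Subgroup.inclusion_injective hle)))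
      (tame_borel p P)) hH
  · exact Or.inl h
  · exact Or.inr (Or.inl h)
  · exact Or.inr (Or.inr (Or.inl h))
  · exact Or.inr (Or.inr (Or.inr h))

theorem not_tame_alternatingFour {p : ℕ} (hp : p ≠ 2) : ¬ Tame p (alternatingGroup (Fin 4)) := by
  intro h
  have hex : ∃ a b c d : alternatingGroup (Fin 4), ⁅a, b⁆ ≠ 1 ∧ ⁅a, b⁆ ^ 2 = 1 ∧ ⁅c, d⁆ ≠ 1 ∧
      ⁅c, d⁆ ^ 2 = 1 ∧ ⁅a, b⁆ ≠ ⁅c, d⁆ := by decide +kernel
  obtain ⟨a, b, c, d, h1, h1', h2, h2', hne⟩ := hex
  exact hne ((h a b c d).2 hp (orderOf_eq_prime h1' h1) (orderOf_eq_prime h2' h2))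

theorem not_tame_of_not_solvable (p : ℕ) {G : Type*} [Group G] (hG : commutator G = ⊤)
    (hne : ∃ a b : G, a * b ≠ b * a) : ¬ Tame p G := by
  intro h
  obtain ⟨a, b, hab⟩ := hne
  apply hab
  have hall : ∀ x ∈ commutator G, ∀ y ∈ commutator G, x * y = y * x := by
    intro x hx y hy
    rw [commutator_eq_closure] at hx hy
    induction hx, hy using Subgroup.closure_induction₂ with
    | mem x y hx hy => obtain ⟨_, _, rfl⟩ := hx; obtain ⟨_, _, rfl⟩ := hy; exact (h _ _ _ _).1
    | one_left => simp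
    | one_right => simp
    | mul_left x y z _ _ _ h1 h2 => rw [mul_assoc, h2, ← mul_assoc, h1, mul_assoc]
    | mul_right x y z _ _ _ h1 h2 => rw [← mul_assoc, h1, mul_assoc, h2, mul_assoc]
    | inv_left x y _ _ h1 => exact (Commute.inv_left h1).eq
    | inv_right x y _ _ h1 => exact (Commute.inv_right h1).eq
  exact hall a (hG ▸ Subgroup.mem_top a) b (hG ▸ Subgroup.mem_top b)

theorem card_lt_of_lt {G : Type*} [Group G] [Finite G] {H K : Subgroup G} (h : H < K) :
    Nat.card H < Nat.card K := by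
  by_contra hc
  exact h.ne (Subgroup.eq_of_le_of_card_ge h.le (not_lt.1 hc))

theorem card_lt_of_ne_top {G : Type*} [Group G] [Finite G] {K : Subgroup G} (h : K ≠ ⊤) :
    Nat.card K < Nat.card G := by
  rw [← Subgroup.card_top (G := G)]
  exact card_lt_of_lt (lt_top_iff_ne_top.2 h)

/-- `(p^(2b) - 1) ∣ 2(p^(2a) - 1)` forces `b ∣ a`. -/
theorem dvd_of_sq_sub_one_dvd {p a b : ℕ} (hp : 2 ≤ p) (hb : 0 < b)
    (h : p ^ (2 * b) - 1 ∣ 2 * (p ^ (2 * a) - 1)) : b ∣ a := by
  have h' : p ^ (2 * b) - 1 ∣ 2 * (p ^ (2 * Nat.gcd a b) - 1) := by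
    rw [← Nat.gcd_mul_left 2 a b, ← Nat.pow_sub_one_gcd_pow_sub_one, ← Nat.gcd_mul_left]
    exact Nat.dvd_gcd h (dvd_mul_left _ _)
  by_contra hab
  obtain ⟨c, hc⟩ := Nat.gcd_dvd_right a b
  have hg : 0 < Nat.gcd a b := Nat.gcd_pos_of_pos_right _ hb
  have hc2 : 2 * Nat.gcd a b ≤ b := by
    rcases c with _ | _ | c
    · omega
    · refine absurd ?_ hab
      rw [hc]; simpa using Nat.gcd_dvd_left a b
    · nlinarith
  have h1 : p ^ (2 * Nat.gcd a b) ≤ p ^ b := Nat.pow_le_pow_right (by omega) hc2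
  have h2 : 2 ≤ p ^ b := hp.trans (Nat.le_self_pow (by omega) p)
  have h3 := Nat.le_of_dvd (by
    have : 1 < p ^ (2 * Nat.gcd a b) := Nat.one_lt_pow (by omega) (by omega)
    omega) h'
  rw [mul_comm 2 b, pow_mul, pow_two] at h3
  have h4 : 2 ^ 2 ≤ p ^ (2 * Nat.gcd a b) :=
    (Nat.pow_le_pow_left hp 2).trans (Nat.pow_le_pow_right (by omega) (by omega))
  have : 4 * p ^ b ≤ p ^ b * p ^ b := Nat.mul_le_mul_right _ (by omega)
  omega

end Cfsg.Agent.PSL2.Maximal
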