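import Cfsg.Agent.Lib.PSL2.Conjugate

/-!
All subgroups `A₄` (resp. `S₄`) of `PSL(2, F)`, `q` odd, are conjugate under `PGL(2, F)`, and lie in
`PSL(2, K)` up to conjugation as soon as `K` contains the trace data; likewise for `A₅`.
-/

set_option autoImplicit false

open Matrix
open scoped MatrixGroups

namespace Cfsg.Agent.PSL2.Conjugate

variable {F : Type*} [Field F]

theorem cube_entries (g : SL(2, F)) :
    (g * g * g) 0 1 = (tr g ^ 2 - 1) * g 0 1 ∧ (g * g * g) 1 0 = (tr g ^ 2 - 1) * g 1 0 ∧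
      (g * g * g) 0 0 - (g * g * g) 1 1 = (tr g ^ 2 - 1) * (g 0 0 - g 1 1) := by
  have hd := det_eq g
  simp only [mul00, mul01, mul10, mul11, tr_def]
  refine ⟨?_, ?_, ?_⟩
  · linear_combination (-(g 0 1)) * hd
  · linear_combination (-(g 1 0)) * hd
  · linear_combination (-(g 0 0 - g 1 1)) * hd

theorem exists_lift_three {x : PSL(2, F)} (hx : orderOf x = 3) :
    ∃ Y : SL(2, F), mk Y = x ∧ tr Y = 1 := by
  obtain ⟨g, rfl⟩ := mk_surjective x
  have hg : g ∉ Subgroup.center SL(2, F) := by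
    intro hc
    rw [orderOf_eq_one_iff.2 (mk_eq_one.2 (mem_center_iff_pm.1 hc))] at hx
    omega
  have h3 := pow_orderOf_eq_one (mk g)
  rw [hx, pow_succ, pow_two, ← map_mul, ← map_mul, mk_eq_one, ← mem_center_iff_pm,
    mem_center_iff_entries] at h3
  obtain ⟨e01, e10, e00⟩ := h3
  obtain ⟨c01, c10, c00⟩ := cube_entries g
  rw [c01] at e01
  rw [c10] at e10
  have ht : tr g ^ 2 - 1 = 0 := by
    by_contra ht
    refine hg (mem_center_iff_entries.2 ⟨(mul_eq_zero.1 e01).resolve_left ht,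
      (mul_eq_zero.1 e10).resolve_left ht, ?_⟩)
    have h : (tr g ^ 2 - 1) * (g 0 0 - g 1 1) = 0 := by rw [← c00, e00, sub_self]
    exact sub_eq_zero.1 ((mul_eq_zero.1 h).resolve_left ht)
  rcases mul_eq_zero.1 (show (tr g - 1) * (tr g + 1) = 0 by linear_combination ht) with h | h
  · exact ⟨g, rfl, by linear_combination h⟩
  · exact ⟨-g, mk_neg g, by rw [tr_neg]; linear_combination -h⟩

theorem tr_sq_of_orderOf_four {g : SL(2, F)} (h : orderOf (mk g) = 4) : tr g ^ 2 = 2 := by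
  have h2 : orderOf (mk (g * g)) = 2 := by
    rw [map_mul, ← pow_two, orderOf_pow' _ (by norm_num), h]; rfl
  obtain ⟨g', e, h0, -⟩ := exists_tr_eq_zero h2
  have h00 : tr (g * g) = 0 := by
    rcases mk_eq_mk.1 e with e | e
    · rw [← e, h0]
    · rw [e, tr_neg] at h0; exact neg_eq_zero.1 h0
  rw [tr_mul_self] at h00
  linear_combination h00

theorem golden_of_orderOf {g : SL(2, F)} (hx : orderOf (mk g) = 5) :
    tr g ^ 2 = tr g + 1 ∨ (-tr g) ^ 2 = -tr g + 1 := by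
  have hg : g ∉ Subgroup.center SL(2, F) := by
    intro hc
    rw [orderOf_eq_one_iff.2 (mk_eq_one.2 (mem_center_iff_pm.1 hc))] at hx
    omega
  have h5 := pow_orderOf_eq_one (mk g)
  rw [hx, ← map_pow, mk_eq_one, ← mem_center_iff_pm, mem_center_iff_entries] at h5
  have e : ∀ i j, (g ^ 5) i j = (tr g ^ 4 - 3 * tr g ^ 2 + 1) * g i j
      - (tr g ^ 3 - 2 * tr g) * (1 : Matrix (Fin 2) (Fin 2) F) i j := by
    intro i j
    rw [show ((g ^ 5 : SL(2, F)) : Matrix (Fin 2) (Fin 2) F) = (g : Matrix (Fin 2) (Fin 2) F) ^ 5 from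
      Matrix.SpecialLinearGroup.coe_pow g 5, coe_pow_five]
    rfl
  obtain ⟨h01, h10, h00⟩ := h5
  rw [e] at h01 h10
  rw [e, e] at h00
  simp at h01 h10 h00
  have hP : tr g ^ 4 - 3 * tr g ^ 2 + 1 = 0 := by
    by_contra hP
    refine hg (mem_center_iff_entries.2 ⟨?_, ?_, ?_⟩)
    · exact h01.resolve_left hP
    · exact h10.resolve_left hP
    · exact h00.resolve_right hP
  rcases mul_eq_zero.1 (show (tr g ^ 2 - tr g - 1) * (tr g ^ 2 + tr g - 1) = 0 by
    linear_combination hP) with h | h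
  · exact Or.inl (by linear_combination h)
  · exact Or.inr (by linear_combination h)

/-- A pair of generators `(X, Y)` with traces `0, 1, s`. -/
def IsGenPair (M : Subgroup PSL(2, F)) (X Y : SL(2, F)) (s : F) : Prop :=
  Subgroup.closure {mk X, mk Y} = M ∧ tr X = 0 ∧ tr Y = 1 ∧ tr (X * Y) = s

theorem IsGenPair.flip {M : Subgroup PSL(2, F)} {X Y : SL(2, F)} {s : F} (h : IsGenPair M X Y s) :
    IsGenPair M (-X) Y (-s) := by
  obtain ⟨h1, h2, h3, h4⟩ := h
  exact ⟨by rw [mk_neg, h1], by rw [tr_neg, h2, neg_zero], h3, by rw [neg_mul, tr_neg, h4]⟩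

theorem exists_genPair {M : Subgroup PSL(2, F)} {x y : PSL(2, F)} (hgen : Subgroup.closure {x, y} = M)
    (hx : orderOf x = 2) (hy : orderOf y = 3) :
    ∃ (X Y : SL(2, F)) (s : F), IsGenPair M X Y s ∧ mk X = x ∧ mk Y = y := by
  obtain ⟨X, rfl, hX, -⟩ := exists_tr_eq_zero hx
  obtain ⟨Y, rfl, hY⟩ := exists_lift_three hy
  exact ⟨X, Y, _, ⟨hgen, hX, hY, rfl⟩, rfl, rfl⟩

/-- Generators of a group, transported along an isomorphism onto a subgroup. -/
theorem exists_gens_of_iso {G P : Type*} [Group G] [Group P] {M : Subgroup G} (e : M ≃* P) {a b : P}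
    (hab : Subgroup.closure {a, b} = ⊤) :
    ∃ x y : G, Subgroup.closure {x, y} = M ∧ orderOf x = orderOf a ∧ orderOf y = orderOf b ∧
      orderOf (x * y) = orderOf (a * b) := by
  refine ⟨(e.symm a : M), (e.symm b : M), ?_, ?_, ?_, ?_⟩
  · have h := congrArg (Subgroup.map (M.subtype.comp e.symm.toMonoidHom)) hab
    rw [MonoidHom.map_closure, Set.image_pair, ← MonoidHom.range_eq_map, MonoidHom.range_comp,
      MonoidHom.range_eq_top.2 e.symm.surjective, ← MonoidHom.range_eq_map, Subgroup.range_subtype] at h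
    exact h
  · rw [Subgroup.orderOf_coe, MulEquiv.orderOf_eq]
  · rw [Subgroup.orderOf_coe, MulEquiv.orderOf_eq]
  · rw [← Subgroup.coe_mul, Subgroup.orderOf_coe, ← map_mul, MulEquiv.orderOf_eq]

theorem altFour_genPair {M : Subgroup PSL(2, F)} (h : Nonempty (M ≃* alternatingGroup (Fin 4))) :
    ∃ X Y : SL(2, F), IsGenPair M X Y 1 := by
  obtain ⟨e⟩ := h
  let a : alternatingGroup (Fin 4) :=
    ⟨Equiv.swap 0 1 * Equiv.swap 2 3, by rw [Equiv.Perm.mem_alternatingGroup]; decide +kernel⟩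
  let b : alternatingGroup (Fin 4) :=
    ⟨Equiv.swap 0 1 * Equiv.swap 1 2, by rw [Equiv.Perm.mem_alternatingGroup]; decide +kernel⟩
  have hgen : Subgroup.closure {a, b} = ⊤ := by
    rw [eq_top_iff]
    intro z _
    have hall : ∀ z : alternatingGroup (Fin 4), ∃ i j : Fin 3,
        z = b ^ i.val ∨ z = b ^ i.val * a * b ^ j.val := by decide +kernel
    have ha : a ∈ Subgroup.closure {a, b} := Subgroup.subset_closure (Or.inl rfl)
    have hb : b ∈ Subgroup.closure {a, b} := Subgroup.subset_closure (Or.inr rfl)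
    obtain ⟨i, j, h | h⟩ := hall z <;> rw [h]
    · exact Subgroup.pow_mem _ hb _
    · exact Subgroup.mul_mem _ (Subgroup.mul_mem _ (Subgroup.pow_mem _ hb _) ha) (Subgroup.pow_mem _ hb _)
  have oa : orderOf a = 2 := orderOf_eq_prime (by decide +kernel) (by decide +kernel)
  have ob : orderOf b = 3 := orderOf_eq_prime (by decide +kernel) (by decide +kernel)
  have oab : orderOf (a * b) = 3 := orderOf_eq_prime (by decide +kernel) (by decide +kernel)
  obtain ⟨x, y, hxy, h1, h2, h3⟩ := exists_gens_of_iso e hgen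
  obtain ⟨X, Y, s, hP, hX, hY⟩ := exists_genPair hxy (h1.trans oa) (h2.trans ob)
  obtain ⟨W, hW, hW1⟩ := exists_lift_three (h3.trans oab)
  rw [← hX, ← hY, ← map_mul] at hW
  rcases mk_eq_mk.1 hW with e' | e'
  · rw [e', hP.2.2.2] at hW1
    exact ⟨X, Y, hW1 ▸ hP⟩
  · rw [e', tr_neg, hP.2.2.2] at hW1
    exact ⟨-X, Y, hW1 ▸ hP.flip⟩

theorem permFour_genPair {M : Subgroup PSL(2, F)} (h : Nonempty (M ≃* Equiv.Perm (Fin 4))) {s₀ : F}
    (hs₀ : s₀ ^ 2 = 2) : ∃ X Y : SL(2, F), IsGenPair M X Y s₀ := by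
  obtain ⟨e⟩ := h
  let a : Equiv.Perm (Fin 4) := Equiv.swap 0 1
  let b : Equiv.Perm (Fin 4) := Equiv.swap 1 2 * Equiv.swap 2 3
  have hgen : Subgroup.closure {a, b} = ⊤ := by
    rw [eq_top_iff]
    intro z _
    have hall : ∀ z : Equiv.Perm (Fin 4), ∃ i j k : Fin 3,
        z = b ^ i.val ∨ z = b ^ i.val * a * b ^ j.val ∨
          z = b ^ i.val * a * b ^ j.val * a * b ^ k.val ∨
          z = b ^ i.val * a * b ^ j.val * a * b ^ k.val * a := by decide +kernel
    have ha : a ∈ Subgroup.closure {a, b} := Subgroup.subset_closure (Or.inl rfl)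
    have hb : ∀ n : ℕ, b ^ n ∈ Subgroup.closure ({a, b} : Set (Equiv.Perm (Fin 4))) := fun n =>
      Subgroup.pow_mem _ (Subgroup.subset_closure (show b ∈ ({a, b} : Set (Equiv.Perm (Fin 4))) from Or.inr rfl)) n
    obtain ⟨i, j, k, h | h | h | h⟩ := hall z <;> rw [h] <;>
      (repeat' first | apply Subgroup.mul_mem | exact ha | exact hb _)
  have oa : orderOf a = 2 := orderOf_eq_prime (by decide +kernel) (by decide +kernel)
  have ob : orderOf b = 3 := orderOf_eq_prime (by decide +kernel) (by decide +kernel)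
  have oab : orderOf (a * b) = 4 :=
    (orderOf_eq_iff (by norm_num)).2 ⟨by decide +kernel, by decide +kernel⟩
  obtain ⟨x, y, hxy, h1, h2, h3⟩ := exists_gens_of_iso e hgen
  obtain ⟨X, Y, s, hP, hX, hY⟩ := exists_genPair hxy (h1.trans oa) (h2.trans ob)
  have h4 : orderOf (mk (X * Y)) = 4 := by rw [map_mul, hX, hY, h3, oab]
  have hs2 := tr_sq_of_orderOf_four h4
  rw [hP.2.2.2] at hs2
  rcases sq_eq_sq_iff_eq_or_eq_neg.1 (hs2.trans hs₀.symm) with e' | e'
  · exact ⟨X, Y, e' ▸ hP⟩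
  · refine ⟨-X, Y, ?_⟩
    have := hP.flip
    rwa [e', neg_neg] at this

theorem altFive_genPair {M : Subgroup PSL(2, F)} (h : Nonempty (M ≃* alternatingGroup (Fin 5))) :
    ∃ (X Y : SL(2, F)) (s : F), IsGenPair M X Y s ∧ s ^ 2 = s + 1 := by
  obtain ⟨e⟩ := h
  obtain ⟨u, v, hu, hv, huv, hgen⟩ := Presented.A5.exists_gens
  have hab : Subgroup.closure {u * v, u⁻¹} = (⊤ : Subgroup (alternatingGroup (Fin 5))) := by
    rw [eq_top_iff, ← hgen, Subgroup.closure_le]
    have ha : u * v ∈ Subgroup.closure {u * v, u⁻¹} := Subgroup.subset_closure (Or.inl rfl)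
    have hb : u⁻¹ ∈ Subgroup.closure {u * v, u⁻¹} := Subgroup.subset_closure (Or.inr rfl)
    rintro g (hg | hg)
    · have := Subgroup.inv_mem _ hb
      rw [inv_inv] at this
      rw [hg]; exact this
    · have := Subgroup.mul_mem _ hb ha
      rw [inv_mul_cancel_left] at this
      rw [Set.mem_singleton_iff.1 hg]; exact this
  have hu1 : u ≠ 1 := by
    rintro rfl
    rw [one_mul] at huv
    have hv1 : v = 1 := by
      calc v = v ^ 5 * ((v ^ 2) ^ 2)⁻¹ := by group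
        _ = 1 := by rw [hv, huv]; group
    rw [hv1, Set.pair_eq_singleton, Subgroup.closure_singleton_one] at hgen
    exact bot_ne_top hgen
  have hv1 : v ≠ 1 := by
    rintro rfl
    rw [mul_one] at huv
    exact hu1 (by
      calc u = u ^ 3 * (u ^ 2)⁻¹ := by group
        _ = 1 := by rw [hu, huv]; group)
  have huv1 : u * v ≠ 1 := by
    intro h
    have hv' : v = u⁻¹ := eq_inv_of_mul_eq_one_right h
    rw [hv'] at hv
    exact hu1 (by
      calc u = ((u⁻¹) ^ 5 * (u ^ 3) * (u ^ 3))⁻¹ * (u ^ 3) * (u ^ 3) * (u⁻¹) ^ 5 * u := by group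
        _ = 1 := by rw [hv, hu]; simp; calc u = (u⁻¹) ^ 5 * (u ^ 3) * (u ^ 3) := by group
                                             _ = 1 := by rw [hv, hu]; simp)
  haveI : Fact (Nat.Prime 5) := ⟨by norm_num⟩
  have oa : orderOf (u * v) = 2 := orderOf_eq_prime huv huv1
  have ob : orderOf u⁻¹ = 3 := by rw [orderOf_inv]; exact orderOf_eq_prime hu hu1
  have oab : orderOf (u * v * u⁻¹) = 5 := by
    rw [show u * v * u⁻¹ = MulAut.conj u v from rfl, MulEquiv.orderOf_eq]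
    exact orderOf_eq_prime hv hv1
  obtain ⟨x, y, hxy, h1, h2, h3⟩ := exists_gens_of_iso e hab
  obtain ⟨X, Y, s, hP, hX, hY⟩ := exists_genPair hxy (h1.trans oa) (h2.trans ob)
  have h5 : orderOf (mk (X * Y)) = 5 := by rw [map_mul, hX, hY, h3, oab]
  rcases golden_of_orderOf h5 with h | h <;> rw [hP.2.2.2] at h
  · exact ⟨X, Y, s, hP, h⟩
  · exact ⟨-X, Y, -s, hP.flip, h⟩

theorem map_conjP_genPair {M : Subgroup PSL(2, F)} {X Y : SL(2, F)} {s : F} (h : IsGenPair M X Y s)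
    (Q : GL (Fin 2) F) :
    M.map (AutPSL.conjP Q).toMonoidHom =
      Subgroup.closure {mk (AutPSL.conjSL Q X), mk (AutPSL.conjSL Q Y)} := by
  rw [← h.1, MonoidHom.map_closure, Set.image_pair]
  rfl

/-- Generated subgroups with the same trace data are conjugate under `PGL(2, F)`. -/
theorem exists_conjP_eq [Fintype F] (h2 : (2 : F) ≠ 0) {M N : Subgroup PSL(2, F)} {X Y X' Y' : SL(2, F)}
    {s : F} (h : IsGenPair M X Y s) (h' : IsGenPair N X' Y' s) (h3 : s ^ 2 ≠ 3) :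
    ∃ Q : GL (Fin 2) F, M.map (AutPSL.conjP Q).toMonoidHom = N := by
  obtain ⟨a, c, hp⟩ := exists_point h2 s
  obtain ⟨Q, hQX, hQY⟩ := exists_conj_normal_form h.2.1 h.2.2.1 h.2.2.2 h3 hp
  obtain ⟨R, hRX, hRY⟩ := exists_conj_normal_form h'.2.1 h'.2.2.1 h'.2.2.2 h3 hp
  have e := map_conjP_genPair h Q
  rw [show AutPSL.conjSL Q X = AutPSL.conjSL R X' from Subtype.ext (hQX.trans hRX.symm),
    show AutPSL.conjSL Q Y = AutPSL.conjSL R Y' from Subtype.ext (hQY.trans hRY.symm),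
    ← map_conjP_genPair h' R] at e
  refine ⟨R⁻¹ * Q, ?_⟩
  rw [map_mul, map_inv]
  have := congrArg (Subgroup.map ((AutPSL.conjP R)⁻¹ : MulAut PSL(2, F)).toMonoidHom) e
  rw [Subgroup.map_map, Subgroup.map_map] at this
  refine (Eq.trans ?_ this).trans ?_
  · rfl
  · convert Subgroup.map_id N
    exact MonoidHom.ext fun z => (AutPSL.conjP R).symm_apply_apply z

theorem exists_map_eq [Fintype F] (h2 : (2 : F) ≠ 0) {M N : Subgroup PSL(2, F)} {X Y X' Y' : SL(2, F)}
    {s : F} (h : IsGenPair M X Y s) (h' : IsGenPair N X' Y' s) (h3 : s ^ 2 ≠ 3) :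
    ∃ σ : MulAut PSL(2, F), M.map σ.toMonoidHom = N :=
  let ⟨Q, hQ⟩ := exists_conjP_eq h2 h h' h3
  ⟨AutPSL.conjP Q, hQ⟩

/-- A subgroup with trace data in `K` is conjugate into `PSL(2, K)`. -/
theorem exists_conjP_le_range_genPair {K : Type*} [Field K] [Fintype K] (ι : K →+* F)
    (h2 : (2 : K) ≠ 0) {M : Subgroup PSL(2, F)} {X Y : SL(2, F)} {s : F} (h : IsGenPair M X Y s)
    (h3 : s ^ 2 ≠ 3) {s' : K} (hs : ι s' = s) :
    ∃ Q : GL (Fin 2) F, M.map (AutPSL.conjP Q).toMonoidHom ≤ (pslMap ι).range := by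
  obtain ⟨a, c, hp⟩ := exists_point h2 s'
  have hp' : ι a ^ 2 - ι a + 1 + (ι c ^ 2 + s * ι c) = 0 := by
    rw [← hs]
    simpa using congrArg ι hp
  obtain ⟨Q, hQX, hQY⟩ := exists_conj_normal_form h.2.1 h.2.2.1 h.2.2.2 h3 hp'
  refine ⟨Q, ?_⟩
  rw [map_conjP_genPair h Q, Subgroup.closure_le]
  rintro z (rfl | rfl)
  · obtain ⟨X₀, hX₀⟩ : ∃ X₀ : SL(2, K), (X₀ : Matrix (Fin 2) (Fin 2) K) = !![0, -1; 1, 0] :=
      ⟨⟨!![0, -1; 1, 0], by simp⟩, rfl⟩
    refine ⟨mk X₀, ?_⟩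
    rw [pslMap_mk]
    congr 1
    refine Subtype.ext ?_
    rw [hQX]
    ext i j; fin_cases i <;> fin_cases j <;> simp [hX₀]
  · obtain ⟨Y₀, hY₀⟩ : ∃ Y₀ : SL(2, K), (Y₀ : Matrix (Fin 2) (Fin 2) K) = !![a, c + s'; c, 1 - a] :=
      ⟨⟨!![a, c + s'; c, 1 - a], by rw [Matrix.det_fin_two_of]; linear_combination -hp⟩, rfl⟩
    refine ⟨mk Y₀, ?_⟩
    rw [pslMap_mk]
    congr 1
    refine Subtype.ext ?_
    rw [hQY]
    ext i j; fin_cases i <;> fin_cases j <;> simp [hY₀, hs]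

theorem exists_map_le_range_genPair {K : Type*} [Field K] [Fintype K] (ι : K →+* F)
    (h2 : (2 : K) ≠ 0) {M : Subgroup PSL(2, F)} {X Y : SL(2, F)} {s : F} (h : IsGenPair M X Y s)
    (h3 : s ^ 2 ≠ 3) {s' : K} (hs : ι s' = s) :
    ∃ σ : MulAut PSL(2, F), M.map σ.toMonoidHom ≤ (pslMap ι).range :=
  let ⟨Q, hQ⟩ := exists_conjP_le_range_genPair ι h2 h h3 hs
  ⟨AutPSL.conjP Q, hQ⟩

end Cfsg.Agent.PSL2.Conjugate
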