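import Cfsg.Agent.Lib.PSL2.MaximalShape
import Cfsg.Agent.Lib.PSL2.PairConj
import Cfsg.Agent.Lib.PSL2.SmallIso

/-!
Shapes of the maximal subgroups of `PSL(2, F)`, given Dickson's list; subfield groups inside a
maximal subgroup; the normal four-group cases.
-/

set_option autoImplicit false

open Matrix
open scoped MatrixGroups

namespace Cfsg.Agent.PSL2.Maximal

variable {F : Type*} [Field F] [Fintype F]

theorem exists_field (p i : ℕ) [Fact p.Prime] (hi : i ≠ 0) :
    ∃ (K : Type) (_ : Field K) (_ : Fintype K), Fintype.card K = p ^ i := by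
  have : Fintype (GaloisField p i) := Fintype.ofFinite _
  exact ⟨GaloisField p i, inferInstance, this, by rw [← Nat.card_eq_fintype_card, GaloisField.card p i hi]⟩

theorem charP_of_card_pow (p : ℕ) [hp : Fact p.Prime] {L : Type*} [Field L] [Fintype L] {i : ℕ}
    (h : Fintype.card L = p ^ i) : CharP L p := by
  obtain ⟨r, hr⟩ := CharP.exists L
  obtain ⟨n, hrp, hn⟩ := FiniteField.card L r
  have : r = p := (Nat.prime_dvd_prime_iff_eq hrp hp.out).1
    (hrp.dvd_of_dvd_pow (h ▸ hn ▸ dvd_pow_self r n.ne_zero))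
  exact this ▸ hr

theorem not_dvd_torus (p : ℕ) [Fact p.Prime] [CharP F p] {k : ℕ}
    (h : k ∣ (Fintype.card F + 1) / Nat.gcd 2 (Fintype.card F - 1) ∨
      k ∣ (Fintype.card F - 1) / Nat.gcd 2 (Fintype.card F - 1)) : ¬ p ∣ k := by
  intro hp
  have hq := p_dvd_q (F := F) p
  have hpp : p.Prime := Fact.out
  have h1 := one_lt_q (F := F)
  have hd : Nat.gcd 2 (Fintype.card F - 1) ∣ Fintype.card F - 1 := Nat.gcd_dvd_right _ _
  have hd' : Nat.gcd 2 (Fintype.card F - 1) ∣ Fintype.card F + 1 := by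
    have h2 : Nat.gcd 2 (Fintype.card F - 1) ∣ 2 := Nat.gcd_dvd_left _ _
    have := Nat.dvd_add hd h2
    rwa [show Fintype.card F - 1 + 2 = Fintype.card F + 1 by omega] at this
  rcases h with h | h
  · have := (hp.trans h).trans (Nat.div_dvd_of_dvd hd')
    exact hpp.not_dvd_one ((Nat.dvd_add_right hq).1 this)
  · have h2 := (hp.trans h).trans (Nat.div_dvd_of_dvd hd)
    have := Nat.dvd_sub hq h2
    rw [show Fintype.card F - (Fintype.card F - 1) = 1 by omega] at this
    exact hpp.not_dvd_one this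

/-- The shapes of a maximal subgroup. -/
theorem shape (p : ℕ) [Fact p.Prime] [CharP F p] (hq : 4 ≤ Fintype.card F)
    {M : Subgroup PSL(2, F)} (hM : IsCoatom M) (hD : IsDicksonType p M) :
    Nat.gcd 2 (Fintype.card F - 1) * Nat.card M = Fintype.card F * (Fintype.card F - 1) ∨
    (∃ g : SL(2, F), tr g ^ 2 ≠ 4 ∧ M = (Subgroup.normalizer (cent g : Set SL(2, F))).map mk ∧
      3 ≤ Nat.card ((cent g).map mk) ∧
      Nonempty (M ≃* DihedralGroup (Nat.card ((cent g).map mk)))) ∨
    Nonempty (M ≃* alternatingGroup (Fin 4)) ∨ Nonempty (M ≃* Equiv.Perm (Fin 4)) ∨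
    Nonempty (M ≃* alternatingGroup (Fin 5)) ∨
    (∃ (L : Type) (_ : Field L) (_ : Fintype L) (m : ℕ), Fintype.card L ^ m = Fintype.card F ∧
      (Nonempty (M ≃* PSL(2, L)) ∨ Nonempty (M ≃* Matrix.ProjGenLinGroup (Fin 2) L))) := by
  rcases hD with ⟨k, hk, hcd⟩ | ⟨P, N, hN, ⟨e⟩⟩ | h | h | h | h
  · rcases hcd with ⟨hc, -⟩ | ⟨⟨e⟩⟩
    · left
      haveI := hc
      refine borel_or_not_comm p hq hM fun a ha b hb => ?_
      exact congrArg Subtype.val (IsMulCommutative.is_comm.comm (⟨a, ha⟩ : M) ⟨b, hb⟩)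
    · have h5 := five_le_card p hq hM
      rw [Nat.card_congr e.toEquiv, DihedralGroup.nat_card] at h5
      have hk3 : 3 ≤ k := by omega
      have : NeZero k := ⟨by omega⟩
      have hx : orderOf (e.symm (DihedralGroup.r 1) : PSL(2, F)) = k := by
        rw [Subgroup.orderOf_coe, MulEquiv.orderOf_eq, DihedralGroup.orderOf_r_one]
      obtain ⟨g, h4, hMg, hd, hcard, hiso⟩ := torus_case p hq hM (e.symm (DihedralGroup.r 1)).2
        (fun y hy => by
          have key : ∀ d : DihedralGroup k, ∃ i : ℤ, d * DihedralGroup.r 1 * d⁻¹ = DihedralGroup.r 1 ^ i := by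
            rintro (j | j)
            · exact ⟨1, by simp⟩
            · exact ⟨-1, by simp⟩
          obtain ⟨i, hi⟩ := key (e ⟨y, hy⟩)
          refine ⟨i, ?_⟩
          have h := congrArg e.symm hi
          rw [map_mul, map_mul, map_inv, map_zpow, e.symm_apply_apply] at h
          have := congrArg Subtype.val h
          simpa using this.symm)
        (by omega) (by rw [hx]; exact not_dvd_torus p hk)
      refine Or.inr (Or.inl ⟨g, h4, hMg, ?_, hiso⟩)
      rw [hx] at hd
      exact hk3.trans (Nat.le_of_dvd Nat.card_pos hd)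
  · exact Or.inl (borel_of_iso p hq hM P N hN e)
  · exact Or.inr (Or.inr (Or.inl h))
  · exact Or.inr (Or.inr (Or.inr (Or.inl h)))
  · exact Or.inr (Or.inr (Or.inr (Or.inr (Or.inl h))))
  · exact Or.inr (Or.inr (Or.inr (Or.inr (Or.inr h))))

theorem exists_lift_tr_two (p : ℕ) [Fact p.Prime] [CharP F p] {x : PSL(2, F)} (hx : orderOf x = p) :
    ∃ X : SL(2, F), mk X = x ∧ tr X = 2 := by
  have hx1 : x ≠ 1 := fun e => by
    rw [e, orderOf_one] at hx; exact (Fact.out : p.Prime).one_lt.ne hx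
  rcases psl_cases hx1 with ⟨g, rfl, h4⟩ | ⟨k, s, -, rfl⟩
  · exfalso
    have h := orderOf_dvd_natCard (⟨mk g, Subgroup.mem_map_of_mem mk (mem_cent.2 (Commute.refl g))⟩ :
      (cent g).map mk)
    rw [Subgroup.orderOf_mk, hx] at h
    refine not_dvd_torus (F := F) p ?_ h
    rcases card_torus_psl h4 with e | e
    · exact Or.inr e.dvd
    · exact Or.inl e.dvd
  · exact ⟨k * uu s * k⁻¹, rfl, by rw [tr_conj, tr_uu]⟩

/-- A subgroup with traces in `K` containing some `PSL(2, L)` is conjugate into `PSL(2, K)`. -/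
theorem exists_conjP_le_of_psl (p : ℕ) [Fact p.Prime] [CharP F p] {L : Type*} [Field L] [Fintype L]
    [CharP L p] {K : Type*} [Field K] [Fintype K] (ι : K →+* F) {M : Subgroup PSL(2, F)}
    (f : PSL(2, L) →* PSL(2, F)) (hf : Function.Injective f) (hfM : ∀ x, f x ∈ M)
    (htr : ∀ g : SL(2, F), mk g ∈ M → tr g ^ Fintype.card K = tr g) :
    ∃ Q : GL (Fin 2) F, M.map (AutPSL.conjP Q).toMonoidHom ≤ (pslMap ι).range := by
  have hpp : p.Prime := Fact.out
  have hord : ∀ x : PSL(2, L), orderOf x = p → ∃ X : SL(2, F), mk X = f x ∧ tr X = 2 := fun x hx =>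
    exists_lift_tr_two p (by rw [orderOf_injective f hf, hx])
  have ou : orderOf (mk (uu (1 : L))) = p := orderOf_mk_uu p one_ne_zero
  have ol : orderOf (mk (ll (1 : L))) = p := by
    have : ll (1 : L) = ww * uu (-1) * ww⁻¹ := by rw [ww_conj_uu, neg_neg]
    rw [this, orderOf_mk_conj, orderOf_mk_uu p (by simp)]
  obtain ⟨X, hX, htX⟩ := hord _ ou
  obtain ⟨Y, hY, htY⟩ := hord _ ol
  refine Conjugate.exists_conjP_le_range ι M htr (hX ▸ hfM _) (hY ▸ hfM _) htX htY ?_
  intro hcomm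
  rw [hX, hY, ← map_mul f, ← map_mul f] at hcomm
  have h' := hf hcomm
  rw [← map_mul mk, ← map_mul mk, mk_eq_mk] at h'
  rcases h' with h | h
  · have := congrArg (fun g : SL(2, L) => g 0 0) h
    simp [Matrix.mul_apply, Fin.sum_univ_two] at this
  · have h00 := congrArg (fun g : SL(2, L) => g 0 0) h
    have h01 := congrArg (fun g : SL(2, L) => g 0 1) h
    simp [Matrix.mul_apply, Fin.sum_univ_two] at h00 h01
    have h2 : (2 : L) = 0 := by linear_combination h01
    exact one_ne_zero (show (1 : L) = 0 by linear_combination h00 - h2)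

theorem exists_map_le_of_psl (p : ℕ) [Fact p.Prime] [CharP F p] {L : Type*} [Field L] [Fintype L]
    [CharP L p] {K : Type*} [Field K] [Fintype K] (ι : K →+* F) {M : Subgroup PSL(2, F)}
    (f : PSL(2, L) →* PSL(2, F)) (hf : Function.Injective f) (hfM : ∀ x, f x ∈ M)
    (htr : ∀ g : SL(2, F), mk g ∈ M → tr g ^ Fintype.card K = tr g) :
    ∃ σ : MulAut PSL(2, F), M.map σ.toMonoidHom ≤ (pslMap ι).range :=
  let ⟨Q, hQ⟩ := exists_conjP_le_of_psl p ι f hf hfM htr
  ⟨AutPSL.conjP Q, hQ⟩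

theorem sq_mem_range_toPGL {L : Type*} [Field L] (x : Matrix.ProjGenLinGroup (Fin 2) L) :
    x * x ∈ (Matrix.ProjectiveSpecialLinearGroup.toPGL (n := Fin 2) (R := L)).range := by
  induction x using Matrix.ProjGenLinGroup.induction_on with | mk A => ?_
  set d : Lˣ := Matrix.GeneralLinearGroup.det A with hd
  let B : SL(2, L) := ⟨((d⁻¹ : Lˣ) : L) • ((A * A : GL (Fin 2) L) : Matrix (Fin 2) (Fin 2) L), by
    rw [Matrix.det_smul, Fintype.card_fin, Units.val_mul, Matrix.det_mul,
      ← Matrix.GeneralLinearGroup.val_det_apply, ← hd, pow_two]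
    rw [mul_mul_mul_comm, Units.inv_mul, one_mul]⟩
  refine ⟨mk B, ?_⟩
  show Matrix.ProjGenLinGroup.mk (Matrix.SpecialLinearGroup.toGL B) = _
  rw [← map_mul, Matrix.ProjGenLinGroup.mk_eq_mk_iff]
  refine ⟨d, Units.ext ?_⟩
  rw [Units.val_mul]
  show (((d⁻¹ : Lˣ) : L) • ((A * A : GL (Fin 2) L) : Matrix (Fin 2) (Fin 2) L)) * _ = _
  ext i j
  fin_cases j <;>
    simp [Matrix.GeneralLinearGroup.coe_scalar, Matrix.mul_apply, Fin.sum_univ_two] <;> field_simp

/-- The four-group in `S₄`. -/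
def fourGroup : Subgroup (Equiv.Perm (Fin 4)) where
  carrier := {z | z * z = 1 ∧ Equiv.Perm.sign z = 1}
  one_mem' := by simp
  mul_mem' {a b} ha hb := by
    revert ha hb
    revert a b
    decide +kernel
  inv_mem' {a} ha := by
    revert ha
    revert a
    decide +kernel

/-- A maximal subgroup inside `S₄` meeting the four-group, `q` even, is a point stabiliser. -/
theorem borel_of_four (p : ℕ) [Fact p.Prime] [CharP F p] (hp2 : p = 2) {M : Subgroup PSL(2, F)}
    (hM : IsCoatom M) (f : M →* Equiv.Perm (Fin 4)) (hf : Function.Injective f)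
    (hv : Equiv.swap 0 1 * Equiv.swap 2 3 ∈ f.range) :
    Nat.gcd 2 (Fintype.card F - 1) * Nat.card M = Fintype.card F * (Fintype.card F - 1) := by
  subst hp2
  have hV : IsPGroup 2 fourGroup := fun z => ⟨1, Subtype.ext (by
    rw [Subgroup.coe_pow, pow_one, pow_two]; exact z.2.1)⟩
  refine borel_case 2 hM (Q := (fourGroup.comap f).map M.subtype)
    ((hV.comap_of_injective f hf).map M.subtype) ?_ ?_
  · obtain ⟨x, hx⟩ := hv
    intro hbot
    have : (x : PSL(2, F)) ∈ (fourGroup.comap f).map M.subtype :=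
      ⟨x, by rw [SetLike.mem_coe, Subgroup.mem_comap, hx]; exact ⟨by decide +kernel, by decide +kernel⟩, rfl⟩
    rw [hbot, Subgroup.mem_bot] at this
    have h1 : x = 1 := Subtype.ext this
    rw [h1, map_one] at hx
    exact absurd hx (by decide +kernel)
  · rintro y hy _ ⟨z, hz, rfl⟩
    refine ⟨⟨y, hy⟩ * z * ⟨y, hy⟩⁻¹, ?_, rfl⟩
    rw [SetLike.mem_coe, Subgroup.mem_comap] at hz ⊢
    rw [map_mul, map_mul, map_inv]
    have hn : ∀ a v : Equiv.Perm (Fin 4), v * v = 1 ∧ Equiv.Perm.sign v = 1 →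
        (a * v * a⁻¹) * (a * v * a⁻¹) = 1 ∧ Equiv.Perm.sign (a * v * a⁻¹) = 1 := by
      intro a v hv
      refine ⟨?_, by simp [hv.2]⟩
      rw [show a * v * a⁻¹ * (a * v * a⁻¹) = a * (v * v) * a⁻¹ by group, hv.1, mul_one, mul_inv_cancel]
    exact hn _ _ hz

theorem card_eq_pow (p : ℕ) [Fact p.Prime] [CharP F p] :
    ∃ n : ℕ, 0 < n ∧ Fintype.card F = p ^ n := by
  obtain ⟨n, -, hn⟩ := FiniteField.card F p
  exact ⟨n, n.pos, hn⟩

theorem pow_pow_of_pow {x : F} {l : ℕ} (h : x ^ l = x) (c : ℕ) : x ^ (l ^ c) = x := by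
  induction c with
  | zero => simp
  | succ c ih => rw [pow_succ, pow_mul, ih, h]

/-- A maximal subgroup isomorphic to `PSL(2, L)`: the field degree is prime. -/
theorem psl_degree_prime (p : ℕ) [Fact p.Prime] [CharP F p] {M : Subgroup PSL(2, F)}
    (hM : IsCoatom M) {L : Type} [Field L] [Fintype L] {m : ℕ}
    (hm : Fintype.card L ^ m = Fintype.card F) (e : M ≃* PSL(2, L)) :
    m.Prime ∧ ∃ (K : Type) (_ : Field K) (_ : Fintype K) (ι : K →+* F) (σ : MulAut PSL(2, F)),
      Fintype.card K = Fintype.card L ∧ M.map σ.toMonoidHom = (pslMap ι).range := by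
  obtain ⟨n, hn0, hn⟩ := card_eq_pow (F := F) p
  have hm0 : m ≠ 0 := by
    rintro rfl
    have := one_lt_q (F := F)
    simp at hm; omega
  obtain ⟨a, ha, ham⟩ := pow_eq_of_pow_eq_prime (p := p) Fact.out (hm.trans hn) hm0
  have ha0 : a ≠ 0 := by rintro rfl; simp at ham; omega
  haveI := charP_of_card_pow p ha
  have hm1 : m ≠ 1 := by
    rintro rfl
    rw [pow_one] at hm
    refine hM.1 (Subgroup.eq_top_of_card_eq _ ?_)
    rw [Nat.card_congr e.toEquiv, card_PSL, card_PSL, hm]
  obtain ⟨r, hr, c, hc⟩ := Nat.exists_prime_and_dvd hm1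
  have hc0 : c ≠ 0 := by rintro rfl; simp at hc; exact hm0 hc
  obtain ⟨K, _, _, hK⟩ := exists_field p (a * c) (mul_ne_zero ha0 hc0)
  have hKF : Fintype.card F = Fintype.card K ^ r := by
    rw [hn, hK, ← pow_mul, ← ham, hc]; ring_nf
  have hKL : Fintype.card K = Fintype.card L ^ c := by rw [hK, ha, pow_mul]
  obtain ⟨ι⟩ := FieldExt.exists_ringHom_of_card_pow (F := K) (K := F) hr.ne_zero hKF
  obtain ⟨σ, hσ⟩ := exists_map_le_of_psl p ι (L := L) (M.subtype.comp e.symm.toMonoidHom)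
    (M.subtype_injective.comp e.symm.injective) (fun x => (e.symm x).2) (fun g hg => by
      rw [hKL]
      refine pow_pow_of_pow ?_ c
      exact Conjugate.tr_pow_of_mem p (M.subtype.comp e.symm.toMonoidHom)
        (M.subtype_injective.comp e.symm.injective) (x := e ⟨mk g, hg⟩) (by simp))
  have hKlt : Fintype.card K < Fintype.card F := by
    rw [hKF]; exact lt_self_pow₀ (one_lt_q (F := K)) hr.one_lt
  have hcK : Nat.card (pslMap ι).range = Nat.card PSL(2, K) :=
    (Nat.card_congr (MonoidHom.ofInjective (pslMap_injective ι)).toEquiv).symm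
  have hd : ∀ i : ℕ, 1 ≤ i → Nat.gcd 2 (p ^ i - 1) = Nat.gcd 2 (p - 1) := by
    intro i hi
    rcases (Fact.out : p.Prime).eq_two_or_odd with h | h
    · subst h
      have : 2 ∣ 2 ^ i := dvd_pow_self 2 (by omega)
      rw [Nat.Coprime.gcd_eq_one ((Nat.prime_two.coprime_iff_not_dvd).2 (by
        have : 0 < 2 ^ i := Nat.pow_pos two_pos
        omega))]
      rfl
    · have h' : p ^ i % 2 = 1 := by rw [Nat.pow_mod, h, one_pow]; rfl
      have : 0 < p ^ i := Nat.pow_pos (Fact.out : p.Prime).pos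
      rw [Nat.gcd_eq_left (by omega), Nat.gcd_eq_left (by omega)]
  have hmono : ∀ {K₁ K₂ : Type} [Field K₁] [Fintype K₁] [Field K₂] [Fintype K₂],
      Fintype.card K₁ < Fintype.card K₂ →
      Fintype.card K₁ * (Fintype.card K₁ ^ 2 - 1) < Fintype.card K₂ * (Fintype.card K₂ ^ 2 - 1) := by
    intro K₁ K₂ _ _ _ _ hlt
    refine Nat.mul_lt_mul_of_lt_of_le hlt (Nat.sub_le_sub_right (Nat.pow_le_pow_left hlt.le 2) 1) ?_
    have := Nat.one_lt_pow (show 2 ≠ 0 by omega) (show 1 < Fintype.card K₂ from Fintype.one_lt_card)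
    omega
  have hne : (pslMap ι).range ≠ ⊤ := by
    intro ht
    rw [ht, Subgroup.card_top] at hcK
    have h1 := gcd_mul_card_PSL (F := F)
    have h2 := gcd_mul_card_PSL (F := K)
    rw [hn, hd n hn0] at h1
    rw [hK, hd _ (Nat.pos_of_ne_zero (mul_ne_zero ha0 hc0)), ← hcK] at h2
    rw [← hn] at h1
    rw [← hK] at h2
    have hlt : Fintype.card K * (Fintype.card K ^ 2 - 1) <
        Fintype.card F * (Fintype.card F ^ 2 - 1) := by
      refine Nat.mul_lt_mul_of_lt_of_le hKlt (Nat.sub_le_sub_right (Nat.pow_le_pow_left hKlt.le 2) 1) ?_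
      have := Nat.one_lt_pow (show 2 ≠ 0 by omega) (one_lt_q (F := F))
      omega
    omega
  have heq := eq_of_le_of_ne_top (isCoatom_map hM σ) hσ hne
  have hcard : Nat.card PSL(2, K) = Nat.card PSL(2, L) := by
    rw [← hcK, heq, ← Nat.card_congr (M.equivMapOfInjective σ.toMonoidHom σ.injective).toEquiv,
      Nat.card_congr e.toEquiv]
  have hc1 : c = 1 := by
    by_contra hne1
    have hlt : Fintype.card L < Fintype.card K := by
      rw [hKL]; exact lt_self_pow₀ (one_lt_q (F := L)) (by omega)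
    have h1 := gcd_mul_card_PSL (F := K)
    have h2 := gcd_mul_card_PSL (F := L)
    rw [hK, hd _ (Nat.pos_of_ne_zero (mul_ne_zero ha0 hc0)), ← hK, hcard] at h1
    rw [ha, hd a (Nat.pos_of_ne_zero ha0), ← ha] at h2
    have := hmono hlt
    omega
  refine ⟨?_, K, inferInstance, inferInstance, ι, σ, ?_, heq.symm⟩
  · rw [hc, hc1, mul_one]; exact hr
  · rw [hKL, hc1, pow_one]

/-- `PGL(2, L)` and `PSL(2, L)` agree in characteristic two. -/
theorem pgl_iso_psl_even {L : Type*} [Field L] [Fintype L] (h2 : (2 : L) = 0) :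
    Nonempty (Matrix.ProjGenLinGroup (Fin 2) L ≃* PSL(2, L)) := by
  refine ⟨(MulEquiv.ofBijective (Matrix.ProjectiveSpecialLinearGroup.toPGL (n := Fin 2) (R := L))
    ((Nat.bijective_iff_injective_and_card _).2 ⟨Matrix.ProjectiveSpecialLinearGroup.toPGL_injective, ?_⟩)).symm⟩
  rw [GL.card_PGL, card_SL, card_PSL_of_two_eq_zero h2]

/-- Maximal subgroups, `q` even. -/
theorem classify_even (p : ℕ) [Fact p.Prime] [CharP F p] (heven : Even (Fintype.card F))
    (h4 : 4 ≤ Fintype.card F) {M : Subgroup PSL(2, F)} (hM : IsCoatom M) (hD : IsDicksonType p M) :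
    Nat.card M = Fintype.card F * (Fintype.card F - 1) ∨
    Nonempty (M ≃* DihedralGroup (Fintype.card F - 1)) ∨
    Nonempty (M ≃* DihedralGroup (Fintype.card F + 1)) ∨
    (∃ (F₀ : Type) (_ : Field F₀) (_ : Fintype F₀) (r : ℕ), r.Prime ∧ Fintype.card F₀ ≠ 2 ∧
        Fintype.card F = Fintype.card F₀ ^ r ∧ Nonempty (M ≃* PSL(2, F₀))) := by
  have hpp : p.Prime := Fact.out
  obtain ⟨n, hn0, hn⟩ := card_eq_pow (F := F) p
  have hp2 : p = 2 :=
    ((Nat.prime_dvd_prime_iff_eq Nat.prime_two hpp).1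
      (Nat.prime_two.dvd_of_dvd_pow (hn ▸ heven.two_dvd))).symm
  have hd : Nat.gcd 2 (Fintype.card F - 1) = 1 :=
    Nat.Coprime.gcd_eq_one ((Nat.prime_two.coprime_iff_not_dvd).2 (by
      rcases heven with ⟨j, hj⟩; omega))
  have torus : ∀ g : SL(2, F), tr g ^ 2 ≠ 4 →
      Nonempty (M ≃* DihedralGroup (Nat.card ((cent g).map mk))) →
      Nonempty (M ≃* DihedralGroup (Fintype.card F - 1)) ∨
        Nonempty (M ≃* DihedralGroup (Fintype.card F + 1)) := by
    intro g hg hiso
    rcases card_torus_psl hg with e | e <;> rw [hd, Nat.div_one] at e <;> rw [e] at hiso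
    · exact Or.inl hiso
    · exact Or.inr hiso
  have psl : ∀ (L : Type) [Field L] [Fintype L] (m : ℕ), Fintype.card L ^ m = Fintype.card F →
      Nonempty (M ≃* PSL(2, L)) →
      Nonempty (M ≃* DihedralGroup (Fintype.card F - 1)) ∨
        Nonempty (M ≃* DihedralGroup (Fintype.card F + 1)) ∨
        (∃ (F₀ : Type) (_ : Field F₀) (_ : Fintype F₀) (r : ℕ), r.Prime ∧ Fintype.card F₀ ≠ 2 ∧
            Fintype.card F = Fintype.card F₀ ^ r ∧ Nonempty (M ≃* PSL(2, F₀))) := by
    intro L _ _ m hm hiso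
    by_cases hl : Fintype.card L = 2
    · have h6 : Nat.card M = 6 := by
        rw [Nat.card_congr hiso.some.toEquiv, card_PSL_of_two_eq_zero (even_card_iff.1 (by rw [hl]; decide)), hl]
        norm_num
      have : Fact (Nat.Prime 3) := ⟨Nat.prime_three⟩
      obtain ⟨x, hx⟩ := exists_prime_orderOf_dvd_card' (G := M) 3 (by rw [h6]; norm_num)
      have hN : (Subgroup.zpowers x).Normal := Subgroup.normal_of_index_eq_two (by
        have := (Subgroup.zpowers x).index_mul_card
        rw [Nat.card_zpowers, hx, h6] at this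
        omega)
      obtain ⟨g, hg, -, -, -, hd'⟩ := torus_case p h4 hM x.2 (fun y hy => by
          obtain ⟨i, hi⟩ := hN.conj_mem x (Subgroup.mem_zpowers x) ⟨y, hy⟩
          exact ⟨i, by simpa using congrArg Subtype.val hi⟩)
        (by rw [Subgroup.orderOf_coe, hx]) (by rw [Subgroup.orderOf_coe, hx, hp2]; decide)
      rcases torus g hg hd' with h | h
      exacts [Or.inl h, Or.inr (Or.inl h)]
    · obtain ⟨e⟩ := hiso
      exact Or.inr (Or.inr ⟨L, inferInstance, inferInstance, m,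
        (psl_degree_prime p hM hm e).1, hl, hm.symm, ⟨e⟩⟩)
  rcases shape p h4 hM hD with h | ⟨g, hg, -, -, hiso⟩ | ⟨⟨e⟩⟩ | ⟨⟨e⟩⟩ | h | ⟨L, _, _, m, hm, hiso⟩
  · exact Or.inl (by rwa [hd, one_mul] at h)
  · rcases torus g hg hiso with h | h
    exacts [Or.inr (Or.inl h), Or.inr (Or.inr (Or.inl h))]
  · left
    have h := borel_of_four p hp2 hM ((alternatingGroup (Fin 4)).subtype.comp e.toMonoidHom)
      ((alternatingGroup (Fin 4)).subtype_injective.comp e.injective)
      ⟨e.symm ⟨Equiv.swap 0 1 * Equiv.swap 2 3, by rw [Equiv.Perm.mem_alternatingGroup]; decide +kernel⟩,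
        by simp⟩
    rwa [hd, one_mul] at h
  · left
    have h := borel_of_four p hp2 hM e.toMonoidHom e.injective ⟨e.symm _, e.apply_symm_apply _⟩
    rwa [hd, one_mul] at h
  · obtain ⟨e⟩ := h
    subst hp2
    have h5 : 5 ∣ Fintype.card F * (Fintype.card F ^ 2 - 1) := by
      rw [← card_PSL_of_two_eq_zero (even_card_iff.1 heven)]
      have := M.card_subgroup_dvd_card
      rw [Nat.card_congr e.toEquiv, nat_card_alternatingGroup, Nat.card_fin] at this
      exact (show 5 ∣ Nat.factorial 5 / 2 by decide).trans this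
    have hne : Even n := by
      by_contra hodd
      rw [Nat.not_even_iff_odd] at hodd
      obtain ⟨j, rfl⟩ := hodd
      have h1 : Fintype.card F % 5 = 2 ∨ Fintype.card F % 5 = 3 := by
        rw [hn, pow_succ, pow_mul, Nat.mul_mod, Nat.pow_mod]
        rcases Nat.even_or_odd j with ⟨i, rfl⟩ | ⟨i, rfl⟩
        · left; rw [← two_mul, pow_mul]; norm_num [Nat.pow_mod]
        · right; rw [pow_succ, pow_mul]; norm_num [Nat.mul_mod, Nat.pow_mod]
      rcases (Nat.Prime.dvd_mul (show Nat.Prime 5 by norm_num)).1 h5 with h | h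
      · omega
      · have : Fintype.card F ^ 2 % 5 = 4 := by
          rw [Nat.pow_mod]; rcases h1 with e | e <;> rw [e]
        have : 0 < Fintype.card F ^ 2 := Nat.pow_pos (by omega)
        omega
    obtain ⟨j, hj⟩ := hne
    obtain ⟨L, _, _, hL⟩ := exists_field 2 2 two_ne_zero
    obtain ⟨e'⟩ := psl_four_five_iso (F := L) (Or.inl (by rw [hL]; norm_num))
    rcases psl L j (by rw [hn, hL, ← pow_mul, hj]; ring_nf) ⟨e.trans e'.symm⟩ with h | h | h
    exacts [Or.inr (Or.inl h), Or.inr (Or.inr (Or.inl h)), Or.inr (Or.inr (Or.inr h))]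
  · have hiso' : Nonempty (M ≃* PSL(2, L)) := by
      rcases hiso with h | ⟨⟨e⟩⟩
      · exact h
      · refine ⟨e.trans (pgl_iso_psl_even (even_card_iff.1 ?_)).some⟩
        have : Even (Fintype.card L ^ m) := hm ▸ heven
        exact (Nat.even_pow.1 this).1
    rcases psl L m hm hiso' with h | h | h
    exacts [Or.inr (Or.inl h), Or.inr (Or.inr (Or.inl h)), Or.inr (Or.inr (Or.inr h))]

end Cfsg.Agent.PSL2.Maximal
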