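import Cfsg.Agent.Lib.PSL2.MaximalClassify

/-!
The maximal subgroups of `PSL(2, F)`, `q` odd, given Dickson's list: which of the exceptional and
subfield groups can be maximal, and the small-field exceptions among the torus normalisers.
-/

set_option autoImplicit false

open Matrix
open scoped MatrixGroups

namespace Cfsg.Agent.PSL2.Maximal

variable {F : Type*} [Field F] [Fintype F]

theorem card_range_pslMap {K : Type*} [Field K] [Fintype K] (hk : Odd (Fintype.card K)) (ι : K →+* F) :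
    2 * Nat.card (pslMap ι).range = Fintype.card K * (Fintype.card K ^ 2 - 1) := by
  rw [← Nat.card_congr (MonoidHom.ofInjective (pslMap_injective ι)).toEquiv, two_mul_card_PSL' hk]

theorem range_pslMap_ne_top {K : Type*} [Field K] [Fintype K] (hodd : Odd (Fintype.card F))
    (hk : Odd (Fintype.card K)) (hlt : Fintype.card K < Fintype.card F) (ι : K →+* F) :
    (pslMap ι).range ≠ ⊤ := by
  intro h
  have h1 := card_range_pslMap hk ι
  rw [h, Subgroup.card_top, two_mul_card_PSL' hodd] at h1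
  have hpos : 0 < Fintype.card F ^ 2 - 1 := by
    have := Nat.one_lt_pow (show 2 ≠ 0 by omega) (one_lt_q (F := F)); omega
  exact (Nat.mul_lt_mul_of_lt_of_le hlt (Nat.sub_le_sub_right (Nat.pow_le_pow_left hlt.le 2) 1) hpos).ne'
    h1

theorem exists_pgl_range_over {K : Type*} [Field K] [Fintype K]
    (hk : Odd (Fintype.card K)) (hF : Fintype.card F = Fintype.card K ^ 2) (ι : K →+* F) :
    ∃ f : Matrix.ProjGenLinGroup (Fin 2) K →* PSL(2, F), Function.Injective f ∧
      (pslMap ι).range ≤ f.range ∧ f.range ≠ ⊤ ∧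
      Nat.card f.range = Fintype.card K * (Fintype.card K ^ 2 - 1) := by
  obtain ⟨f, hf, hcomp⟩ := exists_pgl_embedding_extends ι (isSquare_of_even ι even_two hF.symm)
  have hc : Nat.card f.range = Fintype.card K * (Fintype.card K ^ 2 - 1) := by
    rw [← Nat.card_congr (MonoidHom.ofInjective hf).toEquiv, GL.card_PGL, card_SL]
  refine ⟨f, hf, by rw [← hcomp, MonoidHom.range_comp]; exact Subgroup.map_le_range _ _, fun ht => ?_, hc⟩
  rw [ht, Subgroup.card_top] at hc
  have h1 := two_mul_card_PSL' (F := F) (hF ▸ hk.pow)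
  rw [hc, hF] at h1
  have hk1 : 1 < Fintype.card K := Fintype.one_lt_card
  generalize Fintype.card K = k at *
  have h2 : (k ^ 2) ^ 2 - 1 = (k ^ 2 + 1) * (k ^ 2 - 1) := by simpa using Nat.sq_sub_sq (k ^ 2) 1
  rw [h2] at h1
  have h4 : 0 < k ^ 2 - 1 := by have := Nat.one_lt_pow (show 2 ≠ 0 by omega) hk1; omega
  have h3 : 2 * k < k ^ 2 * (k ^ 2 + 1) :=
    calc 2 * k < k ^ 2 * 2 := by nlinarith
      _ ≤ k ^ 2 * (k ^ 2 + 1) := Nat.mul_le_mul_left _ (by have := Nat.one_le_pow 2 k (by omega); omega)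
  nlinarith [Nat.mul_lt_mul_of_pos_right h3 h4]

/-- `PSL(2, K)` is not maximal in `PSL(2, F)` for `[F : K] = 2`. -/
theorem not_isCoatom_range_of_sq {K : Type*} [Field K] [Fintype K] (hk : Odd (Fintype.card K))
    (hF : Fintype.card F = Fintype.card K ^ 2) (ι : K →+* F) : ¬ IsCoatom (pslMap ι).range := by
  intro hM
  obtain ⟨f, -, hle, hne, hc⟩ := exists_pgl_range_over hk hF ι
  have h1 := card_range_pslMap hk ι
  rw [← eq_of_le_of_ne_top hM hle hne, hc] at h1
  have : 0 < Fintype.card K * (Fintype.card K ^ 2 - 1) := by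
    have := Nat.one_lt_pow (show 2 ≠ 0 by omega) (one_lt_q (F := K))
    exact Nat.mul_pos Fintype.card_pos (by omega)
  omega

theorem eq_three_of_card {l : ℕ} (hl : 2 ≤ l) (h : l * (l ^ 2 - 1) = 24) : l = 3 := by
  rcases Nat.lt_or_ge l 5 with h5 | h5
  · interval_cases l <;> first | rfl | norm_num at h
  · have := Nat.mul_le_mul h5 (show 24 ≤ l ^ 2 - 1 by have := Nat.mul_le_mul h5 h5; rw [pow_two]; omega)
    omega

theorem eq_five_of_card {l : ℕ} (hl : 2 ≤ l) (h : l * (l ^ 2 - 1) = 120) : l = 5 := by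
  rcases Nat.lt_or_ge l 6 with h5 | h5
  · interval_cases l <;> first | rfl | norm_num at h
  · have := Nat.mul_le_mul h5 (show 35 ≤ l ^ 2 - 1 by have := Nat.mul_le_mul h5 h5; rw [pow_two]; omega)
    omega

theorem ne_card_fortyeight {l : ℕ} (hl : 2 ≤ l) : l * (l ^ 2 - 1) ≠ 48 := by
  intro h
  rcases Nat.lt_or_ge l 5 with h5 | h5
  · interval_cases l <;> norm_num at h
  · have := Nat.mul_le_mul h5 (show 24 ≤ l ^ 2 - 1 by have := Nat.mul_le_mul h5 h5; rw [pow_two]; omega)
    omega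

theorem one_sq_ne_three (h2 : (2 : F) ≠ 0) : (1 : F) ^ 2 ≠ 3 := by
  intro h
  apply h2
  linear_combination -h

theorem two_ne_three : (2 : F) ≠ 3 := by
  intro h
  exact one_ne_zero (show (1 : F) = 0 by linear_combination -h)

/-- A maximal `A₄` is the only kind of proper subgroup above an `A₄`. -/
theorem card_of_altFour_le (h2 : (2 : F) ≠ 0) {M : Subgroup PSL(2, F)} (hM : IsCoatom M)
    (hiso : Nonempty (M ≃* alternatingGroup (Fin 4))) {S : Subgroup PSL(2, F)} (hS : S ≠ ⊤)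
    (ψ : alternatingGroup (Fin 4) →* PSL(2, F)) (hψ : Function.Injective ψ) (hψS : ψ.range ≤ S) :
    Nat.card S = 12 := by
  obtain ⟨X, Y, hP⟩ := Conjugate.altFour_genPair hiso
  obtain ⟨X', Y', hP'⟩ := Conjugate.altFour_genPair (M := ψ.range) ⟨(MonoidHom.ofInjective hψ).symm⟩
  obtain ⟨σ, hσ⟩ := Conjugate.exists_map_eq h2 hP hP' (one_sq_ne_three h2)
  rw [(card_eq_of_map_le hM σ (hσ.le.trans hψS) hS).1, Nat.card_congr hiso.some.toEquiv,
    nat_card_alternatingGroup, Nat.card_fin]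
  decide

theorem card_psl_ge (hodd : Odd (Fintype.card F)) {b : ℕ} (hb : b ≤ Fintype.card F) :
    b * (b ^ 2 - 1) ≤ 2 * Nat.card PSL(2, F) := by
  rw [two_mul_card_PSL' hodd]
  exact Nat.mul_le_mul hb (Nat.sub_le_sub_right (Nat.pow_le_pow_left hb 2) 1)

theorem altFour_case (p : ℕ) [Fact p.Prime] [CharP F p] (hodd : Odd (Fintype.card F))
    (h5 : 5 ≤ Fintype.card F) {M : Subgroup PSL(2, F)} (hM : IsCoatom M)
    (hiso : Nonempty (M ≃* alternatingGroup (Fin 4))) :
    (∃ (F₀ : Type) (_ : Field F₀) (_ : Fintype F₀) (r : ℕ), r.Prime ∧ Odd r ∧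
        Fintype.card F = Fintype.card F₀ ^ r ∧ Nonempty (M ≃* PSL(2, F₀))) ∨
    (Fintype.card F = p ∧ (p % 8 = 3 ∨ p % 8 = 5) ∧ ¬ (p % 10 = 1 ∨ p % 10 = 9)) := by
  have h2 : (2 : F) ≠ 0 := odd_card_iff.1 hodd
  have hG : 60 ≤ Nat.card PSL(2, F) := by
    have := card_psl_ge hodd h5; norm_num at this; omega
  have hM12 : Nat.card M = 12 := by
    rw [Nat.card_congr hiso.some.toEquiv, nat_card_alternatingGroup, Nat.card_fin]; decide
  have h8 : Fintype.card F % 8 = 3 ∨ Fintype.card F % 8 = 5 := by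
    by_contra h8
    obtain ⟨s, hs⟩ := FiniteField.isSquare_two_iff.2
      (show Fintype.card F % 8 ≠ 3 ∧ Fintype.card F % 8 ≠ 5 by omega)
    obtain ⟨φ, hφ⟩ := exists_permFour_of_sq_two h2 (s := s) (by rw [pow_two]; exact hs.symm)
    have hc : Nat.card φ.range = 24 := by
      rw [← Nat.card_congr (MonoidHom.ofInjective hφ).toEquiv, Nat.card_perm, Nat.card_fin]; decide
    have := card_of_altFour_le h2 hM hiso (S := φ.range) (fun e => by
        rw [e, Subgroup.card_top] at hc; omega)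
      (φ.comp (alternatingGroup (Fin 4)).subtype)
      (hφ.comp (alternatingGroup (Fin 4)).subtype_injective)
      (by rw [MonoidHom.range_comp]; exact Subgroup.map_le_range _ _)
    omega
  obtain ⟨n, hn0, hn⟩ := card_eq_pow (F := F) p
  by_cases hn1 : n = 1
  · rw [hn1, pow_one] at hn
    refine Or.inr ⟨hn, hn ▸ h8, fun h10 => ?_⟩
    have h5' : 5 ∣ Fintype.card F * (Fintype.card F ^ 2 - 1) := by
      refine dvd_mul_of_dvd_right ?_ _
      have : Fintype.card F % 5 = 1 ∨ Fintype.card F % 5 = 4 := by omega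
      have : Fintype.card F ^ 2 % 5 = 1 := by
        rw [Nat.pow_mod]; rcases this with e | e <;> rw [e]
      omega
    have : Fact (Nat.Prime 5) := ⟨by norm_num⟩
    rw [← gcd_mul_card_PSL] at h5'
    obtain ⟨x, hx⟩ := exists_prime_orderOf_dvd_card' (G := PSL(2, F)) 5
      (Nat.Coprime.dvd_of_dvd_mul_left
        (Nat.Coprime.coprime_dvd_right (Nat.gcd_dvd_left _ _) (by decide)) h5')
    obtain ⟨τ, hτ⟩ := exists_golden hx
    obtain ⟨φ, hφ⟩ := exists_altFive_of_golden hτ
    have hc : Nat.card φ.range = 60 := by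
      rw [← Nat.card_congr (MonoidHom.ofInjective hφ).toEquiv, nat_card_alternatingGroup, Nat.card_fin]
      decide
    have h9 : 9 ≤ Fintype.card F := by omega
    have hG' := card_psl_ge hodd h9
    norm_num at hG'
    let ε : Equiv.Perm (Fin 4) →* Equiv.Perm (Fin 5) :=
      Equiv.Perm.extendDomainHom (finSuccAboveEquiv (4 : Fin 5))
    have hε : ∀ z : alternatingGroup (Fin 4),
        ε (z : Equiv.Perm (Fin 4)) ∈ alternatingGroup (Fin 5) := fun z => by
      rw [Equiv.Perm.mem_alternatingGroup]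
      show Equiv.Perm.sign (Equiv.Perm.extendDomain (z : Equiv.Perm (Fin 4)) _) = 1
      rw [Equiv.Perm.sign_extendDomain, Equiv.Perm.mem_alternatingGroup.1 z.2]
    let ψ : alternatingGroup (Fin 4) →* alternatingGroup (Fin 5) :=
      (ε.comp (alternatingGroup (Fin 4)).subtype).codRestrict _ hε
    have hψ : Function.Injective ψ := fun a b h =>
      Subtype.ext (Equiv.Perm.extendDomainHom_injective _ (congrArg Subtype.val h))
    have := card_of_altFour_le h2 hM hiso (S := φ.range) (fun e => by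
        rw [e, Subgroup.card_top] at hc; omega)
      (φ.comp ψ) (hφ.comp hψ) (by rw [MonoidHom.range_comp]; exact Subgroup.map_le_range _ _)
    omega
  · obtain ⟨r, hr, c, hc⟩ := Nat.exists_prime_and_dvd hn1
    have hc0 : c ≠ 0 := by rintro rfl; omega
    obtain ⟨K, _, _, hK⟩ := exists_field p c hc0
    have hKF : Fintype.card F = Fintype.card K ^ r := by rw [hn, hK, ← pow_mul, hc, mul_comm]
    have hk : Odd (Fintype.card K) := (Nat.odd_pow_iff hr.ne_zero).1 (hKF ▸ hodd)
    have hrodd : Odd r := by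
      refine hr.odd_of_ne_two fun e => ?_
      subst e
      obtain ⟨j, hj⟩ := hk
      have h1 : Fintype.card F % 8 = 1 := by
        rw [hKF, hj, show (2 * j + 1) ^ 2 = 4 * (j * (j + 1)) + 1 by ring]
        obtain ⟨i, hi⟩ := Nat.even_mul_succ_self j
        omega
      omega
    obtain ⟨ι⟩ := FieldExt.exists_ringHom_of_card_pow (F := K) (K := F) hr.ne_zero hKF
    have hlt : Fintype.card K < Fintype.card F := by
      rw [hKF]; exact lt_self_pow₀ (one_lt_q (F := K)) hr.one_lt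
    obtain ⟨X, Y, hP⟩ := Conjugate.altFour_genPair hiso
    obtain ⟨σ, hσ⟩ := Conjugate.exists_map_le_range_genPair ι (odd_card_iff.1 hk) hP
      (one_sq_ne_three h2) (s' := 1) (map_one ι)
    obtain ⟨hcard, ⟨e⟩⟩ := card_eq_of_map_le hM σ hσ (range_pslMap_ne_top hodd hk hlt ι)
    have h1 := card_range_pslMap hk ι
    rw [hcard, hM12] at h1
    have hl : Fintype.card K = 3 := eq_three_of_card (one_lt_q (F := K)) h1.symm
    exact Or.inl ⟨K, inferInstance, inferInstance, r, hr, hrodd, hKF,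
      ⟨e.trans (MonoidHom.ofInjective (pslMap_injective ι)).symm⟩⟩

/-- `S₄` in `PGL(2, K)`, `K` odd. -/
theorem exists_permFour_pgl {K : Type*} [Field K] [Fintype K] (h2 : (2 : K) ≠ 0) :
    ∃ φ : Equiv.Perm (Fin 4) →* Matrix.ProjGenLinGroup (Fin 2) K, Function.Injective φ := by
  classical
  obtain ⟨a, c, hac⟩ := FiniteField.exists_root_sum_quadratic
    (f := Polynomial.X ^ 2 - Polynomial.X + 1)
    (g := Polynomial.C (2 : K) * Polynomial.X ^ 2 + Polynomial.C 2 * Polynomial.X)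
    (by compute_degree!) (by compute_degree!) (Nat.odd_iff.1 (odd_card_iff.2 h2))
  simp at hac
  let X : GL (Fin 2) K := Matrix.GeneralLinearGroup.mkOfDetNeZero !![0, -2; 1, 0]
    (by simp [Matrix.det_fin_two_of, h2])
  let Y : GL (Fin 2) K := Matrix.GeneralLinearGroup.mkOfDetNeZero !![a, 2 + 2 * c; c, 1 - a]
    (by rw [Matrix.det_fin_two_of]; intro h
        exact one_ne_zero (show (1 : K) = 0 by linear_combination h + hac))
  have key : ∀ (g : GL (Fin 2) K) (u : Kˣ), (g : Matrix (Fin 2) (Fin 2) K) = (u : K) • 1 →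
      Matrix.ProjGenLinGroup.mk g = 1 := fun g u hu => by
    rw [Matrix.ProjGenLinGroup.mk_eq_one, Matrix.GeneralLinearGroup.center_eq_range_scalar]
    refine ⟨u, Units.ext ?_⟩
    rw [hu]
    ext i j
    fin_cases i <;> fin_cases j <;> simp [Matrix.GeneralLinearGroup.coe_scalar]
  refine Presented.SmallHom.exists_permFour_hom (x := Matrix.ProjGenLinGroup.mk X)
    (y := Matrix.ProjGenLinGroup.mk Y) ?_ ?_ ?_ ?_
  · rw [← map_pow]
    refine key _ (Units.mk0 (-2) (neg_ne_zero.2 h2)) ?_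
    rw [Units.val_pow_eq_pow_val, pow_two]
    ext i j
    fin_cases i <;> fin_cases j <;> simp [X, Matrix.mul_apply, Fin.sum_univ_two]
  · rw [← map_pow]
    refine key _ (-1) ?_
    rw [Units.val_pow_eq_pow_val, pow_succ, pow_two]
    ext i j
    fin_cases i <;> fin_cases j <;> simp [Y, Matrix.mul_apply, Fin.sum_univ_two]
    · linear_combination (a + 1) * hac
    · linear_combination (2 + 2 * c) * hac
    · linear_combination c * hac
    · linear_combination (2 - a) * hac
  · rw [← map_mul, ← map_pow]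
    refine key _ (Units.mk0 (-4) (by
      have := mul_ne_zero h2 h2; norm_num at this ⊢; exact this)) ?_
    rw [Units.val_pow_eq_pow_val, show (4 : ℕ) = 2 * 2 from rfl, pow_mul, pow_two, pow_two, Units.val_mul]
    have hsq : ((X : Matrix (Fin 2) (Fin 2) K) * (Y : Matrix (Fin 2) (Fin 2) K)) *
        ((X : Matrix (Fin 2) (Fin 2) K) * (Y : Matrix (Fin 2) (Fin 2) K)) =
        (2 : K) • ((X : Matrix (Fin 2) (Fin 2) K) * (Y : Matrix (Fin 2) (Fin 2) K)) - (2 : K) • 1 := by
      ext i j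
      fin_cases i <;> fin_cases j <;> simp [X, Y, Matrix.mul_apply, Fin.sum_univ_two]
      · linear_combination (2 : K) * hac
      · ring
      · ring
      · linear_combination (2 : K) * hac
    rw [hsq, sub_mul, smul_mul_assoc, mul_sub, mul_smul_comm, mul_smul_comm, mul_one, hsq,
      smul_mul_assoc, one_mul,
      show ((Units.mk0 (-4 : K) _ : Kˣ) : K) = -4 from rfl]
    module
  · rw [← map_mul, ← map_pow, Ne, Matrix.ProjGenLinGroup.mk_eq_one,
      Matrix.GeneralLinearGroup.center_eq_range_scalar]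
    rintro ⟨u, hu⟩
    have h := congrArg (fun z : GL (Fin 2) K => (z : Matrix (Fin 2) (Fin 2) K)) hu
    have h01 := congrFun (congrFun h 0) 1
    have h10 := congrFun (congrFun h 1) 0
    simp [X, Y, pow_two, Matrix.mul_apply, Fin.sum_univ_two, Matrix.GeneralLinearGroup.coe_scalar]
      at h01 h10
    have e10 : a * 2 = 0 := by linear_combination -h10
    have e01 : (1 - a) * (2 * 2) = 0 := by linear_combination h01
    have ha : a = 0 := (mul_eq_zero.1 e10).resolve_right h2
    rw [ha, sub_zero, one_mul, mul_eq_zero, or_self] at e01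
    exact h2 e01

theorem permFour_case (p : ℕ) [Fact p.Prime] [CharP F p] (hodd : Odd (Fintype.card F))
    (h5 : 5 ≤ Fintype.card F) {M : Subgroup PSL(2, F)} (hM : IsCoatom M)
    (hiso : Nonempty (M ≃* Equiv.Perm (Fin 4))) :
    (∃ (F₀ : Type) (_ : Field F₀) (_ : Fintype F₀), Fintype.card F = Fintype.card F₀ ^ 2 ∧
        Nonempty (M ≃* Matrix.ProjGenLinGroup (Fin 2) F₀)) ∨
    (Fintype.card F = p ∧ (p % 8 = 1 ∨ p % 8 = 7)) := by
  have h2 : (2 : F) ≠ 0 := odd_card_iff.1 hodd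
  have hM24 : Nat.card M = 24 := by
    rw [Nat.card_congr hiso.some.toEquiv, Nat.card_perm, Nat.card_fin]; decide
  have h8 : Fintype.card F % 8 = 1 ∨ Fintype.card F % 8 = 7 := by
    have h48 : 16 ∣ Fintype.card F * (Fintype.card F ^ 2 - 1) := by
      rw [← two_mul_card_PSL' hodd]
      exact (show 16 ∣ 2 * 24 by norm_num).trans
        (Nat.mul_dvd_mul_left 2 (hM24 ▸ M.card_subgroup_dvd_card))
    have h16 : 16 ∣ Fintype.card F ^ 2 - 1 := by
      refine Nat.Coprime.dvd_of_dvd_mul_left ?_ h48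
      exact Nat.Coprime.pow_left 4 ((Nat.prime_two.coprime_iff_not_dvd).2 (by
        rcases hodd with ⟨j, hj⟩; omega))
    have hpos : 0 < Fintype.card F ^ 2 := Nat.pow_pos (by omega)
    have hmod : Fintype.card F ^ 2 % 16 = 1 := by omega
    rw [Nat.pow_mod] at hmod
    have := Nat.mod_lt (Fintype.card F) (show 16 > 0 by norm_num)
    generalize hr : Fintype.card F % 16 = r at hmod this
    interval_cases r <;> omega
  obtain ⟨n, hn0, hn⟩ := card_eq_pow (F := F) p
  by_cases hn1 : n = 1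
  · rw [hn1, pow_one] at hn
    exact Or.inr ⟨hn, hn ▸ h8⟩
  obtain ⟨r, hr, c, hc⟩ := Nat.exists_prime_and_dvd hn1
  have hc0 : c ≠ 0 := by rintro rfl; omega
  obtain ⟨K, _, _, hK⟩ := exists_field p c hc0
  have hKF : Fintype.card F = Fintype.card K ^ r := by rw [hn, hK, ← pow_mul, hc, mul_comm]
  have hk : Odd (Fintype.card K) := (Nat.odd_pow_iff hr.ne_zero).1 (hKF ▸ hodd)
  obtain ⟨ι⟩ := FieldExt.exists_ringHom_of_card_pow (F := K) (K := F) hr.ne_zero hKF
  have hlt : Fintype.card K < Fintype.card F := by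
    rw [hKF]; exact lt_self_pow₀ (one_lt_q (F := K)) hr.one_lt
  by_cases hl : Fintype.card K % 8 ≠ 3 ∧ Fintype.card K % 8 ≠ 5
  · obtain ⟨s', hs'⟩ := FiniteField.isSquare_two_iff.2 hl
    have hs0 : ι s' ^ 2 = 2 := by rw [pow_two, ← map_mul, ← hs', map_ofNat]
    obtain ⟨X, Y, hP⟩ := Conjugate.permFour_genPair hiso hs0
    obtain ⟨σ, hσ⟩ := Conjugate.exists_map_le_range_genPair ι (odd_card_iff.1 hk) hP
      (by rw [hs0]; exact two_ne_three) (s' := s') rfl
    obtain ⟨hcard, -⟩ := card_eq_of_map_le hM σ hσ (range_pslMap_ne_top hodd hk hlt ι)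
    have h1 := card_range_pslMap hk ι
    rw [hcard, hM24] at h1
    exact absurd h1.symm (ne_card_fortyeight (one_lt_q (F := K)))
  · have hl' : Fintype.card K % 8 = 3 ∨ Fintype.card K % 8 = 5 := by omega
    obtain rfl : r = 2 := by
      by_contra hr2
      obtain ⟨j, rfl⟩ := hr.odd_of_ne_two hr2
      have : Fintype.card F % 8 = Fintype.card K % 8 := by
        rw [hKF, pow_succ, pow_mul, Nat.mul_mod, Nat.pow_mod,
          show Fintype.card K ^ 2 % 8 = 1 by rw [Nat.pow_mod]; rcases hl' with e | e <;> rw [e]]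
        simp
      omega
    obtain ⟨f, hf, -, hne, hcf⟩ := exists_pgl_range_over hk hKF ι
    obtain ⟨φ, hφ⟩ := exists_permFour_pgl (odd_card_iff.1 hk)
    obtain ⟨s, hs⟩ := FiniteField.isSquare_two_iff.2
      (show Fintype.card F % 8 ≠ 3 ∧ Fintype.card F % 8 ≠ 5 by omega)
    have hs0 : s ^ 2 = 2 := by rw [pow_two]; exact hs.symm
    obtain ⟨X, Y, hP⟩ := Conjugate.permFour_genPair hiso hs0
    obtain ⟨X', Y', hP'⟩ := Conjugate.permFour_genPair (M := (f.comp φ).range)
      ⟨(MonoidHom.ofInjective (f := f.comp φ) (hf.comp hφ)).symm⟩ hs0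
    obtain ⟨σ, hσ⟩ := Conjugate.exists_map_eq h2 hP hP' (by rw [hs0]; exact two_ne_three)
    obtain ⟨-, ⟨e⟩⟩ := card_eq_of_map_le hM σ
      (hσ.le.trans (by rw [MonoidHom.range_comp]; exact Subgroup.map_le_range _ _)) hne
    exact Or.inl ⟨K, inferInstance, inferInstance, hKF, ⟨e.trans (MonoidHom.ofInjective hf).symm⟩⟩

theorem exists_degree {n : ℕ} (hn : 2 ≤ n) :
    ∃ r c : ℕ, r.Prime ∧ n = r * c ∧ c ≠ 0 ∧ (Odd r ∨ Even c ∨ n = 2) := by
  rcases Nat.even_or_odd n with ⟨c, hc⟩ | hodd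
  · by_cases hc' : Even c ∨ n = 2
    · exact ⟨2, c, Nat.prime_two, by omega, by omega, Or.inr hc'⟩
    · push Not at hc'
      rw [Nat.not_even_iff_odd] at hc'
      have hc1 : c ≠ 1 := by omega
      obtain ⟨d, hd⟩ := Nat.minFac_dvd c
      refine ⟨c.minFac, 2 * d, Nat.minFac_prime hc1, by rw [hc]; nlinarith, ?_, Or.inl ?_⟩
      · rintro h; have : d = 0 := by omega
        subst this; omega
      · exact hc'.1.of_dvd_nat (Nat.minFac_dvd c)
  · obtain ⟨d, hd⟩ := Nat.minFac_dvd n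
    exact ⟨n.minFac, d, Nat.minFac_prime (by omega), hd, by rintro rfl; omega,
      Or.inl (hodd.of_dvd_nat (Nat.minFac_dvd n))⟩

theorem altFive_case (p : ℕ) [Fact p.Prime] [CharP F p] (hodd : Odd (Fintype.card F))
    (h5 : 5 ≤ Fintype.card F) {M : Subgroup PSL(2, F)} (hM : IsCoatom M)
    (hiso : Nonempty (M ≃* alternatingGroup (Fin 5))) :
    (∃ (F₀ : Type) (_ : Field F₀) (_ : Fintype F₀) (r : ℕ), r.Prime ∧ Odd r ∧
        Fintype.card F = Fintype.card F₀ ^ r ∧ Nonempty (M ≃* PSL(2, F₀))) ∨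
    ((Fintype.card F % 10 = 1 ∨ Fintype.card F % 10 = 9) ∧
        (Fintype.card F = p ∨ (Fintype.card F = p ^ 2 ∧ (p % 10 = 3 ∨ p % 10 = 7)))) := by
  have hM60 : Nat.card M = 60 := by
    rw [Nat.card_congr hiso.some.toEquiv, nat_card_alternatingGroup, Nat.card_fin]; decide
  have h5q : 5 ∣ Fintype.card F * (Fintype.card F ^ 2 - 1) := by
    rw [← two_mul_card_PSL' hodd]
    exact dvd_mul_of_dvd_right ((show 5 ∣ 60 by norm_num).trans (hM60 ▸ M.card_subgroup_dvd_card)) 2
  obtain ⟨n, hn0, hn⟩ := card_eq_pow (F := F) p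
  have hp2 := ne_two_of_odd p hodd
  have hpodd : Odd p := (Fact.out : p.Prime).odd_of_ne_two hp2
  by_cases hn1 : n = 1
  · rw [hn1, pow_one] at hn
    refine Or.inr ⟨?_, Or.inl hn⟩
    rcases (Nat.Prime.dvd_mul (show Nat.Prime 5 by norm_num)).1 h5q with h | h
    · exfalso
      have hp5 : p = 5 := ((Nat.prime_dvd_prime_iff_eq (by norm_num) Fact.out).1 (hn ▸ h)).symm
      refine hM.1 (Subgroup.eq_top_of_card_eq _ ?_)
      have := two_mul_card_PSL' hodd
      rw [hn, hp5] at this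
      omega
    · have : 0 < Fintype.card F ^ 2 := Nat.pow_pos (by omega)
      have hmod : Fintype.card F ^ 2 % 5 = 1 := by omega
      rw [Nat.pow_mod] at hmod
      have hlt := Nat.mod_lt (Fintype.card F) (show 5 > 0 by norm_num)
      have h2 : Fintype.card F % 2 = 1 := Nat.odd_iff.1 hodd
      generalize hr : Fintype.card F % 5 = r at hmod hlt
      interval_cases r <;> omega
  obtain ⟨r, c, hr, hc, hc0, hcase⟩ := exists_degree (show 2 ≤ n by omega)
  obtain ⟨K, _, _, hK⟩ := exists_field p c hc0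
  have hKF : Fintype.card F = Fintype.card K ^ r := by rw [hn, hK, ← pow_mul, hc, mul_comm]
  have hk : Odd (Fintype.card K) := by rw [hK]; exact hpodd.pow
  obtain ⟨ι⟩ := FieldExt.exists_ringHom_of_card_pow (F := K) (K := F) hr.ne_zero hKF
  have hlt : Fintype.card K < Fintype.card F := by
    rw [hKF]; exact lt_self_pow₀ (one_lt_q (F := K)) hr.one_lt
  by_cases h5K : 5 ∣ Fintype.card K * (Fintype.card K ^ 2 - 1)
  · left
    have : Fact (Nat.Prime 5) := ⟨by norm_num⟩
    rw [← gcd_mul_card_PSL] at h5K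
    obtain ⟨x, hx⟩ := exists_prime_orderOf_dvd_card' (G := PSL(2, K)) 5
      (Nat.Coprime.dvd_of_dvd_mul_left
        (Nat.Coprime.coprime_dvd_right (Nat.gcd_dvd_left _ _) (by decide)) h5K)
    obtain ⟨τ, hτ⟩ := exists_golden hx
    obtain ⟨X, Y, s, hP, hs⟩ := Conjugate.altFive_genPair hiso
    obtain ⟨s', hs'⟩ : ∃ s' : K, ι s' = s := by
      have hτ' : ι τ ^ 2 = ι τ + 1 := by simpa using congrArg ι hτ
      rcases mul_eq_zero.1 (show (s - ι τ) * (s - (1 - ι τ)) = 0 by
        linear_combination hs - hτ') with h | h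
      · exact ⟨τ, by linear_combination -h⟩
      · exact ⟨1 - τ, by rw [map_sub, map_one]; linear_combination -h⟩
    have h3 : s ^ 2 ≠ 3 := by
      intro h
      exact one_ne_zero (show (1 : F) = 0 by linear_combination h - (s + 2) * (h - hs))
    obtain ⟨σ, hσ⟩ := Conjugate.exists_map_le_range_genPair ι (odd_card_iff.1 hk) hP h3 hs'
    have hne := range_pslMap_ne_top hodd hk hlt ι
    obtain ⟨hcard, ⟨e⟩⟩ := card_eq_of_map_le hM σ hσ hne
    refine ⟨K, inferInstance, inferInstance, r, hr, hr.odd_of_ne_two ?_, hKF,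
      ⟨e.trans (MonoidHom.ofInjective (pslMap_injective ι)).symm⟩⟩
    rintro rfl
    refine not_isCoatom_range_of_sq hk hKF ι ?_
    rw [eq_of_le_of_ne_top (isCoatom_map hM σ) hσ hne]
    exact isCoatom_map hM σ
  · right
    have hl : Fintype.card K % 5 = 2 ∨ Fintype.card K % 5 = 3 := by
      by_contra hl
      apply h5K
      have hlt5 := Nat.mod_lt (Fintype.card K) (show 5 > 0 by norm_num)
      by_cases h0 : Fintype.card K % 5 = 0
      · exact dvd_mul_of_dvd_left (Nat.dvd_of_mod_eq_zero h0) _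
      · refine dvd_mul_of_dvd_right ?_ _
        have : Fintype.card K % 5 = 1 ∨ Fintype.card K % 5 = 4 := by omega
        have : Fintype.card K ^ 2 % 5 = 1 := by
          rw [Nat.pow_mod]; rcases this with e | e <;> rw [e]
        omega
    rcases hcase with hro | ⟨d, rfl⟩ | rfl
    · exfalso
      obtain ⟨j, rfl⟩ := hro
      have hF5 : Fintype.card F % 5 = 2 ∨ Fintype.card F % 5 = 3 := by
        rw [hKF, pow_succ, pow_mul, Nat.mul_mod, Nat.pow_mod,
          show Fintype.card K ^ 2 % 5 = 4 by rw [Nat.pow_mod]; rcases hl with e | e <;> rw [e]]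
        rcases Nat.even_or_odd j with ⟨i, rfl⟩ | ⟨i, rfl⟩
        · rw [← two_mul, pow_mul]; norm_num [Nat.pow_mod]; exact hl
        · rw [pow_succ, pow_mul]; norm_num [Nat.mul_mod, Nat.pow_mod]
          rcases hl with e | e <;> simp [e]
      rcases (Nat.Prime.dvd_mul (show Nat.Prime 5 by norm_num)).1 h5q with h | h
      · omega
      · have : Fintype.card F ^ 2 % 5 = 4 := by
          rw [Nat.pow_mod]; rcases hF5 with e | e <;> rw [e]
        have : 0 < Fintype.card F ^ 2 := Nat.pow_pos (by omega)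
        omega
    · exfalso
      rw [hK, show p ^ (d + d) = (p ^ d) ^ 2 by ring, Nat.pow_mod] at hl
      have hlt5 := Nat.mod_lt (p ^ d) (show 5 > 0 by norm_num)
      generalize p ^ d % 5 = a at hl hlt5
      interval_cases a <;> simp at hl
    · obtain ⟨rfl, rfl⟩ : r = 2 ∧ c = 1 := by
        rcases (Nat.dvd_prime Nat.prime_two).1 (Dvd.intro c hc.symm) with h | h
        · exact absurd h hr.one_lt.ne'
        · subst h; omega
      rw [pow_one] at hK
      rw [hK] at hl hKF
      have : Fintype.card F % 5 = 4 := by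
        rw [hKF, Nat.pow_mod]; rcases hl with e | e <;> rw [e]
      have := Nat.odd_iff.1 hodd
      have := Nat.odd_iff.1 hpodd
      exact ⟨by omega, Or.inr ⟨hKF, by omega⟩⟩

/-- A torus normaliser inside a proper subgroup with a dihedral section of the same order is not maximal. -/
theorem torus_exception (p : ℕ) [Fact p.Prime] [CharP F p] (hq : 4 ≤ Fintype.card F)
    {g : SL(2, F)} (h4 : tr g ^ 2 ≠ 4) {M : Subgroup PSL(2, F)} (hM : IsCoatom M)
    (hMg : M = (Subgroup.normalizer (cent g : Set SL(2, F))).map mk)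
    {k : ℕ} (hk : Nat.card ((cent g).map mk) = k) (hk3 : 3 ≤ k)
    (huniq : ∀ h : SL(2, F), tr h ^ 2 ≠ 4 → k ∣ Nat.card ((cent h).map mk) →
      Nat.card ((cent h).map mk) = k)
    {X : Type*} [Group X] (φ : X →* PSL(2, F)) (hφ : Function.Injective φ)
    (hcard : Nat.card X ≠ 2 * k) (hlt : Nat.card X < Nat.card PSL(2, F))
    {x z : X} (hx : orderOf x = k) (hz : z * x * z⁻¹ = x⁻¹) : False := by
  have hp : ¬ p ∣ k := by
    refine not_dvd_torus (F := F) p ?_
    rcases card_torus_psl h4 with e | e <;> rw [hk] at e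
    · exact Or.inr e.dvd
    · exact Or.inl e.dvd
  have hxo : orderOf (φ x) = k := by rw [orderOf_injective φ hφ, hx]
  obtain ⟨h, hh⟩ := mk_surjective (φ x)
  have hh4 : tr h ^ 2 ≠ 4 := by
    refine tr_sq_ne_four_of_orderOf p ?_ ?_
    · intro e; rw [← hh, e, orderOf_one] at hxo; omega
    · rw [hh, hxo]; exact hp
  have hxT : φ x ∈ (cent h).map mk := hh ▸ Subgroup.mem_map_of_mem mk (mem_cent.2 (Commute.refl h))
  have hkT : Nat.card ((cent h).map mk) = k := huniq h hh4 (by
    rw [← hxo]; exact Subgroup.orderOf_dvd_natCard _ hxT)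
  have hTz : Subgroup.zpowers (φ x) = (cent h).map mk :=
    Subgroup.eq_of_le_of_card_ge (Subgroup.zpowers_le.2 hxT) (by rw [Nat.card_zpowers, hxo, hkT])
  set NT := (Subgroup.normalizer (cent h : Set SL(2, F))).map mk with hNT
  have hzN : φ z ∈ NT := mem_normalizer_of_zpowers hh4 (by
    rw [hh, ← map_inv, ← map_mul, ← map_mul, hz, map_inv]
    exact inv_mem (Subgroup.mem_zpowers _))
  have hznot : φ z ∉ Subgroup.zpowers (φ x) := by
    rintro ⟨i, hi⟩
    have h1 : φ z * φ x * (φ z)⁻¹ = φ x := by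
      rw [← hi]; group
    rw [← map_inv, ← map_mul, ← map_mul, hφ.eq_iff, hz] at h1
    have := orderOf_dvd_iff_pow_eq_one.2 (show x ^ 2 = 1 by
      rw [pow_two]; nth_rw 1 [← h1]; rw [inv_mul_cancel])
    rw [hx] at this
    have := Nat.le_of_dvd two_pos this
    omega
  have hle : NT ≤ φ.range := by
    have hxN : Subgroup.zpowers (φ x) ≤ NT ⊓ φ.range := le_inf
      (Subgroup.zpowers_le.2 (Subgroup.map_mono (cent_le_normalizer h) hxT))
      (Subgroup.zpowers_le.2 ⟨x, rfl⟩)
    have hd := Subgroup.card_dvd_of_le hxN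
    rw [Nat.card_zpowers, hxo] at hd
    have hd2 := Subgroup.card_dvd_of_le (inf_le_left : NT ⊓ φ.range ≤ NT)
    rw [hNT, card_normalizer_torus_psl hh4, hkT, ← hNT] at hd2
    have hlt' : k < Nat.card ↥(NT ⊓ φ.range) := by
      rw [← hxo, ← Nat.card_zpowers]
      refine card_lt_of_lt (lt_of_le_of_ne hxN fun e => hznot ?_)
      rw [e]; exact ⟨hzN, z, rfl⟩
    have hle2 := Nat.le_of_dvd (by omega) hd2
    obtain ⟨c, hc⟩ := hd
    have hc2 : c = 2 := by
      rcases c with _ | _ | _ | c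
      · omega
      · omega
      · rfl
      · nlinarith
    exact (Subgroup.eq_of_le_of_card_ge inf_le_left (by
      rw [hNT, card_normalizer_torus_psl hh4, hkT, ← hNT, hc, hc2, mul_comm])).ge.trans inf_le_right
  have hceq : Nat.card (cent g) = Nat.card (cent h) := by
    rw [← card_map_cent g, ← card_map_cent h, hk, hkT]
  obtain ⟨w, hw⟩ := exists_conj_of_card_eq h4 hh4 hceq
  have hmap : M.map (MulAut.conj (mk w)).toMonoidHom ≤ NT := by
    rw [hMg, hNT]
    rintro _ ⟨_, ⟨s, hs, rfl⟩, rfl⟩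
    refine ⟨w * s * w⁻¹, ?_, by simp⟩
    have := Subgroup.le_normalizer_map (MulAut.conj w).toMonoidHom
      (Subgroup.mem_map_of_mem (MulAut.conj w).toMonoidHom hs)
    rw [← hw] at this
    exact this
  have hne : φ.range ≠ ⊤ := by
    intro e
    have := Nat.card_congr (MonoidHom.ofInjective hφ).toEquiv
    rw [e, Subgroup.card_top] at this
    omega
  have hMc : Nat.card M = 2 * k := by rw [hMg, card_normalizer_torus_psl h4, hk]
  have := (card_eq_of_map_le hM (MulAut.conj (mk w)) (hmap.trans hle) hne).1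
  rw [← Nat.card_congr (MonoidHom.ofInjective hφ).toEquiv, hMc] at this
  exact hcard this

theorem torus_small (p : ℕ) [Fact p.Prime] [CharP F p] (hodd : Odd (Fintype.card F))
    {g : SL(2, F)} (h4 : tr g ^ 2 ≠ 4) {M : Subgroup PSL(2, F)} (hM : IsCoatom M)
    (hMg : M = (Subgroup.normalizer (cent g : Set SL(2, F))).map mk)
    {k : ℕ} (hk : Nat.card ((cent g).map mk) = k) (hk3 : 3 ≤ k)
    (hq : (Fintype.card F = 7 ∧ (k = 3 ∨ k = 4)) ∨ (Fintype.card F = 9 ∧ (k = 4 ∨ k = 5)) ∨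
      (Fintype.card F = 11 ∧ k = 5)) : False := by
  have h7 : 7 ≤ Fintype.card F := by omega
  have hG : 168 ≤ Nat.card PSL(2, F) := by
    have := card_psl_ge hodd h7; norm_num at this; omega
  have h2 : (2 : F) ≠ 0 := odd_card_iff.1 hodd
  have hd : Nat.gcd 2 (Fintype.card F - 1) = 2 := Nat.gcd_eq_left (by
    rcases hodd with ⟨j, hj⟩; omega)
  have huniq : ∀ h : SL(2, F), tr h ^ 2 ≠ 4 → k ∣ Nat.card ((cent h).map mk) →
      Nat.card ((cent h).map mk) = k := by
    intro h hh hkd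
    obtain ⟨t, ht⟩ := hkd
    rcases card_torus_psl hh with e | e <;> rw [hd] at e <;>
      (rcases hq with ⟨hq, rfl | rfl⟩ | ⟨hq, rfl | rfl⟩ | ⟨hq, rfl⟩ <;> omega)
  by_cases hk5 : k = 5
  · subst hk5
    have : Fact (Nat.Prime 5) := ⟨by norm_num⟩
    obtain ⟨x, hx⟩ : ∃ x : PSL(2, F), orderOf x = 5 := by
      refine exists_prime_orderOf_dvd_card' 5 ?_
      rw [← hk]
      exact Subgroup.card_subgroup_dvd_card _
    obtain ⟨τ, hτ⟩ := exists_golden hx
    obtain ⟨φ, hφ⟩ := exists_altFive_of_golden hτ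
    have hc : Nat.card (alternatingGroup (Fin 5)) = 60 := by
      rw [nat_card_alternatingGroup, Nat.card_fin]; decide
    exact torus_exception p (by omega) h4 hM hMg hk hk3 huniq φ hφ (by omega) (by omega)
      (x := ⟨Equiv.swap 0 4 * Equiv.swap 0 3 * Equiv.swap 0 2 * Equiv.swap 0 1,
        by rw [Equiv.Perm.mem_alternatingGroup]; decide +kernel⟩)
      (z := ⟨Equiv.swap 1 4 * Equiv.swap 2 3, by rw [Equiv.Perm.mem_alternatingGroup]; decide +kernel⟩)
      ((orderOf_eq_iff (by norm_num)).2 ⟨by decide +kernel, by decide +kernel⟩) (by decide +kernel)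
  · obtain ⟨s, hs⟩ := FiniteField.isSquare_two_iff.2
      (show Fintype.card F % 8 ≠ 3 ∧ Fintype.card F % 8 ≠ 5 by omega)
    obtain ⟨φ, hφ⟩ := exists_permFour_of_sq_two h2 (s := s) (by rw [pow_two]; exact hs.symm)
    have hc : Nat.card (Equiv.Perm (Fin 4)) = 24 := by rw [Nat.card_perm, Nat.card_fin]; decide
    have hk34 : k = 3 ∨ k = 4 := by omega
    rcases hk34 with rfl | rfl
    · exact torus_exception p (by omega) h4 hM hMg hk hk3 huniq φ hφ (by omega) (by omega)
        (x := Equiv.swap 0 1 * Equiv.swap 1 2) (z := Equiv.swap 0 1)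
        ((orderOf_eq_iff (by norm_num)).2 ⟨by decide +kernel, by decide +kernel⟩) (by decide +kernel)
    · exact torus_exception p (by omega) h4 hM hMg hk hk3 huniq φ hφ (by omega) (by omega)
        (x := Equiv.swap 0 1 * Equiv.swap 1 2 * Equiv.swap 2 3) (z := Equiv.swap 0 3 * Equiv.swap 1 2)
        ((orderOf_eq_iff (by norm_num)).2 ⟨by decide +kernel, by decide +kernel⟩) (by decide +kernel)

theorem pgl_degree_two (p : ℕ) [Fact p.Prime] [CharP F p] (hodd : Odd (Fintype.card F))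
    {M : Subgroup PSL(2, F)} (hM : IsCoatom M) {L : Type} [Field L] [Fintype L] {m : ℕ}
    (hm : Fintype.card L ^ m = Fintype.card F) (e : M ≃* Matrix.ProjGenLinGroup (Fin 2) L) :
    m = 2 := by
  obtain ⟨n, hn0, hn⟩ := card_eq_pow (F := F) p
  have hm0 : m ≠ 0 := by
    rintro rfl
    have := one_lt_q (F := F)
    simp at hm; omega
  obtain ⟨a, ha, ham⟩ := pow_eq_of_pow_eq_prime (p := p) Fact.out (hm.trans hn) hm0
  have ha0 : a ≠ 0 := by rintro rfl; simp at ham; omega
  haveI := charP_of_card_pow p ha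
  have heven := (S0805.result (F := F) (K := L) rfl hodd m (Nat.pos_of_ne_zero hm0) hm).2.1 ⟨M, ⟨e⟩⟩
  obtain ⟨c, hc⟩ := heven
  by_contra hm2
  have hc2 : 2 ≤ c := by omega
  have hl : Odd (Fintype.card L) := (Nat.odd_pow_iff hm0).1 (hm ▸ hodd)
  obtain ⟨K, _, _, hK⟩ := exists_field p (2 * a) (by omega)
  have hKL : Fintype.card K = Fintype.card L ^ 2 := by rw [hK, ha, ← pow_mul, mul_comm]
  have hKF : Fintype.card F = Fintype.card K ^ c := by
    rw [hn, hK, ← pow_mul, ← ham, hc]; ring_nf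
  have hk : Odd (Fintype.card K) := hKL ▸ hl.pow
  have hlt : Fintype.card K < Fintype.card F := by
    rw [hKF]; exact lt_self_pow₀ (one_lt_q (F := K)) (by omega)
  obtain ⟨ι⟩ := FieldExt.exists_ringHom_of_card_pow (F := K) (K := F) (by omega : c ≠ 0) hKF
  let f : PSL(2, L) →* PSL(2, F) :=
    (M.subtype.comp e.symm.toMonoidHom).comp Matrix.ProjectiveSpecialLinearGroup.toPGL
  have hf : Function.Injective f :=
    (M.subtype_injective.comp e.symm.injective).comp Matrix.ProjectiveSpecialLinearGroup.toPGL_injective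
  obtain ⟨σ, hσ⟩ := exists_map_le_of_psl p ι (L := L) f hf (fun x => (e.symm _).2) (fun g hg => by
    obtain ⟨y, hy⟩ := sq_mem_range_toPGL (e ⟨mk g, hg⟩)
    have h1 := Conjugate.tr_pow_of_mem p f hf (g := g * g) (x := y) (by
      show ((e.symm (Matrix.ProjectiveSpecialLinearGroup.toPGL y) : M) : PSL(2, F)) = _
      rw [hy, ← map_mul, e.symm_apply_apply, map_mul]
      rfl)
    rw [tr_mul_self] at h1
    have hfix : ∀ t : F, (t - 2) ^ Fintype.card L = t ^ Fintype.card L - 2 := fun t => by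
      have h2 : (2 : F) ^ Fintype.card L = 2 := by
        rw [← one_add_one_eq_two, ha, add_pow_char_pow, one_pow]
      conv_rhs => rw [← h2]
      rw [ha, sub_pow_char_pow]
    rw [hfix, sub_left_inj, ← pow_mul, mul_comm, pow_mul] at h1
    rw [hKL, pow_two, pow_mul]
    rcases sq_eq_sq_iff_eq_or_eq_neg.1 h1 with h | h
    · rw [h, h]
    · rw [h, hl.neg_pow, h, neg_neg])
  obtain ⟨hcard, -⟩ := card_eq_of_map_le hM σ hσ (range_pslMap_ne_top hodd hk hlt ι)
  have h1 := card_range_pslMap hk ι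
  rw [hcard, Nat.card_congr e.toEquiv, GL.card_PGL, card_SL, hKL] at h1
  have hl1 : 3 ≤ Fintype.card L := by
    have := one_lt_q (F := L); rcases hl with ⟨j, hj⟩; omega
  generalize Fintype.card L = l at *
  have h2 : (l ^ 2) ^ 2 - 1 = (l ^ 2 + 1) * (l ^ 2 - 1) := by simpa using Nat.sq_sub_sq (l ^ 2) 1
  rw [h2] at h1
  have h4 : 0 < l ^ 2 - 1 := by have := Nat.mul_le_mul hl1 hl1; rw [pow_two]; omega
  have h3 : 2 * l < l ^ 2 * (l ^ 2 + 1) :=
    calc 2 * l < l ^ 2 * 2 := by nlinarith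
      _ ≤ l ^ 2 * (l ^ 2 + 1) := Nat.mul_le_mul_left _ (by have := Nat.one_le_pow 2 l (by omega); omega)
  nlinarith [Nat.mul_lt_mul_of_pos_right h3 h4]

/-- Maximal subgroups, `q` odd. -/
theorem classify_odd (p : ℕ) [Fact p.Prime] [CharP F p] (hodd : Odd (Fintype.card F))
    (h5 : 5 ≤ Fintype.card F) {M : Subgroup PSL(2, F)} (hM : IsCoatom M) (hD : IsDicksonType p M) :
    2 * Nat.card M = Fintype.card F * (Fintype.card F - 1) ∨
    (13 ≤ Fintype.card F ∧ (∃ k : ℕ, 2 * k = Fintype.card F - 1 ∧ Nonempty (M ≃* DihedralGroup k))) ∨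
    (Fintype.card F ≠ 7 ∧ Fintype.card F ≠ 9 ∧
      (∃ k : ℕ, 2 * k = Fintype.card F + 1 ∧ Nonempty (M ≃* DihedralGroup k))) ∨
    (∃ (F₀ : Type) (_ : Field F₀) (_ : Fintype F₀), Fintype.card F = Fintype.card F₀ ^ 2 ∧
        Nonempty (M ≃* Matrix.ProjGenLinGroup (Fin 2) F₀)) ∨
    (∃ (F₀ : Type) (_ : Field F₀) (_ : Fintype F₀) (r : ℕ), r.Prime ∧ Odd r ∧
        Fintype.card F = Fintype.card F₀ ^ r ∧ Nonempty (M ≃* PSL(2, F₀))) ∨
    ((Fintype.card F % 10 = 1 ∨ Fintype.card F % 10 = 9) ∧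
        (Fintype.card F = p ∨ (Fintype.card F = p ^ 2 ∧ (p % 10 = 3 ∨ p % 10 = 7))) ∧
        Nonempty (M ≃* alternatingGroup (Fin 5))) ∨
    (Fintype.card F = p ∧ (p % 8 = 3 ∨ p % 8 = 5) ∧ ¬ (p % 10 = 1 ∨ p % 10 = 9) ∧
        Nonempty (M ≃* alternatingGroup (Fin 4))) ∨
    (Fintype.card F = p ∧ (p % 8 = 1 ∨ p % 8 = 7) ∧ Nonempty (M ≃* Equiv.Perm (Fin 4))) := by
  have hq4 : 4 ≤ Fintype.card F := by omega
  have hd : Nat.gcd 2 (Fintype.card F - 1) = 2 := Nat.gcd_eq_left (by
    rcases hodd with ⟨j, hj⟩; omega)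
  obtain ⟨j, hj⟩ := hodd
  have hodd' : Odd (Fintype.card F) := ⟨j, hj⟩
  rcases shape p hq4 hM hD with h | ⟨g, hg, hMg, h3, hiso⟩ | h | h | h | ⟨L, _, _, m, hm, hiso⟩
  · exact Or.inl (by rwa [hd] at h)
  · rcases card_torus_psl hg with e | e <;> rw [hd] at e
    · refine Or.inr (Or.inl ⟨?_, _, ?_, hiso⟩)
      · by_contra hlt
        refine torus_small p hodd' hg hM hMg rfl h3 ?_
        omega
      · omega
    · refine Or.inr (Or.inr (Or.inl ⟨?_, ?_, _, ?_, hiso⟩))
      · intro h7; exact torus_small p hodd' hg hM hMg rfl h3 (by omega)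
      · intro h9; exact torus_small p hodd' hg hM hMg rfl h3 (by omega)
      · omega
  · rcases altFour_case p hodd' h5 hM h with h' | ⟨a, b, c⟩
    · exact Or.inr (Or.inr (Or.inr (Or.inr (Or.inl h'))))
    · exact Or.inr (Or.inr (Or.inr (Or.inr (Or.inr (Or.inr (Or.inl ⟨a, b, c, h⟩))))))
  · rcases permFour_case p hodd' h5 hM h with h' | ⟨a, b⟩
    · exact Or.inr (Or.inr (Or.inr (Or.inl h')))
    · exact Or.inr (Or.inr (Or.inr (Or.inr (Or.inr (Or.inr (Or.inr ⟨a, b, h⟩))))))
  · rcases altFive_case p hodd' h5 hM h with h' | ⟨a, b⟩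
    · exact Or.inr (Or.inr (Or.inr (Or.inr (Or.inl h'))))
    · exact Or.inr (Or.inr (Or.inr (Or.inr (Or.inr (Or.inl ⟨a, b, h⟩)))))
  · rcases hiso with ⟨⟨e⟩⟩ | ⟨⟨e⟩⟩
    · obtain ⟨hmp, K, _, _, ι, σ, hKL, hσ⟩ := psl_degree_prime p hM hm e
      refine Or.inr (Or.inr (Or.inr (Or.inr (Or.inl ⟨L, inferInstance, inferInstance, m, hmp,
        hmp.odd_of_ne_two ?_, hm.symm, ⟨e⟩⟩))))
      rintro rfl
      refine not_isCoatom_range_of_sq (K := K) ?_ ?_ ι (hσ ▸ isCoatom_map hM σ)
      · rw [hKL]; exact (Nat.odd_pow_iff two_ne_zero).1 (hm ▸ hodd')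
      · rw [hKL, hm]
    · have h2 := pgl_degree_two p hodd' hM hm e
      subst h2
      exact Or.inr (Or.inr (Or.inr (Or.inl ⟨L, inferInstance, inferInstance, hm.symm, ⟨e⟩⟩)))

end Cfsg.Agent.PSL2.Maximal
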