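import Cfsg.Agent.Lib.PSL2.MaximalPGL
import Cfsg.Agent.S0799

/-!
Classification of the maximal subgroups of `PGL(2, F)`, `q` odd, not containing `PSL(2, F)`: point
stabilisers, dihedral groups of order `2(q ± 1)`, `S₄` for `q` a prime `≡ ±3 mod 8`, and `PGL(2, F₀)`
for subfields of odd prime index.
-/

set_option autoImplicit false

open Matrix
open scoped MatrixGroups

namespace Cfsg.Agent.PSL2.Maximal

variable {F : Type*} [Field F] [Fintype F]

theorem exists_pgl_to_psl_sq (p : ℕ) [Fact p.Prime] [CharP F p] :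
    ∃ (F2 : Type) (_ : Field F2) (_ : Fintype F2) (_ : CharP F2 p) (ι : F →+* F2)
      (J : Matrix.ProjGenLinGroup (Fin 2) F →* PSL(2, F2)),
      Fintype.card F2 = Fintype.card F ^ 2 ∧ Function.Injective J ∧ J.comp psi = pslMap ι := by
  obtain ⟨n, hn0, hn⟩ := card_eq_pow (F := F) p
  obtain ⟨F2, _, _, h2⟩ := exists_field p (2 * n) (by omega)
  have hq : Fintype.card F2 = Fintype.card F ^ 2 := by rw [h2, hn, ← pow_mul, mul_comm]
  obtain ⟨ι⟩ := FieldExt.exists_ringHom_of_card_pow (F := F) (K := F2) two_ne_zero hq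
  obtain ⟨J, hJ, hc⟩ := exists_pgl_embedding_extends ι (isSquare_of_even ι even_two hq.symm)
  exact ⟨F2, inferInstance, inferInstance, charP_of_card_pow p h2, ι, J, hq, hJ, hc⟩

theorem psi_pslMap {K : Type*} [Field K] (ι : K →+* F) (x : PSL(2, K)) :
    psi (pslMap ι x) = pglMap ι (psi x) := by
  obtain ⟨g, rfl⟩ := mk_surjective x
  show Matrix.ProjGenLinGroup.mk _ = Matrix.ProjGenLinGroup.mk _
  congr 1
  exact Units.ext (by ext i j; rfl)

theorem card_pgl' {K : Type*} [Field K] [Fintype K] :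
    Nat.card (Matrix.ProjGenLinGroup (Fin 2) K) = Fintype.card K * (Fintype.card K ^ 2 - 1) := by
  rw [GL.card_PGL, card_SL]

theorem mul_sq_sub_one_lt {k l : ℕ} (hk : 0 < k) (h : k < l) : k * (k ^ 2 - 1) < l * (l ^ 2 - 1) :=
  Nat.mul_lt_mul_of_lt_of_le h (Nat.sub_le_sub_right (Nat.pow_le_pow_left h.le 2) 1)
    (by have := Nat.one_lt_pow (show 2 ≠ 0 by omega) (show 1 < l by omega); omega)

theorem range_pglMap_ne_top {K : Type*} [Field K] [Fintype K] (ι : K →+* F)
    (h : Fintype.card K < Fintype.card F) : (pglMap ι).range ≠ ⊤ := by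
  intro ht
  have h1 := Nat.card_congr (MonoidHom.ofInjective (pglMap_injective ι)).toEquiv
  rw [ht, Subgroup.card_top, card_pgl', card_pgl'] at h1
  exact (mul_sq_sub_one_lt Fintype.card_pos h).ne h1

/-- `PSL(2, L)`, `L` odd, is generated by squares. -/
theorem eq_top_of_sq_mem_psl {L : Type*} [Field L] (h2 : (2 : L) ≠ 0) {N : Subgroup PSL(2, L)}
    (h : ∀ x, x * x ∈ N) : N = ⊤ := by
  have hu : ∀ t : L, uu t = uu (t / 2) * uu (t / 2) := fun t => by
    rw [uu_mul_uu]; congr 1; field_simp; ring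
  have hl : ∀ t : L, ll t = ll (t / 2) * ll (t / 2) := fun t => by
    rw [ll_mul_ll]; congr 1; field_simp; ring
  have he : N.comap mk = ⊤ := eq_top_of_uu_ll
    (fun t => by rw [Subgroup.mem_comap, hu t, map_mul]; exact h _)
    (fun t => by rw [Subgroup.mem_comap, hl t, map_mul]; exact h _)
  rw [eq_top_iff]
  intro x _
  obtain ⟨g, rfl⟩ := mk_surjective x
  have : g ∈ N.comap mk := he ▸ Subgroup.mem_top g
  exact this

/-- An element of order at least three of a torus normaliser lies in the torus. -/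
theorem mem_torus_of_orderOf {g : SL(2, F)} (h4 : tr g ^ 2 ≠ 4) {x : PSL(2, F)}
    (hx : x ∈ (Subgroup.normalizer (cent g : Set SL(2, F))).map mk) (ho : 3 ≤ orderOf x) :
    x ∈ (cent g).map mk := by
  obtain ⟨s, hs, rfl⟩ := hx
  by_contra hn
  have hs' : s ∉ cent g := fun h => hn (Subgroup.mem_map_of_mem mk h)
  have hsq := sq_eq_neg_one_of_inverting h4
    (inverting_of_mem_normalizer h4 hs hs' g (mem_cent.2 (Commute.refl g)))
  have h1 : mk s ^ 2 = 1 := by rw [pow_two, ← map_mul, hsq, mk_neg_one]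
  have := Nat.le_of_dvd two_pos (orderOf_dvd_of_pow_eq_one h1)
  omega

namespace Setup

variable {M : Subgroup (Matrix.ProjGenLinGroup (Fin 2) F)} (hs : Setup M)
include hs

theorem gcd_eq_two : Nat.gcd 2 (Fintype.card F - 1) = 2 := Nat.gcd_eq_left (by
  obtain ⟨j, hj⟩ := hs.odd; omega)

theorem card_of_borel (h : IsBorelType (core M)) :
    Nat.card M = Fintype.card F * (Fintype.card F - 1) := by
  obtain ⟨c, hc⟩ := h
  have h1 := Nat.card_congr
    ((core M).equivMapOfInjective (MulAut.conj c).toMonoidHom (MulAut.conj c).injective).toEquiv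
  rw [hc] at h1
  have h2 := card_borel_psl (F := F)
  rw [hs.gcd_eq_two, ← h1, ← hs.card_eq] at h2
  exact h2

theorem dihedral_of_torus (p : ℕ) [Fact p.Prime] [CharP F p] (ht : IsTorusType (core M)) :
    (Fintype.card F ≠ 5 ∧ Nonempty (M ≃* DihedralGroup (Fintype.card F - 1))) ∨
      Nonempty (M ≃* DihedralGroup (Fintype.card F + 1)) := by
  classical
  obtain ⟨g, h4, hH, h3⟩ := ht
  suffices key : Nonempty (M ≃* DihedralGroup (2 * Nat.card ((cent g).map mk))) by
    obtain ⟨j, hj⟩ := hs.odd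
    rcases card_torus_psl h4 with e | e <;> rw [hs.gcd_eq_two] at e
    · rw [show 2 * Nat.card ((cent g).map mk) = Fintype.card F - 1 by omega] at key
      exact Or.inl ⟨by omega, key⟩
    · rw [show 2 * Nat.card ((cent g).map mk) = Fintype.card F + 1 by omega] at key
      exact Or.inr key
  obtain ⟨F2, _, _, _, ι, J, -, hJ, hJc⟩ := exists_pgl_to_psl_sq (F := F) p
  obtain ⟨⟨x, hxT⟩, hgen⟩ := (isCyclic_map_cent h4).exists_generator
  have hord : orderOf x = Nat.card ((cent g).map mk) := by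
    rw [← Subgroup.orderOf_mk _ hxT, orderOf_eq_card_of_forall_mem_zpowers hgen]
  obtain ⟨h, hhc, rfl⟩ := Subgroup.mem_map.1 hxT
  have hhz : h ∉ Subgroup.center SL(2, F) := fun hz => by
    rw [mk_eq_one.2 (mem_center_iff_pm.1 hz), orderOf_one] at hord
    omega
  have hcent : cent h = cent g := cent_eq_cent (not_mem_center_of_tr h4) hhz (mem_cent.1 hhc)
  have hh4 : tr h ^ 2 ≠ 4 := tr_sq_ne_four_of_commute h4 hhz (mem_cent.1 hhc)
  set h2 : SL(2, F2) := Matrix.SpecialLinearGroup.map ι h with hh2def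
  have htr2 : tr h2 ^ 2 ≠ 4 := by
    intro e
    apply hh4
    apply ι.injective
    rw [map_pow, map_ofNat, ← e, hh2def]
    simp [tr_def]
  have hJx : ∀ u : SL(2, F), J (psi (mk u)) = mk (Matrix.SpecialLinearGroup.map ι u) := fun u =>
    DFunLike.congr_fun hJc (mk u)
  have hM' : M.map J ≤ (Subgroup.normalizer (cent h2 : Set SL(2, F2))).map mk := by
    rintro _ ⟨y, hy, rfl⟩
    obtain ⟨σ, hσ⟩ := exists_sigma y
    have hxH : mk h ∈ core M := hH ▸ Subgroup.map_mono (cent_le_normalizer g) hxT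
    have hσH := hs.sigma_mem hy hσ hxH
    rw [hH] at hσH
    have hσT := mem_torus_of_orderOf h4 hσH (by rw [MulEquiv.orderOf_eq, hord]; exact h3)
    obtain ⟨i, hi⟩ := hgen ⟨_, hσT⟩
    have hi' : mk h ^ i = σ (mk h) := by simpa using congrArg Subtype.val hi
    refine mem_normalizer_of_zpowers htr2 ⟨i, ?_⟩
    show mk h2 ^ i = _
    rw [hh2def, ← hJx, ← map_zpow, ← map_zpow, hi', hσ, map_mul, map_mul, map_inv]
  obtain ⟨w, hw⟩ := exists_inverting hh4
  set w2 : SL(2, F2) := Matrix.SpecialLinearGroup.map ι w with hw2def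
  have hw2 : w2 * h2 * w2⁻¹ = h2⁻¹ := by
    rw [hw2def, hh2def, ← map_inv, ← map_inv, ← map_mul, ← map_mul, hw]
  have hwH : mk w ∈ core M := by
    rw [hH, ← hcent]
    exact Subgroup.mem_map_of_mem mk ((mem_normalizer_cent hh4).2 (Or.inr hw))
  have hbM : mk w2 ∈ M.map J := ⟨psi (mk w), hwH, hJx w⟩
  have hw2c := not_mem_cent_of_inverting htr2 hw2
  set A := ((cent h2).map mk).subgroupOf (M.map J) with hA
  have hnb : (⟨mk w2, hbM⟩ : M.map J) ∉ A := fun hm =>
    hw2c ((mk_mem_map_iff (center_le_cent h2)).1 hm)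
  have hidx : A.index = 2 := by
    rw [Subgroup.index_eq_two_iff]
    refine ⟨⟨mk w2, hbM⟩, fun c => ?_⟩
    by_cases hc : c ∈ A
    · exact Or.inr ⟨hc, fun h => hnb ((Subgroup.mul_mem_cancel_left _ hc).1 h)⟩
    · refine Or.inl ⟨?_, hc⟩
      obtain ⟨s, hsN, hsc⟩ := hM' c.2
      rw [hA, Subgroup.mem_subgroupOf, Subgroup.coe_mul, ← hsc, ← map_mul]
      refine Subgroup.mem_map_of_mem mk (mem_cent.2 (mul_inv_eq_iff_eq_mul.1 ?_))
      have hsc' : s ∉ cent h2 := fun e => hc (by
        rw [hA, Subgroup.mem_subgroupOf, ← hsc]; exact Subgroup.mem_map_of_mem mk e)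
      have hs1 := inverting_of_mem_normalizer htr2 hsN hsc' h2 (mem_cent.2 (Commute.refl h2))
      rw [show s * w2 * h2 * (s * w2)⁻¹ = s * (w2 * h2 * w2⁻¹) * s⁻¹ by group, hw2, ← conj_inv, hs1,
        inv_inv]
  have hcardM : Nat.card (M.map J) = 2 * (2 * Nat.card ((cent g).map mk)) := by
    rw [← Nat.card_congr (M.equivMapOfInjective J hJ).toEquiv, hs.card_eq, hH,
      card_normalizer_torus_psl h4]
  have hcardA : Nat.card A = 2 * Nat.card ((cent g).map mk) := by
    have := A.index_mul_card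
    rw [hidx, hcardM] at this
    omega
  have := isCyclic_map_cent htr2
  let f : A →* (cent h2).map mk :=
    ((M.map J).subtype.comp A.subtype).codRestrict _ fun z => z.2
  have hfi : Function.Injective f := fun u v e => by
    have e' := congrArg Subtype.val e
    exact Subtype.ext (Subtype.ext e')
  have hAcyc : IsCyclic A := isCyclic_of_injective f hfi
  obtain ⟨a, hagen⟩ := hAcyc.exists_generator
  obtain ⟨e⟩ := PGroup.dihedralEquivOfRel (G := M.map J) (N := 2 * Nat.card ((cent g).map mk))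
    (a := (a : M.map J)) (b := ⟨mk w2, hbM⟩)
    (by rw [Subgroup.orderOf_coe, orderOf_eq_card_of_forall_mem_zpowers hagen, hcardA])
    (fun hb => hnb ((Subgroup.zpowers_le.2 a.2) hb))
    (by
      apply Subtype.ext
      show mk w2 ^ 2 = 1
      rw [← map_pow, pow_two, sq_eq_neg_one_of_inverting htr2 hw2, mk_neg_one])
    (by
      obtain ⟨s, hs', hsa⟩ := Subgroup.mem_map.1 a.2
      apply Subtype.ext
      show mk w2 * ((a : M.map J) : PSL(2, F2)) * (mk w2)⁻¹ = ((a : M.map J) : PSL(2, F2))⁻¹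
      rw [Subgroup.subtype_apply] at hsa
      rw [← hsa, ← map_inv mk w2, ← map_inv mk s, ← map_mul mk, ← map_mul mk,
        conj_eq_inv (not_mem_center_of_tr htr2) (mem_cent.1 hs') hw2])
    hcardM
  exact ⟨(M.equivMapOfInjective J hJ).trans e⟩

theorem exists_index_two {X : Type*} [Group X] [Finite X] (e : M ≃* X) :
    ∃ f : core M →* X, Function.Injective f ∧ f.range.index = 2 := by
  refine ⟨e.toMonoidHom.comp ((psi.comp (core M).subtype).codRestrict M fun x => x.2), ?_, ?_⟩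
  · intro a b h
    exact Subtype.ext (psi_injective (congrArg Subtype.val (e.injective h)))
  · set f := e.toMonoidHom.comp ((psi.comp (core M).subtype).codRestrict M fun x => x.2)
    have hf : Function.Injective f := fun a b h =>
      Subtype.ext (psi_injective (congrArg Subtype.val (e.injective h)))
    have h := f.range.index_mul_card
    rw [← Nat.card_congr (MonoidHom.ofInjective hf).toEquiv, ← Nat.card_congr e.toEquiv, hs.card_eq] at h
    exact Nat.eq_of_mul_eq_mul_right Nat.card_pos h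

theorem core_psl_of_pgl {L : Type*} [Field L] [Fintype L] (h2 : (2 : L) ≠ 0)
    (e : M ≃* Matrix.ProjGenLinGroup (Fin 2) L) : Nonempty (core M ≃* PSL(2, L)) := by
  obtain ⟨f, hf, hidx⟩ := hs.exists_index_two e
  have hodd : Odd (Fintype.card L) := odd_card_iff.2 h2
  have hN : f.range.comap (psi (F := L)) = ⊤ := eq_top_of_sq_mem_psl h2 fun x => by
    rw [Subgroup.mem_comap, map_mul]
    exact Subgroup.mul_self_mem_of_index_two hidx _
  have hle : (psi (F := L)).range ≤ f.range := by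
    rintro _ ⟨x, rfl⟩
    have : x ∈ f.range.comap (psi (F := L)) := hN ▸ Subgroup.mem_top x
    exact this
  have heq : (psi (F := L)).range = f.range := by
    refine Subgroup.eq_of_le_of_card_ge hle ?_
    have h1 := f.range.index_mul_card
    have h3 := (psi (F := L)).range.index_mul_card
    rw [hidx] at h1
    rw [index_range_psi hodd] at h3
    omega
  exact ⟨(MonoidHom.ofInjective hf).trans
    ((MulEquiv.subgroupCongr heq.symm).trans (MonoidHom.ofInjective psi_injective).symm)⟩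

theorem core_altFour_of_permFour (e : M ≃* Equiv.Perm (Fin 4)) :
    Nonempty (core M ≃* alternatingGroup (Fin 4)) := by
  obtain ⟨f, hf, hidx⟩ := hs.exists_index_two e
  exact ⟨(MonoidHom.ofInjective hf).trans
    (MulEquiv.subgroupCongr (Equiv.Perm.eq_alternatingGroup_of_index_eq_two hidx))⟩

/-- If the intersection with `PSL` is not tame, `M` is `S₄` or a `PGL(2, L)`. -/
theorem exceptional (p : ℕ) [Fact p.Prime] [CharP F p] (hH : ¬ Tame p (core M)) :
    (Nonempty (M ≃* Equiv.Perm (Fin 4)) ∧ Nonempty (core M ≃* alternatingGroup (Fin 4))) ∨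
      ∃ (L : Type) (_ : Field L) (_ : Fintype L) (m : ℕ), Fintype.card L ^ m = Fintype.card F ^ 2 ∧
        (2 : L) ≠ 0 ∧ Nonempty (M ≃* Matrix.ProjGenLinGroup (Fin 2) L) := by
  obtain ⟨F2, _, _, _, ι, J, hq2, hJ, -⟩ := exists_pgl_to_psl_sq (F := F) p
  have eJ := M.equivMapOfInjective J hJ
  have hnt : ¬ Tame p (M.map J) := fun h => hH (tame_of_injective
    (eJ.toMonoidHom.comp ((psi.comp (core M).subtype).codRestrict M fun x => x.2))
    (eJ.injective.comp fun a b e => Subtype.ext (psi_injective (congrArg Subtype.val e))) h)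
  rcases cases_of_not_tame p (S0799.result rfl p (M.map J)) le_rfl hnt with
    ⟨⟨e⟩⟩ | ⟨⟨e⟩⟩ | ⟨⟨e⟩⟩ | ⟨L, _, _, m, hm, hiso⟩
  · exfalso
    obtain ⟨f, -, hidx⟩ := hs.exists_index_two (eJ.trans e)
    have hall : ∀ z : alternatingGroup (Fin 4), ∃ u v : alternatingGroup (Fin 4),
        z = u * u * (v * v) := by decide +kernel
    have : f.range = ⊤ := by
      rw [eq_top_iff]
      intro z _
      obtain ⟨u, v, rfl⟩ := hall z
      exact f.range.mul_mem (Subgroup.mul_self_mem_of_index_two hidx u)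
        (Subgroup.mul_self_mem_of_index_two hidx v)
    rw [this, Subgroup.index_top] at hidx
    omega
  · exact Or.inl ⟨⟨eJ.trans e⟩, hs.core_altFour_of_permFour (eJ.trans e)⟩
  · exfalso
    obtain ⟨f, -, hidx⟩ := hs.exists_index_two (eJ.trans e)
    have : IsSimpleGroup (alternatingGroup (Fin 5)) := alternatingGroup.isSimpleGroup_five
    rcases IsSimpleGroup.eq_bot_or_eq_top_of_normal f.range (Subgroup.normal_of_index_eq_two hidx)
      with h | h
    · rw [h, Subgroup.index_bot, nat_card_alternatingGroup, Nat.card_fin] at hidx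
      exact absurd hidx (by decide)
    · rw [h, Subgroup.index_top] at hidx
      omega
  · have hm0 : m ≠ 0 := by
      rintro rfl
      have := one_lt_q (F := F)
      rw [pow_zero, hq2] at hm
      nlinarith
    have h2 : (2 : L) ≠ 0 := by
      refine odd_card_iff.1 ((Nat.odd_pow_iff hm0).1 ?_)
      rw [hm, hq2]
      exact hs.odd.pow
    rcases hiso with ⟨⟨e⟩⟩ | ⟨⟨e⟩⟩
    · exfalso
      obtain ⟨f, -, hidx⟩ := hs.exists_index_two (eJ.trans e)
      rw [eq_top_of_sq_mem_psl h2 fun x => Subgroup.mul_self_mem_of_index_two hidx x,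
        Subgroup.index_top] at hidx
      omega
    · exact Or.inr ⟨L, inferInstance, inferInstance, m, hm.trans hq2, h2, ⟨eJ.trans e⟩⟩

/-- Whatever normalises a conjugate of `M ∩ PSL` lies in that conjugate of `M`. -/
theorem mem_map_conj {Q : GL (Fin 2) F} {A : Subgroup PSL(2, F)}
    (hQ : (core M).map (AutPSL.conjP Q).toMonoidHom = A) {w : Matrix.ProjGenLinGroup (Fin 2) F}
    (hw : ∀ x ∈ A, w * psi x * w⁻¹ ∈ A.map psi) :
    w ∈ M.map (MulAut.conj (Matrix.ProjGenLinGroup.mk Q)).toMonoidHom := by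
  subst hQ
  rw [Subgroup.mem_map_equiv, MulAut.conj_symm_apply]
  refine hs.mem_of_normalizes hs.core_ne_bot hs.core_ne_top
    (fun y hy z hz σ hσ => hs.sigma_mem hy hσ hz) fun x hx => ?_
  obtain ⟨_, ⟨z, hz, rfl⟩, ha⟩ := hw _ (Subgroup.mem_map_of_mem _ hx)
  refine ⟨z, hz, ?_⟩
  rw [MulEquiv.coe_toMonoidHom, psi_conjP, psi_conjP] at ha
  generalize Matrix.ProjGenLinGroup.mk Q = P at ha ⊢
  calc psi z = P⁻¹ * (P * psi z * P⁻¹) * P := by group
    _ = _ := by rw [ha]; group

theorem card_map_conj (y : Matrix.ProjGenLinGroup (Fin 2) F) :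
    Nat.card (M.map (MulAut.conj y).toMonoidHom) = Nat.card M :=
  (Nat.card_congr (M.equivMapOfInjective _ (MulAut.conj y).injective).toEquiv).symm

/-- The `S₄` case. -/
theorem permFour (p : ℕ) [Fact p.Prime] [CharP F p] (e : M ≃* Equiv.Perm (Fin 4))
    (hA : Nonempty (core M ≃* alternatingGroup (Fin 4))) :
    (Fintype.card F = p ∧ (p % 8 = 3 ∨ p % 8 = 5)) ∨
      ∃ (F₀ : Type) (_ : Field F₀) (_ : Fintype F₀) (r : ℕ), r.Prime ∧ Odd r ∧
        Fintype.card F = Fintype.card F₀ ^ r ∧ Nonempty (core M ≃* PSL(2, F₀)) ∧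
        Nonempty (M ≃* Matrix.ProjGenLinGroup (Fin 2) F₀) := by
  have h2 : (2 : F) ≠ 0 := odd_card_iff.1 hs.odd
  have hM24 : Nat.card M = 24 := by
    rw [Nat.card_congr e.toEquiv, Nat.card_perm, Nat.card_fin]; decide
  obtain ⟨X, Y, hP⟩ := Conjugate.altFour_genPair hA
  have h8 : Fintype.card F % 8 = 3 ∨ Fintype.card F % 8 = 5 := by
    by_contra h8
    obtain ⟨s, hsq⟩ := FiniteField.isSquare_two_iff.2
      (show Fintype.card F % 8 ≠ 3 ∧ Fintype.card F % 8 ≠ 5 by omega)
    obtain ⟨φ, hφ⟩ := exists_permFour_of_sq_two h2 (s := s) (by rw [pow_two]; exact hsq.symm)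
    let ψ : alternatingGroup (Fin 4) →* PSL(2, F) := φ.comp (alternatingGroup (Fin 4)).subtype
    have hψ : Function.Injective ψ := hφ.comp (alternatingGroup (Fin 4)).subtype_injective
    obtain ⟨X', Y', hP'⟩ := Conjugate.altFour_genPair (M := ψ.range) ⟨(MonoidHom.ofInjective hψ).symm⟩
    obtain ⟨Q, hQ⟩ := Conjugate.exists_conjP_eq h2 hP hP' (one_sq_ne_three h2)
    have hle : φ.range ≤ ψ.range := by
      rintro _ ⟨z, rfl⟩
      have hz := hs.mem_map_conj hQ (w := psi (φ z)) (by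
        rintro _ ⟨a, rfl⟩
        exact ⟨φ z * ψ a * (φ z)⁻¹,
          ⟨⟨z * a * z⁻¹, Subgroup.Normal.conj_mem inferInstance _ a.2 z⟩, by
            simp only [ψ, MonoidHom.comp_apply, Subgroup.subtype_apply, map_mul, map_inv]⟩,
          by rw [map_mul, map_mul, map_inv]⟩)
      obtain ⟨m, hm, hm'⟩ := hz
      obtain ⟨u, hu⟩ := (AutPSL.conjP Q).surjective (φ z)
      rw [← hQ, ← hu]
      refine Subgroup.mem_map_of_mem _ (show psi u ∈ M from ?_)
      rw [MulEquiv.coe_toMonoidHom, ← hu, psi_conjP, MulAut.conj_apply] at hm'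
      rwa [← mul_left_cancel (mul_right_cancel hm')]
    have h1 := Subgroup.card_dvd_of_le hle
    rw [← Nat.card_congr (MonoidHom.ofInjective hφ).toEquiv,
      ← Nat.card_congr (MonoidHom.ofInjective hψ).toEquiv, nat_card_alternatingGroup, Nat.card_perm,
      Nat.card_fin] at h1
    exact absurd h1 (by decide)
  obtain ⟨n, hn0, hn⟩ := card_eq_pow (F := F) p
  by_cases hn1 : n = 1
  · rw [hn1, pow_one] at hn
    exact Or.inl ⟨hn, hn ▸ h8⟩
  obtain ⟨r, hr, c, hc⟩ := Nat.exists_prime_and_dvd hn1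
  have hc0 : c ≠ 0 := by rintro rfl; omega
  obtain ⟨K, _, _, hK⟩ := exists_field p c hc0
  have hKF : Fintype.card F = Fintype.card K ^ r := by rw [hn, hK, ← pow_mul, hc, mul_comm]
  have hk : Odd (Fintype.card K) := (Nat.odd_pow_iff hr.ne_zero).1 (hKF ▸ hs.odd)
  have hrodd : Odd r := by
    refine hr.odd_of_ne_two fun e => ?_
    subst e
    obtain ⟨j, hj⟩ := hk
    have h1 : Fintype.card F % 8 = 1 := by
      rw [hKF, hj, show (2 * j + 1) ^ 2 = 4 * (j * (j + 1)) + 1 by ring]
      obtain ⟨i, hi⟩ := Nat.even_mul_succ_self j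
      omega
    omega
  obtain ⟨ι⟩ := FieldExt.exists_ringHom_of_card_pow (F := K) (K := F) hr.ne_zero hKF
  have hlt : Fintype.card K < Fintype.card F := by
    rw [hKF]; exact lt_self_pow₀ (one_lt_q (F := K)) hr.one_lt
  obtain ⟨φ, hφ⟩ := exists_permFour_pgl (odd_card_iff.1 hk)
  have hsq : ∀ a : alternatingGroup (Fin 4), φ a ∈ (psi (F := K)).range := by
    intro a
    have hall : ∀ z : alternatingGroup (Fin 4), ∃ u v : alternatingGroup (Fin 4),
        z = u * u * (v * v) := by decide +kernel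
    obtain ⟨u, v, rfl⟩ := hall a
    rw [Subgroup.coe_mul, Subgroup.coe_mul, Subgroup.coe_mul, map_mul, map_mul, map_mul]
    exact Subgroup.mul_mem _ (sq_mem_range_toPGL _) (sq_mem_range_toPGL _)
  let ψ0 : alternatingGroup (Fin 4) →* PSL(2, K) :=
    (MonoidHom.ofInjective (psi_injective (F := K))).symm.toMonoidHom.comp
      ((φ.comp (alternatingGroup (Fin 4)).subtype).codRestrict _ hsq)
  let ψ : alternatingGroup (Fin 4) →* PSL(2, F) := (pslMap ι).comp ψ0
  have hψ0 : Function.Injective ψ0 := by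
    intro a b h
    have := congrArg Subtype.val ((MonoidHom.ofInjective (psi_injective (F := K))).symm.injective h)
    exact Subtype.ext (hφ this)
  have hψ : Function.Injective ψ := (pslMap_injective ι).comp hψ0
  have hψval : ∀ a, psi (ψ a) = pglMap ι (φ a) := fun a => by
    show psi (pslMap ι (ψ0 a)) = _
    rw [psi_pslMap]
    congr 1
    exact MonoidHom.apply_ofInjective_symm psi_injective
      (⟨φ a, hsq a⟩ : (psi (F := K)).range)
  obtain ⟨X', Y', hP'⟩ := Conjugate.altFour_genPair (M := ψ.range) ⟨(MonoidHom.ofInjective hψ).symm⟩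
  obtain ⟨Q, hQ⟩ := Conjugate.exists_conjP_eq h2 hP hP' (one_sq_ne_three h2)
  have hle : ((pglMap ι).comp φ).range ≤
      M.map (MulAut.conj (Matrix.ProjGenLinGroup.mk Q)).toMonoidHom := by
    rintro _ ⟨z, rfl⟩
    refine hs.mem_map_conj hQ ?_
    rintro _ ⟨a, rfl⟩
    refine ⟨ψ ⟨z * a * z⁻¹, Subgroup.Normal.conj_mem inferInstance _ a.2 z⟩, ⟨_, rfl⟩, ?_⟩
    rw [hψval, hψval, MonoidHom.comp_apply, map_mul, map_mul, map_inv, map_mul, map_mul, map_inv]
  have hinj : Function.Injective ((pglMap ι).comp φ) := (pglMap_injective ι).comp hφ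
  have heq := Subgroup.eq_of_le_of_card_ge hle (by
    rw [hs.card_map_conj, hM24, ← Nat.card_congr (MonoidHom.ofInjective hinj).toEquiv, Nat.card_perm,
      Nat.card_fin]
    decide)
  have hR : (pglMap ι).range = M.map (MulAut.conj (Matrix.ProjGenLinGroup.mk Q)).toMonoidHom :=
    eq_of_le_of_ne_top (isCoatom_map hs.coatom _)
      (heq ▸ by rw [MonoidHom.range_comp]; exact Subgroup.map_le_range _ _)
      (range_pglMap_ne_top ι hlt)
  have eM : M ≃* Matrix.ProjGenLinGroup (Fin 2) K :=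
    ((M.equivMapOfInjective _ (MulAut.conj (Matrix.ProjGenLinGroup.mk Q)).injective).trans
      (MulEquiv.subgroupCongr hR.symm)).trans (MonoidHom.ofInjective (pglMap_injective ι)).symm
  exact Or.inr ⟨K, inferInstance, inferInstance, r, hr, hrodd, hKF,
    hs.core_psl_of_pgl (odd_card_iff.1 hk) eM, ⟨eM⟩⟩

/-- The subfield case. -/
theorem pgl (p : ℕ) [Fact p.Prime] [CharP F p] {L : Type} [Field L] [Fintype L] (h2L : (2 : L) ≠ 0)
    {m' : ℕ} (hm' : Fintype.card L ^ m' = Fintype.card F ^ 2)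
    (e : M ≃* Matrix.ProjGenLinGroup (Fin 2) L) :
    ∃ (F₀ : Type) (_ : Field F₀) (_ : Fintype F₀) (r : ℕ), r.Prime ∧ Odd r ∧
      Fintype.card F = Fintype.card F₀ ^ r ∧ Nonempty (core M ≃* PSL(2, F₀)) ∧
      Nonempty (M ≃* Matrix.ProjGenLinGroup (Fin 2) F₀) := by
  obtain ⟨ecore⟩ := hs.core_psl_of_pgl h2L e
  have hl : Odd (Fintype.card L) := odd_card_iff.2 h2L
  have hpp : p.Prime := Fact.out
  obtain ⟨n, hn0, hn⟩ := card_eq_pow (F := F) p
  have hm0 : m' ≠ 0 := by
    rintro rfl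
    have := one_lt_q (F := F)
    rw [pow_zero] at hm'
    nlinarith
  obtain ⟨a, ha, -⟩ := pow_eq_of_pow_eq_prime (p := p) hpp
    (hm'.trans (show Fintype.card F ^ 2 = p ^ (n * 2) by rw [hn, ← pow_mul])) hm0
  have ha0 : 0 < a := by
    rcases Nat.eq_zero_or_pos a with rfl | h
    · have := one_lt_q (F := L)
      rw [pow_zero] at ha; omega
    · exact h
  haveI := charP_of_card_pow p ha
  have hdvd : Fintype.card L * (Fintype.card L ^ 2 - 1) ∣ Fintype.card F * (Fintype.card F ^ 2 - 1) := by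
    rw [← two_mul_card_PSL' hl, ← two_mul_card_PSL' hs.odd, ← Nat.card_congr ecore.toEquiv]
    exact Nat.mul_dvd_mul_left 2 (core M).card_subgroup_dvd_card
  have hna : a ∣ n := by
    refine dvd_of_sq_sub_one_dvd hpp.two_le ha0 (dvd_mul_of_dvd_right ?_ 2)
    rw [mul_comm 2 a, pow_mul, ← ha, mul_comm 2 n, pow_mul, ← hn]
    have h := (dvd_mul_left _ _).trans hdvd
    refine Nat.Coprime.dvd_of_dvd_mul_left ?_ h
    rw [hn]
    refine Nat.Coprime.pow_right n ((hpp.coprime_iff_not_dvd.2 fun hpd => ?_).symm)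
    have h2 : p ∣ Fintype.card L ^ 2 := by
      rw [ha]; exact dvd_pow (dvd_pow_self p ha0.ne') two_ne_zero
    have h3 : 0 < Fintype.card L ^ 2 := Nat.pow_pos Fintype.card_pos
    have h4 := Nat.dvd_sub h2 hpd
    rw [show Fintype.card L ^ 2 - (Fintype.card L ^ 2 - 1) = 1 by omega] at h4
    exact hpp.not_dvd_one h4
  obtain ⟨m, hnm⟩ := hna
  have hq : Fintype.card F = Fintype.card L ^ m := by rw [hn, hnm, ha, pow_mul]
  have hm1 : m ≠ 1 := by
    rintro rfl
    refine hs.core_ne_top (Subgroup.eq_top_of_card_eq _ ?_)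
    rw [Nat.card_congr ecore.toEquiv, card_PSL, card_PSL, hq, pow_one]
  obtain ⟨c, hc⟩ := Nat.minFac_dvd m
  have hr := Nat.minFac_prime hm1
  generalize m.minFac = r at hc hr
  subst hc
  have hc0 : c ≠ 0 := by rintro rfl; simp at hnm; omega
  obtain ⟨K, _, _, hK⟩ := exists_field p (a * c) (mul_ne_zero ha0.ne' hc0)
  have hKL : Fintype.card K = Fintype.card L ^ c := by rw [hK, ha, pow_mul]
  have hKF : Fintype.card F = Fintype.card K ^ r := by rw [hq, hKL, ← pow_mul, mul_comm]
  obtain ⟨ιa⟩ := FieldExt.exists_ringHom_of_card_pow (F := L) (K := K) hc0 hKL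
  obtain ⟨ιb⟩ := FieldExt.exists_ringHom_of_card_pow (F := K) (K := F) hr.ne_zero hKF
  set ι := ιb.comp ιa
  let f : PSL(2, L) →* PSL(2, F) := (core M).subtype.comp ecore.symm.toMonoidHom
  have hf : Function.Injective f := (core M).subtype_injective.comp ecore.symm.injective
  obtain ⟨Q, hQle⟩ := exists_conjP_le_of_psl p ι f hf (fun x => (ecore.symm x).2) (fun g hg =>
    Conjugate.tr_pow_of_mem p f hf (x := ecore ⟨mk g, hg⟩) (by simp [f]))
  have hQ : (core M).map (AutPSL.conjP Q).toMonoidHom = (pslMap ι).range :=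
    Subgroup.eq_of_le_of_card_ge hQle (by
      rw [← Nat.card_congr (MonoidHom.ofInjective (pslMap_injective ι)).toEquiv,
        ← Nat.card_congr ((core M).equivMapOfInjective (AutPSL.conjP Q).toMonoidHom (AutPSL.conjP Q).injective).toEquiv,
        Nat.card_congr ecore.toEquiv])
  set P := Matrix.ProjGenLinGroup.mk Q with hPdef
  have hle : (pglMap ι).range ≤ M.map (MulAut.conj P).toMonoidHom := by
    rintro _ ⟨y, rfl⟩
    refine hs.mem_map_conj hQ ?_
    rintro _ ⟨v, rfl⟩
    obtain ⟨σ, hσ⟩ := exists_sigma y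
    refine ⟨pslMap ι (σ v), ⟨_, rfl⟩, ?_⟩
    rw [psi_pslMap, psi_pslMap, hσ, map_mul, map_mul, map_inv]
  have hM' : (pglMap ι).range = M.map (MulAut.conj P).toMonoidHom :=
    Subgroup.eq_of_le_of_card_ge hle (by
      rw [hs.card_map_conj, ← Nat.card_congr (MonoidHom.ofInjective (pglMap_injective ι)).toEquiv,
        Nat.card_congr e.toEquiv])
  have hrodd : Odd r := by
    refine hr.odd_of_ne_two fun e2 => ?_
    subst e2
    obtain ⟨y, hy, hyL⟩ := hs.exists_not_mem
    apply hyL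
    have h1 : P * y * P⁻¹ ∈ (psi (F := F)).range := by
      refine range_pglMap_le ι (isSquare_of_even ι (even_two.mul_right c) hq.symm) ?_
      rw [hM']
      exact ⟨y, hy, rfl⟩
    have hN := Subgroup.normal_of_index_eq_two (index_range_psi (F := F) hs.odd)
    have h2 := hN.conj_mem _ h1 P⁻¹
    rwa [show P⁻¹ * (P * y * P⁻¹) * P⁻¹⁻¹ = y by group] at h2
  have hlt : Fintype.card K < Fintype.card F := by
    rw [hKF]; exact lt_self_pow₀ (one_lt_q (F := K)) hr.one_lt
  have hb : (pglMap ι).range ≤ (pglMap ιb).range := by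
    rintro _ ⟨y, rfl⟩
    induction y using Matrix.ProjGenLinGroup.induction_on with | mk A => ?_
    refine ⟨Matrix.ProjGenLinGroup.mk (Matrix.GeneralLinearGroup.map ιa A), ?_⟩
    rw [pglMap_mk, pglMap_mk]
    congr 1
  have hKK := eq_of_le_of_ne_top (isCoatom_map hs.coatom (MulAut.conj P)) (hM' ▸ hb)
    (range_pglMap_ne_top ιb hlt)
  have hc1 : c = 1 := by
    by_contra hne
    have h1 : Fintype.card L < Fintype.card K := by
      rw [hKL]; exact lt_self_pow₀ (one_lt_q (F := L)) (by omega)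
    have h3 := Nat.card_congr (MonoidHom.ofInjective (pglMap_injective ιb)).toEquiv
    rw [hKK, hs.card_map_conj, Nat.card_congr e.toEquiv, card_pgl', card_pgl'] at h3
    exact (mul_sq_sub_one_lt Fintype.card_pos h1).ne h3.symm
  subst hc1
  exact ⟨L, inferInstance, inferInstance, r, hr, hrodd, by rw [hq, mul_one], ⟨ecore⟩, ⟨e⟩⟩

/-- The classification, with the intersection with `PSL(2, F)`. -/
theorem classify (p : ℕ) [Fact p.Prime] [CharP F p] :
    IsBorelType (core M) ∨ IsTorusType (core M) ∨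
      (Fintype.card F = p ∧ (p % 8 = 3 ∨ p % 8 = 5) ∧ Nonempty (core M ≃* alternatingGroup (Fin 4)) ∧
        Nonempty (M ≃* Equiv.Perm (Fin 4))) ∨
      ∃ (F₀ : Type) (_ : Field F₀) (_ : Fintype F₀) (r : ℕ), r.Prime ∧ Odd r ∧
        Fintype.card F = Fintype.card F₀ ^ r ∧ Nonempty (core M ≃* PSL(2, F₀)) ∧
        Nonempty (M ≃* Matrix.ProjGenLinGroup (Fin 2) F₀) := by
  have hp : p ≠ 2 := ne_two_of_odd p hs.odd
  have key : ¬ Tame p (core M) → (Fintype.card F = p ∧ (p % 8 = 3 ∨ p % 8 = 5) ∧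
      Nonempty (core M ≃* alternatingGroup (Fin 4)) ∧ Nonempty (M ≃* Equiv.Perm (Fin 4))) ∨
      ∃ (F₀ : Type) (_ : Field F₀) (_ : Fintype F₀) (r : ℕ), r.Prime ∧ Odd r ∧
        Fintype.card F = Fintype.card F₀ ^ r ∧ Nonempty (core M ≃* PSL(2, F₀)) ∧
        Nonempty (M ≃* Matrix.ProjGenLinGroup (Fin 2) F₀) := by
    intro hH
    rcases hs.exceptional p hH with ⟨⟨e⟩, hA⟩ | ⟨L, _, _, m, hm, h2L, ⟨e⟩⟩
    · exact (hs.permFour p e hA).imp_left fun h => ⟨h.1, h.2, hA, ⟨e⟩⟩
    · exact Or.inr (hs.pgl p h2L hm e)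
  rcases hs.core_shape p (S0799.result rfl p (core M)) with
    h | h | ⟨⟨e⟩⟩ | ⟨⟨e⟩⟩ | ⟨⟨e⟩⟩ | ⟨L, _, _, m, hm, hiso⟩
  · exact Or.inl h
  · exact Or.inr (Or.inl h)
  · exact Or.inr (Or.inr (key fun h => not_tame_alternatingFour hp
      (tame_of_injective e.symm.toMonoidHom e.symm.injective h)))
  · exact Or.inr (Or.inr (key fun h => not_tame_permFour hp
      (tame_of_injective e.symm.toMonoidHom e.symm.injective h)))
  · exact Or.inr (Or.inr (key fun h => not_tame_altFive p
      (tame_of_injective e.symm.toMonoidHom e.symm.injective h)))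
  · have hm0 : m ≠ 0 := by
      rintro rfl
      have := one_lt_q (F := F)
      rw [pow_zero] at hm
      omega
    have h2 : (2 : L) ≠ 0 := odd_card_iff.1 ((Nat.odd_pow_iff hm0).1 (hm ▸ hs.odd))
    refine Or.inr (Or.inr (key fun h => ?_))
    rcases hiso with ⟨⟨e⟩⟩ | ⟨⟨e⟩⟩
    · exact not_tame_psl_odd h2 hp (tame_of_injective e.symm.toMonoidHom e.symm.injective h)
    · exact not_tame_pgl_odd h2 hp (tame_of_injective e.symm.toMonoidHom e.symm.injective h)

end Setup

end Cfsg.Agent.PSL2.Maximal
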