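import Cfsg.Agent.Lib.PSL2.MaximalPGLClassify

/-!
For `q ∉ {7, 9, 11}`, `q` not a prime `≡ ±11, ±19 mod 40`, a maximal subgroup of `PGL(2, F)` not containing
`PSL(2, F)` meets `PSL(2, F)` in a maximal subgroup.
-/

set_option autoImplicit false

open Matrix
open scoped MatrixGroups

namespace Cfsg.Agent.PSL2.Maximal

variable {F : Type*} [Field F] [Fintype F]

/-- `IsCoatom` from the absence of a strictly larger maximal subgroup. -/
theorem isCoatom_of_no_larger {G : Type*} [Group G] [Finite G] {H : Subgroup G} (hne : H ≠ ⊤)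
    (h : ∀ C : Subgroup G, IsCoatom C → H ≤ C → Nat.card H < Nat.card C → False) : IsCoatom H := by
  refine ⟨hne, fun K hK => ?_⟩
  by_contra hKt
  obtain ⟨C, hC, hKC⟩ := (eq_top_or_exists_le_coatom K).resolve_left hKt
  exact h C hC (hK.le.trans hKC) (card_lt_of_lt (hK.trans_le hKC))

theorem card_dihedral {G : Type*} [Group G] {k : ℕ} (h : Nonempty (G ≃* DihedralGroup k)) :
    Nat.card G = 2 * k := by
  obtain ⟨e⟩ := h
  rw [Nat.card_congr e.toEquiv, DihedralGroup.nat_card]

theorem orderOf_le_of_psl (p : ℕ) [Fact p.Prime] {L : Type*} [Field L] [Fintype L] {i : ℕ}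
    (hi : Fintype.card L = p ^ i) (hodd : Odd (Fintype.card L)) (x : PSL(2, L)) :
    orderOf x ≤ Fintype.card L := by
  haveI := charP_of_card_pow p hi
  have h1 := one_lt_q (F := L)
  obtain ⟨j, hj⟩ := hodd
  rw [hj] at h1
  have hp : p ≤ Fintype.card L := Nat.le_of_dvd Fintype.card_pos (p_dvd_q (F := L) p)
  rcases psl_orderOf_dvd p x with h | h | h
  · exact (Nat.le_of_dvd (Fact.out : p.Prime).pos h).trans hp
  all_goals
    rw [Nat.gcd_eq_left (show 2 ∣ Fintype.card L - 1 by omega)] at h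
    have := Nat.le_of_dvd (by omega) h
    omega

theorem orderOf_le_two_mul_of_pgl (p : ℕ) [Fact p.Prime] {L : Type*} [Field L] [Fintype L] {i : ℕ}
    (hi : Fintype.card L = p ^ i) (hodd : Odd (Fintype.card L))
    (x : Matrix.ProjGenLinGroup (Fin 2) L) : orderOf x ≤ 2 * Fintype.card L := by
  obtain ⟨z, hz⟩ := sq_mem_range_toPGL x
  have h := orderOf_le_of_psl p hi hodd z
  have h1 : x ^ (2 * orderOf z) = 1 := by
    rw [pow_mul, pow_two, ← hz, ← map_pow, pow_orderOf_eq_one, map_one]
  exact (Nat.le_of_dvd (by have := orderOf_pos z; omega) (orderOf_dvd_of_pow_eq_one h1)).trans (by omega)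

theorem orderOf_le_of_pow {G : Type*} [Monoid G] {x : G} {n k : ℕ} (hk : 0 < k) (hkn : k ≤ n)
    (h : x ^ k = 1) : orderOf x ≤ n :=
  (Nat.le_of_dvd hk (orderOf_dvd_of_pow_eq_one h)).trans hkn

theorem orderOf_altFour (z : alternatingGroup (Fin 4)) : orderOf z ≤ 3 := by
  have hall : ∀ z : alternatingGroup (Fin 4), z * z = 1 ∨ z * z * z = 1 := by decide +kernel
  rcases hall z with h | h
  · exact orderOf_le_of_pow two_pos (by omega) (by rw [pow_two, h])
  · exact orderOf_le_of_pow three_pos le_rfl (by rw [pow_three, ← mul_assoc, h])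

theorem orderOf_permFour (z : Equiv.Perm (Fin 4)) : orderOf z ≤ 4 := by
  have hall : ∀ z : Equiv.Perm (Fin 4), z * z * (z * z) = 1 ∨ z * z * z = 1 := by decide +kernel
  rcases hall z with h | h
  · exact orderOf_le_of_pow four_pos le_rfl ((show z ^ 4 = z * z * (z * z) by simp [pow_succ, mul_assoc]).trans h)
  · exact orderOf_le_of_pow three_pos (by omega) (by rw [pow_three, ← mul_assoc, h])

theorem orderOf_altFive (z : alternatingGroup (Fin 5)) : orderOf z ≤ 5 := by
  have hall : ∀ z : alternatingGroup (Fin 5),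
      z * z = 1 ∨ z * z * z = 1 ∨ z * z * (z * z) * z = 1 := by decide +kernel
  rcases hall z with h | h | h
  · exact orderOf_le_of_pow two_pos (by omega) (by rw [pow_two, h])
  · exact orderOf_le_of_pow three_pos (by omega) (by rw [pow_three, ← mul_assoc, h])
  · exact orderOf_le_of_pow (show 0 < 5 by norm_num) le_rfl
      ((show z ^ 5 = z * z * (z * z) * z by simp [pow_succ, mul_assoc]).trans h)

namespace Setup

variable {M : Subgroup (Matrix.ProjGenLinGroup (Fin 2) F)} (hs : Setup M)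
include hs

theorem coatom_borel (p : ℕ) [Fact p.Prime] [CharP F p] (hB : IsBorelType (core M)) :
    IsCoatom (core M) := by
  have h5 := hs.five
  obtain ⟨j, hj⟩ := hs.odd
  refine isCoatom_of_no_larger hs.core_ne_top fun C hC hle hlt => ?_
  have hcard : 2 * Nat.card (core M) = Fintype.card F * (Fintype.card F - 1) := by
    rw [← hs.card_eq, hs.card_of_borel hB]
  have hd : Fintype.card F * (Fintype.card F - 1) ∣ 2 * Nat.card C :=
    hcard ▸ Nat.mul_dvd_mul_left 2 (Subgroup.card_dvd_of_le hle)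
  have hpos : 0 < 2 * Nat.card C := by have := Nat.card_pos (α := C); omega
  have small : ∀ N, 2 * Nat.card C = N → Fintype.card F * (Fintype.card F - 1) ≤ N := fun N hN =>
    hN ▸ Nat.le_of_dvd hpos hd
  rcases classify_odd p hs.odd h5 hC (S0799.result rfl p C) with
    h | ⟨-, k, hk, hC'⟩ | ⟨-, -, k, hk, hC'⟩ | ⟨L, _, _, hq, ⟨e⟩⟩ | ⟨L, _, _, r, hr, hr', hq, ⟨e⟩⟩ |
      ⟨h10, -, ⟨e⟩⟩ | ⟨hq, h8, -, ⟨e⟩⟩ | ⟨hq, h8, ⟨e⟩⟩
  · omega
  · have := small _ rfl
    rw [card_dihedral hC'] at this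
    have : 4 * (Fintype.card F - 1) ≤ Fintype.card F * (Fintype.card F - 1) :=
      Nat.mul_le_mul_right _ (by omega)
    omega
  · have := small _ rfl
    rw [card_dihedral hC'] at this
    have : 5 * (Fintype.card F - 1) ≤ Fintype.card F * (Fintype.card F - 1) :=
      Nat.mul_le_mul_right _ h5
    omega
  · rw [Nat.card_congr e.toEquiv, card_pgl', ← hq, ← mul_assoc] at hd
    have h := Nat.le_of_dvd (Nat.mul_pos two_pos Fintype.card_pos)
      (Nat.dvd_of_mul_dvd_mul_right (by omega) hd)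
    have hl : Odd (Fintype.card L) := (Nat.odd_pow_iff two_ne_zero).1 (hq ▸ hs.odd)
    have := one_lt_q (F := L)
    obtain ⟨i, hi⟩ := hl
    rw [hq, pow_two] at h
    nlinarith
  · have := small _ rfl
    have hl : Odd (Fintype.card L) := (Nat.odd_pow_iff hr.ne_zero).1 (hq ▸ hs.odd)
    rw [Nat.card_congr e.toEquiv, two_mul_card_PSL' hl] at this
    have h3 : Fintype.card L ^ 3 ≤ Fintype.card F := by
      rw [hq]
      exact Nat.pow_le_pow_right Fintype.card_pos (by obtain ⟨i, hi⟩ := hr'; have := hr.two_le; omega)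
    have h4 : Fintype.card L * (Fintype.card L ^ 2 - 1) ≤ Fintype.card L ^ 3 := by
      rw [pow_succ' _ 2]
      exact Nat.mul_le_mul_left _ (Nat.sub_le _ _)
    have : Fintype.card F * 2 ≤ Fintype.card F * (Fintype.card F - 1) := Nat.mul_le_mul_left _ (by omega)
    omega
  · rw [Nat.card_congr e.toEquiv, nat_card_alternatingGroup, Nat.card_fin] at hd
    norm_num [Nat.factorial] at hd
    have hle' := Nat.le_of_dvd (by norm_num) hd
    have : Fintype.card F ≤ 11 := by
      by_contra h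
      have := Nat.mul_le_mul (show 12 ≤ Fintype.card F by omega) (show 11 ≤ Fintype.card F - 1 by omega)
      omega
    rcases (show Fintype.card F = 9 ∨ Fintype.card F = 11 by omega) with h | h <;> rw [h] at hd <;>
      norm_num at hd
  · rw [Nat.card_congr e.toEquiv, nat_card_alternatingGroup, Nat.card_fin] at hd
    norm_num [Nat.factorial] at hd
    have hle' := Nat.le_of_dvd (by norm_num) hd
    have : Fintype.card F ≤ 5 := by
      by_contra h
      have := Nat.mul_le_mul (show 6 ≤ Fintype.card F by omega) (show 5 ≤ Fintype.card F - 1 by omega)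
      omega
    rw [show Fintype.card F = 5 by omega] at hd
    norm_num at hd
  · rw [Nat.card_congr e.toEquiv, Nat.card_perm, Nat.card_fin] at hd
    norm_num [Nat.factorial] at hd
    have hle' := Nat.le_of_dvd (by norm_num) hd
    have : Fintype.card F ≤ 7 := by
      by_contra h
      have := Nat.mul_le_mul (show 8 ≤ Fintype.card F by omega) (show 7 ≤ Fintype.card F - 1 by omega)
      omega
    rw [show Fintype.card F = 7 by omega] at hd
    norm_num at hd

theorem coatom_torus (p : ℕ) [Fact p.Prime] [CharP F p] (h7 : Fintype.card F ≠ 7)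
    (h9 : Fintype.card F ≠ 9) (h11 : Fintype.card F ≠ 11) (hT : IsTorusType (core M)) :
    IsCoatom (core M) := by
  have h5 := hs.five
  obtain ⟨j, hj⟩ := hs.odd
  obtain ⟨g, h4, hH, h3⟩ := hT
  obtain ⟨⟨x, hxT⟩, hgen⟩ := (isCyclic_map_cent h4).exists_generator
  have hord : orderOf x = Nat.card ((cent g).map mk) := by
    rw [← Subgroup.orderOf_mk _ hxT, orderOf_eq_card_of_forall_mem_zpowers hgen]
  obtain ⟨w, hw⟩ := exists_inverting h4
  have hxH : x ∈ core M := hH ▸ Subgroup.map_mono (cent_le_normalizer g) hxT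
  have hwH : mk w ∈ core M :=
    hH ▸ Subgroup.mem_map_of_mem mk ((mem_normalizer_cent h4).2 (Or.inr hw))
  have hinv : mk w * x * (mk w)⁻¹ = x⁻¹ := by
    obtain ⟨h, hh, rfl⟩ := Subgroup.mem_map.1 hxT
    rw [← map_inv mk w, ← map_inv mk h, ← map_mul, ← map_mul,
      conj_eq_inv (not_mem_center_of_tr h4) (mem_cent.1 hh) hw]
  set t := Nat.card ((cent g).map mk) with ht
  have hcard : Nat.card (core M) = 2 * t := by rw [hH, card_normalizer_torus_psl h4]
  have htq : 2 * t = Fintype.card F - 1 ∨ 2 * t = Fintype.card F + 1 := by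
    rcases card_torus_psl h4 with e | e <;> rw [hs.gcd_eq_two, ← ht] at e <;> omega
  refine isCoatom_of_no_larger hs.core_ne_top fun C hC hle hlt => ?_
  have hdvd := Subgroup.card_dvd_of_le hle
  rw [hcard] at hdvd hlt
  have hdih : ∀ k, (2 * k = Fintype.card F - 1 ∨ 2 * k = Fintype.card F + 1) →
      Nat.card C = 2 * k → False := by
    intro k hk hCk
    rw [hCk] at hdvd hlt
    obtain ⟨c, hc⟩ := Nat.dvd_of_mul_dvd_mul_left two_pos hdvd
    rcases c with _ | _ | c
    · omega
    · omega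
    · have : 2 * t ≤ t * (c + 1 + 1) := by rw [mul_comm 2 t]; exact Nat.mul_le_mul_left _ (by omega)
      omega
  rcases classify_odd p hs.odd h5 hC (S0799.result rfl p C) with
    h | ⟨-, k, hk, hC'⟩ | ⟨-, -, k, hk, hC'⟩ | ⟨L, _, _, hq, ⟨e⟩⟩ | ⟨L, _, _, r, hr, hr', hq, ⟨e⟩⟩ |
      ⟨h10, -, ⟨e⟩⟩ | ⟨hq, h8, -, ⟨e⟩⟩ | ⟨hq, h8, ⟨e⟩⟩
  · obtain ⟨c, hc⟩ := hdvd
    rw [hc] at h
    rcases htq with e | e <;> rw [e] at h
    · have h' : (2 * c) * (Fintype.card F - 1) = Fintype.card F * (Fintype.card F - 1) := by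
        rw [← h]; ring
      have := Nat.eq_of_mul_eq_mul_right (show 0 < Fintype.card F - 1 by omega) h'
      omega
    · obtain ⟨i, hi⟩ : ∃ i, Fintype.card F = i + 2 := ⟨Fintype.card F - 2, by omega⟩
      have h' : (Fintype.card F + 1) * (2 * c) = (Fintype.card F + 1) * i + 2 := by
        rw [show (Fintype.card F + 1) * (2 * c) = 2 * ((Fintype.card F + 1) * c) by ring, h, hi,
          show i + 2 - 1 = i + 1 by omega]
        ring
      have h2 : Fintype.card F + 1 ∣ 2 :=
        (Nat.dvd_add_right (Dvd.intro i rfl)).1 (h' ▸ Dvd.intro (2 * c) rfl)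
      have := Nat.le_of_dvd two_pos h2
      omega
  · exact hdih k (Or.inl hk) (card_dihedral hC')
  · exact hdih k (Or.inr hk) (card_dihedral hC')
  · have hl : Odd (Fintype.card L) := (Nat.odd_pow_iff two_ne_zero).1 (hq ▸ hs.odd)
    obtain ⟨n, -, hn⟩ := card_eq_pow (F := F) p
    obtain ⟨i, hi, -⟩ := pow_eq_of_pow_eq_prime (p := p) Fact.out (hq.symm.trans hn) two_ne_zero
    have ho := orderOf_le_two_mul_of_pgl p hi hl (e ⟨x, hle hxH⟩)
    rw [MulEquiv.orderOf_eq, Subgroup.orderOf_mk, hord] at ho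
    have h3L : 3 ≤ Fintype.card L := by
      have := one_lt_q (F := L); obtain ⟨i, hi⟩ := hl; omega
    have : Fintype.card L ≤ 4 := by
      by_contra hbig
      have : 5 * Fintype.card L ≤ Fintype.card F := by
        rw [hq, pow_two]; exact Nat.mul_le_mul_right _ (by omega)
      omega
    obtain ⟨i, hi⟩ := hl
    exact h9 (by rw [hq, show Fintype.card L = 3 by omega]; norm_num)
  · have hl : Odd (Fintype.card L) := (Nat.odd_pow_iff hr.ne_zero).1 (hq ▸ hs.odd)
    obtain ⟨n, -, hn⟩ := card_eq_pow (F := F) p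
    obtain ⟨i, hi, -⟩ := pow_eq_of_pow_eq_prime (p := p) Fact.out (hq.symm.trans hn) hr.ne_zero
    have ho := orderOf_le_of_psl p hi hl (e ⟨x, hle hxH⟩)
    rw [MulEquiv.orderOf_eq, Subgroup.orderOf_mk, hord] at ho
    have h3 : Fintype.card L ^ 3 ≤ Fintype.card F := by
      rw [hq]
      exact Nat.pow_le_pow_right Fintype.card_pos (by obtain ⟨i, hi⟩ := hr'; have := hr.two_le; omega)
    have h3L : 3 ≤ Fintype.card L := by
      have := one_lt_q (F := L); obtain ⟨i, hi⟩ := hl; omega
    have : 9 * Fintype.card L ≤ Fintype.card L ^ 3 := by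
      rw [pow_succ]
      exact Nat.mul_le_mul_right _ (by rw [pow_two]; exact le_trans (by norm_num) (Nat.mul_le_mul h3L h3L))
    omega
  · have ho := orderOf_altFive (e ⟨x, hle hxH⟩)
    rw [MulEquiv.orderOf_eq, Subgroup.orderOf_mk, hord] at ho
    omega
  · have ho := orderOf_altFour (e ⟨x, hle hxH⟩)
    rw [MulEquiv.orderOf_eq, Subgroup.orderOf_mk, hord] at ho
    have hx3 : orderOf x = 3 := by omega
    have hall : ∀ z v : alternatingGroup (Fin 4), v * z * v⁻¹ = z⁻¹ → z * z * z = 1 → z = 1 := by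
      decide +kernel
    have h1 := hall (e ⟨x, hle hxH⟩) (e ⟨mk w, hle hwH⟩)
      (by rw [← map_inv, ← map_inv, ← map_mul, ← map_mul]; exact congrArg e (Subtype.ext hinv))
      (by rw [← map_mul, ← map_mul, ← map_one e]
          exact congrArg e (Subtype.ext (by
            show x * x * x = 1
            rw [mul_assoc, ← pow_three]; exact orderOf_dvd_iff_pow_eq_one.1 hx3.dvd)))
    rw [MulEquiv.map_eq_one_iff] at h1
    rw [show x = 1 from congrArg Subtype.val h1, orderOf_one] at hx3
    omega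
  · have ho := orderOf_permFour (e ⟨x, hle hxH⟩)
    rw [MulEquiv.orderOf_eq, Subgroup.orderOf_mk, hord] at ho
    omega

theorem isCoatom_core (p : ℕ) [Fact p.Prime] [CharP F p] (h7 : Fintype.card F ≠ 7)
    (h9 : Fintype.card F ≠ 9) (h11 : Fintype.card F ≠ 11)
    (h40 : Fintype.card F = p → p % 8 = 3 ∨ p % 8 = 5 → p % 10 ≠ 1 ∧ p % 10 ≠ 9) :
    IsCoatom (core M) := by
  have h2 : (2 : F) ≠ 0 := odd_card_iff.1 hs.odd
  have hD : ∀ K : Subgroup PSL(2, F), IsDicksonType p K := fun K => S0799.result rfl p K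
  rcases hs.classify p with h | h | ⟨hq, h8, hA, -⟩ | ⟨L, _, _, r, hr, hr', hq, hA, -⟩
  · exact hs.coatom_borel p h
  · exact hs.coatom_torus p h7 h9 h11 h
  · obtain ⟨W, hW, hW'⟩ := altFour_maximal p hq (hq ▸ hs.five) h8 (h40 hq h8) hD
    obtain ⟨X, Y, hP⟩ := Conjugate.altFour_genPair hW'
    obtain ⟨X', Y', hP'⟩ := Conjugate.altFour_genPair hA
    obtain ⟨σ, hσ⟩ := Conjugate.exists_map_eq h2 hP hP' (one_sq_ne_three h2)
    rw [← hσ]
    exact isCoatom_map hW σ
  · have hl : Odd (Fintype.card L) := (Nat.odd_pow_iff hr.ne_zero).1 (hq ▸ hs.odd)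
    obtain ⟨W, hW, hW'⟩ := psl_odd_maximal p hr
      (fun e => by subst e; exact absurd hr' (by decide)) hq hl hD
    obtain ⟨n, -, hn⟩ := card_eq_pow (F := F) p
    obtain ⟨i, hi, -⟩ := pow_eq_of_pow_eq_prime (p := p) Fact.out (hq.symm.trans hn) hr.ne_zero
    haveI := charP_of_card_pow p hi
    obtain ⟨ι⟩ := FieldExt.exists_ringHom_of_card_pow (F := L) (K := F) hr.ne_zero hq
    have key : ∀ H : Subgroup PSL(2, F), Nonempty (H ≃* PSL(2, L)) →
        ∃ σ : MulAut PSL(2, F), H.map σ.toMonoidHom = (pslMap ι).range := by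
      rintro H ⟨e⟩
      obtain ⟨σ, hσ⟩ := exists_map_le_of_psl p ι (H.subtype.comp e.symm.toMonoidHom)
        (H.subtype_injective.comp e.symm.injective) (fun x => (e.symm x).2) (fun g hg =>
        Conjugate.tr_pow_of_mem p (H.subtype.comp e.symm.toMonoidHom)
          (H.subtype_injective.comp e.symm.injective) (x := e ⟨mk g, hg⟩) (by simp))
      refine ⟨σ, Subgroup.eq_of_le_of_card_ge hσ ?_⟩
      rw [← Nat.card_congr (MonoidHom.ofInjective (pslMap_injective ι)).toEquiv,
        ← Nat.card_congr (H.equivMapOfInjective σ.toMonoidHom σ.injective).toEquiv,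
        Nat.card_congr e.toEquiv]
    obtain ⟨σ, hσ⟩ := key W hW'
    obtain ⟨τ, hτ⟩ := key _ hA
    have hτ' : IsCoatom ((core M).map τ.toMonoidHom) := hτ ▸ hσ ▸ isCoatom_map hW σ
    exact ((τ.mapSubgroup).isCoatom_iff (core M)).1 hτ'

end Setup

theorem isCoatom_meet_of_core {M : Subgroup (Matrix.ProjGenLinGroup (Fin 2) F)}
    (h : IsCoatom (core M)) :
    IsCoatom ((M ⊓ (psi (F := F)).range).subgroupOf (psi (F := F)).range) := by
  let e := MonoidHom.ofInjective (psi_injective (F := F))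
  have h' := ((e.mapSubgroup).isCoatom_iff (core M)).2 h
  have heq : e.mapSubgroup (core M) =
      (M ⊓ (psi (F := F)).range).subgroupOf (psi (F := F)).range := by
    ext z
    rw [show e.mapSubgroup (core M) = (core M).map e.toMonoidHom from rfl, Subgroup.mem_map_equiv,
      Subgroup.mem_subgroupOf, Subgroup.mem_comap, MonoidHom.apply_ofInjective_symm, Subgroup.mem_inf]
    exact ⟨fun hm => ⟨hm, z.2⟩, fun hm => hm.1⟩
  exact heq ▸ h'

theorem isCoatom_core_even {M : Subgroup (Matrix.ProjGenLinGroup (Fin 2) F)}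
    (heven : Even (Fintype.card F)) (hM : IsCoatom M) : IsCoatom (core M) := by
  have hb : Function.Bijective (psi (F := F)) :=
    (Nat.bijective_iff_injective_and_card _).2 ⟨psi_injective, by
      rw [card_pgl', card_PSL_of_two_eq_zero (even_card_iff.1 heven)]⟩
  let e := MulEquiv.ofBijective (psi (F := F)) hb
  have h := ((e.symm.mapSubgroup).isCoatom_iff M).2 hM
  have heq : e.symm.mapSubgroup M = core M := by
    ext x
    rw [show e.symm.mapSubgroup M = M.map e.symm.toMonoidHom from rfl, Subgroup.mem_map_equiv]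
    rfl
  exact heq ▸ h

end Cfsg.Agent.PSL2.Maximal
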