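import Cfsg.Agent.Lib.PSL2.Dickson
import Cfsg.Agent.Lib.PSL2.MaximalPGLClassify

/-!
Subgroups of `PGL(2, p)` of order prime to `p`: two elements of order at least six commute, and the
elements of order divisible by four fall into at most three commuting classes.
-/

set_option autoImplicit false

open Matrix
open scoped MatrixGroups

namespace Cfsg.Agent.PSL2.CoprimeSub

/-- The class of an element of order four of `S₄`: its square. -/
def permClass (σ : Equiv.Perm (Fin 4)) : Fin 3 :=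
  if (σ ^ 2) 0 = 1 then 0 else if (σ ^ 2) 0 = 2 then 1 else 2

theorem permClass_spec : ∀ σ τ : Equiv.Perm (Fin 4), σ ^ 2 ≠ 1 → σ ^ 4 = 1 → τ ^ 2 ≠ 1 → τ ^ 4 = 1 →
    permClass σ = permClass τ → σ * τ = τ * σ := by decide +kernel

theorem perm_four_pow : ∀ σ : Equiv.Perm (Fin 4), σ ^ 3 = 1 ∨ σ ^ 4 = 1 := by decide +kernel

theorem alt_five_pow : ∀ σ : alternatingGroup (Fin 5), σ ^ 2 = 1 ∨ σ ^ 3 = 1 ∨ σ ^ 5 = 1 := by
  decide +kernel

theorem alt_four_pow : ∀ σ : alternatingGroup (Fin 4), σ ^ 2 = 1 ∨ σ ^ 3 = 1 := by decide +kernel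

theorem exists_class {F : Type*} [Field F] [Fintype F] (p : ℕ) [Fact p.Prime] [CharP F p]
    (H : Subgroup PSL(2, F)) (hH : ¬ p ∣ Nat.card H) :
    ∃ f : H → Fin 3, ∀ x y : H, 3 ≤ orderOf x → 3 ≤ orderOf y →
      ((6 ≤ orderOf x ∧ 6 ≤ orderOf y) ∨ (4 ∣ orderOf x ∧ 4 ∣ orderOf y ∧ f x = f y)) →
      x * y = y * x := by
  set Q := (pslPartition F p).restrict H
  have hp : p.Prime := Fact.out
  have noP : ∀ x : H, x ≠ 1 → ¬ IsPGroup p (Q.comp x) := by
    intro x hx h
    obtain ⟨n, hn⟩ := (Q.isPGroup_iff_orderOf hx).1 h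
    have hn0 : n ≠ 0 := by
      rintro rfl
      exact hx (orderOf_eq_one_iff.1 (by rw [hn, pow_zero]))
    exact hH ((dvd_pow_self p hn0).trans (hn ▸ orderOf_dvd_natCard x))
  have small : ∀ x : H, ∀ k, 0 < k → x ^ k = 1 → orderOf x ≤ k := fun x k hk h =>
    Nat.le_of_dvd hk (orderOf_dvd_of_pow_eq_one h)
  rcases Q.classify with h | ⟨x, hx, hT, htop⟩ | ⟨x, hx, hT, hN, hcard⟩ | ⟨x, hx, hP, -⟩ |
    ⟨⟨e⟩⟩ | ⟨⟨e⟩⟩ | ⟨⟨e⟩⟩ | ⟨x, y, hx, hP, -⟩
  · exact ⟨fun _ => 0, fun x y _ _ _ => Subsingleton.elim _ _⟩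
  · refine ⟨fun _ => 0, fun u v _ _ _ => ?_⟩
    have hc : IsCyclic (Q.comp x) := (Q.cyclic x hx hT).1
    letI : CommGroup (Q.comp x) := IsCyclic.commGroup
    have := mul_comm (⟨u, htop ▸ Subgroup.mem_top _⟩ : Q.comp x) ⟨v, htop ▸ Subgroup.mem_top _⟩
    exact congrArg Subtype.val this
  · obtain ⟨k, -, hk, hk2, hinv⟩ := Q.exists_inverting_of_card hx hT (by
      rw [hN, Subgroup.card_top]; exact hcard)
    obtain ⟨⟨c, hc⟩, hgen⟩ := (Q.cyclic x hx hT).1.exists_generator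
    have hord : orderOf c = Nat.card (Q.comp x) := by
      rw [← Subgroup.orderOf_mk _ hc, orderOf_eq_card_of_forall_mem_zpowers hgen]
    obtain ⟨e⟩ := PGroup.dihedralEquivOfRel hord
      (fun h => hk (Subgroup.zpowers_le.2 hc h)) (by rw [pow_two, hk2]) (hinv c hc) hcard
    refine ⟨fun _ => 0, fun u v hu hv _ => e.injective ?_⟩
    have rot : ∀ w : H, 3 ≤ orderOf w → ∃ i, e w = DihedralGroup.r i := by
      intro w hw
      cases hew : e w with
      | r i => exact ⟨i, rfl⟩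
      | sr i =>
        have := e.orderOf_eq w
        rw [hew, DihedralGroup.orderOf_sr] at this
        omega
    obtain ⟨i, hi⟩ := rot u hu
    obtain ⟨j, hj⟩ := rot v hv
    rw [map_mul, map_mul, hi, hj, DihedralGroup.r_mul_r, DihedralGroup.r_mul_r, add_comm]
  · exact absurd hP (noP x hx)
  · refine ⟨fun _ => 0, fun u v hu _ h => ?_⟩
    exfalso
    rcases alt_four_pow (e u) with h' | h' <;> rw [← map_pow, MulEquiv.map_eq_one_iff] at h'
    · have := small u 2 (by omega) h'; omega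
    · have := small u 3 (by omega) h'
      rcases h with ⟨h6, -⟩ | ⟨h4, -⟩
      · omega
      · have := Nat.le_of_dvd (orderOf_pos u) h4; omega
  · refine ⟨fun u => permClass (e u), fun u v hu hv h => e.injective ?_⟩
    have le4 : ∀ w : H, orderOf w ≤ 4 := fun w => by
      rcases perm_four_pow (e w) with h' | h' <;> rw [← map_pow, MulEquiv.map_eq_one_iff] at h'
      · exact (small w 3 (by omega) h').trans (by omega)
      · exact small w 4 (by omega) h'
    have := le4 u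
    rcases h with ⟨h6, -⟩ | ⟨h4u, h4v, hf⟩
    · omega
    have := le4 v
    have four : ∀ w : H, 4 ∣ orderOf w → e w ^ 2 ≠ 1 ∧ e w ^ 4 = 1 := by
      intro w hw
      have ho : orderOf (e w) = 4 := by
        rw [e.orderOf_eq]
        exact le_antisymm (le4 w) (Nat.le_of_dvd (orderOf_pos w) hw)
      exact ⟨pow_ne_one_of_lt_orderOf two_ne_zero (by omega), by
        have := pow_orderOf_eq_one (e w)
        rwa [ho] at this⟩
    rw [map_mul, map_mul]
    exact permClass_spec _ _ (four u h4u).1 (four u h4u).2 (four v h4v).1 (four v h4v).2 hf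
  · refine ⟨fun _ => 0, fun u v hu _ h => ?_⟩
    exfalso
    rcases alt_five_pow (e u) with h' | h' | h' <;> rw [← map_pow, MulEquiv.map_eq_one_iff] at h'
    · have := small u 2 (by omega) h'; omega
    · have := small u 3 (by omega) h'
      rcases h with ⟨h6, -⟩ | ⟨h4, -⟩
      · omega
      · have := Nat.le_of_dvd (orderOf_pos u) h4; omega
    · have h5 := small u 5 (by omega) h'
      have hd := orderOf_dvd_of_pow_eq_one h'
      rcases h with ⟨h6, -⟩ | ⟨h4, -⟩
      · omega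
      · exact absurd (h4.trans hd) (by norm_num)
  · exact absurd hP (noP x hx)

/-- The same inside `PGL(2, p)`. -/
theorem exists_class_pgl (p : ℕ) [Fact p.Prime] {H : Type*} [Group H]
    (ψ : H →* Matrix.ProjGenLinGroup (Fin 2) (ZMod p)) (hH : ¬ p ∣ Nat.card ψ.range) :
    ∃ f : H → Fin 3, ∀ x y : H, 3 ≤ orderOf (ψ x) → 3 ≤ orderOf (ψ y) →
      ((6 ≤ orderOf (ψ x) ∧ 6 ≤ orderOf (ψ y)) ∨
        (4 ∣ orderOf (ψ x) ∧ 4 ∣ orderOf (ψ y) ∧ f x = f y)) →
      Commute (ψ x) (ψ y) := by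
  obtain ⟨F2, _, _, _, -, J, -, hJ, -⟩ := Maximal.exists_pgl_to_psl_sq (F := ZMod p) p
  have hcard : Nat.card (ψ.range.map J) = Nat.card ψ.range := Subgroup.card_map_of_injective hJ
  obtain ⟨f, hf⟩ := exists_class p (ψ.range.map J) (by rwa [hcard])
  let φ : H → ψ.range.map J := fun x => ⟨J (ψ x), Subgroup.mem_map_of_mem J ⟨x, rfl⟩⟩
  have hord : ∀ x, orderOf (φ x) = orderOf (ψ x) := fun x => by
    rw [← Subgroup.orderOf_coe]; exact orderOf_injective J hJ _
  refine ⟨fun x => f (φ x), fun x y hx hy h => hJ ?_⟩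
  rw [map_mul, map_mul]
  exact congrArg Subtype.val (hf (φ x) (φ y) (by rwa [hord]) (by rwa [hord]) (by rwa [hord, hord]))

end Cfsg.Agent.PSL2.CoprimeSub
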