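import Cfsg.Agent.Lib.PSL2.Centralizer

/-!
The partition of the non-central elements of a subgroup `H ∋ -1` of `SL(2, F)` by the subgroups
`Cx H x = H ⊓ cent x`, taken up to conjugation in `H`:

* `Sx H x` is the set of elements conjugate in `H` into `Cx H x`, centre removed;
* `card_Sx_mul`: `|Sx| * |Nx| + 2 |H| = |H| * |Cx|`, `Nx` the normaliser of `Cx` in `H`;
* distinct `Sx` are disjoint, and `|Nx|` is `|Cx|` or `2 |Cx|` for semisimple `x`.
-/

set_option autoImplicit false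

open Matrix
open scoped MatrixGroups

namespace Cfsg.Agent.PSL2

noncomputable section Partition

open scoped Classical

variable {F : Type*} [Field F] [Fintype F]

/-- The centraliser of `x` in `H`. -/
abbrev Cx (H : Subgroup SL(2, F)) (x : SL(2, F)) : Subgroup SL(2, F) := H ⊓ cent x

/-- The normaliser of `Cx H x` in `H`. -/
abbrev Nx (H : Subgroup SL(2, F)) (x : SL(2, F)) : Subgroup SL(2, F) :=
  H ⊓ Subgroup.normalizer (Cx H x : Set SL(2, F))

/-- The non-central elements of `H`. -/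
def noncentral (H : Subgroup SL(2, F)) : Finset SL(2, F) :=
  Finset.univ.filter fun y => y ∈ H ∧ y ∉ Subgroup.center SL(2, F)

/-- The non-central elements conjugate in `H` into `Cx H x`. -/
def Sx (H : Subgroup SL(2, F)) (x : SL(2, F)) : Finset SL(2, F) :=
  (noncentral H).filter fun y => ∃ g ∈ H, g * y * g⁻¹ ∈ cent x

theorem mem_noncentral {H : Subgroup SL(2, F)} {y : SL(2, F)} :
    y ∈ noncentral H ↔ y ∈ H ∧ y ∉ Subgroup.center SL(2, F) := by
  simp [noncentral]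

theorem mem_Sx {H : Subgroup SL(2, F)} {x y : SL(2, F)} :
    y ∈ Sx H x ↔ y ∈ noncentral H ∧ ∃ g ∈ H, g * y * g⁻¹ ∈ cent x := by
  simp [Sx]

theorem Sx_subset (H : Subgroup SL(2, F)) (x : SL(2, F)) : Sx H x ⊆ noncentral H :=
  Finset.filter_subset _ _

theorem self_mem_Sx {H : Subgroup SL(2, F)} {x : SL(2, F)} (hx : x ∈ noncentral H) : x ∈ Sx H x :=
  mem_Sx.2 ⟨hx, 1, H.one_mem, by simpa using mem_cent.2 (Commute.refl x)⟩

theorem conj_notMem_center {g y : SL(2, F)} (hy : y ∉ Subgroup.center SL(2, F)) :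
    g * y * g⁻¹ ∉ Subgroup.center SL(2, F) := fun h => hy (by
  have := (inferInstance : (Subgroup.center SL(2, F)).Normal).conj_mem _ h g⁻¹
  simpa [mul_assoc] using this)

theorem disjoint_Sx {H : Subgroup SL(2, F)} {x y : SL(2, F)} (hx : x ∉ Subgroup.center SL(2, F))
    (hy : y ∈ noncentral H) (hyx : y ∉ Sx H x) : Disjoint (Sx H x) (Sx H y) := by
  rw [Finset.disjoint_left]
  intro z hzx hzy
  obtain ⟨hz, g, hg, hgz⟩ := mem_Sx.1 hzx
  obtain ⟨-, k, hk, hkz⟩ := mem_Sx.1 hzy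
  refine hyx (mem_Sx.2 ⟨hy, g * k⁻¹, H.mul_mem hg (H.inv_mem hk), mem_cent.2 ?_⟩)
  have h1 : Commute (g * k⁻¹ * y * (g * k⁻¹)⁻¹) (g * z * g⁻¹) := by
    have := (mem_cent.1 hkz).symm.map (MulAut.conj (g * k⁻¹)).toMonoidHom
    simpa [mul_assoc] using this
  exact cent_comm (conj_notMem_center (mem_noncentral.1 hz).2) h1 (mem_cent.1 hgz).symm

theorem conj_cent_iff {H : Subgroup SL(2, F)} {x g y : SL(2, F)}
    (hx : x ∉ Subgroup.center SL(2, F)) (hy : y ∈ noncentral H) (hyx : y ∈ cent x) (hg : g ∈ H) :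
    g * y * g⁻¹ ∈ cent x ↔ g ∈ Nx H x := by
  constructor
  · intro h
    refine Subgroup.mem_inf.2 ⟨hg, ?_⟩
    have hc : cent (g * y * g⁻¹) = cent x :=
      cent_eq_cent hx (conj_notMem_center (mem_noncentral.1 hy).2) (mem_cent.1 h)
    rw [cent_conj, cent_eq_cent hx (mem_noncentral.1 hy).2 (mem_cent.1 hyx)] at hc
    rw [Subgroup.mem_normalizer_iff]
    intro w
    rw [Subgroup.mem_inf, Subgroup.mem_inf]
    refine and_congr ?_ ?_
    · exact ⟨fun hw => H.mul_mem (H.mul_mem hg hw) (H.inv_mem hg), fun hw => by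
        have := H.mul_mem (H.mul_mem (H.inv_mem hg) hw) hg
        simpa [mul_assoc] using this⟩
    · conv_rhs => rw [← hc, Subgroup.mem_map_equiv, MulAut.conj_symm_apply]
      simp [mul_assoc]
  · intro h
    exact ((Subgroup.mem_normalizer_iff.1 h.2 y).1 ⟨(mem_noncentral.1 hy).1, hyx⟩).2

theorem natCard_eq_filter (H : Subgroup SL(2, F)) :
    Nat.card H = (Finset.univ.filter fun y => y ∈ H).card := by
  rw [Nat.card_eq_fintype_card, ← Fintype.card_subtype]

variable (h2 : (2 : F) ≠ 0)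
include h2

theorem card_filter_noncentral {H : Subgroup SL(2, F)} (hH : (-1 : SL(2, F)) ∈ H) :
    (noncentral H).card + 2 = Nat.card H := by
  rw [natCard_eq_filter]
  have h : (Finset.univ.filter fun y => y ∈ H) = noncentral H ∪ {1, -1} := by
    ext y
    simp only [Finset.mem_filter, Finset.mem_univ, true_and, Finset.mem_union, mem_noncentral,
      Finset.mem_insert, Finset.mem_singleton]
    constructor
    · intro hy
      by_cases hc : y ∈ Subgroup.center SL(2, F)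
      · exact Or.inr (mem_center_iff_pm.1 hc)
      · exact Or.inl ⟨hy, hc⟩
    · rintro (⟨hy, -⟩ | rfl | rfl)
      exacts [hy, H.one_mem, hH]
  rw [h, Finset.card_union_of_disjoint, Finset.card_pair (neg_one_ne_one h2).symm]
  rw [Finset.disjoint_left]
  intro y hy hy'
  rw [Finset.mem_insert, Finset.mem_singleton] at hy'
  exact (mem_noncentral.1 hy).2 (mem_center_iff_pm.2 hy')

omit h2 [Fintype F] in
theorem neg_one_mem_Cx {H : Subgroup SL(2, F)} (hH : (-1 : SL(2, F)) ∈ H) (x : SL(2, F)) :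
    (-1 : SL(2, F)) ∈ Cx H x :=
  ⟨hH, center_le_cent x neg_one_mem_center⟩

theorem two_dvd_card_Cx {H : Subgroup SL(2, F)} (hH : (-1 : SL(2, F)) ∈ H) (x : SL(2, F)) :
    2 ∣ Nat.card (Cx H x) := by
  have h := Subgroup.orderOf_dvd_natCard _ (neg_one_mem_Cx hH x)
  rwa [orderOf_neg_one h2] at h

theorem four_le_card_Cx {H : Subgroup SL(2, F)} (hH : (-1 : SL(2, F)) ∈ H) {x : SL(2, F)}
    (hx : x ∈ noncentral H) : 4 ≤ Nat.card (Cx H x) := by
  obtain ⟨k, hk⟩ := two_dvd_card_Cx h2 hH x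
  by_contra hlt
  have h1 : (noncentral (Cx H x)).card + 2 = Nat.card (Cx H x) :=
    card_filter_noncentral h2 (neg_one_mem_Cx hH x)
  have h3 : 0 < (noncentral (Cx H x)).card :=
    Finset.card_pos.2 ⟨x, mem_noncentral.2 ⟨⟨(mem_noncentral.1 hx).1, mem_cent.2 (Commute.refl x)⟩,
      (mem_noncentral.1 hx).2⟩⟩
  omega

/-- The counting identity. -/
theorem card_Sx_mul {H : Subgroup SL(2, F)} (hH : (-1 : SL(2, F)) ∈ H) {x : SL(2, F)}
    (hx : x ∈ noncentral H) :
    (Sx H x).card * Nat.card (Nx H x) + 2 * Nat.card H = Nat.card H * Nat.card (Cx H x) := by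
  have hxc := (mem_noncentral.1 hx).2
  set P := (Finset.univ.filter fun y => y ∈ H) ×ˢ noncentral (Cx H x) with hP
  have hmap : ∀ p ∈ P, p.1 * p.2 * p.1⁻¹ ∈ Sx H x := by
    intro p hp
    simp only [hP, Finset.mem_product, Finset.mem_filter, Finset.mem_univ, true_and,
      mem_noncentral] at hp
    refine mem_Sx.2 ⟨mem_noncentral.2 ⟨H.mul_mem (H.mul_mem hp.1 hp.2.1.1) (H.inv_mem hp.1),
      conj_notMem_center hp.2.2⟩, p.1⁻¹, H.inv_mem hp.1, ?_⟩
    simpa [mul_assoc] using hp.2.1.2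
  have hfib : ∀ z ∈ Sx H x, (P.filter fun p => p.1 * p.2 * p.1⁻¹ = z).card = Nat.card (Nx H x) := by
    intro z hz
    obtain ⟨hzn, g, hg, hgz⟩ := mem_Sx.1 hz
    have hy : g * z * g⁻¹ ∈ noncentral H := mem_noncentral.2
      ⟨H.mul_mem (H.mul_mem hg (mem_noncentral.1 hzn).1) (H.inv_mem hg),
        conj_notMem_center (mem_noncentral.1 hzn).2⟩
    rw [natCard_eq_filter]
    symm
    refine Finset.card_bij (fun n _ => (g⁻¹ * n⁻¹, n * (g * z * g⁻¹) * n⁻¹)) ?_ ?_ ?_
    · intro n hn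
      simp only [Finset.mem_filter, Finset.mem_univ, true_and] at hn
      have h1 := (conj_cent_iff hxc hy hgz hn.1).2 hn
      simp only [hP, Finset.mem_product, Finset.mem_filter, Finset.mem_univ, true_and,
        mem_noncentral]
      refine ⟨⟨H.mul_mem (H.inv_mem hg) (H.inv_mem hn.1),
        ⟨H.mul_mem (H.mul_mem hn.1 (mem_noncentral.1 hy).1) (H.inv_mem hn.1), h1⟩,
        conj_notMem_center (mem_noncentral.1 hy).2⟩, ?_⟩
      group
    · intro n hn m hm h
      simpa using (Prod.ext_iff.1 h).1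
    · intro p hp
      simp only [hP, Finset.mem_product, Finset.mem_filter, Finset.mem_univ, true_and,
        mem_noncentral] at hp
      obtain ⟨⟨hpH, hpC, -⟩, hpe⟩ := hp
      have hn : p.1⁻¹ * g⁻¹ ∈ H := H.mul_mem (H.inv_mem hpH) (H.inv_mem hg)
      have e : (p.1⁻¹ * g⁻¹) * (g * z * g⁻¹) * (p.1⁻¹ * g⁻¹)⁻¹ = p.2 := by
        rw [← hpe]; group
      refine ⟨p.1⁻¹ * g⁻¹, ?_, Prod.ext ?_ e⟩
      · simp only [Finset.mem_filter, Finset.mem_univ, true_and]
        exact (conj_cent_iff hxc hy hgz hn).1 (e.symm ▸ hpC.2)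
      · show g⁻¹ * (p.1⁻¹ * g⁻¹)⁻¹ = p.1
        group
  have h1 := Finset.card_eq_sum_card_fiberwise hmap
  rw [Finset.sum_congr rfl hfib, Finset.sum_const, smul_eq_mul, hP, Finset.card_product,
    ← natCard_eq_filter] at h1
  rw [← h1, ← card_filter_noncentral h2 (neg_one_mem_Cx hH x)]
  ring

omit h2 in
/-- For semisimple `x` the index of `Cx` in `Nx` is at most two. -/
theorem card_Nx_le {H : Subgroup SL(2, F)} {x : SL(2, F)} (hx : x ∈ noncentral H)
    (h4 : tr x ^ 2 ≠ 4) :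
    ∃ s, (s = 1 ∨ s = 2) ∧ Nat.card (Nx H x) = s * Nat.card (Cx H x) := by
  have hle : Cx H x ≤ Nx H x := le_inf inf_le_left Subgroup.le_normalizer
  have hxC : x ∈ Cx H x := ⟨(mem_noncentral.1 hx).1, mem_cent.2 (Commute.refl x)⟩
  have hcase : ∀ n ∈ Nx H x, n * x * n⁻¹ = x ∨ n * x * n⁻¹ = x⁻¹ := fun n hn =>
    eq_or_eq_inv_of_tr_eq h4 (mem_cent.1 ((Subgroup.mem_normalizer_iff.1 hn.2 x).1 hxC).2)
      (tr_conj n x)
  have hC : ∀ n ∈ Nx H x, n * x * n⁻¹ = x → n ∈ Cx H x := fun n hn h =>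
    ⟨hn.1, mem_cent.2 (mul_inv_eq_iff_eq_mul.1 h)⟩
  refine ⟨(Cx H x).relIndex (Nx H x), ?_, ?_⟩
  · have hpos : (Cx H x).relIndex (Nx H x) ≠ 0 := Subgroup.index_ne_zero_of_finite
    by_cases h : Nx H x ≤ Cx H x
    · exact Or.inl (Subgroup.relIndex_eq_one.2 h)
    · obtain ⟨a, ha, haC⟩ := SetLike.not_le_iff_exists.1 h
      refine Or.inr ?_
      rw [Subgroup.relIndex, Subgroup.index_eq_two_iff]
      refine ⟨⟨a, ha⟩, fun b => ?_⟩
      simp only [Subgroup.mem_subgroupOf, Subgroup.coe_mul]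
      by_cases hb : (b : SL(2, F)) ∈ Cx H x
      · exact Or.inr ⟨hb, fun hba => haC (by
          simpa using (Cx H x).mul_mem ((Cx H x).inv_mem hb) hba)⟩
      · refine Or.inl ⟨?_, hb⟩
        have ha' := (hcase a ha).resolve_left fun h' => haC (hC a ha h')
        have hb' := (hcase b b.2).resolve_left fun h' => hb (hC b b.2 h')
        refine hC _ ((Nx H x).mul_mem b.2 ha) ?_
        calc (b : SL(2, F)) * a * x * ((b : SL(2, F)) * a)⁻¹
            = (b : SL(2, F)) * (a * x * a⁻¹) * (b : SL(2, F))⁻¹ := by group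
          _ = ((b : SL(2, F)) * x * (b : SL(2, F))⁻¹)⁻¹ := by rw [ha']; group
          _ = x := by rw [hb', inv_inv]
  · rw [← Subgroup.relIndex_bot_left (Cx H x), ← Subgroup.relIndex_bot_left (Nx H x), mul_comm,
      Subgroup.relIndex_mul_relIndex _ _ _ bot_le hle]

omit h2 in
theorem pow_card_Cx_eq_one {H : Subgroup SL(2, F)} {x y : SL(2, F)} (hy : y ∈ Sx H x) :
    y ^ Nat.card (Cx H x) = 1 := by
  obtain ⟨hyn, g, hg, hgy⟩ := mem_Sx.1 hy
  have hm : g * y * g⁻¹ ∈ Cx H x :=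
    ⟨H.mul_mem (H.mul_mem hg (mem_noncentral.1 hyn).1) (H.inv_mem hg), hgy⟩
  have h : (g * y * g⁻¹) ^ Nat.card (Cx H x) = 1 := orderOf_dvd_iff_pow_eq_one.1
    (Subgroup.orderOf_dvd_natCard _ hm)
  rw [conj_pow] at h
  have h' := congrArg (fun w => g⁻¹ * w * g) h
  simpa [mul_assoc] using h'

end Partition

end Cfsg.Agent.PSL2
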